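import Mathlib
import Cfsg.Prelude.Def_ClassicalGeometry

set_option autoImplicit false

namespace Cfsg.Agent.Helper13

open Matrix

variable {F : Type*} [Field F] {ι : Type} [Fintype ι] [DecidableEq ι]

theorem polarVec_dotProduct (Q : QuadraticForm F (ι → F)) (v x : ι → F) :
    Cfsg.polarVec (⇑Q) v ⬝ᵥ x = QuadraticMap.polar (⇑Q) v x := by
  have hx : x = ∑ j, x j • (Pi.single j 1 : ι → F) := by
    ext i
    simp [Finset.sum_apply, Pi.single_apply]
  conv_rhs => rw [hx]
  have h := map_sum (QuadraticMap.polarBilin Q v) (fun j => x j • (Pi.single j 1 : ι → F))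
    Finset.univ
  simp only [QuadraticMap.polarBilin_apply_apply, map_smul] at h
  rw [h]
  simp only [dotProduct, Cfsg.polarVec, smul_eq_mul]
  refine Finset.sum_congr rfl fun j _ => ?_
  ring

theorem reflectionMatrix_mulVec (Q : QuadraticForm F (ι → F)) (v x : ι → F) :
    Cfsg.reflectionMatrix (⇑Q) v *ᵥ x = x - ((Q v)⁻¹ * QuadraticMap.polar (⇑Q) v x) • v := by
  rw [Cfsg.reflectionMatrix, Matrix.sub_mulVec, Matrix.one_mulVec, Matrix.smul_mulVec,
    Matrix.vecMulVec_mulVec, polarVec_dotProduct]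
  simp [mul_smul]

theorem reflectionMatrix_isometry (Q : QuadraticForm F (ι → F)) (v : ι → F) (hv : Q v ≠ 0)
    (x : ι → F) : Q (Cfsg.reflectionMatrix (⇑Q) v *ᵥ x) = Q x := by
  rw [reflectionMatrix_mulVec, sub_eq_add_neg, ← neg_smul, QuadraticMap.map_add Q,
    QuadraticMap.map_smul, QuadraticMap.polar_smul_right, QuadraticMap.polar_comm (⇑Q) x v]
  simp only [smul_eq_mul]
  field_simp
  ring

theorem reflectionMatrix_mulVec_self (Q : QuadraticForm F (ι → F)) (v : ι → F) (hv : Q v ≠ 0) :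
    Cfsg.reflectionMatrix (⇑Q) v *ᵥ v = -v := by
  rw [reflectionMatrix_mulVec, QuadraticMap.polar_self]
  have : (Q v)⁻¹ * (2 • Q v) = 2 := by
    rw [nsmul_eq_mul]
    field_simp
    norm_num
  rw [this, two_smul]
  abel

theorem reflectionMatrix_mulVec_of_polar_eq_zero (Q : QuadraticForm F (ι → F)) (v x : ι → F)
    (h : QuadraticMap.polar (⇑Q) v x = 0) : Cfsg.reflectionMatrix (⇑Q) v *ᵥ x = x := by
  rw [reflectionMatrix_mulVec, h, mul_zero, zero_smul, sub_zero]

theorem reflectionMatrix_det (Q : QuadraticForm F (ι → F)) (v : ι → F) (hv : Q v ≠ 0) :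
    (Cfsg.reflectionMatrix (⇑Q) v).det = -1 := by
  rw [Cfsg.reflectionMatrix, sub_eq_add_neg, ← Matrix.smul_vecMulVec, ← Matrix.neg_vecMulVec,
    Matrix.vecMulVec_eq Unit, Matrix.det_one_add_replicateCol_mul_replicateRow,
    dotProduct_neg, dotProduct_smul, polarVec_dotProduct, QuadraticMap.polar_self]
  have : (Q v)⁻¹ • (2 • Q v) = 2 := by
    rw [nsmul_eq_mul, smul_eq_mul]
    field_simp
    norm_num
  rw [this]
  ring

end Cfsg.Agent.Helper13
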