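import Mathlib
import Cfsg.Prelude.Def_ClassicalGeometry
import Cfsg.Agent.Helper13.Refl

set_option autoImplicit false

namespace Cfsg.Agent.Helper13

open Matrix

variable {F : Type*} [Field F] {ι : Type} [Fintype ι] [DecidableEq ι]

theorem mem_isometryGroup_iff (Q : (ι → F) → F) (g : Matrix.GeneralLinearGroup ι F) :
    g ∈ Cfsg.isometryGroup F Q ↔ ∀ u, Q ((g : Matrix ι ι F) *ᵥ u) = Q u := by
  constructor
  · intro h u
    exact h u u
  · intro h u _
    exact h u

omit [DecidableEq ι] in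
theorem polar_mulVec_of_isometry (Q : QuadraticForm F (ι → F)) (A : Matrix ι ι F)
    (hA : ∀ u, Q (A *ᵥ u) = Q u) (x y : ι → F) :
    QuadraticMap.polar (⇑Q) (A *ᵥ x) (A *ᵥ y) = QuadraticMap.polar (⇑Q) x y := by
  simp only [QuadraticMap.polar, ← Matrix.mulVec_add, hA]

theorem transpose_mul_polarMatrix_mul (Q : QuadraticForm F (ι → F)) (A : Matrix ι ι F)
    (hA : ∀ u, Q (A *ᵥ u) = Q u) :
    Aᵀ * LinearMap.BilinForm.toMatrix' (QuadraticMap.polarBilin Q) * A
      = LinearMap.BilinForm.toMatrix' (QuadraticMap.polarBilin Q) := by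
  have h := LinearMap.BilinForm.toMatrix'_comp (QuadraticMap.polarBilin Q)
    (Matrix.toLin' A) (Matrix.toLin' A)
  rw [LinearMap.toMatrix'_toLin'] at h
  rw [← h]
  congr 1
  refine LinearMap.ext fun x => LinearMap.ext fun y => ?_
  simp only [LinearMap.BilinForm.comp_apply, Matrix.toLin'_apply,
    QuadraticMap.polarBilin_apply_apply]
  exact polar_mulVec_of_isometry Q A hA _ _

theorem det_sq_eq_one_of_isometry (Q : QuadraticForm F (ι → F))
    (hQ : (QuadraticMap.polarBilin Q).Nondegenerate) (A : Matrix ι ι F)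
    (hA : ∀ u, Q (A *ᵥ u) = Q u) : A.det * A.det = 1 := by
  have hM : (LinearMap.BilinForm.toMatrix' (QuadraticMap.polarBilin Q)).det ≠ 0 := by
    rw [← Matrix.nondegenerate_iff_det_ne_zero, LinearMap.BilinForm.nondegenerate_toMatrix'_iff]
    exact hQ
  have h := congrArg Matrix.det (transpose_mul_polarMatrix_mul Q A hA)
  rw [Matrix.det_mul, Matrix.det_mul, Matrix.det_transpose] at h
  have h2 : (A.det * A.det - 1) *
      (LinearMap.BilinForm.toMatrix' (QuadraticMap.polarBilin Q)).det = 0 := by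
    linear_combination h
  rcases mul_eq_zero.mp h2 with h3 | h3
  · exact sub_eq_zero.mp h3
  · exact absurd h3 hM

theorem det_eq_one_or_neg_one_of_isometry (Q : QuadraticForm F (ι → F))
    (hQ : (QuadraticMap.polarBilin Q).Nondegenerate) (A : Matrix ι ι F)
    (hA : ∀ u, Q (A *ᵥ u) = Q u) : A.det = 1 ∨ A.det = -1 :=
  mul_self_eq_one_iff.mp (det_sq_eq_one_of_isometry Q hQ A hA)

/-- the reflection as an element of the general linear group -/
noncomputable def reflectionGL (Q : QuadraticForm F (ι → F)) (v : ι → F) (hv : Q v ≠ 0) :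
    Matrix.GeneralLinearGroup ι F :=
  Matrix.GeneralLinearGroup.mkOfDetNeZero (Cfsg.reflectionMatrix (⇑Q) v)
    (by rw [reflectionMatrix_det Q v hv]; exact neg_ne_zero.mpr one_ne_zero)

theorem coe_reflectionGL (Q : QuadraticForm F (ι → F)) (v : ι → F) (hv : Q v ≠ 0) :
    ((reflectionGL Q v hv : Matrix.GeneralLinearGroup ι F) : Matrix ι ι F)
      = Cfsg.reflectionMatrix (⇑Q) v := rfl

theorem reflectionGL_mem (Q : QuadraticForm F (ι → F)) (v : ι → F) (hv : Q v ≠ 0) :
    reflectionGL Q v hv ∈ Cfsg.isometryGroup F (⇑Q) := by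
  rw [mem_isometryGroup_iff]
  intro u
  rw [coe_reflectionGL]
  exact reflectionMatrix_isometry Q v hv u

end Cfsg.Agent.Helper13
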