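import Mathlib
import Cfsg.Prelude.Def_ClassicalGeometry

set_option autoImplicit false

namespace Cfsg.Agent.Helper13

open Matrix

variable {F : Type*} [CommRing F] {m : ℕ}

local notation "J'" => Matrix.J (Fin m) F

theorem sympForm_def (u v : Fin m ⊕ Fin m → F) :
    Cfsg.sympForm m F u v = u ⬝ᵥ (Matrix.J (Fin m) F *ᵥ v) := rfl

theorem sympForm_add_left (u u' v : Fin m ⊕ Fin m → F) :
    Cfsg.sympForm m F (u + u') v = Cfsg.sympForm m F u v + Cfsg.sympForm m F u' v := by
  simp [sympForm_def, add_dotProduct]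

theorem sympForm_add_right (u v v' : Fin m ⊕ Fin m → F) :
    Cfsg.sympForm m F u (v + v') = Cfsg.sympForm m F u v + Cfsg.sympForm m F u v' := by
  simp [sympForm_def, mulVec_add, dotProduct_add]

theorem sympForm_smul_left (c : F) (u v : Fin m ⊕ Fin m → F) :
    Cfsg.sympForm m F (c • u) v = c * Cfsg.sympForm m F u v := by
  simp [sympForm_def, smul_dotProduct]

theorem sympForm_smul_right (c : F) (u v : Fin m ⊕ Fin m → F) :
    Cfsg.sympForm m F u (c • v) = c * Cfsg.sympForm m F u v := by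
  simp [sympForm_def, mulVec_smul, dotProduct_smul]

theorem sympForm_neg_left (u v : Fin m ⊕ Fin m → F) :
    Cfsg.sympForm m F (-u) v = - Cfsg.sympForm m F u v := by
  simp [sympForm_def, neg_dotProduct]

theorem sympForm_neg_right (u v : Fin m ⊕ Fin m → F) :
    Cfsg.sympForm m F u (-v) = - Cfsg.sympForm m F u v := by
  simp [sympForm_def, mulVec_neg, dotProduct_neg]

theorem sympForm_sub_left (u u' v : Fin m ⊕ Fin m → F) :
    Cfsg.sympForm m F (u - u') v = Cfsg.sympForm m F u v - Cfsg.sympForm m F u' v := by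
  simp [sympForm_def, sub_dotProduct]

theorem sympForm_sub_right (u v v' : Fin m ⊕ Fin m → F) :
    Cfsg.sympForm m F u (v - v') = Cfsg.sympForm m F u v - Cfsg.sympForm m F u v' := by
  simp [sympForm_def, mulVec_sub, dotProduct_sub]

@[simp] theorem sympForm_zero_left (v : Fin m ⊕ Fin m → F) :
    Cfsg.sympForm m F 0 v = 0 := by
  simp [sympForm_def]

@[simp] theorem sympForm_zero_right (u : Fin m ⊕ Fin m → F) :
    Cfsg.sympForm m F u 0 = 0 := by
  simp [sympForm_def]

/-- explicit formula -/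
theorem sympForm_eq_sum (u v : Fin m ⊕ Fin m → F) :
    Cfsg.sympForm m F u v
      = ∑ i : Fin m, (u (Sum.inr i) * v (Sum.inl i) - u (Sum.inl i) * v (Sum.inr i)) := by
  simp only [sympForm_def, dotProduct, Fintype.sum_sum_type, mulVec, Matrix.J,
    Matrix.fromBlocks_apply₁₁, Matrix.fromBlocks_apply₁₂, Matrix.fromBlocks_apply₂₁,
    Matrix.fromBlocks_apply₂₂, Matrix.zero_apply, zero_mul, Finset.sum_const_zero, zero_add,
    add_zero, Matrix.neg_apply, Matrix.one_apply, neg_mul, ite_mul, one_mul,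
    Finset.sum_neg_distrib, Finset.sum_ite_eq, Finset.mem_univ, if_true, mul_neg]
  rw [Finset.sum_sub_distrib]
  ring

theorem sympForm_swap (u v : Fin m ⊕ Fin m → F) :
    Cfsg.sympForm m F u v = - Cfsg.sympForm m F v u := by
  rw [sympForm_eq_sum, sympForm_eq_sum, ← Finset.sum_neg_distrib]
  refine Finset.sum_congr rfl fun i _ => ?_
  ring

@[simp] theorem sympForm_self (u : Fin m ⊕ Fin m → F) :
    Cfsg.sympForm m F u u = 0 := by
  rw [sympForm_eq_sum]
  refine Finset.sum_eq_zero fun i _ => ?_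
  ring

/-- the form of `A u`, `A v` in terms of `Aᵀ J A` -/
theorem sympForm_mulVec (A : Matrix (Fin m ⊕ Fin m) (Fin m ⊕ Fin m) F) (u v : Fin m ⊕ Fin m → F) :
    Cfsg.sympForm m F (A *ᵥ u) (A *ᵥ v) = u ⬝ᵥ ((Aᵀ * Matrix.J (Fin m) F * A) *ᵥ v) := by
  rw [sympForm_def, ← Matrix.mulVec_mulVec, ← Matrix.mulVec_mulVec, Matrix.dotProduct_mulVec u,
    Matrix.vecMul_transpose]

theorem matrix_eq_of_dotProduct_mulVec {n : Type*} [Fintype n] [DecidableEq n]
    {M N : Matrix n n F} (h : ∀ u v : n → F, u ⬝ᵥ (M *ᵥ v) = u ⬝ᵥ (N *ᵥ v)) : M = N := by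
  ext i j
  have := h (Pi.single i 1) (Pi.single j 1)
  simpa using this

/-- A matrix is symplectic iff it preserves `sympForm`. -/
theorem mem_symplecticGroup_iff_preserves (A : Matrix (Fin m ⊕ Fin m) (Fin m ⊕ Fin m) F) :
    A ∈ Matrix.symplecticGroup (Fin m) F ↔
      ∀ u v, Cfsg.sympForm m F (A *ᵥ u) (A *ᵥ v) = Cfsg.sympForm m F u v := by
  rw [SymplecticGroup.mem_iff']
  constructor
  · intro h u v
    rw [sympForm_mulVec, h, sympForm_def]
  · intro h
    apply matrix_eq_of_dotProduct_mulVec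
    intro u v
    rw [← sympForm_mulVec, h, sympForm_def]

theorem sympTransvection_mulVec (v : Fin m ⊕ Fin m → F) (c : F) (x : Fin m ⊕ Fin m → F) :
    Cfsg.sympTransvection m v c *ᵥ x = x + (c * Cfsg.sympForm m F x v) • v := by
  rw [Cfsg.sympTransvection, Matrix.add_mulVec, Matrix.one_mulVec, Matrix.smul_mulVec,
    Matrix.vecMulVec_mulVec, sympForm_def, dotProduct_comm x]
  simp [mul_smul]

theorem sympTransvection_mem (v : Fin m ⊕ Fin m → F) (c : F) :
    Cfsg.sympTransvection m v c ∈ Matrix.symplecticGroup (Fin m) F := by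
  rw [mem_symplecticGroup_iff_preserves]
  intro x y
  rw [sympTransvection_mulVec, sympTransvection_mulVec]
  simp only [sympForm_add_left, sympForm_add_right, sympForm_smul_left, sympForm_smul_right,
    sympForm_self, mul_zero, add_zero]
  rw [sympForm_swap v y]
  ring

end Cfsg.Agent.Helper13

namespace Cfsg.Agent.Helper13

open Matrix

variable {F : Type*} [CommRing F] {m : ℕ}

theorem matrix_eq_of_mulVec {n k : Type*} [Fintype n] [DecidableEq n]
    {M N : Matrix k n F} (h : ∀ x : n → F, M *ᵥ x = N *ᵥ x) : M = N := by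
  ext i j
  have := congrFun (h (Pi.single j 1)) i
  simpa using this

theorem sympTransvection_mul (v : Fin m ⊕ Fin m → F) (c d : F) :
    Cfsg.sympTransvection m v c * Cfsg.sympTransvection m v d
      = Cfsg.sympTransvection m v (c + d) := by
  apply matrix_eq_of_mulVec
  intro x
  rw [← Matrix.mulVec_mulVec]
  simp only [sympTransvection_mulVec, sympForm_add_left, sympForm_smul_left, sympForm_self,
    mul_zero, add_zero]
  rw [add_assoc, ← add_smul]
  congr 2
  ring

theorem sympTransvection_zero (v : Fin m ⊕ Fin m → F) :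
    Cfsg.sympTransvection m v 0 = 1 := by
  simp [Cfsg.sympTransvection]

theorem sympTransvection_conj (v : Fin m ⊕ Fin m → F)
    (A : Matrix (Fin m ⊕ Fin m) (Fin m ⊕ Fin m) F) (a : F)
    (hA : A ∈ Matrix.symplecticGroup (Fin m) F) (hAv : A *ᵥ v = a • v) (c : F) :
    A * Cfsg.sympTransvection m v c * A⁻¹ = Cfsg.sympTransvection m v (c * a ^ 2) := by
  have hdet : IsUnit A.det := SymplecticGroup.symplectic_det hA
  have hAA : A * A⁻¹ = 1 := Matrix.mul_nonsing_inv A hdet
  have hpres := (mem_symplecticGroup_iff_preserves A).mp hA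
  apply matrix_eq_of_mulVec
  intro x
  rw [← Matrix.mulVec_mulVec, ← Matrix.mulVec_mulVec, sympTransvection_mulVec,
    sympTransvection_mulVec, Matrix.mulVec_add, Matrix.mulVec_mulVec, hAA, Matrix.one_mulVec,
    Matrix.mulVec_smul, hAv]
  have h1 : Cfsg.sympForm m F (A⁻¹ *ᵥ x) v = a * Cfsg.sympForm m F x v := by
    rw [← hpres (A⁻¹ *ᵥ x) v, Matrix.mulVec_mulVec, hAA, Matrix.one_mulVec, hAv,
      sympForm_smul_right]
  rw [h1, smul_smul]
  congr 2
  ring

end Cfsg.Agent.Helper13
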