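import Mathlib
import Cfsg.Prelude.Def_ClassicalGeometry
import Cfsg.Agent.Helper13.Symp

set_option autoImplicit false

namespace Cfsg.Agent.Helper13

open Matrix

variable {F : Type*} [Field F] {m : ℕ}

/-- the set of symplectic transvections, as a subset of the symplectic group -/
def sympTransvectionSet (m : ℕ) (F : Type*) [Field F] : Set (Matrix.symplecticGroup (Fin m) F) :=
  {A : Matrix.symplecticGroup (Fin m) F | ∃ (w : Fin m ⊕ Fin m → F) (c : F),
    (A : Matrix (Fin m ⊕ Fin m) (Fin m ⊕ Fin m) F) = Cfsg.sympTransvection m w c}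

/-- the subgroup generated by symplectic transvections -/
def sympTransvectionSubgroup (m : ℕ) (F : Type*) [Field F] :
    Subgroup (Matrix.symplecticGroup (Fin m) F) :=
  Subgroup.closure (sympTransvectionSet m F)

/-- a transvection as an element of the symplectic group -/
def sympTransvectionElt (v : Fin m ⊕ Fin m → F) (c : F) : Matrix.symplecticGroup (Fin m) F :=
  ⟨Cfsg.sympTransvection m v c, sympTransvection_mem v c⟩

theorem sympTransvectionElt_mem (v : Fin m ⊕ Fin m → F) (c : F) :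
    sympTransvectionElt v c ∈ sympTransvectionSubgroup m F :=
  Subgroup.subset_closure ⟨v, c, rfl⟩

theorem sympForm_nondeg_left {u : Fin m ⊕ Fin m → F} (hu : u ≠ 0) :
    ∃ x, Cfsg.sympForm m F x u ≠ 0 := by
  have hJu : Matrix.J (Fin m) F *ᵥ u ≠ 0 := by
    intro h
    have h2 : Matrix.J (Fin m) F *ᵥ (Matrix.J (Fin m) F *ᵥ u) = -u := by
      rw [Matrix.mulVec_mulVec, Matrix.J_squared, Matrix.neg_mulVec, Matrix.one_mulVec]
    rw [h, Matrix.mulVec_zero] at h2
    exact hu (by simpa using h2.symm)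
  obtain ⟨i, hi⟩ := Function.ne_iff.mp hJu
  refine ⟨Pi.single i 1, ?_⟩
  rw [sympForm_def, single_one_dotProduct]
  simpa using hi

theorem exists_sympForm_ne_zero_both {u w : Fin m ⊕ Fin m → F} (hu : u ≠ 0) (hw : w ≠ 0) :
    ∃ x, Cfsg.sympForm m F x u ≠ 0 ∧ Cfsg.sympForm m F x w ≠ 0 := by
  obtain ⟨x1, h1⟩ := sympForm_nondeg_left hu
  obtain ⟨x2, h2⟩ := sympForm_nondeg_left hw
  by_cases h3 : Cfsg.sympForm m F x1 w = 0
  · by_cases h4 : Cfsg.sympForm m F x2 u = 0
    · refine ⟨x1 + x2, ?_, ?_⟩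
      · rw [sympForm_add_left, h4, add_zero]; exact h1
      · rw [sympForm_add_left, h3, zero_add]; exact h2
    · exact ⟨x2, h4, h2⟩
  · exact ⟨x1, h1, h3⟩

/-- Lemma A: if `f(u,w) ≠ 0` a single transvection takes `u` to `w`, and it fixes everything
orthogonal to `u - w`. -/
theorem exists_transvection_map {u w : Fin m ⊕ Fin m → F} (h : Cfsg.sympForm m F u w ≠ 0) :
    ∃ A ∈ sympTransvectionSubgroup m F,
      (A : Matrix (Fin m ⊕ Fin m) (Fin m ⊕ Fin m) F) *ᵥ u = w ∧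
      ∀ z, Cfsg.sympForm m F z (u - w) = 0 →
        (A : Matrix (Fin m ⊕ Fin m) (Fin m ⊕ Fin m) F) *ᵥ z = z := by
  refine ⟨sympTransvectionElt (u - w) (Cfsg.sympForm m F u w)⁻¹, sympTransvectionElt_mem _ _, ?_, ?_⟩
  · change Cfsg.sympTransvection m (u - w) _ *ᵥ u = w
    rw [sympTransvection_mulVec, sympForm_sub_right, sympForm_self, zero_sub, mul_neg,
      inv_mul_cancel₀ h, neg_smul, one_smul]
    abel
  · intro z hz
    change Cfsg.sympTransvection m (u - w) _ *ᵥ z = z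
    rw [sympTransvection_mulVec, hz, mul_zero, zero_smul, add_zero]

/-- Lemma B: the transvection subgroup is transitive on non-zero vectors. -/
theorem exists_transvection_map_of_ne_zero {u w : Fin m ⊕ Fin m → F} (hu : u ≠ 0) (hw : w ≠ 0) :
    ∃ A ∈ sympTransvectionSubgroup m F,
      (A : Matrix (Fin m ⊕ Fin m) (Fin m ⊕ Fin m) F) *ᵥ u = w := by
  obtain ⟨x, hxu, hxw⟩ := exists_sympForm_ne_zero_both hu hw
  have hux : Cfsg.sympForm m F u x ≠ 0 := by
    rw [sympForm_swap]; exact neg_ne_zero.mpr hxu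
  obtain ⟨A, hA, hAu, -⟩ := exists_transvection_map hux
  obtain ⟨B, hB, hBx, -⟩ := exists_transvection_map hxw
  refine ⟨B * A, mul_mem hB hA, ?_⟩
  change ((B : Matrix (Fin m ⊕ Fin m) (Fin m ⊕ Fin m) F) * (A : Matrix (Fin m ⊕ Fin m) (Fin m ⊕ Fin m) F)) *ᵥ u = w
  rw [← Matrix.mulVec_mulVec, hAu, hBx]

/-- Lemma C: for hyperbolic pairs `(u,v)`, `(u,v')` there is an element of the transvection
subgroup fixing `u` and taking `v` to `v'`. -/
theorem exists_transvection_fix_map {u v v' : Fin m ⊕ Fin m → F}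
    (h : Cfsg.sympForm m F u v = 1) (h' : Cfsg.sympForm m F u v' = 1) :
    ∃ A ∈ sympTransvectionSubgroup m F,
      (A : Matrix (Fin m ⊕ Fin m) (Fin m ⊕ Fin m) F) *ᵥ u = u ∧
      (A : Matrix (Fin m ⊕ Fin m) (Fin m ⊕ Fin m) F) *ᵥ v = v' := by
  by_cases hvv : Cfsg.sympForm m F v v' = 0
  · -- go through `u + v`
    have h1 : Cfsg.sympForm m F v (u + v) ≠ 0 := by
      rw [sympForm_add_right, sympForm_self, add_zero, sympForm_swap, h]
      exact neg_ne_zero.mpr one_ne_zero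
    have h2 : Cfsg.sympForm m F (u + v) v' ≠ 0 := by
      rw [sympForm_add_left, hvv, add_zero, h']
      exact one_ne_zero
    obtain ⟨A, hA, hAv, hAfix⟩ := exists_transvection_map h1
    obtain ⟨B, hB, hBv, hBfix⟩ := exists_transvection_map h2
    have hAu : (A : Matrix (Fin m ⊕ Fin m) (Fin m ⊕ Fin m) F) *ᵥ u = u := by
      apply hAfix
      rw [sympForm_sub_right, sympForm_add_right, sympForm_self, h]
      ring
    have hBu : (B : Matrix (Fin m ⊕ Fin m) (Fin m ⊕ Fin m) F) *ᵥ u = u := by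
      apply hBfix
      rw [sympForm_sub_right, sympForm_add_right, sympForm_self, h, h']
      ring
    refine ⟨B * A, mul_mem hB hA, ?_, ?_⟩
    · change ((B : Matrix (Fin m ⊕ Fin m) (Fin m ⊕ Fin m) F) * (A : Matrix (Fin m ⊕ Fin m) (Fin m ⊕ Fin m) F)) *ᵥ u = u
      rw [← Matrix.mulVec_mulVec, hAu, hBu]
    · change ((B : Matrix (Fin m ⊕ Fin m) (Fin m ⊕ Fin m) F) * (A : Matrix (Fin m ⊕ Fin m) (Fin m ⊕ Fin m) F)) *ᵥ v = v'
      rw [← Matrix.mulVec_mulVec, hAv, hBv]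
  · obtain ⟨A, hA, hAv, hAfix⟩ := exists_transvection_map hvv
    refine ⟨A, hA, ?_, hAv⟩
    apply hAfix
    rw [sympForm_sub_right, h, h']
    ring

/-- transitivity of the transvection subgroup on hyperbolic pairs -/
theorem exists_transvection_map_pair {u v u' v' : Fin m ⊕ Fin m → F}
    (h : Cfsg.sympForm m F u v = 1) (h' : Cfsg.sympForm m F u' v' = 1) :
    ∃ A ∈ sympTransvectionSubgroup m F,
      (A : Matrix (Fin m ⊕ Fin m) (Fin m ⊕ Fin m) F) *ᵥ u = u' ∧
      (A : Matrix (Fin m ⊕ Fin m) (Fin m ⊕ Fin m) F) *ᵥ v = v' := by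
  have hu : u ≠ 0 := by
    rintro rfl
    rw [sympForm_zero_left] at h
    exact zero_ne_one h
  have hu' : u' ≠ 0 := by
    rintro rfl
    rw [sympForm_zero_left] at h'
    exact zero_ne_one h'
  obtain ⟨A, hA, hAu⟩ := exists_transvection_map_of_ne_zero hu hu'
  have hpres := (mem_symplecticGroup_iff_preserves
    (A : Matrix (Fin m ⊕ Fin m) (Fin m ⊕ Fin m) F)).mp A.2
  have h1 : Cfsg.sympForm m F u' ((A : Matrix (Fin m ⊕ Fin m) (Fin m ⊕ Fin m) F) *ᵥ v) = 1 := by
    rw [← hAu, hpres, h]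
  obtain ⟨B, hB, hBu, hBv⟩ := exists_transvection_fix_map h1 h'
  refine ⟨B * A, mul_mem hB hA, ?_, ?_⟩
  · change ((B : Matrix (Fin m ⊕ Fin m) (Fin m ⊕ Fin m) F) * (A : Matrix (Fin m ⊕ Fin m) (Fin m ⊕ Fin m) F)) *ᵥ u = u'
    rw [← Matrix.mulVec_mulVec, hAu, hBu]
  · change ((B : Matrix (Fin m ⊕ Fin m) (Fin m ⊕ Fin m) F) * (A : Matrix (Fin m ⊕ Fin m) (Fin m ⊕ Fin m) F)) *ᵥ v = v'
    rw [← Matrix.mulVec_mulVec, hBv]

end Cfsg.Agent.Helper13
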