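import Mathlib
import Cfsg.Prelude.Def_ClassicalGeometry
import Cfsg.Agent.Helper13.Symp
import Cfsg.Agent.Helper13.SympTrans

set_option autoImplicit false

namespace Cfsg.Agent.Helper13

open Matrix

variable {F : Type*} [Field F] {m : ℕ}

local notation "Vec" => (Fin m ⊕ Fin m → F)
local notation "Mat" => Matrix (Fin m ⊕ Fin m) (Fin m ⊕ Fin m) F

/-- transvections with direction in `W` -/
def relTransvectionSet (W : Submodule F (Fin m ⊕ Fin m → F)) :
    Set (Matrix.symplecticGroup (Fin m) F) :=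
  {A | ∃ w ∈ W, ∃ c : F, (A : Mat) = Cfsg.sympTransvection m w c}

/-- the subgroup generated by transvections with direction in `W` -/
def relTransvectionSubgroup (W : Submodule F (Fin m ⊕ Fin m → F)) :
    Subgroup (Matrix.symplecticGroup (Fin m) F) :=
  Subgroup.closure (relTransvectionSet W)

theorem relTransvectionSubgroup_le (W : Submodule F (Fin m ⊕ Fin m → F)) :
    relTransvectionSubgroup W ≤ sympTransvectionSubgroup m F := by
  apply Subgroup.closure_mono
  rintro A ⟨w, -, c, h⟩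
  exact ⟨w, c, h⟩

theorem symp_coe_mul (A B : Matrix.symplecticGroup (Fin m) F) :
    ((A * B : Matrix.symplecticGroup (Fin m) F) : Mat) = (A : Mat) * (B : Mat) := rfl

theorem symp_coe_one :
    ((1 : Matrix.symplecticGroup (Fin m) F) : Mat) = 1 := rfl

theorem symp_inv_mulVec_eq (A : Matrix.symplecticGroup (Fin m) F) {x y : Vec}
    (h : (A : Mat) *ᵥ x = y) : ((A⁻¹ : Matrix.symplecticGroup (Fin m) F) : Mat) *ᵥ y = x := by
  rw [← h, Matrix.mulVec_mulVec, ← symp_coe_mul, inv_mul_cancel, symp_coe_one, Matrix.one_mulVec]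

theorem relTransvectionSubgroup_fix (W : Submodule F (Fin m ⊕ Fin m → F))
    {A : Matrix.symplecticGroup (Fin m) F} (hA : A ∈ relTransvectionSubgroup W)
    (z : Vec) (hz : ∀ w ∈ W, Cfsg.sympForm m F z w = 0) : (A : Mat) *ᵥ z = z := by
  induction hA using Subgroup.closure_induction with
  | mem A hA =>
    obtain ⟨w, hw, c, h⟩ := hA
    rw [h, sympTransvection_mulVec, hz w hw, mul_zero, zero_smul, add_zero]
  | one => rw [symp_coe_one, Matrix.one_mulVec]
  | mul A B _ _ hA hB => rw [symp_coe_mul, ← Matrix.mulVec_mulVec, hB, hA]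
  | inv A _ hA => exact symp_inv_mulVec_eq A hA

theorem symp_mulVec_inv_mulVec (A : Matrix.symplecticGroup (Fin m) F) (x : Vec) :
    (A : Mat) *ᵥ (((A⁻¹ : Matrix.symplecticGroup (Fin m) F) : Mat) *ᵥ x) = x := by
  rw [Matrix.mulVec_mulVec, ← symp_coe_mul, mul_inv_cancel, symp_coe_one, Matrix.one_mulVec]

theorem relTransvectionSubgroup_preserves_iff (W : Submodule F (Fin m ⊕ Fin m → F))
    {A : Matrix.symplecticGroup (Fin m) F} (hA : A ∈ relTransvectionSubgroup W) :
    ∀ v, v ∈ W ↔ (A : Mat) *ᵥ v ∈ W := by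
  induction hA using Subgroup.closure_induction with
  | mem A hA =>
    obtain ⟨w, hw, c, h⟩ := hA
    intro v
    rw [h, sympTransvection_mulVec]
    constructor
    · intro hv
      exact W.add_mem hv (W.smul_mem _ hw)
    · intro hv
      have := W.sub_mem hv (W.smul_mem (c * Cfsg.sympForm m F v w) hw)
      simpa using this
  | one => intro v; rw [symp_coe_one, Matrix.one_mulVec]
  | mul A B _ _ hA hB =>
    intro v
    rw [symp_coe_mul, ← Matrix.mulVec_mulVec]
    exact (hB v).trans (hA _)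
  | inv A _ hA =>
    intro v
    have := hA (((A⁻¹ : Matrix.symplecticGroup (Fin m) F) : Mat) *ᵥ v)
    rw [symp_mulVec_inv_mulVec] at this
    exact this.symm

theorem relTransvectionSubgroup_preserves (W : Submodule F (Fin m ⊕ Fin m → F))
    {A : Matrix.symplecticGroup (Fin m) F} (hA : A ∈ relTransvectionSubgroup W) :
    ∀ v ∈ W, (A : Mat) *ᵥ v ∈ W :=
  fun v hv => (relTransvectionSubgroup_preserves_iff W hA v).mp hv

/-- a transvection with direction in `W`, as an element of the relative subgroup -/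
theorem sympTransvectionElt_mem_rel (W : Submodule F (Fin m ⊕ Fin m → F)) {w : Vec} (hw : w ∈ W)
    (c : F) : sympTransvectionElt w c ∈ relTransvectionSubgroup W :=
  Subgroup.subset_closure ⟨w, hw, c, rfl⟩

/-- `W` is non-degenerate for the symplectic form -/
def RelNondeg (W : Submodule F (Fin m ⊕ Fin m → F)) : Prop :=
  ∀ u ∈ W, u ≠ 0 → ∃ x ∈ W, Cfsg.sympForm m F x u ≠ 0

theorem exists_sympForm_ne_zero_both_rel {W : Submodule F (Fin m ⊕ Fin m → F)} (hW : RelNondeg W)
    {u w : Vec} (huW : u ∈ W) (hwW : w ∈ W) (hu : u ≠ 0) (hw : w ≠ 0) :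
    ∃ x ∈ W, Cfsg.sympForm m F x u ≠ 0 ∧ Cfsg.sympForm m F x w ≠ 0 := by
  obtain ⟨x1, hx1, h1⟩ := hW u huW hu
  obtain ⟨x2, hx2, h2⟩ := hW w hwW hw
  by_cases h3 : Cfsg.sympForm m F x1 w = 0
  · by_cases h4 : Cfsg.sympForm m F x2 u = 0
    · refine ⟨x1 + x2, W.add_mem hx1 hx2, ?_, ?_⟩
      · rw [sympForm_add_left, h4, add_zero]; exact h1
      · rw [sympForm_add_left, h3, zero_add]; exact h2
    · exact ⟨x2, hx2, h4, h2⟩
  · exact ⟨x1, hx1, h1, h3⟩

theorem exists_transvection_map_rel {W : Submodule F (Fin m ⊕ Fin m → F)}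
    {u w : Vec} (huW : u ∈ W) (hwW : w ∈ W) (h : Cfsg.sympForm m F u w ≠ 0) :
    ∃ A ∈ relTransvectionSubgroup W,
      (A : Mat) *ᵥ u = w ∧
      ∀ z, Cfsg.sympForm m F z (u - w) = 0 → (A : Mat) *ᵥ z = z := by
  refine ⟨sympTransvectionElt (u - w) (Cfsg.sympForm m F u w)⁻¹,
    sympTransvectionElt_mem_rel W (W.sub_mem huW hwW) _, ?_, ?_⟩
  · change Cfsg.sympTransvection m (u - w) _ *ᵥ u = w
    rw [sympTransvection_mulVec, sympForm_sub_right, sympForm_self, zero_sub, mul_neg,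
      inv_mul_cancel₀ h, neg_smul, one_smul]
    abel
  · intro z hz
    change Cfsg.sympTransvection m (u - w) _ *ᵥ z = z
    rw [sympTransvection_mulVec, hz, mul_zero, zero_smul, add_zero]

theorem exists_transvection_map_of_ne_zero_rel {W : Submodule F (Fin m ⊕ Fin m → F)}
    (hW : RelNondeg W) {u w : Vec} (huW : u ∈ W) (hwW : w ∈ W) (hu : u ≠ 0) (hw : w ≠ 0) :
    ∃ A ∈ relTransvectionSubgroup W, (A : Mat) *ᵥ u = w := by
  obtain ⟨x, hxW, hxu, hxw⟩ := exists_sympForm_ne_zero_both_rel hW huW hwW hu hw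
  have hux : Cfsg.sympForm m F u x ≠ 0 := by
    rw [sympForm_swap]; exact neg_ne_zero.mpr hxu
  obtain ⟨A, hA, hAu, -⟩ := exists_transvection_map_rel huW hxW hux
  obtain ⟨B, hB, hBx, -⟩ := exists_transvection_map_rel hxW hwW hxw
  refine ⟨B * A, mul_mem hB hA, ?_⟩
  rw [symp_coe_mul, ← Matrix.mulVec_mulVec, hAu, hBx]

theorem exists_transvection_fix_map_rel {W : Submodule F (Fin m ⊕ Fin m → F)}
    {u v v' : Vec} (huW : u ∈ W) (hvW : v ∈ W) (hv'W : v' ∈ W)
    (h : Cfsg.sympForm m F u v = 1) (h' : Cfsg.sympForm m F u v' = 1) :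
    ∃ A ∈ relTransvectionSubgroup W, (A : Mat) *ᵥ u = u ∧ (A : Mat) *ᵥ v = v' := by
  by_cases hvv : Cfsg.sympForm m F v v' = 0
  · have h1 : Cfsg.sympForm m F v (u + v) ≠ 0 := by
      rw [sympForm_add_right, sympForm_self, add_zero, sympForm_swap, h]
      exact neg_ne_zero.mpr one_ne_zero
    have h2 : Cfsg.sympForm m F (u + v) v' ≠ 0 := by
      rw [sympForm_add_left, hvv, add_zero, h']
      exact one_ne_zero
    obtain ⟨A, hA, hAv, hAfix⟩ := exists_transvection_map_rel hvW (W.add_mem huW hvW) h1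
    obtain ⟨B, hB, hBv, hBfix⟩ := exists_transvection_map_rel (W.add_mem huW hvW) hv'W h2
    have hAu : (A : Mat) *ᵥ u = u := by
      apply hAfix
      rw [sympForm_sub_right, sympForm_add_right, sympForm_self, h]
      ring
    have hBu : (B : Mat) *ᵥ u = u := by
      apply hBfix
      rw [sympForm_sub_right, sympForm_add_right, sympForm_self, h, h']
      ring
    refine ⟨B * A, mul_mem hB hA, ?_, ?_⟩
    · rw [symp_coe_mul, ← Matrix.mulVec_mulVec, hAu, hBu]
    · rw [symp_coe_mul, ← Matrix.mulVec_mulVec, hAv, hBv]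
  · obtain ⟨A, hA, hAv, hAfix⟩ := exists_transvection_map_rel hvW hv'W hvv
    refine ⟨A, hA, ?_, hAv⟩
    apply hAfix
    rw [sympForm_sub_right, h, h']
    ring

theorem exists_transvection_map_pair_rel {W : Submodule F (Fin m ⊕ Fin m → F)}
    (hW : RelNondeg W) {u v u' v' : Vec} (huW : u ∈ W) (hvW : v ∈ W) (hu'W : u' ∈ W)
    (hv'W : v' ∈ W)
    (h : Cfsg.sympForm m F u v = 1) (h' : Cfsg.sympForm m F u' v' = 1) :
    ∃ A ∈ relTransvectionSubgroup W, (A : Mat) *ᵥ u = u' ∧ (A : Mat) *ᵥ v = v' := by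
  have hu : u ≠ 0 := by
    rintro rfl
    rw [sympForm_zero_left] at h
    exact zero_ne_one h
  have hu' : u' ≠ 0 := by
    rintro rfl
    rw [sympForm_zero_left] at h'
    exact zero_ne_one h'
  obtain ⟨A, hA, hAu⟩ := exists_transvection_map_of_ne_zero_rel hW huW hu'W hu hu'
  have hpres := (mem_symplecticGroup_iff_preserves (A : Mat)).mp A.2
  have h1 : Cfsg.sympForm m F u' ((A : Mat) *ᵥ v) = 1 := by
    rw [← hAu, hpres, h]
  obtain ⟨B, hB, hBu, hBv⟩ := exists_transvection_fix_map_rel hu'W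
    (relTransvectionSubgroup_preserves W hA v hvW) hv'W h1 h'
  refine ⟨B * A, mul_mem hB hA, ?_, ?_⟩
  · rw [symp_coe_mul, ← Matrix.mulVec_mulVec, hAu, hBu]
  · rw [symp_coe_mul, ← Matrix.mulVec_mulVec, hBv]

end Cfsg.Agent.Helper13
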