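import Mathlib
import Cfsg.Prelude.Def_ClassicalGeometry
import Cfsg.Agent.Helper13.Symp
import Cfsg.Agent.Helper13.SympTrans
import Cfsg.Agent.Helper13.SympGen

set_option autoImplicit false

namespace Cfsg.Agent.Helper13

open Matrix

variable {F : Type*} [Field F] {m : ℕ}

local notation "Vec" => (Fin m ⊕ Fin m → F)
local notation "Mat" => Matrix (Fin m ⊕ Fin m) (Fin m ⊕ Fin m) F

theorem sympForm_single_inl_right (u : Vec) (i : Fin m) :
    Cfsg.sympForm m F u (Pi.single (Sum.inl i) 1) = u (Sum.inr i) := by
  rw [sympForm_eq_sum, Finset.sum_eq_single i]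
  · simp
  · intro j _ hj
    simp [Pi.single_apply, hj]
  · simp

theorem sympForm_single_inr_right (u : Vec) (i : Fin m) :
    Cfsg.sympForm m F u (Pi.single (Sum.inr i) 1) = - u (Sum.inl i) := by
  rw [sympForm_eq_sum, Finset.sum_eq_single i]
  · simp
  · intro j _ hj
    simp [Pi.single_apply, hj]
  · simp

/-- the index of a coordinate -/
def coordIdx (m : ℕ) : Fin m ⊕ Fin m → ℕ := Sum.elim (fun i => i.val) (fun i => i.val)

/-- vectors whose coordinates of index `≥ k` vanish -/
def lowSubmodule (m : ℕ) (F : Type*) [Field F] (k : ℕ) : Submodule F (Fin m ⊕ Fin m → F) where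
  carrier := {x | ∀ j, k ≤ coordIdx m j → x j = 0}
  add_mem' := by
    intro a b ha hb j hj
    simp [ha j hj, hb j hj]
  zero_mem' := by
    intro j _
    rfl
  smul_mem' := by
    intro c a ha j hj
    simp [ha j hj]

theorem mem_lowSubmodule {k : ℕ} {x : Vec} :
    x ∈ lowSubmodule m F k ↔ ∀ j, k ≤ coordIdx m j → x j = 0 := Iff.rfl

theorem single_mem_lowSubmodule {k : ℕ} (j : Fin m ⊕ Fin m) (hj : coordIdx m j < k) :
    (Pi.single j 1 : Vec) ∈ lowSubmodule m F k := by
  intro j' hj'
  have : j' ≠ j := by
    rintro rfl
    omega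
  simp [Pi.single_apply, this]

theorem lowSubmodule_relNondeg (k : ℕ) : RelNondeg (lowSubmodule m F k) := by
  intro u hu hu0
  obtain ⟨j, hj⟩ := Function.ne_iff.mp hu0
  have hjk : coordIdx m j < k := by
    by_contra hcon
    exact hj (hu j (not_lt.mp hcon))
  rcases j with i | i
  · refine ⟨Pi.single (Sum.inr i) 1, single_mem_lowSubmodule _ hjk, ?_⟩
    rw [sympForm_swap, sympForm_single_inr_right, neg_neg]
    exact hj
  · refine ⟨Pi.single (Sum.inl i) 1, single_mem_lowSubmodule _ hjk, ?_⟩
    rw [sympForm_swap, sympForm_single_inl_right]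
    exact neg_ne_zero.mpr hj

theorem symp_preserves_lowSubmodule {k : ℕ} (A : Matrix.symplecticGroup (Fin m) F)
    (hfix : ∀ j, k ≤ coordIdx m j → (A : Mat) *ᵥ Pi.single j 1 = Pi.single j 1)
    {x : Vec} (hx : x ∈ lowSubmodule m F k) : (A : Mat) *ᵥ x ∈ lowSubmodule m F k := by
  have hpres := (mem_symplecticGroup_iff_preserves (A : Mat)).mp A.2
  intro j hj
  rcases j with i | i
  · have h1 : k ≤ coordIdx m (Sum.inr i) := hj
    have := sympForm_single_inr_right ((A : Mat) *ᵥ x) i
    rw [← hfix _ h1, hpres, sympForm_single_inr_right, hx _ hj] at this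
    simpa using this.symm
  · have h1 : k ≤ coordIdx m (Sum.inl i) := hj
    have := sympForm_single_inl_right ((A : Mat) *ᵥ x) i
    rw [← hfix _ h1, hpres, sympForm_single_inl_right, hx _ hj] at this
    exact this.symm

theorem symp_mem_of_fix (k : ℕ) : ∀ A : Matrix.symplecticGroup (Fin m) F,
    (∀ j, k ≤ coordIdx m j → (A : Mat) *ᵥ Pi.single j 1 = Pi.single j 1) →
    A ∈ sympTransvectionSubgroup m F := by
  induction k with
  | zero =>
    intro A hA
    have : A = 1 := by
      apply Subtype.ext
      apply matrix_eq_of_mulVec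
      intro x
      rw [symp_coe_one, Matrix.one_mulVec]
      have hx : x = ∑ j, x j • (Pi.single j 1 : Vec) := by
        ext i
        simp [Finset.sum_apply, Pi.single_apply]
      conv_lhs => rw [hx]
      conv_rhs => rw [hx]
      rw [Matrix.mulVec_sum]
      refine Finset.sum_congr rfl fun j _ => ?_
      rw [Matrix.mulVec_smul, hA j (Nat.zero_le _)]
    rw [this]
    exact one_mem _
  | succ k ih =>
    intro A hA
    by_cases hk : k < m
    · set i0 : Fin m := ⟨k, hk⟩
      set W := lowSubmodule m F (k + 1)
      set e : Vec := Pi.single (Sum.inl i0) 1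
      set fv : Vec := Pi.single (Sum.inr i0) 1
      have heW : e ∈ W := single_mem_lowSubmodule _ (by simp [coordIdx, i0])
      have hfW : fv ∈ W := single_mem_lowSubmodule _ (by simp [coordIdx, i0])
      have hfe : Cfsg.sympForm m F fv e = 1 := by
        rw [sympForm_single_inl_right]
        simp [fv]
      have hpres := (mem_symplecticGroup_iff_preserves (A : Mat)).mp A.2
      have hAfe : Cfsg.sympForm m F ((A : Mat) *ᵥ fv) ((A : Mat) *ᵥ e) = 1 := by
        rw [hpres, hfe]
      obtain ⟨B, hB, hBf, hBe⟩ := exists_transvection_map_pair_rel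
        (lowSubmodule_relNondeg (m := m) (F := F) (k + 1))
        (symp_preserves_lowSubmodule A hA hfW) (symp_preserves_lowSubmodule A hA heW) hfW heW
        hAfe hfe
      have hBA : B * A ∈ sympTransvectionSubgroup m F := by
        apply ih
        intro j hj
        rw [symp_coe_mul, ← Matrix.mulVec_mulVec]
        rcases Nat.lt_or_ge k (coordIdx m j) with hlt | hge
        · rw [hA j hlt]
          apply relTransvectionSubgroup_fix W hB
          intro w hw
          rcases j with i | i
          · rw [sympForm_swap, sympForm_single_inl_right, hw _ (show k + 1 ≤ coordIdx m (Sum.inr i) from hlt), neg_zero]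
          · rw [sympForm_swap, sympForm_single_inr_right, hw _ (show k + 1 ≤ coordIdx m (Sum.inl i) from hlt), neg_zero, neg_zero]
        · have hjk : coordIdx m j = k := le_antisymm hge hj
          rcases j with i | i
          · have : i = i0 := Fin.ext hjk
            subst this
            exact hBe
          · have : i = i0 := Fin.ext hjk
            subst this
            exact hBf
      have hB' : B ∈ sympTransvectionSubgroup m F := relTransvectionSubgroup_le W hB
      have : A = B⁻¹ * (B * A) := by group
      rw [this]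
      exact mul_mem (inv_mem hB') hBA
    · apply ih
      intro j hj
      exfalso
      have : coordIdx m j < m := by
        rcases j with i | i <;> simp [coordIdx]
      omega

theorem sympTransvectionSubgroup_eq_top : sympTransvectionSubgroup m F = ⊤ := by
  rw [eq_top_iff]
  intro A _
  apply symp_mem_of_fix m A
  intro j hj
  exfalso
  have : coordIdx m j < m := by
    rcases j with i | i <;> simp [coordIdx]
  omega

end Cfsg.Agent.Helper13
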