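import Mathlib
import Cfsg.Agent.S0754

set_option autoImplicit false

namespace Cfsg.Agent.Helper13

open Polynomial

variable {F : Type*} [Field F] [Fintype F] (σ : F →+* F)

/-- the fixed field of `σ` -/
abbrev fixedField : Subfield F := RingHom.eqLocusField σ (RingHom.id F)

theorem mem_fixedField {a : F} : a ∈ fixedField σ ↔ σ a = a := Iff.rfl

noncomputable instance fixedFieldFintype : Fintype (fixedField σ) := Fintype.ofFinite _

theorem exists_not_fixed (hσ : σ ≠ RingHom.id F) : ∃ θ : F, σ θ ≠ θ := by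
  by_contra hcon
  push Not at hcon
  exact hσ (RingHom.ext hcon)

/-- `F` is two-dimensional over the fixed field: an explicit bijection -/
noncomputable def fixedFieldProdEquiv (hσ2 : ∀ a : F, σ (σ a) = a) (θ : F) (hθ : σ θ ≠ θ) :
    (fixedField σ × fixedField σ) ≃ F where
  toFun p := (p.1 : F) + (p.2 : F) * θ
  invFun x :=
    (⟨x - (x - σ x) / (θ - σ θ) * θ, by
        have hd : θ - σ θ ≠ 0 := sub_ne_zero.mpr (Ne.symm hθ)
        have hd' : σ θ - θ ≠ 0 := sub_ne_zero.mpr hθ
        rw [mem_fixedField]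
        simp only [map_sub, map_mul, map_div₀, hσ2]
        field_simp
        ring⟩,
     ⟨(x - σ x) / (θ - σ θ), by
        have hd : θ - σ θ ≠ 0 := sub_ne_zero.mpr (Ne.symm hθ)
        have hd' : σ θ - θ ≠ 0 := sub_ne_zero.mpr hθ
        rw [mem_fixedField]
        simp only [map_sub, map_div₀, hσ2]
        field_simp
        ring⟩)
  left_inv := by
    rintro ⟨⟨a, ha⟩, ⟨b, hb⟩⟩
    have hd : θ - σ θ ≠ 0 := sub_ne_zero.mpr (Ne.symm hθ)
    rw [mem_fixedField] at ha hb
    have hb' : (a + b * θ - σ (a + b * θ)) / (θ - σ θ) = b := by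
      simp only [map_add, map_mul, ha, hb]
      field_simp
      ring
    ext
    · simp only [hb']
      ring
    · simp only [hb']
  right_inv := by
    intro x
    simp

theorem card_eq_card_fixedField_sq (hσ : σ ≠ RingHom.id F) (hσ2 : ∀ a : F, σ (σ a) = a) :
    Fintype.card F = Fintype.card (fixedField σ) ^ 2 := by
  obtain ⟨θ, hθ⟩ := exists_not_fixed σ hσ
  rw [← Fintype.card_congr (fixedFieldProdEquiv σ hσ2 θ hθ), Fintype.card_prod, sq]

theorem fixed_pow_card {a : F} (ha : σ a = a) : a ^ Fintype.card (fixedField σ) = a := by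
  have := FiniteField.pow_card (⟨a, ha⟩ : fixedField σ)
  exact congrArg Subtype.val this

theorem frob_add' (x y : F) :
    (x + y) ^ Fintype.card (fixedField σ)
      = x ^ Fintype.card (fixedField σ) + y ^ Fintype.card (fixedField σ) := by
  have := map_add (FiniteField.frobeniusAlgHom (fixedField σ) F) x y
  simpa [FiniteField.coe_frobeniusAlgHom] using this

/-- an element fixed by the `q`-Frobenius is fixed by `σ` -/
theorem fixed_of_pow_card_eq {x : F} (hx : x ^ Fintype.card (fixedField σ) = x) : σ x = x := by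
  classical
  by_contra hne
  set q := Fintype.card (fixedField σ) with hq
  have hq1 : 1 < q := Fintype.one_lt_card
  have hp0 : (X ^ q - X : F[X]) ≠ 0 := FiniteField.X_pow_card_sub_X_ne_zero F hq1
  set S : Finset F := insert x (Finset.univ.image (fun a : fixedField σ => (a : F))) with hS
  have hcard : S.card = q + 1 := by
    rw [hS, Finset.card_insert_of_notMem, Finset.card_image_of_injective _ Subtype.val_injective,
      Finset.card_univ]
    intro hmem
    obtain ⟨a, -, rfl⟩ := Finset.mem_image.mp hmem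
    exact hne a.2
  have hsub : S.val ⊆ (X ^ q - X : F[X]).roots := by
    intro y hy
    rw [Finset.mem_val] at hy
    rw [mem_roots hp0, IsRoot.def, eval_sub, eval_pow, eval_X, sub_eq_zero]
    rcases Finset.mem_insert.mp hy with rfl | hy
    · exact hx
    · obtain ⟨a, -, rfl⟩ := Finset.mem_image.mp hy
      exact fixed_pow_card σ a.2
  have := card_le_degree_of_subset_roots hsub
  rw [FiniteField.X_pow_card_sub_X_natDegree_eq F hq1, hcard] at this
  omega

/-- an involutive automorphism of a finite field is the Frobenius of its fixed field -/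
theorem involution_eq_pow (hσ2 : ∀ a : F, σ (σ a) = a) (x : F) :
    σ x = x ^ Fintype.card (fixedField σ) := by
  set q := Fintype.card (fixedField σ) with hq
  have ht : σ (x + σ x) = x + σ x := by rw [map_add, hσ2]; ring
  have hn : σ (x * σ x) = x * σ x := by rw [map_mul, hσ2]; ring
  have h0 : (x * x + x * σ x) ^ q = ((x + σ x) * x) ^ q := by congr 1; ring
  have hl : (x * x + x * σ x) ^ q = x ^ q * x ^ q + x * σ x := by
    rw [hq, frob_add' σ, fixed_pow_card σ hn, mul_pow]
  have hr : ((x + σ x) * x) ^ q = (x + σ x) * x ^ q := by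
    rw [hq, mul_pow, fixed_pow_card σ ht]
  have h1 : x ^ q * x ^ q + x * σ x = (x + σ x) * x ^ q := by rw [← hl, ← hr, h0]
  have h2 : (x ^ q - x) * (x ^ q - σ x) = 0 := by linear_combination h1
  rcases mul_eq_zero.mp h2 with h | h
  · have hx : x ^ q = x := sub_eq_zero.mp h
    rw [hx]
    exact fixed_of_pow_card_eq σ hx
  · exact (sub_eq_zero.mp h).symm

/-- the norm map of an involution of a finite field is onto the fixed field -/
theorem exists_norm_eq (hσ : σ ≠ RingHom.id F) (hσ2 : ∀ a : F, σ (σ a) = a) {a : F}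
    (ha : σ a = a) (ha0 : a ≠ 0) : ∃ c : F, σ c * c = a := by
  set q := Fintype.card (fixedField σ) with hq
  have hF : Fintype.card F = q ^ 2 := card_eq_card_fixedField_sq σ hσ hσ2
  have hcard := Cfsg.Agent.S0754.result hF a ha0 (fixed_pow_card σ ha)
  have hne : Nonempty {x : F // x ^ (q + 1) = a} := by
    apply (Nat.card_pos_iff.mp _).1
    rw [hcard]
    omega
  obtain ⟨c, hc⟩ := hne
  refine ⟨c, ?_⟩
  rw [involution_eq_pow σ hσ2, ← pow_succ]
  exact hc

/-- the trace map of an involution of a finite field is onto the fixed field -/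
theorem exists_trace_eq (hσ : σ ≠ RingHom.id F) (hσ2 : ∀ a : F, σ (σ a) = a) {a : F}
    (ha : σ a = a) : ∃ c : F, σ c + c = a := by
  obtain ⟨θ, hθ⟩ := exists_not_fixed σ hσ
  have hd : θ - σ θ ≠ 0 := sub_ne_zero.mpr (Ne.symm hθ)
  have hd' : σ θ - θ ≠ 0 := sub_ne_zero.mpr hθ
  refine ⟨a * (θ / (θ - σ θ)), ?_⟩
  simp only [map_mul, map_div₀, map_sub, hσ2, ha]
  field_simp
  ring

end Cfsg.Agent.Helper13
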