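import Mathlib
import Cfsg.Prelude.Def_ClassicalGeometry

set_option autoImplicit false

namespace Cfsg.Agent.Helper13

open Matrix

variable {F : Type*} [Field F] [Fintype F] {q : ℕ}

/-- if `|F| = q^2` then `q` is a power of the characteristic -/
theorem exists_char_pow_of_card_eq_sq (hF : Fintype.card F = q ^ 2) :
    ∃ (p j : ℕ), p.Prime ∧ CharP F p ∧ q = p ^ j := by
  obtain ⟨p, hp⟩ := CharP.exists F
  have hprime : p.Prime := by
    rcases CharP.char_is_prime_or_zero F p with h | h
    · exact h
    · exfalso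
      subst h
      have : CharZero F := CharP.charP_to_charZero F
      exact not_finite F
  have : Fact p.Prime := ⟨hprime⟩
  obtain ⟨k, hk⟩ := FiniteField.card F p
  have hdvd : q ∣ p ^ (k : ℕ) := by
    rw [← hk.2, hF]
    exact Dvd.intro_left (q ^ 1) (by ring)
  obtain ⟨j, -, hj⟩ := (Nat.dvd_prime_pow hprime).mp hdvd
  exact ⟨p, j, hprime, hp, hj⟩

theorem frob_add (hF : Fintype.card F = q ^ 2) (a b : F) : (a + b) ^ q = a ^ q + b ^ q := by
  obtain ⟨p, j, hp, hchar, rfl⟩ := exists_char_pow_of_card_eq_sq hF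
  have := hchar
  have : Fact p.Prime := ⟨hp⟩
  exact add_pow_char_pow a b p j

theorem frob_frob (hF : Fintype.card F = q ^ 2) (a : F) : (a ^ q) ^ q = a := by
  rw [← pow_mul, ← sq, ← hF, FiniteField.pow_card]

theorem frob_sum (hF : Fintype.card F = q ^ 2) {ι : Type*} (s : Finset ι) (f : ι → F) :
    (∑ i ∈ s, f i) ^ q = ∑ i ∈ s, f i ^ q := by
  classical
  have hq : q ≠ 0 := by
    rintro rfl
    have : 0 < Fintype.card F := Fintype.card_pos
    rw [hF] at this
    simp at this
  induction s using Finset.induction_on with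
  | empty => simp [hq]
  | insert a s ha ih =>
    rw [Finset.sum_insert ha, Finset.sum_insert ha, frob_add hF, ih]

theorem two_le_of_card_eq_sq (hF : Fintype.card F = q ^ 2) : 2 ≤ q := by
  have h1 : 1 < Fintype.card F := Fintype.one_lt_card
  rw [hF] at h1
  by_contra hcon
  have : q = 0 ∨ q = 1 := by omega
  rcases this with rfl | rfl <;> simp at h1

variable {n : ℕ}

omit [Fintype F] in
theorem hermForm_add_left (x x' y : Fin n → F) :
    Cfsg.hermForm n F q (x + x') y = Cfsg.hermForm n F q x y + Cfsg.hermForm n F q x' y := by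
  simp [Cfsg.hermForm, add_mul, Finset.sum_add_distrib]

omit [Fintype F] in
theorem hermForm_smul_left (a : F) (x y : Fin n → F) :
    Cfsg.hermForm n F q (a • x) y = a * Cfsg.hermForm n F q x y := by
  simp [Cfsg.hermForm, Finset.mul_sum, mul_assoc]

theorem hermForm_add_right (hF : Fintype.card F = q ^ 2) (x y y' : Fin n → F) :
    Cfsg.hermForm n F q x (y + y') = Cfsg.hermForm n F q x y + Cfsg.hermForm n F q x y' := by
  simp [Cfsg.hermForm, frob_add hF, mul_add, Finset.sum_add_distrib]

omit [Fintype F] in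
theorem hermForm_smul_right (a : F) (x y : Fin n → F) :
    Cfsg.hermForm n F q x (a • y) = a ^ q * Cfsg.hermForm n F q x y := by
  simp only [Cfsg.hermForm, Pi.smul_apply, smul_eq_mul, mul_pow, Finset.mul_sum]
  refine Finset.sum_congr rfl fun i _ => ?_
  ring

theorem hermForm_conj (hF : Fintype.card F = q ^ 2) (x y : Fin n → F) :
    (Cfsg.hermForm n F q x y) ^ q = Cfsg.hermForm n F q y x := by
  simp only [Cfsg.hermForm, frob_sum hF, mul_pow, frob_frob hF]
  refine Finset.sum_congr rfl fun i _ => ?_
  ring

omit [Fintype F] in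
theorem hermForm_single_left (i : Fin n) (y : Fin n → F) :
    Cfsg.hermForm n F q (Pi.single i 1) y = y i ^ q := by
  simp [Cfsg.hermForm, Pi.single_apply]

theorem hermForm_single_right (hF : Fintype.card F = q ^ 2) (i : Fin n) (x : Fin n → F) :
    Cfsg.hermForm n F q x (Pi.single i 1) = x i := by
  have hq : q ≠ 0 := by have := two_le_of_card_eq_sq hF; omega
  simp only [Cfsg.hermForm, Pi.single_apply]
  rw [Finset.sum_eq_single i]
  · simp
  · intro j _ hj
    simp [hj, hq]
  · simp

omit [Fintype F] in
theorem unitaryTransvection_mulVec (v : Fin n → F) (c : F) (x : Fin n → F) :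
    Cfsg.unitaryTransvection n q v c *ᵥ x = x + (c * Cfsg.hermForm n F q x v) • v := by
  rw [Cfsg.unitaryTransvection, Matrix.add_mulVec, Matrix.one_mulVec, Matrix.smul_mulVec,
    Matrix.vecMulVec_mulVec]
  have : (fun j => v j ^ q) ⬝ᵥ x = Cfsg.hermForm n F q x v := by
    simp only [dotProduct, Cfsg.hermForm]
    refine Finset.sum_congr rfl fun i _ => ?_
    ring
  rw [this]
  simp [mul_smul]

/-- the key identity for unitary transvections -/
theorem hermForm_unitaryTransvection (hF : Fintype.card F = q ^ 2) (v : Fin n → F)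
    (hv0 : Cfsg.hermForm n F q v v = 0) (c : F) (x y : Fin n → F) :
    Cfsg.hermForm n F q (Cfsg.unitaryTransvection n q v c *ᵥ x)
        (Cfsg.unitaryTransvection n q v c *ᵥ y)
      = Cfsg.hermForm n F q x y
        + (c ^ q + c) * (Cfsg.hermForm n F q x v * Cfsg.hermForm n F q v y) := by
  rw [unitaryTransvection_mulVec, unitaryTransvection_mulVec]
  simp only [hermForm_add_left, hermForm_add_right hF, hermForm_smul_left, hermForm_smul_right,
    hv0, mul_zero, add_zero, mul_pow, hermForm_conj hF]
  ring

end Cfsg.Agent.Helper13
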