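import Cfsg.Agent.Helper13.SpMax3

set_option autoImplicit false

namespace Cfsg.Agent.Helper13

open Matrix Cfsg.Agent.S0776

variable {F : Type*} [Field F] {m : ℕ}

local notation "Vec" => (Fin m ⊕ Fin m → F)
local notation "Mat" => Matrix (Fin m ⊕ Fin m) (Fin m ⊕ Fin m) F
local notation "⟪" x ", " y "⟫" => Cfsg.sympForm m F x y

theorem tvGL_zero_vec (c : F) : tvGL (0 : Vec) c = 1 := by
  apply Units.ext
  rw [tvGL_coe]
  apply matrix_eq_of_mulVec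
  intro x
  rw [sympTransvection_mulVec, smul_zero, add_zero, Units.val_one, Matrix.one_mulVec]

theorem zero_mem_tvVecs (M : Subgroup (GL (Fin m ⊕ Fin m) F)) : (0 : Vec) ∈ tvVecs M := by
  intro c
  rw [tvGL_zero_vec]
  exact M.one_mem

theorem tvGL_mul (v : Vec) (c d : F) : tvGL v c * tvGL v d = tvGL v (c + d) :=
  Units.ext (sympTransvection_mul v c d)

/-- one-step shift inside a subspace of `tvVecs` -/
theorem tvVecs_shift1 {M : Subgroup (GL (Fin m ⊕ Fin m) F)} (hM : M ≤ Cfsg.spGL m F)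
    {U : Submodule F Vec} (hU : ∀ u ∈ U, u ∈ tvVecs M) {y w u : Vec} (hy : y ∈ U)
    (hw : w ∈ spPerp U) (hu : u ∈ U) (hx : y + w ∈ tvVecs M) (hyu : ⟪y, u⟫ ≠ 0) :
    w + u ∈ tvVecs M := by
  have h1 : ⟪y + w, u - y⟫ ≠ 0 := by
    rw [sympForm_add_left, sympForm_sub_right, sympForm_sub_right, sympForm_self,
      (mem_spPerp' U w).mp hw u hu, (mem_spPerp' U w).mp hw y hy]
    simpa using hyu
  have h2 := tvVecs_add hM hx (hU _ (U.sub_mem hu hy)) h1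
  have h3 : y + w + (u - y) = w + u := by abel
  rwa [h3] at h2

/-- shifting the `U`-component of a vector of `tvVecs` to any non-zero vector of `U` -/
theorem tvVecs_shift {M : Subgroup (GL (Fin m ⊕ Fin m) F)} (hM : M ≤ Cfsg.spGL m F)
    {U : Submodule F Vec} (hUnd : RelNondeg U) (hU : ∀ u ∈ U, u ∈ tvVecs M) {y w : Vec}
    (hy : y ∈ U) (hy0 : y ≠ 0) (hw : w ∈ spPerp U) (hx : y + w ∈ tvVecs M) {u : Vec}
    (hu : u ∈ U) (hu0 : u ≠ 0) : w + u ∈ tvVecs M := by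
  by_cases hyu : ⟪y, u⟫ = 0
  · obtain ⟨z, hz, hzy, hzu⟩ := exists_sympForm_ne_zero_both_rel hUnd hy hu hy0 hu0
    have hyz : ⟪y, z⟫ ≠ 0 := by rw [sympForm_swap]; exact neg_ne_zero.mpr hzy
    have h1 : w + z ∈ tvVecs M := tvVecs_shift1 hM hU hy hw hz hx hyz
    rw [add_comm] at h1
    exact tvVecs_shift1 hM hU hz hw hu h1 hzu
  · exact tvVecs_shift1 hM hU hy hw hu hx hyu

/-- the product formula producing a transvection in an orthogonal direction -/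
theorem tvGL_product_formula {w u u' : Vec} (hwu : ⟪w, u⟫ = 0) (hwu' : ⟪w, u'⟫ = 0) :
    (tvGL (w + u) 1 * tvGL u (-1)) * (tvGL (w + u') 1 * tvGL u' (-1)) =
      tvGL w (1 + ⟪u', u⟫) * (tvGL (w + (u + u')) 1 * tvGL (u + u') (-1)) := by
  have huw : ⟪u, w⟫ = 0 := by rw [sympForm_swap, hwu, neg_zero]
  have hu'w : ⟪u', w⟫ = 0 := by rw [sympForm_swap, hwu', neg_zero]
  have huu' : ⟪u, u'⟫ = -⟪u', u⟫ := sympForm_swap u u'
  apply Units.ext
  simp only [Units.val_mul, tvGL_coe]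
  apply matrix_eq_of_mulVec
  intro x
  simp only [← Matrix.mulVec_mulVec, sympTransvection_mulVec]
  simp only [sympForm_add_left, sympForm_add_right, sympForm_smul_left, sympForm_self, hwu, hwu',
    huw, hu'w, huu', mul_zero, add_zero, zero_add]
  module

/-- splitting off the component orthogonal to a non-degenerate subspace of `tvVecs` -/
theorem tvVecs_split {M : Subgroup (GL (Fin m ⊕ Fin m) F)} (hM : M ≤ Cfsg.spGL m F)
    {U : Submodule F Vec} (hUnd : RelNondeg U) (hU : ∀ u ∈ U, u ∈ tvVecs M)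
    (hcard : (∃ b : F, b ≠ 0 ∧ b ≠ 1) ∨
      ∃ u ∈ U, ∃ u' ∈ U, u ≠ 0 ∧ u' ≠ 0 ∧ u + u' ≠ 0 ∧ ⟪u', u⟫ = 0)
    {y w : Vec} (hy : y ∈ U) (hy0 : y ≠ 0) (hw : w ∈ spPerp U) (hx : y + w ∈ tvVecs M) :
    w ∈ tvVecs M := by
  have hP : ∀ u ∈ U, u ≠ 0 → tvGL (w + u) 1 * tvGL u (-1) ∈ M := fun u hu hu0 =>
    M.mul_mem (tvVecs_shift hM hUnd hU hy hy0 hw hx hu hu0 1) (hU u hu (-1))
  have key : ∀ u ∈ U, ∀ u' ∈ U, u ≠ 0 → u' ≠ 0 → u + u' ≠ 0 → tvGL w (1 + ⟪u', u⟫) ∈ M := by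
    intro u hu u' hu' hu0 hu'0 hs
    have h1 := tvGL_product_formula (w := w) ((mem_spPerp' U w).mp hw u hu)
      ((mem_spPerp' U w).mp hw u' hu')
    have h2 : tvGL w (1 + ⟪u', u⟫) = (tvGL (w + u) 1 * tvGL u (-1)) *
        (tvGL (w + u') 1 * tvGL u' (-1)) * (tvGL (w + (u + u')) 1 * tvGL (u + u') (-1))⁻¹ := by
      rw [h1, mul_inv_cancel_right]
    rw [h2]
    exact M.mul_mem (M.mul_mem (hP u hu hu0) (hP u' hu' hu'0))
      (M.inv_mem (hP _ (U.add_mem hu hu') hs))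
  have hne1 : ∀ b : F, b ≠ 1 → tvGL w b ∈ M := by
    intro b hb
    obtain ⟨z, hz, hzy⟩ := hUnd y hy hy0
    have hb1 : b - 1 ≠ 0 := sub_ne_zero.mpr hb
    have h3 : ⟪((b - 1) / ⟪z, y⟫) • z, y⟫ = b - 1 := by
      rw [sympForm_smul_left, div_mul_cancel₀ _ hzy]
    have hu'0 : ((b - 1) / ⟪z, y⟫) • z ≠ 0 := by
      intro h
      rw [h, sympForm_zero_left] at h3
      exact hb1 h3.symm
    have hs : y + ((b - 1) / ⟪z, y⟫) • z ≠ 0 := by
      intro h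
      have h4 : ((b - 1) / ⟪z, y⟫) • z = -y := eq_neg_of_add_eq_zero_right h
      rw [h4, sympForm_neg_left, sympForm_self, neg_zero] at h3
      exact hb1 h3.symm
    have h5 := key y hy _ (U.smul_mem _ hz) hy0 hu'0 hs
    rw [h3] at h5
    have h6 : 1 + (b - 1) = b := by ring
    rwa [h6] at h5
  intro b
  by_cases hb : b = 1
  · subst hb
    rcases hcard with ⟨b', hb'0, hb'1⟩ | ⟨u, hu, u', hu', hu0, hu'0, hs, horth⟩
    · have h4 := hne1 b' hb'1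
      have h5 := hne1 (1 - b') (by
        intro h
        apply hb'0
        linear_combination -h)
      have h6 := M.mul_mem h4 h5
      rw [tvGL_mul] at h6
      have h7 : b' + (1 - b') = 1 := by ring
      rwa [h7] at h6
    · have h4 := key u hu u' hu' hu0 hu'0 hs
      rwa [horth, add_zero] at h4
  · exact hne1 b hb

/-- all translates of the orthogonal component by vectors of `U` are in `tvVecs` -/
theorem tvVecs_translate {M : Subgroup (GL (Fin m ⊕ Fin m) F)} (hM : M ≤ Cfsg.spGL m F)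
    {U : Submodule F Vec} (hUnd : RelNondeg U) (hU : ∀ u ∈ U, u ∈ tvVecs M)
    (hcard : (∃ b : F, b ≠ 0 ∧ b ≠ 1) ∨
      ∃ u ∈ U, ∃ u' ∈ U, u ≠ 0 ∧ u' ≠ 0 ∧ u + u' ≠ 0 ∧ ⟪u', u⟫ = 0)
    {y w : Vec} (hy : y ∈ U) (hy0 : y ≠ 0) (hw : w ∈ spPerp U) (hx : y + w ∈ tvVecs M)
    {u : Vec} (hu : u ∈ U) : w + u ∈ tvVecs M := by
  by_cases hu0 : u = 0
  · rw [hu0, add_zero]
    exact tvVecs_split hM hUnd hU hcard hy hy0 hw hx
  · exact tvVecs_shift hM hUnd hU hy hy0 hw hx hu hu0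

end Cfsg.Agent.Helper13
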