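import Mathlib

set_option autoImplicit false

namespace Cfsg.Agent.Helper13

variable {F : Type*} [Field F] [Fintype F]

omit [Fintype F] in
theorem ringChar_ne_two_of_two_ne_zero (h2 : (2 : F) ≠ 0) : ringChar F ≠ 2 := by
  intro h
  apply h2
  have := ringChar.Nat.cast_ringChar (R := F)
  rw [h] at this
  simpa using this

omit [Fintype F] in
theorem ne_zero_of_not_isSquare {α : F} (hα : ¬ IsSquare α) : α ≠ 0 := by
  rintro rfl
  exact hα ⟨0, by simp⟩

/-- in a finite field, nonsquare times nonzero `a` is a square iff `a` is not a square -/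
theorem isSquare_nonsquare_mul_iff {α a : F} (hα : ¬ IsSquare α) (ha : a ≠ 0) :
    IsSquare (α * a) ↔ ¬ IsSquare a := by
  classical
  have hα0 := ne_zero_of_not_isSquare hα
  rw [← quadraticChar_one_iff_isSquare (mul_ne_zero hα0 ha), map_mul,
    quadraticChar_neg_one_iff_not_isSquare.mpr hα, ← quadraticChar_neg_one_iff_not_isSquare]
  constructor
  · intro h
    linarith
  · intro h
    rw [h]
    norm_num

theorem card_mod_four_of_two_ne_zero (h2 : (2 : F) ≠ 0) :
    Fintype.card F % 4 = 1 ∨ Fintype.card F % 4 = 3 := by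
  have := FiniteField.odd_card_of_char_ne_two (ringChar_ne_two_of_two_ne_zero h2)
  omega

theorem isSquare_neg_one_iff_mod_four_eq_one (h2 : (2 : F) ≠ 0) :
    IsSquare (-1 : F) ↔ Fintype.card F % 4 = 1 := by
  rw [FiniteField.isSquare_neg_one_iff]
  have := card_mod_four_of_two_ne_zero h2
  omega

theorem not_isSquare_neg_one_iff_mod_four_eq_three :
    ¬ IsSquare (-1 : F) ↔ Fintype.card F % 4 = 3 := by
  rw [FiniteField.isSquare_neg_one_iff]
  omega

end Cfsg.Agent.Helper13
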