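import Mathlib
import Cfsg.Agent.Helper13.FinField

set_option autoImplicit false

namespace Cfsg.Agent.Helper13

open Polynomial

variable {F V : Type*} [Field F] [AddCommGroup V] [Module F V]

/-- over a finite field of odd order, `a s² + b t² = 1` is solvable for `a, b ≠ 0` -/
theorem exists_binary_eq_one [Fintype F] (h2 : (2 : F) ≠ 0) {a b : F} (ha : a ≠ 0) (hb : b ≠ 0) :
    ∃ s t : F, a * s ^ 2 + b * t ^ 2 = 1 := by
  have hodd : Fintype.card F % 2 = 1 :=
    FiniteField.odd_card_of_char_ne_two (ringChar_ne_two_of_two_ne_zero h2)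
  have hf : degree (C a * X ^ 2 : F[X]) = 2 := degree_C_mul_X_pow 2 ha
  have hg : degree (C b * X ^ 2 - C 1 : F[X]) = 2 := by
    rw [degree_sub_eq_left_of_degree_lt]
    · exact degree_C_mul_X_pow 2 hb
    · rw [degree_C_mul_X_pow 2 hb]
      exact lt_of_le_of_lt degree_C_le (by norm_num)
  obtain ⟨s, t, hst⟩ := FiniteField.exists_root_sum_quadratic hf hg hodd
  refine ⟨s, t, ?_⟩
  simp only [eval_mul, eval_C, eval_pow, eval_X, eval_sub] at hst
  linear_combination hst

/-- a nondegenerate symmetric bilinear form on a space of dimension at least two over a finite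
field of odd order represents `1` -/
theorem exists_self_eq_one [Finite F] [FiniteDimensional F V] (h2 : (2 : F) ≠ 0)
    (B : LinearMap.BilinForm F V) (hS : B.IsSymm) (hB : B.Nondegenerate)
    (hdim : 2 ≤ Module.finrank F V) : ∃ x : V, B x x = 1 := by
  cases nonempty_fintype F
  have : Invertible (2 : F) := invertibleOfNonzero h2
  obtain ⟨v, hv⟩ := LinearMap.BilinForm.exists_orthogonal_basis (LinearMap.BilinForm.isSymm_iff.mp hS)
  have hne := hv.not_isOrtho_basis_self_of_separatingLeft hB.1
  set i0 : Fin (Module.finrank F V) := ⟨0, by omega⟩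
  set i1 : Fin (Module.finrank F V) := ⟨1, by omega⟩
  have h01 : i0 ≠ i1 := by
    intro h
    have := congrArg Fin.val h
    simp [i0, i1] at this
  have ha : B (v i0) (v i0) ≠ 0 := hne i0
  have hb : B (v i1) (v i1) ≠ 0 := hne i1
  obtain ⟨s, t, hst⟩ := exists_binary_eq_one h2 ha hb
  refine ⟨s • v i0 + t • v i1, ?_⟩
  have h1 : B (v i0) (v i1) = 0 := hv h01
  have h2' : B (v i1) (v i0) = 0 := hv h01.symm
  simp only [map_add, map_smul, LinearMap.add_apply, LinearMap.smul_apply, smul_eq_mul, h1, h2',
    mul_zero, add_zero, zero_add]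
  linear_combination hst

end Cfsg.Agent.Helper13
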