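import Mathlib
import Cfsg.Agent.Helper13.Symp

/-!
# Eichler (Siegel) elements of the symplectic group

`Emat v y c` is the matrix of `x ↦ x + B(x,v) y + B(x,y) v + c B(x,v) v` (`B = Cfsg.sympForm`).
For `B(v,y) = 0` it is symplectic; `Emat v 0 c` is the transvection `sympTransvection v c`.
-/

set_option autoImplicit false

namespace Cfsg.Agent.Helper13.SpE

open Matrix

variable {F : Type*} [CommRing F] {m : ℕ}

local notation "B" => Cfsg.sympForm m F

/-- The Eichler element `x ↦ x + B(x,v) y + B(x,y) v + c B(x,v) v`. -/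
def Emat (v y : Fin m ⊕ Fin m → F) (c : F) : Matrix (Fin m ⊕ Fin m) (Fin m ⊕ Fin m) F :=
  1 + Matrix.vecMulVec y (Matrix.J (Fin m) F *ᵥ v) + Matrix.vecMulVec v (Matrix.J (Fin m) F *ᵥ y)
    + c • Matrix.vecMulVec v (Matrix.J (Fin m) F *ᵥ v)

theorem Emat_mulVec (v y : Fin m ⊕ Fin m → F) (c : F) (x : Fin m ⊕ Fin m → F) :
    Emat v y c *ᵥ x = x + B x v • y + B x y • v + (c * B x v) • v := by
  simp only [Emat, Matrix.add_mulVec, Matrix.one_mulVec, Matrix.smul_mulVec,
    Matrix.vecMulVec_mulVec, Cfsg.Agent.Helper13.sympForm_def, dotProduct_comm x, mul_smul,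
    op_smul_eq_smul]

theorem Emat_zero_eq_sympTransvection (v : Fin m ⊕ Fin m → F) (c : F) :
    Emat v 0 c = Cfsg.sympTransvection m v c := by
  apply Cfsg.Agent.Helper13.matrix_eq_of_mulVec
  intro x
  rw [Emat_mulVec, Cfsg.Agent.Helper13.sympTransvection_mulVec]
  simp

theorem Emat_zero_zero (v : Fin m ⊕ Fin m → F) : Emat v 0 0 = 1 := by
  rw [Emat_zero_eq_sympTransvection, Cfsg.Agent.Helper13.sympTransvection_zero]

theorem Emat_mem (v y : Fin m ⊕ Fin m → F) (c : F) (hvy : B v y = 0) :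
    Emat v y c ∈ Matrix.symplecticGroup (Fin m) F := by
  rw [Cfsg.Agent.Helper13.mem_symplecticGroup_iff_preserves]
  intro x x'
  have hyv : B y v = 0 := by rw [Cfsg.Agent.Helper13.sympForm_swap, hvy, neg_zero]
  rw [Emat_mulVec, Emat_mulVec]
  simp only [Cfsg.Agent.Helper13.sympForm_add_left, Cfsg.Agent.Helper13.sympForm_add_right,
    Cfsg.Agent.Helper13.sympForm_smul_left, Cfsg.Agent.Helper13.sympForm_smul_right,
    Cfsg.Agent.Helper13.sympForm_self, hvy, hyv, mul_zero, add_zero]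
  rw [Cfsg.Agent.Helper13.sympForm_swap v x', Cfsg.Agent.Helper13.sympForm_swap y x']
  ring

theorem Emat_mul (v y y' : Fin m ⊕ Fin m → F) (c c' : F) (hvy : B v y = 0) (hvy' : B v y' = 0) :
    Emat v y c * Emat v y' c' = Emat v (y + y') (c + c' + B y' y) := by
  apply Cfsg.Agent.Helper13.matrix_eq_of_mulVec
  intro x
  have hyv : B y v = 0 := by rw [Cfsg.Agent.Helper13.sympForm_swap, hvy, neg_zero]
  have hyv' : B y' v = 0 := by rw [Cfsg.Agent.Helper13.sympForm_swap, hvy', neg_zero]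
  rw [← Matrix.mulVec_mulVec, Emat_mulVec, Emat_mulVec, Emat_mulVec]
  simp only [Cfsg.Agent.Helper13.sympForm_add_left, Cfsg.Agent.Helper13.sympForm_add_right,
    Cfsg.Agent.Helper13.sympForm_smul_left, Cfsg.Agent.Helper13.sympForm_smul_right,
    Cfsg.Agent.Helper13.sympForm_self, hvy, hyv, hvy', hyv', mul_zero, add_zero, zero_add]
  ext i
  simp only [Pi.add_apply, Pi.smul_apply, smul_eq_mul]
  ring

theorem Emat_conj (A : Matrix (Fin m ⊕ Fin m) (Fin m ⊕ Fin m) F)
    (hA : A ∈ Matrix.symplecticGroup (Fin m) F) (v y : Fin m ⊕ Fin m → F) (c : F) :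
    A * Emat v y c * A⁻¹ = Emat (A *ᵥ v) (A *ᵥ y) c := by
  have hdet : IsUnit A.det := SymplecticGroup.symplectic_det hA
  have hAA : A * A⁻¹ = 1 := Matrix.mul_nonsing_inv A hdet
  have hpres := (Cfsg.Agent.Helper13.mem_symplecticGroup_iff_preserves A).mp hA
  apply Cfsg.Agent.Helper13.matrix_eq_of_mulVec
  intro x
  have h1 : ∀ w, B (A⁻¹ *ᵥ x) w = B x (A *ᵥ w) := by
    intro w
    rw [← hpres (A⁻¹ *ᵥ x) w, Matrix.mulVec_mulVec, hAA, Matrix.one_mulVec]
  rw [← Matrix.mulVec_mulVec, ← Matrix.mulVec_mulVec, Emat_mulVec, Emat_mulVec, h1, h1]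
  simp only [Matrix.mulVec_add, Matrix.mulVec_smul, Matrix.mulVec_mulVec, hAA, Matrix.one_mulVec]

/-- general conjugation formula for symplectic transvections -/
theorem sympTransvection_conj_gen (A : Matrix (Fin m ⊕ Fin m) (Fin m ⊕ Fin m) F)
    (hA : A ∈ Matrix.symplecticGroup (Fin m) F) (v : Fin m ⊕ Fin m → F) (c : F) :
    A * Cfsg.sympTransvection m v c * A⁻¹ = Cfsg.sympTransvection m (A *ᵥ v) c := by
  rw [← Emat_zero_eq_sympTransvection, Emat_conj A hA, Matrix.mulVec_zero,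
    Emat_zero_eq_sympTransvection]

theorem Emat_smul_left (a : F) (v y : Fin m ⊕ Fin m → F) (c : F) :
    Emat (a • v) y c = Emat v (a • y) (c * a ^ 2) := by
  apply Cfsg.Agent.Helper13.matrix_eq_of_mulVec
  intro x
  rw [Emat_mulVec, Emat_mulVec]
  simp only [Cfsg.Agent.Helper13.sympForm_smul_right]
  ext i
  simp only [Pi.add_apply, Pi.smul_apply, smul_eq_mul]
  ring

theorem sympTransvection_smul (a : F) (v : Fin m ⊕ Fin m → F) (c : F) :
    Cfsg.sympTransvection m (a • v) c = Cfsg.sympTransvection m v (c * a ^ 2) := by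
  rw [← Emat_zero_eq_sympTransvection, Emat_smul_left, smul_zero, Emat_zero_eq_sympTransvection]

end Cfsg.Agent.Helper13.SpE
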