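import Cfsg.Agent.Helper13.SympGen2
import Cfsg.Agent.S0776
import Cfsg.Prelude.Def_GeometricClasses

set_option autoImplicit false

namespace Cfsg.Agent.Helper13

open Matrix

variable {F : Type*} [Field F] {m : ℕ}

local notation "Vec" => (Fin m ⊕ Fin m → F)
local notation "Mat" => Matrix (Fin m ⊕ Fin m) (Fin m ⊕ Fin m) F
local notation "⟪" x ", " y "⟫" => Cfsg.sympForm m F x y

/-- the symplectic transvection as an element of `GL` -/
def tvGL (v : Vec) (c : F) : GL (Fin m ⊕ Fin m) F :=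
  ⟨Cfsg.sympTransvection m v c, Cfsg.sympTransvection m v (-c),
    by rw [sympTransvection_mul, add_neg_cancel, sympTransvection_zero],
    by rw [sympTransvection_mul, neg_add_cancel, sympTransvection_zero]⟩

theorem tvGL_coe (v : Vec) (c : F) :
    ((tvGL v c : GL (Fin m ⊕ Fin m) F) : Mat) = Cfsg.sympTransvection m v c := rfl

theorem tvGL_inv (v : Vec) (c : F) : (tvGL v c)⁻¹ = tvGL v (-c) := by
  apply Units.ext
  rfl

theorem mem_spGL_iff (g : GL (Fin m ⊕ Fin m) F) :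
    g ∈ Cfsg.spGL m F ↔ ∀ u v : Vec, ⟪(g : Mat) *ᵥ u, (g : Mat) *ᵥ v⟫ = ⟪u, v⟫ := Iff.rfl

theorem mem_subspaceStabilizer_iff (W : Submodule F Vec) (g : GL (Fin m ⊕ Fin m) F) :
    g ∈ Cfsg.Geo.subspaceStabilizer W ↔ ∀ v : Vec, v ∈ W ↔ (g : Mat) *ᵥ v ∈ W := Iff.rfl

theorem tvGL_mem_spGL (v : Vec) (c : F) : tvGL v c ∈ Cfsg.spGL m F := by
  rw [mem_spGL_iff, tvGL_coe]
  exact (mem_symplecticGroup_iff_preserves _).mp (sympTransvection_mem v c)

theorem gl_inv_mulVec (g : GL (Fin m ⊕ Fin m) F) (x : Vec) :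
    ((g⁻¹ : GL (Fin m ⊕ Fin m) F) : Mat) *ᵥ ((g : Mat) *ᵥ x) = x := by
  rw [Matrix.mulVec_mulVec, ← Units.val_mul, inv_mul_cancel, Units.val_one, Matrix.one_mulVec]

theorem gl_mulVec_inv (g : GL (Fin m ⊕ Fin m) F) (x : Vec) :
    (g : Mat) *ᵥ (((g⁻¹ : GL (Fin m ⊕ Fin m) F) : Mat) *ᵥ x) = x := by
  rw [Matrix.mulVec_mulVec, ← Units.val_mul, mul_inv_cancel, Units.val_one, Matrix.one_mulVec]

/-- conjugating a transvection by an isometry -/
theorem conj_tvGL {g : GL (Fin m ⊕ Fin m) F} (hg : g ∈ Cfsg.spGL m F) (v : Vec) (c : F) :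
    g * tvGL v c * g⁻¹ = tvGL ((g : Mat) *ᵥ v) c := by
  apply Units.ext
  rw [Units.val_mul, Units.val_mul, tvGL_coe, tvGL_coe]
  apply matrix_eq_of_mulVec
  intro x
  rw [← Matrix.mulVec_mulVec, ← Matrix.mulVec_mulVec, sympTransvection_mulVec,
    sympTransvection_mulVec, Matrix.mulVec_add, gl_mulVec_inv, Matrix.mulVec_smul]
  congr 2
  have h := (mem_spGL_iff g).mp hg (((g⁻¹ : GL (Fin m ⊕ Fin m) F) : Mat) *ᵥ x) v
  rw [gl_mulVec_inv] at h
  rw [h]

theorem tvGL_smul (v : Vec) (a c : F) : tvGL (a • v) c = tvGL v (c * a ^ 2) := by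
  apply Units.ext
  rw [tvGL_coe, tvGL_coe]
  apply matrix_eq_of_mulVec
  intro x
  rw [sympTransvection_mulVec, sympTransvection_mulVec, sympForm_smul_right, smul_smul]
  congr 1
  ring

/-- the symplectic group inside `GL` -/
def spToGL (m : ℕ) (F : Type*) [Field F] :
    Matrix.symplecticGroup (Fin m) F →* GL (Fin m ⊕ Fin m) F :=
  (Matrix.symplecticGroup (Fin m) F).subtype.toHomUnits

theorem spToGL_coe (A : Matrix.symplecticGroup (Fin m) F) :
    ((spToGL m F A : GL (Fin m ⊕ Fin m) F) : Mat) = (A : Mat) := rfl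

theorem relTransvectionSubgroup_le_comap (M : Subgroup (GL (Fin m ⊕ Fin m) F))
    (W : Submodule F Vec) (h : ∀ w ∈ W, ∀ c : F, tvGL w c ∈ M) :
    relTransvectionSubgroup W ≤ M.comap (spToGL m F) := by
  rw [relTransvectionSubgroup, Subgroup.closure_le]
  rintro A ⟨w, hw, c, hA⟩
  rw [SetLike.mem_coe, Subgroup.mem_comap]
  have : spToGL m F A = tvGL w c := Units.ext (by rw [spToGL_coe, hA, tvGL_coe])
  rw [this]
  exact h w hw c

/-- a subgroup containing all the transvections contains the symplectic group -/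
theorem spGL_le_of_tv (M : Subgroup (GL (Fin m ⊕ Fin m) F)) (h : ∀ (v : Vec) (c : F), tvGL v c ∈ M) :
    Cfsg.spGL m F ≤ M := by
  intro g hg
  have hA : (g : Mat) ∈ Matrix.symplecticGroup (Fin m) F :=
    (mem_symplecticGroup_iff_preserves _).mpr ((mem_spGL_iff g).mp hg)
  have hle : sympTransvectionSubgroup m F ≤ M.comap (spToGL m F) := by
    rw [sympTransvectionSubgroup, Subgroup.closure_le]
    rintro A ⟨w, c, hA⟩
    rw [SetLike.mem_coe, Subgroup.mem_comap]
    have : spToGL m F A = tvGL w c := Units.ext (by rw [spToGL_coe, hA, tvGL_coe])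
    rw [this]
    exact h w c
  rw [sympTransvectionSubgroup_eq_top] at hle
  have h1 : (⟨(g : Mat), hA⟩ : Matrix.symplecticGroup (Fin m) F) ∈ M.comap (spToGL m F) :=
    hle (Subgroup.mem_top _)
  rw [Subgroup.mem_comap] at h1
  have h2 : spToGL m F ⟨(g : Mat), hA⟩ = g := Units.ext rfl
  rwa [h2] at h1

/-- the vectors all of whose transvections lie in `M` -/
def tvVecs (M : Subgroup (GL (Fin m ⊕ Fin m) F)) : Set Vec := {v | ∀ c : F, tvGL v c ∈ M}

theorem tvVecs_map {M : Subgroup (GL (Fin m ⊕ Fin m) F)} (hM : M ≤ Cfsg.spGL m F)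
    {g : GL (Fin m ⊕ Fin m) F} (hg : g ∈ M) {v : Vec} (hv : v ∈ tvVecs M) :
    (g : Mat) *ᵥ v ∈ tvVecs M := by
  intro c
  rw [← conj_tvGL (hM hg)]
  exact M.mul_mem (M.mul_mem hg (hv c)) (M.inv_mem hg)

theorem tvVecs_smul {M : Subgroup (GL (Fin m ⊕ Fin m) F)} {v : Vec} (hv : v ∈ tvVecs M) (a : F) :
    a • v ∈ tvVecs M := by
  intro c
  rw [tvGL_smul]
  exact hv _

/-- closure under non-orthogonal sums -/
theorem tvVecs_add {M : Subgroup (GL (Fin m ⊕ Fin m) F)} (hM : M ≤ Cfsg.spGL m F) {u v : Vec}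
    (hu : u ∈ tvVecs M) (hv : v ∈ tvVecs M) (huv : ⟪u, v⟫ ≠ 0) : u + v ∈ tvVecs M := by
  have hvu : ⟪v, u⟫ ≠ 0 := by rw [sympForm_swap]; exact neg_ne_zero.mpr huv
  have h1 := tvVecs_map hM (hu (⟪v, u⟫)⁻¹) hv
  rw [tvGL_coe, sympTransvection_mulVec, inv_mul_cancel₀ hvu, one_smul, add_comm] at h1
  exact h1

/-- an element of `GL` mapping `W` into itself, whose inverse also does, stabilises `W` -/
theorem mem_subspaceStabilizer_of_maps (W : Submodule F Vec) (g : GL (Fin m ⊕ Fin m) F)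
    (h1 : ∀ x ∈ W, (g : Mat) *ᵥ x ∈ W)
    (h2 : ∀ x ∈ W, ((g⁻¹ : GL (Fin m ⊕ Fin m) F) : Mat) *ᵥ x ∈ W) :
    g ∈ Cfsg.Geo.subspaceStabilizer W := by
  rw [mem_subspaceStabilizer_iff]
  intro v
  refine ⟨h1 v, fun h => ?_⟩
  have := h2 _ h
  rwa [gl_inv_mulVec] at this

/-- transvections with vector in `W` stabilise `W` -/
theorem tvGL_mem_stab_of_mem (W : Submodule F Vec) {v : Vec} (hv : v ∈ W) (c : F) :
    tvGL v c ∈ Cfsg.Geo.subspaceStabilizer W := by
  apply mem_subspaceStabilizer_of_maps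
  · intro x hx
    rw [tvGL_coe, sympTransvection_mulVec]
    exact W.add_mem hx (W.smul_mem _ hv)
  · intro x hx
    rw [tvGL_inv, tvGL_coe, sympTransvection_mulVec]
    exact W.add_mem hx (W.smul_mem _ hv)

/-- transvections with vector orthogonal to `W` stabilise `W` -/
theorem tvGL_mem_stab_of_orth (W : Submodule F Vec) {v : Vec} (hv : ∀ w ∈ W, ⟪w, v⟫ = 0)
    (c : F) : tvGL v c ∈ Cfsg.Geo.subspaceStabilizer W := by
  apply mem_subspaceStabilizer_of_maps
  · intro x hx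
    rw [tvGL_coe, sympTransvection_mulVec, hv x hx, mul_zero, zero_smul, add_zero]
    exact hx
  · intro x hx
    rw [tvGL_inv, tvGL_coe, sympTransvection_mulVec, hv x hx, mul_zero, zero_smul, add_zero]
    exact hx

/-- an isometry mapping `W` into `W` stabilises `W` -/
theorem mem_subspaceStabilizer_of_maps_into (W : Submodule F Vec) (g : GL (Fin m ⊕ Fin m) F)
    (h1 : ∀ x ∈ W, (g : Mat) *ᵥ x ∈ W) : g ∈ Cfsg.Geo.subspaceStabilizer W := by
  have hinj : Function.Injective (Matrix.mulVecLin (g : Mat)) := by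
    intro x y hxy
    have := congrArg (fun z => ((g⁻¹ : GL (Fin m ⊕ Fin m) F) : Mat) *ᵥ z) hxy
    simpa only [Matrix.mulVecLin_apply, gl_inv_mulVec] using this
  have hle : W.map (Matrix.mulVecLin (g : Mat)) ≤ W := by
    rintro _ ⟨x, hx, rfl⟩
    exact h1 x hx
  have hfin : Module.finrank F (W.map (Matrix.mulVecLin (g : Mat))) = Module.finrank F W := by
    have h3 := LinearEquiv.finrank_map_eq (LinearEquiv.ofInjectiveEndo _ hinj) W
    rw [← h3]
    congr 2
  have heq : W.map (Matrix.mulVecLin (g : Mat)) = W :=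
    Submodule.eq_of_le_of_finrank_eq hle hfin
  apply mem_subspaceStabilizer_of_maps W g h1
  intro x hx
  rw [← heq] at hx
  obtain ⟨y, hy, rfl⟩ := hx
  rw [Matrix.mulVecLin_apply, gl_inv_mulVec]
  exact hy

end Cfsg.Agent.Helper13
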