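import Mathlib

/-!
# Arithmetic lemmas for involutions of `PSL_n(q)` and subfield subgroups (S5964)
-/

set_option autoImplicit false

namespace Cfsg.Agent.Helper13.SubInv

open Finset

/-- a sum of `k` odd numbers, `k` odd, is odd -/
theorem odd_sum_of_odd {k : ℕ} (hk : Odd k) (f : ℕ → ℕ) (hf : ∀ i, i < k → Odd (f i)) :
    Odd (∑ i ∈ range k, f i) := by
  rw [Nat.odd_iff, Finset.sum_nat_mod]
  have h1 : ∀ i ∈ range k, f i % 2 = 1 := by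
    intro i hi
    exact Nat.odd_iff.mp (hf i (Finset.mem_range.mp hi))
  rw [Finset.sum_congr rfl h1]
  simp only [sum_const, card_range, smul_eq_mul, mul_one]
  exact Nat.odd_iff.mp hk

/-- `x^k - y^k = (x - y) * r` with `r` odd, for `x ≥ y` odd and `k` odd -/
theorem exists_odd_cofactor (x y k : ℕ) (hxy : y ≤ x) (hx : Odd x) (hy : Odd y) (hk : Odd k) :
    ∃ r : ℕ, Odd r ∧ x ^ k - y ^ k = (x - y) * r := by
  refine ⟨∑ i ∈ range k, x ^ i * y ^ (k - 1 - i), ?_, ?_⟩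
  · apply odd_sum_of_odd hk
    intro i _
    exact (hx.pow).mul (hy.pow)
  · rw [mul_comm]
    exact (geom_sum₂_mul_of_ge hxy k).symm

/-- the order of `GL_n(q₀^k)` is an odd multiple of the order of `GL_n(q₀)` (`q₀`, `k` odd) -/
theorem gl_prod_odd_ratio (q₀ k n : ℕ) (hq₀ : Odd q₀) (hk : Odd k) :
    ∃ R : ℕ, Odd R ∧ ∏ i : Fin n, ((q₀ ^ k) ^ n - (q₀ ^ k) ^ (i : ℕ)) =
      (∏ i : Fin n, (q₀ ^ n - q₀ ^ (i : ℕ))) * R := by
  have hq1 : 1 ≤ q₀ := hq₀.pos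
  have h : ∀ i : Fin n, ∃ r : ℕ, Odd r ∧
      (q₀ ^ k) ^ n - (q₀ ^ k) ^ (i : ℕ) = (q₀ ^ n - q₀ ^ (i : ℕ)) * r := by
    intro i
    have hle : q₀ ^ (i : ℕ) ≤ q₀ ^ n := Nat.pow_le_pow_right hq1 i.2.le
    obtain ⟨r, hr, he⟩ := exists_odd_cofactor (q₀ ^ n) (q₀ ^ (i : ℕ)) k hle hq₀.pow hq₀.pow hk
    refine ⟨r, hr, ?_⟩
    rw [← he, ← pow_mul, ← pow_mul, ← pow_mul, ← pow_mul, mul_comm k n, mul_comm k (i : ℕ)]
  choose r hr he using h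
  refine ⟨∏ i : Fin n, r i, ?_, ?_⟩
  · exact Finset.prod_induction _ (fun m => Odd m) (fun a b ha hb => ha.mul hb) odd_one
      (fun i _ => hr i)
  · rw [← Finset.prod_mul_distrib]
    exact Finset.prod_congr rfl (fun i _ => he i)

/-- `q₀^k - 1` is an odd multiple of `q₀ - 1` (`q₀`, `k` odd) -/
theorem sub_one_odd_ratio (q₀ k : ℕ) (hq₀ : Odd q₀) (hk : Odd k) :
    ∃ s : ℕ, Odd s ∧ q₀ ^ k - 1 = (q₀ - 1) * s := by
  obtain ⟨r, hr, he⟩ := exists_odd_cofactor q₀ 1 k hq₀.pos hq₀ odd_one hk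
  refine ⟨r, hr, ?_⟩
  rw [one_pow] at he
  exact he

/-- Numerical core of the index computation: if `2 * S₀ * j = S`, `G = S * (q₀^k - 1)`,
`G₀ = S₀ * (q₀ - 1)` and `G = G₀ * R` with `R` odd, we get a contradiction. -/
theorem index_parity_core (q₀ k S S₀ G G₀ R j : ℕ) (hq₀ : Odd q₀) (hq₀1 : 1 < q₀) (hk : Odd k)
    (hS : S = 2 * (S₀ * j)) (hG : G = S * (q₀ ^ k - 1)) (hG₀ : G₀ = S₀ * (q₀ - 1))
    (hR : G = G₀ * R) (hRodd : Odd R) (hS₀ : 0 < S₀) : False := by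
  obtain ⟨s, hs, hse⟩ := sub_one_odd_ratio q₀ k hq₀ hk
  have h1 : S₀ * (q₀ - 1) * R = 2 * (S₀ * j) * ((q₀ - 1) * s) := by
    rw [← hG₀, ← hR, hG, hS, hse]
  have h2 : S₀ * (q₀ - 1) * R = S₀ * (q₀ - 1) * (2 * (j * s)) := by
    rw [h1]; ring
  have hpos : 0 < S₀ * (q₀ - 1) := Nat.mul_pos hS₀ (by omega)
  have h3 : R = 2 * (j * s) := Nat.eq_of_mul_eq_mul_left hpos h2
  rw [h3] at hRodd
  exact (Nat.not_odd_iff_even.mpr (even_two_mul _)) hRodd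

end Cfsg.Agent.Helper13.SubInv
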