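import Mathlib
import Cfsg.Prelude.Def_GeometricClasses
import Cfsg.Agent.Helper38.SubFieldMem
import Cfsg.Agent.Helper5.Card
import Cfsg.Agent.Helper13.SubInvA

/-!
# The index of the subfield subgroup in `SL_n(q)` is odd for `q = q₀^k`, `q₀`, `k` odd (S5964)
-/

set_option autoImplicit false

namespace Cfsg.Agent.Helper13.SubInv

open Matrix Cfsg Cfsg.Geo

variable {F : Type*} [Field F] {n : ℕ}

/-- the subgroup `H` of the statement -/
abbrev subH (n : ℕ) (F₀ : Subfield F) : Subgroup (Matrix.SpecialLinearGroup (Fin n) F) :=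
  (Cfsg.Geo.subfieldSubgroup F₀ (1 : GL (Fin n) F)).comap
    (Matrix.SpecialLinearGroup.toGL : Matrix.SpecialLinearGroup (Fin n) F →* GL (Fin n) F)

/-- membership in `H` from entries -/
theorem mem_subH_of_entries (F₀ : Subfield F) (g : Matrix.SpecialLinearGroup (Fin n) F) (lam : F)
    (hlam : lam ≠ 0) (h : ∀ i j, (g : Matrix (Fin n) (Fin n) F) i j / lam ∈ F₀) :
    g ∈ subH n F₀ := by
  rw [Subgroup.mem_comap]
  exact Cfsg.Agent.Helper38.SubF.mem_of_entries F₀ _ lam hlam h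

/-- entries of elements of `H` -/
theorem entries_of_mem_subH (F₀ : Subfield F) (g : Matrix.SpecialLinearGroup (Fin n) F)
    (hg : g ∈ subH n F₀) :
    ∃ lam : F, lam ≠ 0 ∧ ∀ i j, (g : Matrix (Fin n) (Fin n) F) i j / lam ∈ F₀ := by
  rw [Subgroup.mem_comap] at hg
  exact Cfsg.Agent.Helper38.SubF.entries_of_mem F₀ _ hg

/-- `SL_n(F₀)` embeds in `H` -/
theorem card_SL_sub_dvd [Finite F] (F₀ : Subfield F) :
    Nat.card (Matrix.SpecialLinearGroup (Fin n) F₀) ∣ Nat.card (subH n F₀) := by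
  set φ : Matrix.SpecialLinearGroup (Fin n) F₀ →* Matrix.SpecialLinearGroup (Fin n) F :=
    Matrix.SpecialLinearGroup.map (F₀.subtype : F₀ →+* F) with hφ
  have hinj : Function.Injective φ := by
    intro A B hAB
    apply Matrix.SpecialLinearGroup.ext
    intro i j
    have h1 : (φ A : Matrix (Fin n) (Fin n) F) i j = (φ B : Matrix (Fin n) (Fin n) F) i j := by
      rw [hAB]
    have h2 : ∀ C : Matrix.SpecialLinearGroup (Fin n) F₀,
        (φ C : Matrix (Fin n) (Fin n) F) i j = ((C : Matrix (Fin n) (Fin n) F₀) i j : F) := by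
      intro C; rfl
    rw [h2, h2] at h1
    exact Subtype.ext h1
  have hle : φ.range ≤ subH n F₀ := by
    rintro _ ⟨A, rfl⟩
    apply mem_subH_of_entries F₀ _ 1 one_ne_zero
    intro i j
    rw [div_one]
    have : (φ A : Matrix (Fin n) (Fin n) F) i j = ((A : Matrix (Fin n) (Fin n) F₀) i j : F) := rfl
    rw [this]
    exact (A.1 i j).2
  have h1 : Nat.card φ.range = Nat.card (Matrix.SpecialLinearGroup (Fin n) F₀) :=
    (Nat.card_congr (MonoidHom.ofInjective hinj).toEquiv).symm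
  rw [← h1]
  exact Subgroup.card_dvd_of_le hle

/-- the index of `H` is odd when `q = q₀^k` with `q₀` and `k` odd -/
theorem index_odd [Fintype F] (hn : 0 < n) (F₀ : Subfield F) (k q₀ : ℕ) (hk : Odd k)
    (hq₀ : Odd q₀) (hF₀ : Nat.card ↥F₀ = q₀) (hq : Fintype.card F = q₀ ^ k) :
    ¬ 2 ∣ (subH n F₀).index := by
  classical
  intro h2
  have : Nonempty (Fin n) := ⟨⟨0, hn⟩⟩
  have : Fintype ↥F₀ := Fintype.ofFinite _
  have hcF₀ : Fintype.card ↥F₀ = q₀ := by rw [← Nat.card_eq_fintype_card, hF₀]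
  have hq₀1 : 1 < q₀ := by rw [← hcF₀]; exact Fintype.one_lt_card
  obtain ⟨j₁, hj₁⟩ := card_SL_sub_dvd (n := n) F₀
  obtain ⟨j₂, hj₂⟩ := h2
  have hS : Nat.card (Matrix.SpecialLinearGroup (Fin n) F) =
      2 * (Nat.card (Matrix.SpecialLinearGroup (Fin n) F₀) * (j₁ * j₂)) := by
    rw [← Subgroup.card_mul_index (subH n F₀), hj₁, hj₂]
    ring
  have hG := Cfsg.Agent.Helper5.card_GL_eq_card_SL_mul (n := Fin n) (F := F)
  have hG₀ := Cfsg.Agent.Helper5.card_GL_eq_card_SL_mul (n := Fin n) (F := ↥F₀)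
  rw [hq] at hG
  rw [hcF₀] at hG₀
  obtain ⟨R, hRodd, hR⟩ := gl_prod_odd_ratio q₀ k n hq₀ hk
  have hGc : Nat.card (GL (Fin n) F) = ∏ i : Fin n, ((q₀ ^ k) ^ n - (q₀ ^ k) ^ (i : ℕ)) := by
    rw [Matrix.card_GL_field, hq]
  have hG₀c : Nat.card (GL (Fin n) ↥F₀) = ∏ i : Fin n, (q₀ ^ n - q₀ ^ (i : ℕ)) := by
    rw [Matrix.card_GL_field, hcF₀]
  have hRR : Nat.card (GL (Fin n) F) = Nat.card (GL (Fin n) ↥F₀) * R := by
    rw [hGc, hG₀c, hR]
  exact index_parity_core q₀ k _ _ _ _ R (j₁ * j₂) hq₀ hq₀1 hk hS hG hG₀ hRR hRodd Nat.card_pos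

end Cfsg.Agent.Helper13.SubInv
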