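import Mathlib
import Cfsg.Agent.Helper38.ChainBasis
import Cfsg.Agent.Helper13.SubInvB

/-!
# Involutions of `PSL_n(q)`, `q` even, are conjugate into the subfield subgroup (S5964)
-/

set_option autoImplicit false

namespace Cfsg.Agent.Helper13.SubInv

open Matrix Cfsg Cfsg.Geo

variable {F : Type*} [Field F] {n : ℕ}

/-- a `GL` element of determinant one as an `SL` element; conjugation formula -/
theorem exists_sl_of_det_one (P : GL (Fin n) F) (hP : P.val.det = 1) :
    ∃ P' : Matrix.SpecialLinearGroup (Fin n) F, ∀ x : Matrix.SpecialLinearGroup (Fin n) F,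
      ((P'⁻¹ * x * P' : Matrix.SpecialLinearGroup (Fin n) F) : Matrix (Fin n) (Fin n) F) =
        (P⁻¹ : GL (Fin n) F).val * (x : Matrix (Fin n) (Fin n) F) * P.val := by
  refine ⟨⟨P.val, hP⟩, ?_⟩
  intro x
  set P' : Matrix.SpecialLinearGroup (Fin n) F := ⟨P.val, hP⟩ with hP'
  have h1 : ((P'⁻¹ : Matrix.SpecialLinearGroup (Fin n) F) : Matrix (Fin n) (Fin n) F) * P.val = 1 := by
    have : ((P'⁻¹ * P' : Matrix.SpecialLinearGroup (Fin n) F) : Matrix (Fin n) (Fin n) F) = 1 := by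
      rw [inv_mul_cancel]; rfl
    rw [Matrix.SpecialLinearGroup.coe_mul] at this
    exact this
  have h2 : P.val * (P⁻¹ : GL (Fin n) F).val = 1 := by
    rw [← Units.val_mul, mul_inv_cancel]; rfl
  have h3 : ((P'⁻¹ : Matrix.SpecialLinearGroup (Fin n) F) : Matrix (Fin n) (Fin n) F) =
      (P⁻¹ : GL (Fin n) F).val := by
    calc ((P'⁻¹ : Matrix.SpecialLinearGroup (Fin n) F) : Matrix (Fin n) (Fin n) F)
        = ((P'⁻¹ : Matrix.SpecialLinearGroup (Fin n) F) : Matrix (Fin n) (Fin n) F) *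
            (P.val * (P⁻¹ : GL (Fin n) F).val) := by rw [h2, mul_one]
      _ = (P⁻¹ : GL (Fin n) F).val := by rw [← mul_assoc, h1, one_mul]
  rw [Matrix.SpecialLinearGroup.coe_mul, Matrix.SpecialLinearGroup.coe_mul, h3]

/-- the scalar of the square of an element of `SL_n` is non-zero -/
theorem scalar_ne_zero (hn : 0 < n) (x : Matrix.SpecialLinearGroup (Fin n) F) (m : ℕ) (z : F)
    (hx : ((x ^ m : Matrix.SpecialLinearGroup (Fin n) F) : Matrix (Fin n) (Fin n) F) =
      z • (1 : Matrix (Fin n) (Fin n) F)) : z ≠ 0 := by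
  intro hz
  have h1 : ((x ^ m : Matrix.SpecialLinearGroup (Fin n) F) : Matrix (Fin n) (Fin n) F).det = 1 :=
    (x ^ m).2
  have : Nonempty (Fin n) := ⟨⟨0, hn⟩⟩
  rw [hx, hz, zero_smul, Matrix.det_zero] at h1
  exact zero_ne_one h1

/-- In characteristic two every element of `SL_n(F)` with scalar square is conjugate into the
subfield subgroup. -/
theorem conj_char_two [Fintype F] (h2 : (2 : F) = 0) (F₀ : Subfield F) (hn : 0 < n)
    (x : Matrix.SpecialLinearGroup (Fin n) F) (z : F)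
    (hx : ((x ^ 2 : Matrix.SpecialLinearGroup (Fin n) F) : Matrix (Fin n) (Fin n) F) =
      z • (1 : Matrix (Fin n) (Fin n) F)) :
    ∃ P : Matrix.SpecialLinearGroup (Fin n) F, P⁻¹ * x * P ∈ subH n F₀ := by
  classical
  have hz0 : z ≠ 0 := scalar_ne_zero hn x 2 z hx
  have : CharP F 2 := CharTwo.of_one_ne_zero_of_two_eq_zero one_ne_zero h2
  have hrc : ringChar F = 2 := ringChar.eq F 2
  have hsq : ∀ a : F, ∃ b : F, b * b = a := by
    intro a
    obtain ⟨b, hb⟩ := FiniteField.isSquare_of_char_two hrc a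
    exact ⟨b, hb.symm⟩
  obtain ⟨w, hw⟩ := hsq z
  have hw0 : w ≠ 0 := by
    intro h; rw [h, mul_zero] at hw; exact hz0 hw.symm
  set X : Matrix (Fin n) (Fin n) F := (x : Matrix (Fin n) (Fin n) F) with hX
  have hXX : X * X = z • (1 : Matrix (Fin n) (Fin n) F) := by
    rw [← hx, pow_two, Matrix.SpecialLinearGroup.coe_mul]
  set N₁ : Matrix (Fin n) (Fin n) F := w⁻¹ • X - 1 with hN₁
  have hN₁sq : N₁ ^ 2 = 0 := by
    rw [pow_two, hN₁]
    have e1 : (w⁻¹ • X - 1) * (w⁻¹ • X - 1) =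
        (w⁻¹ * w⁻¹) • (X * X) - (2 : F) • (w⁻¹ • X) + 1 := by
      rw [sub_mul, mul_sub, mul_sub, Matrix.smul_mul, Matrix.mul_smul, smul_smul, mul_one, one_mul,
        mul_one, two_smul]
      abel
    rw [e1, hXX, h2, zero_smul, sub_zero, smul_smul]
    have e2 : w⁻¹ * w⁻¹ * z = 1 := by
      rw [← hw]; field_simp
    rw [e2, one_smul]
    have : (1 : Matrix (Fin n) (Fin n) F) + 1 = (2 : F) • (1 : Matrix (Fin n) (Fin n) F) := by
      rw [two_smul]
    rw [this, h2, zero_smul]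
  obtain ⟨l, hpos, hle, hsum, P₁, -, hall⟩ := Cfsg.Agent.Helper38.Chain.exists_adapted_GL N₁ 2 hN₁sq
  have hlne : l ≠ [] := by
    intro h; rw [h, List.sum_nil] at hsum; omega
  obtain ⟨a, ha⟩ := List.exists_mem_of_ne_nil l hlne
  have hdet0 : P₁.val.det ≠ 0 := by
    have := (Matrix.GeneralLinearGroup.det P₁).ne_zero
    simpa using this
  obtain ⟨μ, hμ⟩ : ∃ μ : Fˣ, (μ : F) ^ a * P₁.val.det = 1 := by
    have ha1 := hpos a ha
    have ha2 := hle a ha
    have hcase : a = 1 ∨ a = 2 := by omega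
    rcases hcase with rfl | rfl
    · refine ⟨Units.mk0 (P₁.val.det)⁻¹ (inv_ne_zero hdet0), ?_⟩
      rw [pow_one, Units.val_mk0, inv_mul_cancel₀ hdet0]
    · obtain ⟨b, hb⟩ := hsq (P₁.val.det)⁻¹
      have hb0 : b ≠ 0 := by
        intro h; rw [h, mul_zero] at hb; exact inv_ne_zero hdet0 hb.symm
      refine ⟨Units.mk0 b hb0, ?_⟩
      rw [Units.val_mk0, pow_two, hb, inv_mul_cancel₀ hdet0]
  obtain ⟨P, h01, hPdet⟩ := hall a ha μ
  rw [hμ] at hPdet
  obtain ⟨P', hP'⟩ := exists_sl_of_det_one P hPdet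
  refine ⟨P', ?_⟩
  apply mem_subH_of_entries F₀ _ w hw0
  intro i j
  rw [hP' x]
  have hPP : (P⁻¹ : GL (Fin n) F).val * P.val = 1 := by
    rw [← Units.val_mul, inv_mul_cancel]; rfl
  have e3 : (P⁻¹ : GL (Fin n) F).val * X * P.val =
      w • ((P⁻¹ : GL (Fin n) F).val * N₁ * P.val + 1) := by
    rw [hN₁, mul_sub, sub_mul, mul_one, hPP, sub_add_cancel, Matrix.mul_smul, Matrix.smul_mul,
      smul_smul, mul_inv_cancel₀ hw0, one_smul]
  rw [e3, Matrix.smul_apply, smul_eq_mul, mul_div_cancel_left₀ _ hw0, Matrix.add_apply]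
  have h01' := h01 i j
  have hone : (1 : Matrix (Fin n) (Fin n) F) i j = 0 ∨ (1 : Matrix (Fin n) (Fin n) F) i j = 1 := by
    by_cases hij : i = j
    · right; rw [hij, Matrix.one_apply_eq]
    · left; rw [Matrix.one_apply_ne hij]
  rcases h01' with h | h <;> rcases hone with h' | h' <;> rw [h, h']
  · rw [add_zero]; exact F₀.zero_mem
  · rw [zero_add]; exact F₀.one_mem
  · rw [add_zero]; exact F₀.one_mem
  · exact F₀.add_mem F₀.one_mem F₀.one_mem

end Cfsg.Agent.Helper13.SubInv
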