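import Mathlib
import Cfsg.Agent.Helper43.PGLPrimeB
import Cfsg.Agent.Helper13.SubInvC

/-!
# Definitions for S5965 (elements of odd prime order `r ≠ p` of `PSL_n(q)` and subfield subgroups)

Exponent vectors `a : Fin n → ZMod r` describe the diagonal matrices `diag(ζ^(a i))`; `cnt a j` is the
multiplicity of the eigenvalue `ζ^j`.
-/

set_option autoImplicit false

namespace Cfsg.Agent.Helper13.SubOdd

/-- the number of indices `i` with `a i = j` -/
def cnt {n r : ℕ} (a : Fin n → ZMod r) (j : ZMod r) : ℕ :=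
  (Finset.univ.filter fun i : Fin n => a i = j).card

/-- the exponent vector `(v₀, v₁, v₂, 0, …, 0)` (truncated if `n < 3`) -/
def vec3 (n r : ℕ) (v₀ v₁ v₂ : ZMod r) : Fin n → ZMod r := fun i =>
  if i.val = 0 then v₀ else if i.val = 1 then v₁ else if i.val = 2 then v₂ else 0

/-- the diagonal matrix `diag(ζ^(a i))` -/
noncomputable def dg {F : Type*} [Field F] {n r : ℕ} (ζ : F) (a : Fin n → ZMod r) :
    Matrix (Fin n) (Fin n) F :=
  Matrix.diagonal fun i => Cfsg.Agent.Helper43.PGLPrime.zp ζ r (a i)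

end Cfsg.Agent.Helper13.SubOdd
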