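import Mathlib
import Cfsg.Prelude.Def_GeometricClasses
import Cfsg.Prelude.Def_LieClassical
import Cfsg.Agent.Helper13.SubOddDefs
import Cfsg.Agent.Helper43.GUPrimeD

/-!
# Definitions for S5982 (elements of prime order of `PSL_n(q₀²)` and subgroups of type `GU_n(q₀)`)
-/

set_option autoImplicit false

namespace Cfsg.Agent.Helper13.USub

/-- `SL_n(F)` as a subgroup of `GL_n(F)` -/
abbrev SLs (n : ℕ) (F : Type*) [Field F] : Subgroup (GL (Fin n) F) :=
  Cfsg.Geo.specialLinear (Fin n) F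

/-- the similarity group of the standard hermitian form `Σ u_i v_i^q₀` -/
abbrev SimH (n : ℕ) (F : Type*) [Field F] (q₀ : ℕ) : Subgroup (GL (Fin n) F) :=
  Cfsg.Geo.similarityGroup (Cfsg.hermForm n F q₀)

/-- the statement "every element of order `r` of `PSL_n(F)` is `SL`-conjugate into `M`" -/
def AllConj (n : ℕ) (F : Type*) [Field F] (r : ℕ) (M : Subgroup (GL (Fin n) F)) : Prop :=
  ∀ x ∈ Cfsg.Geo.specialLinear (Fin n) F,
    (∃ z : F, ((x ^ r : GL (Fin n) F) : Matrix (Fin n) (Fin n) F) =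
      z • (1 : Matrix (Fin n) (Fin n) F)) →
    (∀ z : F, (x : Matrix (Fin n) (Fin n) F) ≠ z • (1 : Matrix (Fin n) (Fin n) F)) →
    ∃ g ∈ Cfsg.Geo.specialLinear (Fin n) F, g⁻¹ * x * g ∈ M

end Cfsg.Agent.Helper13.USub
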