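import Cfsg.Agent.Helper13.UIwa3

set_option autoImplicit false

namespace Cfsg.Agent.Helper13

open Matrix MulAction
open scoped Pointwise

variable {F : Type*} [Field F] [Fintype F] {q n : ℕ}

local notation "⟪" x ", " y "⟫" => Cfsg.hermForm n F q x y

/-- a non-zero isotropic vector exists in dimension at least two -/
theorem exists_isotropic_ne_zero (hF : Fintype.card F = q ^ 2) (hn : 2 ≤ n) :
    ∃ u : Fin n → F, u ≠ 0 ∧ ⟪u, u⟫ = 0 := by
  have hq := two_le_of_card_eq_sq hF
  obtain ⟨l, hl⟩ := exists_norm_eq_of_fixed hF (a := (-1 : F))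
    (by rw [frob_neg' hF, one_pow])
  set i0 : Fin n := ⟨0, by omega⟩ with hi0
  set i1 : Fin n := ⟨1, by omega⟩ with hi1
  have h01 : i0 ≠ i1 := by
    intro h
    have := congrArg Fin.val h
    simp [hi0, hi1] at this
  refine ⟨Pi.single i0 1 + l • Pi.single i1 1, ?_, ?_⟩
  · intro h
    have := congrFun h i0
    simp [Pi.single_apply, h01] at this
  · simp only [hermForm_add_left, hermForm_smul_left, hermForm_single_left, Pi.add_apply,
      Pi.smul_apply, Pi.single_apply, smul_eq_mul, if_true, if_neg h01, if_neg h01.symm,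
      mul_zero, add_zero, zero_add, mul_one, one_pow]
    linear_combination hl

/-- an element of `SU` fixing every isotropic point is central -/
theorem mem_center_of_fixes (hF : Fintype.card F = q ^ 2) (h32 : ¬ (n = 3 ∧ q = 2))
    (g : Cfsg.SU n F q) (h : ∀ p : IsoPt n F q, g • p = p) :
    g ∈ Subgroup.center (Cfsg.SU n F q) := by
  have hq := two_le_of_card_eq_sq hF
  -- eigenvalues on isotropic vectors
  have heig : ∀ u : Fin n → F, u ≠ 0 → ⟪u, u⟫ = 0 → ∃ l : F, suMat g *ᵥ u = l • u := by
    intro u hu0 huu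
    have h1 := h (IsoPt.mk u hu0 huu)
    rw [IsoPt.smul_mk, IsoPt.mk_eq_mk_iff] at h1
    obtain ⟨a, ha, hua⟩ := h1
    refine ⟨a⁻¹, ?_⟩
    have h2 : a⁻¹ • u = suMat g *ᵥ u := by
      conv_lhs => rw [hua]
      rw [smul_smul, inv_mul_cancel₀ ha, one_smul]
    exact h2.symm
  -- the eigenvalues have norm one
  have hnorm : ∀ (u : Fin n → F) (l : F), u ≠ 0 → ⟪u, u⟫ = 0 → suMat g *ᵥ u = l • u →
      l * l ^ q = 1 := by
    intro u l hu0 huu hl
    obtain ⟨u', -, hu'u', huu'⟩ := exists_hyperbolic_partner_in hF ⊤ (nonDeg_top hF)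
      (Submodule.mem_top (x := u)) hu0 huu
    have hu'u : ⟪u', u⟫ = 1 := by rw [← hermForm_conj hF, huu', one_pow]
    have hu'0 : u' ≠ 0 := by
      rintro rfl
      rw [hermForm_zero_left] at hu'u
      exact zero_ne_one hu'u
    obtain ⟨l', hl'⟩ := heig u' hu'0 hu'u'
    obtain ⟨δ, hδ0, hδ⟩ := Cfsg.Agent.Helper5.exists_trace_zero hF (F := F)
    have hww : ⟪u + δ • u', u + δ • u'⟫ = 0 := by
      simp only [hermForm_add_left, hermForm_add_right hF, hermForm_smul_left,
        hermForm_smul_right, huu, hu'u', huu', hu'u, hδ]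
      ring
    have hw0 : u + δ • u' ≠ 0 := by
      intro h0
      have h1 : ⟪u + δ • u', u⟫ = 0 := by rw [h0, hermForm_zero_left]
      rw [hermForm_add_left, hermForm_smul_left, huu, hu'u, zero_add, mul_one] at h1
      exact hδ0 h1
    obtain ⟨l'', hl''⟩ := heig _ hw0 hww
    rw [Matrix.mulVec_add, Matrix.mulVec_smul, hl, hl'] at hl''
    have e1 : l = l'' := by
      have := congrArg (fun x => ⟪x, u'⟫) hl''
      simp only [hermForm_add_left, hermForm_smul_left, huu', hu'u'] at this
      linear_combination this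
    have e2 : l' = l'' := by
      have := congrArg (fun x => ⟪x, u⟫) hl''
      simp only [hermForm_add_left, hermForm_smul_left, huu, hu'u] at this
      have h3 : δ * (l' - l'') = 0 := by linear_combination this
      rcases mul_eq_zero.mp h3 with h4 | h4
      · exact absurd h4 hδ0
      · linear_combination h4
    have h5 := isU_suMat g u u'
    rw [hl, hl', hermForm_smul_left, hermForm_smul_right, huu', e2, ← e1] at h5
    linear_combination h5
  rw [Subgroup.mem_center_iff]
  have hcent : (⊤ : Subgroup (Cfsg.SU n F q)) ≤ Subgroup.centralizer {g} := by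
    rw [← closure_tvSet_eq_top hF h32, Subgroup.closure_le]
    rintro A ⟨v, c, hv, hA⟩
    rw [SetLike.mem_coe, Subgroup.mem_centralizer_iff]
    intro g' hg'
    rw [Set.mem_singleton_iff] at hg'
    subst hg'
    have h1 : suMat g' * suMat g'⁻¹ = 1 := by rw [← suMat_mul, mul_inv_cancel, suMat_one]
    have h2 : suMat g'⁻¹ * suMat g' = 1 := by rw [← suMat_mul, inv_mul_cancel, suMat_one]
    have hconj : suMat g' * Cfsg.unitaryTransvection n q v c * suMat g'⁻¹ =
        Cfsg.unitaryTransvection n q v c := by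
      rw [conj_unitaryTransvection (isU_suMat g') h1]
      by_cases hv0 : v = 0
      · rw [hv0, Matrix.mulVec_zero]
      · obtain ⟨l, hl⟩ := heig v hv0 hv
        rw [hl, unitaryTransvection_smul, mul_assoc, hnorm v l hv0 hv hl, mul_one]
    apply suMat_injective
    rw [suMat_mul, suMat_mul, show suMat A = Cfsg.unitaryTransvection n q v c from hA]
    calc suMat g' * Cfsg.unitaryTransvection n q v c
        = suMat g' * Cfsg.unitaryTransvection n q v c * (suMat g'⁻¹ * suMat g') := by
          rw [h2, mul_one]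
      _ = (suMat g' * Cfsg.unitaryTransvection n q v c * suMat g'⁻¹) * suMat g' := by
          simp only [mul_assoc]
      _ = Cfsg.unitaryTransvection n q v c * suMat g' := by rw [hconj]
  intro A
  have hA := hcent (Subgroup.mem_top A)
  rw [Subgroup.mem_centralizer_iff] at hA
  exact (hA g rfl).symm

/-- `SU_n(q)` is not trivial -/
theorem exists_SU_ne_one (hF : Fintype.card F = q ^ 2) (hn : 2 ≤ n) :
    ∃ A : Cfsg.SU n F q, A ≠ 1 := by
  obtain ⟨u, hu0, huu⟩ := exists_isotropic_ne_zero hF hn
  obtain ⟨δ, hδ0, hδ⟩ := Cfsg.Agent.Helper5.exists_trace_zero hF (F := F)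
  have hδ1 : δ + δ ^ q = 0 := by rw [hδ]; ring
  obtain ⟨x, hx⟩ : ∃ x, ⟪x, u⟫ ≠ 0 := by
    by_contra hcon
    push Not at hcon
    apply hu0
    apply eq_zero_of_hermForm_eq_zero hF
    intro y
    exact hermForm_eq_zero_symm hF (hcon y)
  refine ⟨tvElt hF u δ huu hδ1, fun h => ?_⟩
  have h1 := congrArg (fun A : Cfsg.SU n F q => suMat A *ᵥ x) h
  simp only [suMat_tvElt, suMat_one, unitaryTransvection_mulVec, Matrix.one_mulVec,
    add_eq_left] at h1
  rcases smul_eq_zero.mp h1 with h2 | h2
  · exact (mul_ne_zero hδ0 hx) h2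
  · exact hu0 h2

/-- `PSU_n(q)` is simple for `n ≥ 3`, `(n, q) ≠ (3, 2)` -/
theorem isSimpleGroup_PSU (hF : Fintype.card F = q ^ 2) (hn : 3 ≤ n)
    (h32 : ¬ (n = 3 ∧ q = 2)) : IsSimpleGroup (Cfsg.PSU n F q) := by
  have hperf := commutator_SU_eq_top hF hn h32
  have hprim := isoPt_isPreprimitive (n := n) hF hn
  have hnt : Nontrivial (Cfsg.PSU n F q) := by
    by_contra hcon
    rw [not_nontrivial_iff_subsingleton] at hcon
    have hc : Subgroup.center (Cfsg.SU n F q) = ⊤ := by
      rw [eq_top_iff]
      intro g _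
      have : (QuotientGroup.mk g : Cfsg.PSU n F q) = 1 := Subsingleton.elim _ _
      exact (QuotientGroup.eq_one_iff g).1 this
    have hcomm : commutator (Cfsg.SU n F q) = ⊥ := by
      rw [commutator_def, Subgroup.commutator_eq_bot_iff_le_centralizer]
      intro g _
      rw [Subgroup.mem_centralizer_iff]
      intro h _
      have : g ∈ Subgroup.center (Cfsg.SU n F q) := by rw [hc]; trivial
      exact ((Subgroup.mem_center_iff.1 this) h)
    rw [hperf] at hcomm
    obtain ⟨A, hA⟩ := exists_SU_ne_one (n := n) hF (by omega)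
    apply hA
    have : A ∈ (⊥ : Subgroup (Cfsg.SU n F q)) := by rw [← hcomm]; trivial
    exact (Subgroup.mem_bot.1 this)
  refine ⟨fun N hN => ?_⟩
  set N' : Subgroup (Cfsg.SU n F q) :=
    N.comap (QuotientGroup.mk' (Subgroup.center (Cfsg.SU n F q))) with hN'
  have hN'normal : N'.Normal := hN.comap _
  have hmap : N'.map (QuotientGroup.mk' (Subgroup.center (Cfsg.SU n F q))) = N :=
    Subgroup.map_comap_eq_self_of_surjective (QuotientGroup.mk'_surjective _) N
  by_cases hfix : fixedPoints N' (IsoPt n F q) = Set.univ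
  · left
    have hle : N' ≤ Subgroup.center (Cfsg.SU n F q) := by
      intro g hg
      apply mem_center_of_fixes hF h32
      intro p
      have hp : p ∈ fixedPoints N' (IsoPt n F q) := by rw [hfix]; trivial
      exact hp ⟨g, hg⟩
    rw [← hmap, eq_bot_iff]
    calc N'.map (QuotientGroup.mk' (Subgroup.center (Cfsg.SU n F q)))
        ≤ (Subgroup.center (Cfsg.SU n F q)).map
            (QuotientGroup.mk' (Subgroup.center (Cfsg.SU n F q))) := Subgroup.map_mono hle
      _ = ⊥ := by rw [QuotientGroup.map_mk'_self]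
  · right
    have := (suIwasawa hF h32).commutator_le N' hfix
    rw [hperf, top_le_iff] at this
    rw [← hmap, this]
    exact Subgroup.map_top_of_surjective _ (QuotientGroup.mk'_surjective _)

end Cfsg.Agent.Helper13
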