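import Cfsg.Agent.Helper13.UMax6

set_option autoImplicit false

namespace Cfsg.Agent.Helper13

open Matrix Cfsg.Agent.S0837

variable {F : Type*} [Field F] [Fintype F] {q n : ℕ}

local notation "⟪" x ", " y "⟫" => Cfsg.hermForm n F q x y
local notation "Matn" => Matrix (Fin n) (Fin n) F

/-! ### matrices of elements of a subgroup of `GL` -/

/-- some element of `M` has matrix `N` -/
def MatMem (M : Subgroup (GL (Fin n) F)) (N : Matn) : Prop := ∃ g ∈ M, (g : Matn) = N

omit [Fintype F] in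
theorem MatMem.mul {M : Subgroup (GL (Fin n) F)} {N N' : Matn} (h : MatMem M N)
    (h' : MatMem M N') : MatMem M (N * N') := by
  obtain ⟨g, hg, rfl⟩ := h
  obtain ⟨g', hg', rfl⟩ := h'
  exact ⟨g * g', M.mul_mem hg hg', by rw [Units.val_mul]⟩

omit [Fintype F] in
theorem MatMem.of_mul_eq_one {M : Subgroup (GL (Fin n) F)} {N N' : Matn} (h : MatMem M N)
    (hNN' : N * N' = 1) : MatMem M N' := by
  obtain ⟨g, hg, rfl⟩ := h
  refine ⟨g⁻¹, M.inv_mem hg, ?_⟩
  have h1 : ((g⁻¹ : GL (Fin n) F) : Matn) * ((g : Matn) * N') = ((g⁻¹ : GL (Fin n) F) : Matn) := by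
    rw [hNN', mul_one]
  rw [← mul_assoc, ← Units.val_mul, inv_mul_cancel, Units.val_one, one_mul] at h1
  exact h1.symm

omit [Fintype F] in
theorem MatMem.conj {M : Subgroup (GL (Fin n) F)} {N : Matn} {g : GL (Fin n) F} (hg : g ∈ M)
    (h : MatMem M N) : MatMem M ((g : Matn) * N * ((g⁻¹ : GL (Fin n) F) : Matn)) := by
  obtain ⟨g', hg', rfl⟩ := h
  exact ⟨g * g' * g⁻¹, M.mul_mem (M.mul_mem hg hg') (M.inv_mem hg),
    by rw [Units.val_mul, Units.val_mul]⟩

omit [Fintype F] in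
theorem MatMem.mem {M : Subgroup (GL (Fin n) F)} {N : Matn} (h : MatMem M N)
    (g : GL (Fin n) F) (hg : (g : Matn) = N) : g ∈ M := by
  obtain ⟨g', hg', rfl⟩ := h
  have : g = g' := Units.ext hg
  rw [this]
  exact hg'

omit [Fintype F] in
theorem MatMem.mulVec_utv {M : Subgroup (GL (Fin n) F)} (hM : M ≤ Cfsg.GU n F q) {N : Matn}
    (h : MatMem M N) {v : Fin n → F} (hv : v ∈ utvVecs q M) : N *ᵥ v ∈ utvVecs q M := by
  obtain ⟨g, hg, rfl⟩ := h
  exact utvVecs_map hM hg hv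

/-- every element of trace zero is of the form `μ^q - μ` -/
theorem exists_frob_sub_eq (hF : Fintype.card F = q ^ 2) {d : F} (hd : d + d ^ q = 0) :
    ∃ μ : F, μ ^ q - μ = d := by
  obtain ⟨t, ht⟩ := exists_trace_ne_zero hF (F := F)
  -- `θ := t` has `θ + θ^q ≠ 0`; use `μ = - d θ / (θ + θ^q)`
  have hdq : d ^ q = -d := by linear_combination hd
  have hfix : (t + t ^ q) ^ q = t + t ^ q := by
    rw [frob_add hF, frob_frob hF]
    ring
  refine ⟨-(d * t) * (t + t ^ q)⁻¹, ?_⟩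
  rw [mul_pow, inv_pow, hfix, frob_neg' hF, mul_pow, hdq]
  field_simp
  ring

/-! ### pairs of complementary totally isotropic subspaces -/

/-- a pair of complementary totally isotropic subspaces of dimension `k` -/
structure LagPair (q : ℕ) (A B : Submodule F (Fin n → F)) (k : ℕ) : Prop where
  tiA : ∀ x ∈ A, ∀ y ∈ A, Cfsg.hermForm n F q x y = 0
  tiB : ∀ x ∈ B, ∀ y ∈ B, Cfsg.hermForm n F q x y = 0
  sup_eq : A ⊔ B = ⊤
  inf_eq : A ⊓ B = ⊥
  finA : Module.finrank F A = k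
  finB : Module.finrank F B = k

omit [Fintype F] in
theorem LagPair.symm {A B : Submodule F (Fin n → F)} {k : ℕ} (h : LagPair q A B k) :
    LagPair q B A k :=
  ⟨h.tiB, h.tiA, by rw [sup_comm]; exact h.sup_eq, by rw [inf_comm]; exact h.inf_eq, h.finB, h.finA⟩

omit [Fintype F] in
theorem LagPair.decomp {A B : Submodule F (Fin n → F)} {k : ℕ} (h : LagPair q A B k)
    (x : Fin n → F) : ∃ a ∈ A, ∃ b ∈ B, x = a + b := by
  have hx : x ∈ A ⊔ B := by rw [h.sup_eq]; exact Submodule.mem_top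
  obtain ⟨a, ha, b, hb, rfl⟩ := Submodule.mem_sup.mp hx
  exact ⟨a, ha, b, hb, rfl⟩

omit [Fintype F] in
theorem LagPair.eq_zero_of_mem {A B : Submodule F (Fin n → F)} {k : ℕ} (h : LagPair q A B k)
    {x : Fin n → F} (hA : x ∈ A) (hB : x ∈ B) : x = 0 := by
  have : x ∈ A ⊓ B := ⟨hA, hB⟩
  rwa [h.inf_eq, Submodule.mem_bot] at this

omit [Fintype F] in
theorem LagPair.two_mul {A B : Submodule F (Fin n → F)} {k : ℕ} (h : LagPair q A B k) :
    2 * k = n := by
  have h1 := Submodule.finrank_sup_add_finrank_inf_eq A B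
  rw [h.sup_eq, h.inf_eq, finrank_bot, finrank_top, Module.finrank_fintype_fun_eq_card,
    Fintype.card_fin, h.finA, h.finB] at h1
  omega

theorem LagPair.finrank_inf_perp (hF : Fintype.card F = q ^ 2) {A B : Submodule F (Fin n → F)}
    {k : ℕ} (h : LagPair q A B k) {X : Submodule F (Fin n → F)} (hX : X ≤ A) :
    Module.finrank F (B ⊓ perpSub q X : Submodule F (Fin n → F)) + Module.finrank F X = k := by
  have hAle : A ≤ perpSub q X := fun a ha x hx => h.tiA a ha x (hX hx)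
  have h1 : (A ⊔ B) ⊓ perpSub q X = A ⊔ B ⊓ perpSub q X := sup_inf_assoc_of_le B hAle
  rw [h.sup_eq, top_inf_eq] at h1
  have h3 := Submodule.finrank_sup_add_finrank_inf_eq A (B ⊓ perpSub q X)
  have h4 : A ⊓ (B ⊓ perpSub q X) = ⊥ := by
    rw [eq_bot_iff, ← h.inf_eq]
    exact le_inf inf_le_left (inf_le_right.trans inf_le_left)
  rw [h4, finrank_bot, ← h1, h.finA] at h3
  have h5 := finrank_perpSub hF X
  have h6 := h.two_mul
  omega

/-- separation: a vector of `B` orthogonal to `X ≤ A` but not to `e ∈ A \ X` -/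
theorem LagPair.sep (hF : Fintype.card F = q ^ 2) {A B : Submodule F (Fin n → F)}
    {k : ℕ} (h : LagPair q A B k) {X : Submodule F (Fin n → F)} (hX : X ≤ A) {e : Fin n → F}
    (he : e ∈ A) (heX : e ∉ X) : ∃ f ∈ B, (∀ x ∈ X, ⟪f, x⟫ = 0) ∧ ⟪f, e⟫ ≠ 0 := by
  by_contra hcon
  push Not at hcon
  have hYA : X ⊔ Submodule.span F {e} ≤ A := by
    apply sup_le hX
    rw [Submodule.span_le, Set.singleton_subset_iff]
    exact he
  have hle : B ⊓ perpSub q X ≤ B ⊓ perpSub q (X ⊔ Submodule.span F {e}) := by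
    intro f hf
    refine ⟨hf.1, ?_⟩
    intro y hy
    obtain ⟨x, hx, z, hz, rfl⟩ := Submodule.mem_sup.mp hy
    obtain ⟨c, rfl⟩ := Submodule.mem_span_singleton.mp hz
    rw [hermForm_add_right hF, hermForm_smul_right, hf.2 x hx, hcon f hf.1 (fun x hx => hf.2 x hx),
      mul_zero, add_zero]
  have h1 := h.finrank_inf_perp hF hX
  have h3 := h.finrank_inf_perp hF hYA
  have h4 := Submodule.finrank_mono hle
  have hlt : X < X ⊔ Submodule.span F {e} := by
    refine lt_of_le_of_ne le_sup_left ?_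
    intro heq
    apply heX
    rw [heq]
    exact Submodule.mem_sup_right (Submodule.mem_span_singleton_self e)
  have h5 := Submodule.finrank_lt_finrank_of_lt hlt
  omega

/-- duality: a non-zero vector of `A` is not orthogonal to `B` -/
theorem LagPair.dual (hF : Fintype.card F = q ^ 2) {A B : Submodule F (Fin n → F)}
    {k : ℕ} (h : LagPair q A B k) {e : Fin n → F} (he : e ∈ A) (he0 : e ≠ 0) :
    ∃ f ∈ B, ⟪f, e⟫ ≠ 0 := by
  obtain ⟨f, hf, -, hfe⟩ := h.sep hF (X := ⊥) bot_le he (by rwa [Submodule.mem_bot])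
  exact ⟨f, hf, hfe⟩

/-- separation from a line -/
theorem LagPair.sep_one (hF : Fintype.card F = q ^ 2) {A B : Submodule F (Fin n → F)}
    {k : ℕ} (h : LagPair q A B k) {e a : Fin n → F} (he : e ∈ A) (ha : a ∈ A)
    (hsep : ∀ c : F, e ≠ c • a) : ∃ f ∈ B, ⟪f, a⟫ = 0 ∧ ⟪f, e⟫ ≠ 0 := by
  have hX : Submodule.span F {a} ≤ A := by
    rw [Submodule.span_le, Set.singleton_subset_iff]
    exact ha
  have heX : e ∉ Submodule.span F {a} := by
    intro hmem
    obtain ⟨c, hc⟩ := Submodule.mem_span_singleton.mp hmem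
    exact hsep c hc.symm
  obtain ⟨f, hf, hfX, hfe⟩ := h.sep hF hX he heX
  exact ⟨f, hf, hfX a (Submodule.mem_span_singleton_self a), hfe⟩

end Cfsg.Agent.Helper13
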