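import Mathlib
import Cfsg.Prelude.Def_GeometricClasses
import Cfsg.Agent.Helper44.QTypeCount

/-!
# S5977 / S5978: orthogonal groups and quadratic field-extension subgroups — definitions

`Q` is a quadratic form on `ι → F`; `θ` is a matrix with `θ² = δ` (a nonsquare), self-adjoint for
the polar form of `Q`, so that `K = F[θ]` is a quadratic field of self-adjoint matrices.
An `LModel` identifies `(ι → F, Q, θ)` with `(L^n, φ ∘ QL, s)` for a quadratic extension `L = F(s)`,
`s² = δ`, and a nonzero `F`-linear functional `φ : L → F`.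
-/

set_option autoImplicit false

namespace Cfsg.Agent.Helper13.QFE

open Matrix

variable {F : Type*} [Field F] {ι : Type} [Fintype ι] [DecidableEq ι]

/-- `θ` is self-adjoint for the polar form of `Q` -/
def SelfAdj (Q : QuadraticForm F (ι → F)) (θ : Matrix ι ι F) : Prop :=
  ∀ u v : ι → F, QuadraticMap.polar Q (θ *ᵥ u) v = QuadraticMap.polar Q u (θ *ᵥ v)

/-- `θ² = δ`, `δ` a nonsquare, `θ` self-adjoint for the polar form of `Q` -/
structure TData (Q : QuadraticForm F (ι → F)) (θ : Matrix ι ι F) (δ : F) : Prop where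
  nsq : ¬ IsSquare δ
  sq : θ * θ = δ • (1 : Matrix ι ι F)
  sa : SelfAdj Q θ

/-- `L = F(s)` is a quadratic extension with `s² = δ` -/
structure QExt (F : Type*) (L : Type*) [Field F] [Field L] [Algebra F L] (δ : F) (s : L) :
    Prop where
  fr : Module.finrank F L = 2
  sq : s * s = algebraMap F L δ

/-- an `L`-model of `(Q, θ)`: an `F`-linear identification `Ψ : L^n ≃ F^ι` carrying multiplication
by `s` to `θ` and `φ ∘ QL` to `Q` -/
structure LModel (Q : QuadraticForm F (ι → F)) (θ : Matrix ι ι F) (L : Type*) [Field L]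
    [Algebra F L] (s : L) (φ : L →ₗ[F] F) (n : ℕ) where
  QL : QuadraticForm L (Fin n → L)
  Ψ : (Fin n → L) ≃ₗ[F] (ι → F)
  hs : ∀ c : Fin n → L, Ψ (s • c) = θ *ᵥ Ψ c
  hQ : ∀ c : Fin n → L, Q (Ψ c) = φ (QL c)

/-- transport of a matrix over `L` along `Ψ` -/
noncomputable def tr {L : Type*} [Field L] [Algebra F L] {n : ℕ}
    (Ψ : (Fin n → L) ≃ₗ[F] (ι → F)) (M : Matrix (Fin n) (Fin n) L) : Matrix ι ι F :=
  LinearMap.toMatrix' ((Ψ : (Fin n → L) →ₗ[F] (ι → F)) ∘ₗ
    (M.mulVecLin.restrictScalars F) ∘ₗ (Ψ.symm : (ι → F) →ₗ[F] (Fin n → L)))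

theorem tr_mulVec {L : Type*} [Field L] [Algebra F L] {n : ℕ}
    (Ψ : (Fin n → L) ≃ₗ[F] (ι → F)) (M : Matrix (Fin n) (Fin n) L) (c : Fin n → L) :
    tr Ψ M *ᵥ Ψ c = Ψ (M *ᵥ c) := by
  unfold tr
  rw [LinearMap.toMatrix'_mulVec]
  simp

end Cfsg.Agent.Helper13.QFE
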