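import Cfsg.Agent.Helper13.UnitaryLines
import Cfsg.Agent.S0837

set_option autoImplicit false

namespace Cfsg.Agent.Helper13

open Matrix Cfsg.Agent.S0837

variable {F : Type*} [Field F] [Fintype F] {q n : ℕ}

/-- totally isotropic frames for the Hermitian form -/
def IsUFrame (n q : ℕ) {k : ℕ} (f : Fin k → (Fin n → F)) : Prop :=
  LinearIndependent F f ∧ ∀ i j, Cfsg.hermForm n F q (f i) (f j) = 0

theorem hermForm_zero_of_conj (hF : Fintype.card F = q ^ 2) {x y : Fin n → F}
    (h : Cfsg.hermForm n F q x y = 0) : Cfsg.hermForm n F q y x = 0 := by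
  have hq := two_le_of_card_eq_sq hF
  rw [← hermForm_conj hF x y, h, zero_pow (by omega)]

/-- orthogonality to the generators gives orthogonality to the span -/
theorem hermForm_span_right (hF : Fintype.card F = q ^ 2) {k : ℕ} (f : Fin k → (Fin n → F))
    (x : Fin n → F) (hx : ∀ i, Cfsg.hermForm n F q x (f i) = 0) :
    ∀ y ∈ Submodule.span F (Set.range f), Cfsg.hermForm n F q x y = 0 := by
  intro y hy
  apply hermForm_zero_of_conj hF
  have hle : Submodule.span F (Set.range f) ≤ LinearMap.ker (hB hF n x) := by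
    rw [Submodule.span_le]
    rintro _ ⟨i, rfl⟩
    rw [SetLike.mem_coe, LinearMap.mem_ker, hB_apply]
    exact hermForm_zero_of_conj hF (hx i)
  have := hle hy
  rw [LinearMap.mem_ker, hB_apply] at this
  exact this

theorem hermForm_span_eq_zero (hF : Fintype.card F = q ^ 2) {k : ℕ} (f : Fin k → (Fin n → F))
    (hf : ∀ i j, Cfsg.hermForm n F q (f i) (f j) = 0) :
    ∀ x ∈ Submodule.span F (Set.range f), ∀ y ∈ Submodule.span F (Set.range f),
      Cfsg.hermForm n F q x y = 0 := by
  intro x hx y hy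
  apply hermForm_zero_of_conj hF
  apply hermForm_span_right hF f y _ x hx
  intro i
  apply hermForm_zero_of_conj hF
  exact hermForm_span_right hF f (f i) (hf i) y hy

/-- a form-preserving matrix as an element of `GU` -/
theorem exists_GU_of_preserves' (hF : Fintype.card F = q ^ 2) (M : Matrix (Fin n) (Fin n) F)
    (hM : ∀ u v, Cfsg.hermForm n F q (M *ᵥ u) (M *ᵥ v) = Cfsg.hermForm n F q u v) :
    ∃ g : Cfsg.GU n F q, ((g : GL (Fin n) F) : Matrix (Fin n) (Fin n) F) = M := by
  have hM' : Mᵀ * M.map (frobHom hF) = 1 := (preserves_iff hF M).mp hM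
  refine ⟨⟨unitOf hF M hM', ?_⟩, rfl⟩
  rw [mem_GU_iff hF]
  exact hM'

/-- Witt: the unitary group is transitive on totally isotropic frames -/
theorem exists_GU_map_frame (hF : Fintype.card F = q ^ 2) {k : ℕ}
    (e f : Fin k → (Fin n → F)) (he : IsUFrame n q e) (hf : IsUFrame n q f) :
    ∃ g : Cfsg.GU n F q,
      ∀ i, ((g : GL (Fin n) F) : Matrix (Fin n) (Fin n) F) *ᵥ e i = f i := by
  set X := Submodule.span F (Set.range e) with hX
  set Y := Submodule.span F (Set.range f) with hY
  set bX := Module.Basis.span he.1 with hbX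
  set bY := Module.Basis.span hf.1 with hbY
  set φ : X ≃ₗ[F] Y := bX.equiv bY (Equiv.refl _) with hφdef
  have hφ : ∀ x x' : X, (hB hF n) (φ x : Fin n → F) (φ x' : Fin n → F) =
      (hB hF n) (x : Fin n → F) (x' : Fin n → F) := by
    intro x x'
    rw [hB_apply, hB_apply, hermForm_span_eq_zero hF e he.2 x' x'.2 x x.2,
      hermForm_span_eq_zero hF f hf.2 _ (φ x').2 _ (φ x).2]
  obtain ⟨g, hg1, hg2⟩ := Cfsg.Agent.S0751.result (frobHom hF) (frobHom_ne_id hF)
    (frobHom_frobHom hF) (hB hF n) (hB_isSymm hF n) (hB_nondegenerate hF n) X Y φ hφ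
  obtain ⟨G, hG⟩ := exists_GU_of_preserves' hF
    (LinearMap.toMatrix' (g : (Fin n → F) →ₗ[F] (Fin n → F))) (by
      intro u v
      have := hg1 v u
      rw [hB_apply, hB_apply] at this
      rw [LinearMap.toMatrix'_mulVec, LinearMap.toMatrix'_mulVec]
      exact this)
  refine ⟨G, ?_⟩
  intro i
  rw [hG, LinearMap.toMatrix'_mulVec]
  have h1 : (bX i : Fin n → F) = e i := by
    rw [hbX, Module.Basis.span_apply]
  have h2 : (bY i : Fin n → F) = f i := by
    rw [hbY, Module.Basis.span_apply]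
  have h3 := hg2 (bX i)
  rw [h1] at h3
  rw [LinearEquiv.coe_coe, h3, hφdef, Module.Basis.equiv_apply, Equiv.refl_apply, h2]

theorem GU_inv_mul_coe (g : Cfsg.GU n F q) :
    (((g⁻¹ : Cfsg.GU n F q) : GL (Fin n) F) : Matrix (Fin n) (Fin n) F) *
      ((g : GL (Fin n) F) : Matrix (Fin n) (Fin n) F) = 1 := by
  rw [← Units.val_mul, ← Subgroup.coe_mul, inv_mul_cancel, Subgroup.coe_one, Units.val_one]

theorem GU_mulVec_injective (g : Cfsg.GU n F q) :
    Function.Injective (fun v : Fin n → F =>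
      ((g : GL (Fin n) F) : Matrix (Fin n) (Fin n) F) *ᵥ v) := by
  intro x y hxy
  have := congrArg (fun u => (((g⁻¹ : Cfsg.GU n F q) : GL (Fin n) F) :
    Matrix (Fin n) (Fin n) F) *ᵥ u) hxy
  simpa [Matrix.mulVec_mulVec, GU_inv_mul_coe] using this

theorem GU_preserves (g : Cfsg.GU n F q) (u v : Fin n → F) :
    Cfsg.hermForm n F q (((g : GL (Fin n) F) : Matrix (Fin n) (Fin n) F) *ᵥ u)
      (((g : GL (Fin n) F) : Matrix (Fin n) (Fin n) F) *ᵥ v) = Cfsg.hermForm n F q u v :=
  g.2 u v

/-- the image of a frame under a unitary matrix is a frame -/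
theorem isUFrame_mulVec {k : ℕ} (g : Cfsg.GU n F q)
    (e : Fin k → (Fin n → F)) (he : IsUFrame n q e) :
    IsUFrame n q (fun i => ((g : GL (Fin n) F) : Matrix (Fin n) (Fin n) F) *ᵥ e i) := by
  constructor
  · have hker : LinearMap.ker (Matrix.toLin'
        ((g : GL (Fin n) F) : Matrix (Fin n) (Fin n) F)) = ⊥ := by
      rw [LinearMap.ker_eq_bot]
      intro v w hvw
      rw [Matrix.toLin'_apply, Matrix.toLin'_apply] at hvw
      exact GU_mulVec_injective g hvw
    have := he.1.map' _ hker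
    exact this
  · intro i j
    rw [GU_preserves]
    exact he.2 i j

/-- the type of totally isotropic frames -/
abbrev UFrames (F : Type*) [Field F] (n q k : ℕ) :=
  {f : Fin k → (Fin n → F) // IsUFrame n q f}

/-- the orbit map of a frame -/
def uFrameMap {k : ℕ} (e : UFrames F n q k) (g : Cfsg.GU n F q) : UFrames F n q k :=
  ⟨fun i => ((g : GL (Fin n) F) : Matrix (Fin n) (Fin n) F) *ᵥ e.1 i, isUFrame_mulVec g e.1 e.2⟩

theorem uFrameMap_mul {k : ℕ} (e : UFrames F n q k) (a b : Cfsg.GU n F q) :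
    uFrameMap e (a * b) = uFrameMap (uFrameMap e b) a := by
  apply Subtype.ext
  funext i
  simp only [uFrameMap, Subgroup.coe_mul, Units.val_mul, Matrix.mulVec_mulVec]

theorem uFrameMap_one {k : ℕ} (e : UFrames F n q k) : uFrameMap e 1 = e := by
  apply Subtype.ext
  funext i
  simp [uFrameMap]

/-- all fibres of the orbit map have the same size -/
theorem card_uFrameMap_fiber (hF : Fintype.card F = q ^ 2) {k : ℕ} (e f : UFrames F n q k) :
    Nat.card {g : Cfsg.GU n F q // uFrameMap e g = f} =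
      Nat.card {g : Cfsg.GU n F q // uFrameMap e g = e} := by
  obtain ⟨g₀, hg₀⟩ := exists_GU_map_frame hF e.1 f.1 e.2 f.2
  have hg₀' : uFrameMap e g₀ = f := Subtype.ext (funext hg₀)
  refine Nat.card_congr ?_
  refine
    { toFun := fun g => ⟨g₀⁻¹ * g.1, ?_⟩
      invFun := fun h => ⟨g₀ * h.1, ?_⟩
      left_inv := fun g => Subtype.ext (by simp)
      right_inv := fun h => Subtype.ext (by simp) }
  · rw [uFrameMap_mul, g.2, ← hg₀', ← uFrameMap_mul, inv_mul_cancel, uFrameMap_one]
  · rw [uFrameMap_mul, h.2, hg₀']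

/-- counting the preimage of a set of frames under the orbit map -/
theorem card_uFrameMap_preimage (hF : Fintype.card F = q ^ 2) {k : ℕ} (e : UFrames F n q k)
    (S : Set (UFrames F n q k)) :
    Nat.card {g : Cfsg.GU n F q // uFrameMap e g ∈ S} =
      Nat.card S * Nat.card {g : Cfsg.GU n F q // uFrameMap e g = e} := by
  have hfin : Finite (Fin k → (Fin n → F)) := inferInstance
  have hfinG : Finite (Cfsg.GU n F q) := inferInstance
  apply card_eq_mul_of_fibers
    (fun g : {g : Cfsg.GU n F q // uFrameMap e g ∈ S} =>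
      (⟨uFrameMap e g.1, g.2⟩ : S))
  intro s
  rw [← card_uFrameMap_fiber hF e s.1]
  refine Nat.card_congr ?_
  exact
    { toFun := fun g => ⟨g.1.1, congrArg Subtype.val g.2⟩
      invFun := fun g => ⟨⟨g.1, by rw [g.2]; exact s.2⟩, Subtype.ext g.2⟩
      left_inv := fun g => rfl
      right_inv := fun g => rfl }

end Cfsg.Agent.Helper13
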