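import Cfsg.Agent.Helper13.LineCount
import Cfsg.Agent.Helper13.Herm
import Cfsg.Agent.Helper5.HermCount
import Cfsg.Agent.Helper5.Count

set_option autoImplicit false

namespace Cfsg.Agent.Helper13

open Cfsg.Agent.Helper5

variable {F : Type*} [Field F] [Fintype F] {q : ℕ}

/-- the fibres of the trace-like map `t ↦ t^q c + t c^q` over the fixed field have `q` elements -/
theorem card_trace_fiber (hF : Fintype.card F = q ^ 2) {c : F} (hc : c ≠ 0) {a : F}
    (ha : a ^ q = a) : Nat.card {t : F // t ^ q * c + t * c ^ q = a} = q := by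
  classical
  have hq := two_le_of_card_eq_sq hF
  have hfK : ∀ t : F, t ^ q * c + t * c ^ q ∈ hermK F q := by
    intro t
    simp only [hermK, Finset.mem_filter, Finset.mem_univ, true_and]
    rw [frob_add hF, mul_pow, mul_pow, frob_frob hF, frob_frob hF]
    ring
  have hle : ∀ s : F, (Finset.univ.filter (fun t : F => t ^ q * c + t * c ^ q = s)).card ≤ q := by
    intro s
    set p : Polynomial F := Polynomial.C c * Polynomial.X ^ q +
      Polynomial.C (c ^ q) * Polynomial.X - Polynomial.C s with hp
    have hcoeff : p.coeff q = c := by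
      rw [hp]
      simp only [Polynomial.coeff_sub, Polynomial.coeff_add, Polynomial.coeff_C_mul,
        Polynomial.coeff_X_pow, Polynomial.coeff_X, Polynomial.coeff_C]
      rw [if_pos trivial, if_neg (by omega), if_neg (by omega)]
      ring
    have hp0 : p ≠ 0 := by
      intro h
      rw [h, Polynomial.coeff_zero] at hcoeff
      exact hc hcoeff.symm
    have hdeg : p.natDegree ≤ q := by
      rw [hp]
      compute_degree!
      omega
    have hsub : (Finset.univ.filter (fun t : F => t ^ q * c + t * c ^ q = s)) ⊆
        p.roots.toFinset := by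
      intro t ht
      simp only [Finset.mem_filter, Finset.mem_univ, true_and] at ht
      rw [Multiset.mem_toFinset, Polynomial.mem_roots hp0, Polynomial.IsRoot.def, hp]
      simp only [Polynomial.eval_sub, Polynomial.eval_add, Polynomial.eval_mul,
        Polynomial.eval_C, Polynomial.eval_pow, Polynomial.eval_X]
      rw [← ht]
      ring
    calc _ ≤ p.roots.toFinset.card := Finset.card_le_card hsub
      _ ≤ Multiset.card p.roots := Multiset.toFinset_card_le _
      _ ≤ p.natDegree := Polynomial.card_roots' _
      _ ≤ q := hdeg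
  have htot : q ^ 2 = ∑ s ∈ hermK F q,
      (Finset.univ.filter (fun t : F => t ^ q * c + t * c ^ q = s)).card := by
    rw [← hF, ← Finset.card_univ]
    exact Finset.card_eq_sum_card_fiberwise (fun t _ => hfK t)
  have haK : a ∈ hermK F q := by
    simp only [hermK, Finset.mem_filter, Finset.mem_univ, true_and]
    exact ha
  rw [Nat.card_eq_fintype_card, Fintype.card_subtype]
  by_contra hne
  have hlt : (Finset.univ.filter (fun t : F => t ^ q * c + t * c ^ q = a)).card < q :=
    lt_of_le_of_ne (hle a) hne
  have hsum : ∑ s ∈ hermK F q,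
      (Finset.univ.filter (fun t : F => t ^ q * c + t * c ^ q = s)).card <
      ∑ _s ∈ hermK F q, q := Finset.sum_lt_sum (fun s _ => hle s) ⟨a, haK, hlt⟩
  rw [Finset.sum_const, smul_eq_mul, ← htot] at hsum
  have hK := card_hermK_le (F := F) hF
  nlinarith

variable {n : ℕ}

theorem frob_neg' (hF : Fintype.card F = q ^ 2) (x : F) : (-x) ^ q = -(x ^ q) := by
  have hq := two_le_of_card_eq_sq hF
  have h := frob_add hF x (-x)
  rw [add_neg_cancel, zero_pow (by omega)] at h
  exact eq_neg_of_add_eq_zero_right h.symm

/-- expansion of the Hermitian norm along a line through an isotropic vector -/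
theorem hermForm_add_smul_self (hF : Fintype.card F = q ^ 2) (v w : Fin n → F)
    (hvv : Cfsg.hermForm n F q v v = 0) (t : F) :
    Cfsg.hermForm n F q (w + t • v) (w + t • v) =
      Cfsg.hermForm n F q w w +
        (t ^ q * Cfsg.hermForm n F q w v + t * (Cfsg.hermForm n F q w v) ^ q) := by
  simp only [hermForm_add_left, hermForm_add_right hF, hermForm_smul_left, hermForm_smul_right,
    hvv, mul_zero, add_zero, hermForm_conj hF w v]
  ring

theorem hermForm_self_fixed (hF : Fintype.card F = q ^ 2) (w : Fin n → F) :
    (Cfsg.hermForm n F q w w) ^ q = Cfsg.hermForm n F q w w := hermForm_conj hF w w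

theorem card_hermForm_perp (v : Fin n → F) (hv : v ≠ 0) (hq : q ≠ 0) :
    Nat.card {w : Fin n → F // Cfsg.hermForm n F q w v = 0} = Fintype.card F ^ (n - 1) := by
  have hx : (fun i => v i ^ q) ≠ 0 := by
    intro h
    apply hv
    funext i
    have := congrFun h i
    exact (pow_eq_zero_iff hq).mp this
  rw [← card_dotProduct_eq (fun i => v i ^ q) hx 0]
  refine Nat.card_congr (Equiv.subtypeEquivRight ?_)
  intro w
  simp only [Cfsg.hermForm, dotProduct]
  constructor
  · intro h
    rw [← h]
    exact Finset.sum_congr rfl fun i _ => mul_comm _ _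
  · intro h
    rw [← h]
    exact Finset.sum_congr rfl fun i _ => mul_comm _ _

/-- the key counting identity for isotropic vectors orthogonal to an isotropic vector -/
theorem card_perp_isotropic (hF : Fintype.card F = q ^ 2) (v : Fin n → F) (hv : v ≠ 0)
    (hvv : Cfsg.hermForm n F q v v = 0) :
    Fintype.card F * Nat.card {w : Fin n → F // Cfsg.hermForm n F q w w = 0} =
      Nat.card {w : Fin n → F // Cfsg.hermForm n F q w v = 0 ∧
        Cfsg.hermForm n F q w w = 0} * Fintype.card F +
      (Fintype.card F ^ n - Fintype.card F ^ (n - 1)) * q := by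
  classical
  have hq := two_le_of_card_eq_sq hF
  -- the incidence set
  set S := {p : (Fin n → F) × F //
    Cfsg.hermForm n F q (p.1 + p.2 • v) (p.1 + p.2 • v) = 0} with hS
  -- first count
  have h1 : Nat.card S = Fintype.card F *
      Nat.card {w : Fin n → F // Cfsg.hermForm n F q w w = 0} := by
    rw [← Nat.card_eq_fintype_card]
    apply card_eq_mul_of_fibers (fun p : S => p.1.2)
    intro t
    refine Nat.card_congr ?_
    refine
      { toFun := fun p => ⟨p.1.1.1 + t • v, ?_⟩
        invFun := fun w => ⟨⟨(w.1 - t • v, t), ?_⟩, rfl⟩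
        left_inv := ?_
        right_inv := ?_ }
    · have h := p.1.2
      have ht : p.1.1.2 = t := p.2
      rw [ht] at h
      exact h
    · simp only [sub_add_cancel]
      exact w.2
    · rintro ⟨⟨⟨w, t'⟩, hp⟩, ht⟩
      simp only at ht
      subst ht
      simp
    · intro w
      simp
  -- second count
  have h2 : Nat.card S =
      Nat.card {p : S // Cfsg.hermForm n F q p.1.1 v = 0} +
      Nat.card {p : S // ¬ Cfsg.hermForm n F q p.1.1 v = 0} := by
    rw [← Nat.card_sum]
    exact Nat.card_congr (Equiv.sumCompl _).symm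
  have h3 : Nat.card {p : S // Cfsg.hermForm n F q p.1.1 v = 0} =
      Nat.card {w : Fin n → F // Cfsg.hermForm n F q w v = 0 ∧
        Cfsg.hermForm n F q w w = 0} * Fintype.card F := by
    rw [← Nat.card_eq_fintype_card (α := F), ← Nat.card_prod]
    refine Nat.card_congr ?_
    refine
      { toFun := fun p => (⟨p.1.1.1, p.2, ?_⟩, p.1.1.2)
        invFun := fun x => ⟨⟨(x.1.1, x.2), ?_⟩, x.1.2.1⟩
        left_inv := fun p => rfl
        right_inv := fun x => rfl }
    · have h := p.1.2
      rw [hermForm_add_smul_self hF v _ hvv, p.2] at h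
      simpa [zero_pow (by omega : q ≠ 0)] using h
    · rw [hermForm_add_smul_self hF v _ hvv, x.1.2.1, x.1.2.2]
      simp [zero_pow (by omega : q ≠ 0)]
  have h4 : Nat.card {p : S // ¬ Cfsg.hermForm n F q p.1.1 v = 0} =
      (Fintype.card F ^ n - Fintype.card F ^ (n - 1)) * q := by
    have hcard : Nat.card {w : Fin n → F // ¬ Cfsg.hermForm n F q w v = 0} =
        Fintype.card F ^ n - Fintype.card F ^ (n - 1) := by
      rw [Nat.card_eq_fintype_card, Fintype.card_subtype_compl, ← Nat.card_eq_fintype_card
        (α := {w : Fin n → F // Cfsg.hermForm n F q w v = 0}),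
        card_hermForm_perp v hv (by omega), Fintype.card_fun, Fintype.card_fin]
    rw [← hcard]
    apply card_eq_mul_of_fibers
      (fun p : {p : S // ¬ Cfsg.hermForm n F q p.1.1 v = 0} =>
        (⟨p.1.1.1, p.2⟩ : {w : Fin n → F // ¬ Cfsg.hermForm n F q w v = 0}))
    intro w
    have hfix : (-Cfsg.hermForm n F q w.1 w.1) ^ q = -Cfsg.hermForm n F q w.1 w.1 := by
      rw [frob_neg' hF, hermForm_self_fixed hF]
    refine (Nat.card_congr ?_).trans (card_trace_fiber hF w.2 hfix)
    refine
      { toFun := fun p => ⟨p.1.1.1.2, ?_⟩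
        invFun := fun t => ⟨⟨⟨(w.1, t.1), ?_⟩, w.2⟩, rfl⟩
        left_inv := ?_
        right_inv := fun t => rfl }
    · have h := p.1.1.2
      have hw : p.1.1.1.1 = w.1 := congrArg Subtype.val p.2
      rw [hermForm_add_smul_self hF v _ hvv, hw] at h
      exact eq_neg_of_add_eq_zero_right h
    · rw [hermForm_add_smul_self hF v _ hvv, t.2]
      ring
    · rintro ⟨⟨⟨⟨w', t⟩, hp⟩, hA⟩, hw⟩
      have hw' : w' = w.1 := congrArg Subtype.val hw
      subst hw'
      rfl
  rw [← h1, h2, h3, h4]

/-- totally isotropic subspaces for the Hermitian form -/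
def HermTI (n q : ℕ) (W : Submodule F (Fin n → F)) : Prop :=
  ∀ u ∈ W, ∀ v ∈ W, Cfsg.hermForm n F q u v = 0

theorem hermTI_span_pair_iff (hF : Fintype.card F = q ^ 2) (v w : Fin n → F)
    (hvv : Cfsg.hermForm n F q v v = 0) :
    HermTI n q (Submodule.span F ({v, w} : Set (Fin n → F))) ↔
      Cfsg.hermForm n F q w v = 0 ∧ Cfsg.hermForm n F q w w = 0 := by
  have hq := two_le_of_card_eq_sq hF
  constructor
  · intro h
    have hv := Submodule.subset_span (s := ({v, w} : Set (Fin n → F))) (R := F)
      (Set.mem_insert _ _)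
    have hw := Submodule.subset_span (s := ({v, w} : Set (Fin n → F))) (R := F)
      (Set.mem_insert_of_mem _ rfl)
    exact ⟨h w hw v hv, h w hw w hw⟩
  · rintro ⟨h1, h2⟩ u hu u' hu'
    obtain ⟨a, b, rfl⟩ := Submodule.mem_span_pair.mp hu
    obtain ⟨a', b', rfl⟩ := Submodule.mem_span_pair.mp hu'
    have h1' : Cfsg.hermForm n F q v w = 0 := by
      rw [← hermForm_conj hF w v, h1, zero_pow (by omega)]
    simp only [hermForm_add_left, hermForm_add_right hF, hermForm_smul_left, hermForm_smul_right,
      hvv, h1, h1', h2, mul_zero, add_zero]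

theorem card_span_singleton (v : Fin n → F) (hv : v ≠ 0) :
    Nat.card ((Submodule.span F {v} : Submodule F (Fin n → F)) : Set (Fin n → F)) =
      Fintype.card F := by
  have := natCard_submodule (Submodule.span F {v} : Submodule F (Fin n → F))
  rw [finrank_span_singleton hv, pow_one] at this
  exact this

/-- the number of totally isotropic lines through an isotropic point -/
theorem card_lines_through_isotropic (hF : Fintype.card F = q ^ 2) (v : Fin n → F) (hv : v ≠ 0)
    (hvv : Cfsg.hermForm n F q v v = 0) :
    Nat.card {W : Submodule F (Fin n → F) // Module.finrank F W = 2 ∧ v ∈ W ∧ HermTI n q W} *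
        (Fintype.card F ^ 2 - Fintype.card F) + Fintype.card F =
      Nat.card {w : Fin n → F // Cfsg.hermForm n F q w v = 0 ∧
        Cfsg.hermForm n F q w w = 0} := by
  have hq := two_le_of_card_eq_sq hF
  rw [card_lines_through (F := F) (HermTI n q) v hv]
  set L : Submodule F (Fin n → F) := Submodule.span F {v} with hL
  set T : Set (Fin n → F) := {w | Cfsg.hermForm n F q w v = 0 ∧ Cfsg.hermForm n F q w w = 0}
    with hT
  have hLT : (L : Set (Fin n → F)) ⊆ T := by
    intro x hx
    obtain ⟨a, rfl⟩ := Submodule.mem_span_singleton.mp hx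
    simp only [hT, Set.mem_ofPred_eq, hermForm_smul_left, hermForm_smul_right, hvv, mul_zero,
      and_self]
  have h1 : Nat.card {w : Fin n → F // w ∉ Submodule.span F {v} ∧
      HermTI n q (Submodule.span F ({v, w} : Set (Fin n → F)))} =
      (T \ (L : Set (Fin n → F))).ncard := by
    rw [← Nat.card_coe_set_eq]
    refine Nat.card_congr (Equiv.subtypeEquivRight ?_)
    intro w
    rw [hermTI_span_pair_iff hF v w hvv, Set.mem_sdiff]
    exact and_comm
  have h2 : Nat.card {w : Fin n → F // Cfsg.hermForm n F q w v = 0 ∧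
      Cfsg.hermForm n F q w w = 0} = T.ncard := by
    rw [← Nat.card_coe_set_eq]
    rfl
  rw [h1, h2, ← card_span_singleton v hv, Nat.card_coe_set_eq]
  exact Set.ncard_sdiff_add_ncard_of_subset hLT

theorem card_lines_through_nonisotropic (v : Fin n → F)
    (hvv : Cfsg.hermForm n F q v v ≠ 0) :
    Nat.card {W : Submodule F (Fin n → F) // Module.finrank F W = 2 ∧ v ∈ W ∧ HermTI n q W} =
      0 := by
  have : IsEmpty {W : Submodule F (Fin n → F) //
      Module.finrank F W = 2 ∧ v ∈ W ∧ HermTI n q W} :=
    ⟨fun W => hvv (W.2.2.2 v W.2.2.1 v W.2.2.1)⟩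
  exact Nat.card_of_isEmpty

/-- the total number of totally isotropic lines -/
theorem card_lines_total (hF : Fintype.card F = q ^ 2) (ℓ : ℕ)
    (hℓ : ∀ v : Fin n → F, v ≠ 0 → Cfsg.hermForm n F q v v = 0 →
      Nat.card {W : Submodule F (Fin n → F) //
        Module.finrank F W = 2 ∧ v ∈ W ∧ HermTI n q W} = ℓ) :
    Nat.card {W : Submodule F (Fin n → F) // Module.finrank F W = 2 ∧ HermTI n q W} *
        (Fintype.card F ^ 2 - 1) + ℓ =
      Nat.card {w : Fin n → F // Cfsg.hermForm n F q w w = 0} * ℓ := by
  classical
  have hq := two_le_of_card_eq_sq hF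
  rw [card_lines_double_count (F := F) (V := Fin n → F) (HermTI n q)]
  have h1 : ∀ v : {v : Fin n → F // v ≠ 0},
      Nat.card {W : Submodule F (Fin n → F) //
        Module.finrank F W = 2 ∧ v.1 ∈ W ∧ HermTI n q W} =
      if Cfsg.hermForm n F q v.1 v.1 = 0 then ℓ else 0 := by
    intro v
    split_ifs with h
    · exact hℓ v.1 v.2 h
    · exact card_lines_through_nonisotropic v.1 h
  simp only [h1]
  rw [Finset.sum_ite, Finset.sum_const, Finset.sum_const_zero, add_zero, smul_eq_mul]
  have h2 : (Finset.univ.filter
      (fun v : {v : Fin n → F // v ≠ 0} => Cfsg.hermForm n F q v.1 v.1 = 0)).card + 1 =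
      Nat.card {w : Fin n → F // Cfsg.hermForm n F q w w = 0} := by
    rw [← Fintype.card_subtype, ← Nat.card_eq_fintype_card]
    have e : {w : Fin n → F // Cfsg.hermForm n F q w w = 0} ≃
        Option {v : {v : Fin n → F // v ≠ 0} // Cfsg.hermForm n F q v.1 v.1 = 0} :=
      { toFun := fun w => if h : w.1 = 0 then none else some ⟨⟨w.1, h⟩, w.2⟩
        invFun := fun o => match o with
          | none => ⟨0, by simp [Cfsg.hermForm, zero_pow (by omega : q ≠ 0)]⟩
          | some x => ⟨x.1.1, x.2⟩
        left_inv := by
          intro w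
          by_cases h : w.1 = 0
          · simp only [h, dite_true]
            exact Subtype.ext h.symm
          · simp only [h, dite_false]
        right_inv := by
          intro o
          cases o with
          | none => simp
          | some x =>
            have : x.1.1 ≠ 0 := x.1.2
            simp [this] }
    rw [Nat.card_congr e]
    simp [Nat.card_eq_fintype_card]
  rw [← h2]
  ring

end Cfsg.Agent.Helper13
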