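import Cfsg.Agent.Helper13.UStabDet
import Cfsg.Agent.Helper13.UnitaryLines

set_option autoImplicit false

namespace Cfsg.Agent.Helper13

open Matrix

variable {F : Type*} [Field F] [Fintype F] {q n : ℕ}

local notation "⟪" x ", " y "⟫" => Cfsg.hermForm n F q x y

/-! ### field facts -/

theorem exists_trace_eq_of_fixed (hF : Fintype.card F = q ^ 2) {a : F} (ha : a ^ q = a) :
    ∃ t : F, t + t ^ q = a := by
  have hq := two_le_of_card_eq_sq hF
  have hcard := card_trace_fiber hF (one_ne_zero (α := F)) ha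
  have hne : Nonempty {t : F // t ^ q * 1 + t * 1 ^ q = a} := by
    apply (Nat.card_pos_iff.mp _).1
    rw [hcard]; omega
  obtain ⟨t, ht⟩ := hne
  exact ⟨t, by rw [← ht]; ring⟩

theorem exists_norm_eq_of_fixed (hF : Fintype.card F = q ^ 2) {a : F} (ha : a ^ q = a) :
    ∃ l : F, l * l ^ q = a := by
  classical
  have hq := two_le_of_card_eq_sq hF
  by_cases h0 : a = 0
  · exact ⟨0, by rw [h0, zero_mul]⟩
  · have h1 := Cfsg.Agent.Helper5.card_norm_fiber hF (t := a)
      (by simp [Cfsg.Agent.Helper5.hermK, ha]) h0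
    have hpos : 0 < (Finset.univ.filter (fun x : F => x ^ (q + 1) = a)).card := by
      rw [h1]; omega
    obtain ⟨l, hl⟩ := Finset.card_pos.mp hpos
    simp only [Finset.mem_filter, Finset.mem_univ, true_and] at hl
    exact ⟨l, by rw [← hl, pow_succ']⟩

theorem frob_mul' (a b : F) : (a * b) ^ q = a ^ q * b ^ q := mul_pow a b q

theorem frob_inv' (a : F) : (a⁻¹) ^ q = (a ^ q)⁻¹ := inv_pow a q

theorem frob_ne_zero {a : F} (ha : a ≠ 0) : a ^ q ≠ 0 :=
  pow_ne_zero q ha

theorem frob_sub' (hF : Fintype.card F = q ^ 2) (a b : F) : (a - b) ^ q = a ^ q - b ^ q := by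
  rw [sub_eq_add_neg, frob_add hF, frob_neg' hF, ← sub_eq_add_neg]

/-- some element has non-zero trace -/
theorem exists_trace_ne_zero (hF : Fintype.card F = q ^ 2) : ∃ t : F, t + t ^ q ≠ 0 := by
  obtain ⟨t, ht⟩ := exists_trace_eq_of_fixed hF (a := (1 : F)) (one_pow q)
  exact ⟨t, by rw [ht]; exact one_ne_zero⟩

/-! ### the form -/

omit [Fintype F] in
theorem hermForm_zero_left (y : Fin n → F) : ⟪(0 : Fin n → F), y⟫ = 0 := by
  simp [Cfsg.hermForm]

theorem hermForm_zero_right (hF : Fintype.card F = q ^ 2) (x : Fin n → F) :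
    ⟪x, (0 : Fin n → F)⟫ = 0 := by
  have hq := two_le_of_card_eq_sq hF
  simp [Cfsg.hermForm, zero_pow (by omega : q ≠ 0)]

omit [Fintype F] in
theorem hermForm_neg_left (x y : Fin n → F) : ⟪-x, y⟫ = -⟪x, y⟫ := by
  simp [Cfsg.hermForm, Finset.sum_neg_distrib]

omit [Fintype F] in
theorem hermForm_sub_left (x x' y : Fin n → F) : ⟪x - x', y⟫ = ⟪x, y⟫ - ⟪x', y⟫ := by
  rw [sub_eq_add_neg, hermForm_add_left, hermForm_neg_left, ← sub_eq_add_neg]

theorem hermForm_neg_right (hF : Fintype.card F = q ^ 2) (x y : Fin n → F) :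
    ⟪x, -y⟫ = -⟪x, y⟫ := by
  rw [← hermForm_conj hF, hermForm_neg_left, frob_neg' hF, hermForm_conj hF]

theorem hermForm_sub_right (hF : Fintype.card F = q ^ 2) (x y y' : Fin n → F) :
    ⟪x, y - y'⟫ = ⟪x, y⟫ - ⟪x, y'⟫ := by
  rw [sub_eq_add_neg, hermForm_add_right hF, hermForm_neg_right hF, ← sub_eq_add_neg]

/-- the form is non-degenerate on the whole space -/
theorem eq_zero_of_hermForm_eq_zero (hF : Fintype.card F = q ^ 2) (x : Fin n → F)
    (h : ∀ y, ⟪x, y⟫ = 0) : x = 0 := by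
  funext i
  have := h (Pi.single i 1)
  rw [hermForm_single_right hF] at this
  exact this

omit [Fintype F] in
theorem mat_ext_mulVec {M N : Matrix (Fin n) (Fin n) F} (h : ∀ x, M *ᵥ x = N *ᵥ x) : M = N := by
  ext i j
  have := congrFun (h (Pi.single j 1)) i
  rwa [Matrix.mulVec_single_one, Matrix.mulVec_single_one] at this

/-! ### non-degenerate subspaces -/

/-- the form is non-degenerate on `W` -/
def NonDeg (q : ℕ) (W : Submodule F (Fin n → F)) : Prop :=
  ∀ x ∈ W, (∀ y ∈ W, Cfsg.hermForm n F q x y = 0) → x = 0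

/-- the vectors of `W` orthogonal to `u` and `u'` -/
def hypCompl (q : ℕ) (W : Submodule F (Fin n → F)) (u u' : Fin n → F) :
    Submodule F (Fin n → F) where
  carrier := {x | x ∈ W ∧ Cfsg.hermForm n F q x u = 0 ∧ Cfsg.hermForm n F q x u' = 0}
  add_mem' := by
    rintro a b ⟨ha, ha1, ha2⟩ ⟨hb, hb1, hb2⟩
    exact ⟨W.add_mem ha hb, by rw [hermForm_add_left, ha1, hb1, add_zero],
      by rw [hermForm_add_left, ha2, hb2, add_zero]⟩
  zero_mem' := ⟨W.zero_mem, hermForm_zero_left _, hermForm_zero_left _⟩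
  smul_mem' := by
    rintro c a ⟨ha, ha1, ha2⟩
    exact ⟨W.smul_mem c ha, by rw [hermForm_smul_left, ha1, mul_zero],
      by rw [hermForm_smul_left, ha2, mul_zero]⟩

omit [Fintype F] in
theorem mem_hypCompl (W : Submodule F (Fin n → F)) (u u' x : Fin n → F) :
    x ∈ hypCompl q W u u' ↔ x ∈ W ∧ ⟪x, u⟫ = 0 ∧ ⟪x, u'⟫ = 0 := Iff.rfl

omit [Fintype F] in
theorem hypCompl_le (W : Submodule F (Fin n → F)) (u u' : Fin n → F) :
    hypCompl q W u u' ≤ W := fun _ hx => hx.1

/-- the component of `x` orthogonal to a hyperbolic pair -/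
def hypProj (q : ℕ) (u u' x : Fin n → F) : Fin n → F :=
  x - Cfsg.hermForm n F q x u' • u - Cfsg.hermForm n F q x u • u'

theorem hypProj_mem (hF : Fintype.card F = q ^ 2) (W : Submodule F (Fin n → F))
    {u u' : Fin n → F} (hu : u ∈ W) (hu' : u' ∈ W) (huu : ⟪u, u⟫ = 0) (hu'u' : ⟪u', u'⟫ = 0)
    (huu' : ⟪u, u'⟫ = 1) {x : Fin n → F} (hx : x ∈ W) :
    hypProj q u u' x ∈ hypCompl q W u u' := by
  have hu'u : ⟪u', u⟫ = 1 := by rw [← hermForm_conj hF, huu', one_pow]
  refine ⟨W.sub_mem (W.sub_mem hx (W.smul_mem _ hu)) (W.smul_mem _ hu'), ?_, ?_⟩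
  · simp only [hypProj, hermForm_sub_left, hermForm_smul_left, huu, hu'u]
    ring
  · simp only [hypProj, hermForm_sub_left, hermForm_smul_left, huu', hu'u']
    ring

omit [Fintype F] in
theorem hypProj_decomp (u u' x : Fin n → F) :
    x = ⟪x, u'⟫ • u + ⟪x, u⟫ • u' + hypProj q u u' x := by
  rw [hypProj]; abel

/-- the orthogonal complement of a hyperbolic pair inside a non-degenerate space is non-degenerate -/
theorem nonDeg_hypCompl (hF : Fintype.card F = q ^ 2) (W : Submodule F (Fin n → F))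
    (hW : NonDeg q W) {u u' : Fin n → F} (hu : u ∈ W) (hu' : u' ∈ W) (huu : ⟪u, u⟫ = 0)
    (hu'u' : ⟪u', u'⟫ = 0) (huu' : ⟪u, u'⟫ = 1) : NonDeg q (hypCompl q W u u') := by
  intro x hx hxy
  apply hW x hx.1
  intro y hy
  rw [hypProj_decomp (q := q) u u' y, hermForm_add_right hF, hermForm_add_right hF,
    hermForm_smul_right, hermForm_smul_right, hx.2.1, hx.2.2,
    hxy _ (hypProj_mem hF W hu hu' huu hu'u' huu' hy)]
  ring

/-- norm of a sum -/
theorem hermForm_add_self (hF : Fintype.card F = q ^ 2) (x y : Fin n → F) :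
    ⟪x + y, x + y⟫ = ⟪x, x⟫ + ⟪y, y⟫ + (⟪x, y⟫ + ⟪x, y⟫ ^ q) := by
  rw [hermForm_add_left, hermForm_add_right hF, hermForm_add_right hF, hermForm_conj hF x y]
  ring

/-- a non-degenerate non-zero subspace contains an anisotropic vector -/
theorem exists_anisotropic (hF : Fintype.card F = q ^ 2) (W : Submodule F (Fin n → F))
    (hW : NonDeg q W) {x : Fin n → F} (hx : x ∈ W) (hx0 : x ≠ 0) :
    ∃ z ∈ W, ⟪z, z⟫ ≠ 0 := by
  by_contra hcon
  push Not at hcon
  obtain ⟨y, hy, hxy⟩ : ∃ y ∈ W, ⟪x, y⟫ ≠ 0 := by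
    by_contra h
    push Not at h
    exact hx0 (hW x hx h)
  obtain ⟨t, ht⟩ := exists_trace_ne_zero hF (F := F)
  set a := ⟪x, y⟫ with ha
  set l : F := (t * a⁻¹) ^ q with hl
  have hlq : l ^ q = t * a⁻¹ := frob_frob hF _
  have h1 := hcon (x + l • y) (W.add_mem hx (W.smul_mem l hy))
  rw [hermForm_add_self hF, hcon x hx, hcon _ (W.smul_mem l hy), hermForm_smul_right, hlq,
    ← ha, inv_mul_cancel_right₀ hxy] at h1
  apply ht
  linear_combination h1

/-- a non-degenerate non-zero subspace contains vectors of every norm -/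
theorem exists_norm_eq_in (hF : Fintype.card F = q ^ 2) (W : Submodule F (Fin n → F))
    (hW : NonDeg q W) {x : Fin n → F} (hx : x ∈ W) (hx0 : x ≠ 0) {ν : F} (hν : ν ^ q = ν) :
    ∃ y ∈ W, ⟪y, y⟫ = ν := by
  obtain ⟨z, hz, hzz⟩ := exists_anisotropic hF W hW hx hx0
  set μ := ⟪z, z⟫ with hμ
  have hμq : μ ^ q = μ := hermForm_self_fixed hF z
  obtain ⟨l, hl⟩ := exists_norm_eq_of_fixed hF (a := ν * μ⁻¹)
    (by rw [mul_pow, inv_pow, hν, hμq])
  refine ⟨l • z, W.smul_mem l hz, ?_⟩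
  rw [hermForm_smul_left, hermForm_smul_right, ← hμ, ← mul_assoc, hl,
    inv_mul_cancel_right₀ hzz]

/-- hyperbolic partners inside a non-degenerate subspace -/
theorem exists_hyperbolic_partner_in (hF : Fintype.card F = q ^ 2)
    (W : Submodule F (Fin n → F)) (hW : NonDeg q W) {u : Fin n → F} (hu : u ∈ W) (hu0 : u ≠ 0)
    (huu : ⟪u, u⟫ = 0) : ∃ u' ∈ W, ⟪u', u'⟫ = 0 ∧ ⟪u, u'⟫ = 1 := by
  obtain ⟨y, hy, hxy⟩ : ∃ y ∈ W, ⟪u, y⟫ ≠ 0 := by
    by_contra h
    push Not at h
    exact hu0 (hW u hu h)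
  set c : F := ((⟪u, y⟫)⁻¹) ^ q with hc
  have hcq : c ^ q = (⟪u, y⟫)⁻¹ := frob_frob hF _
  set y₁ : Fin n → F := c • y with hy₁
  have h1 : ⟪u, y₁⟫ = 1 := by
    rw [hy₁, hermForm_smul_right, hcq, inv_mul_cancel₀ hxy]
  have h2 : ⟪y₁, u⟫ = 1 := by rw [← hermForm_conj hF, h1, one_pow]
  obtain ⟨t, ht⟩ := exists_trace_eq_of_fixed hF (a := -⟪y₁, y₁⟫)
    (by rw [frob_neg' hF, hermForm_self_fixed hF])
  refine ⟨y₁ + t • u, W.add_mem (W.smul_mem c hy) (W.smul_mem t hu), ?_, ?_⟩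
  · rw [hermForm_add_smul_self hF u y₁ huu, h2, one_pow]
    linear_combination ht
  · rw [hermForm_add_right hF, h1, hermForm_smul_right, huu]
    ring

/-- an anisotropic subspace is at most a line -/
theorem eq_smul_of_anisotropic (hF : Fintype.card F = q ^ 2) (W : Submodule F (Fin n → F))
    (hW : ∀ x ∈ W, ⟪x, x⟫ = 0 → x = 0) {z : Fin n → F} (hz : z ∈ W) (hz0 : z ≠ 0)
    {x : Fin n → F} (hx : x ∈ W) : ∃ c : F, x = c • z := by
  set μ := ⟪z, z⟫ with hμ
  have hμ0 : μ ≠ 0 := fun h => hz0 (hW z hz h)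
  have hμq : μ ^ q = μ := hermForm_self_fixed hF z
  set x' : Fin n → F := x - (⟪x, z⟫ * μ⁻¹) • z with hx'
  have hx'W : x' ∈ W := W.sub_mem hx (W.smul_mem _ hz)
  have hx'z : ⟪x', z⟫ = 0 := by
    rw [hx', hermForm_sub_left, hermForm_smul_left, ← hμ, inv_mul_cancel_right₀ hμ0, sub_self]
  have hzx' : ⟪z, x'⟫ = 0 := by
    rw [← hermForm_conj hF, hx'z, zero_pow]
    have := two_le_of_card_eq_sq hF
    omega
  by_cases h0 : x' = 0
  · refine ⟨⟪x, z⟫ * μ⁻¹, ?_⟩
    rw [hx', sub_eq_zero] at h0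
    exact h0
  · exfalso
    set ν := ⟪x', x'⟫ with hν
    have hν0 : ν ≠ 0 := fun h => h0 (hW x' hx'W h)
    have hνq : ν ^ q = ν := hermForm_self_fixed hF x'
    obtain ⟨l, hl⟩ := exists_norm_eq_of_fixed hF (a := -μ * ν⁻¹)
      (by rw [mul_pow, inv_pow, hνq, frob_neg' hF, hμq])
    have h1 : ⟪z + l • x', z + l • x'⟫ = 0 := by
      rw [hermForm_add_self hF, hermForm_smul_left, hermForm_smul_right, hermForm_smul_right,
        hzx', ← hμ, ← hν, ← mul_assoc, hl, inv_mul_cancel_right₀ hν0]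
      have hq := two_le_of_card_eq_sq hF
      rw [mul_zero, zero_pow (by omega)]
      ring
    have h2 := hW _ (W.add_mem hz (W.smul_mem l hx'W)) h1
    have h3 : ⟪z + l • x', z⟫ = 0 := by rw [h2, hermForm_zero_left]
    rw [hermForm_add_left, hermForm_smul_left, hx'z, mul_zero, add_zero] at h3
    exact hμ0 h3

/-- the isotropic vectors additively generate a non-degenerate space with an isotropic vector -/
theorem isotropic_span_induction (hF : Fintype.card F = q ^ 2) (W : Submodule F (Fin n → F))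
    (hW : NonDeg q W) {u : Fin n → F} (hu : u ∈ W) (hu0 : u ≠ 0) (huu : ⟪u, u⟫ = 0)
    (S : (Fin n → F) → Prop) (hadd : ∀ a b, S a → S b → S (a + b))
    (hiso : ∀ y ∈ W, ⟪y, y⟫ = 0 → S y) : ∀ y ∈ W, S y := by
  obtain ⟨u', hu', hu'u', huu'⟩ := exists_hyperbolic_partner_in hF W hW hu hu0 huu
  have hu'u : ⟪u', u⟫ = 1 := by rw [← hermForm_conj hF, huu', one_pow]
  intro y hy
  have hsm : ∀ (a : F) (v : Fin n → F), v ∈ W → ⟪v, v⟫ = 0 → S (a • v) := by
    intro a v hv hvv
    apply hiso _ (W.smul_mem a hv)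
    rw [hermForm_smul_left, hermForm_smul_right, hvv, mul_zero, mul_zero]
  set y' := hypProj q u u' y with hy'
  have hy'mem := hypProj_mem hF W hu hu' huu hu'u' huu' hy
  rw [← hy'] at hy'mem
  have hSy' : S y' := by
    obtain ⟨γ, hγ⟩ := exists_trace_eq_of_fixed hF (a := -⟪y', y'⟫)
      (by rw [frob_neg' hF, hermForm_self_fixed hF])
    have hy'u : ⟪y', u⟫ = 0 := hy'mem.2.1
    have hy'u' : ⟪y', u'⟫ = 0 := hy'mem.2.2
    have hq := two_le_of_card_eq_sq hF
    have huy' : ⟪u, y'⟫ = 0 := by rw [← hermForm_conj hF, hy'u, zero_pow (by omega)]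
    have hu'y' : ⟪u', y'⟫ = 0 := by rw [← hermForm_conj hF, hy'u', zero_pow (by omega)]
    have h1 : ⟪y' + (γ • u + u'), y' + (γ • u + u')⟫ = 0 := by
      simp only [hermForm_add_left, hermForm_add_right hF, hermForm_smul_left,
        hermForm_smul_right, hy'u, hy'u', huy', hu'y', huu, hu'u', huu', hu'u]
      linear_combination hγ
    have h2 : y' = (y' + (γ • u + u')) + ((-γ) • u + (-1 : F) • u') := by
      module
    rw [h2]
    apply hadd _ _ (hiso _ (W.add_mem hy'mem.1 (W.add_mem (W.smul_mem γ hu) hu')) h1)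
    exact hadd _ _ (hsm _ u hu huu) (hsm _ u' hu' hu'u')
  rw [hypProj_decomp (q := q) u u' y]
  exact hadd _ _ (hadd _ _ (hsm _ u hu huu) (hsm _ u' hu' hu'u')) hSy'

/-! ### dimensions -/

theorem finrank_hypCompl_add_two_le (hF : Fintype.card F = q ^ 2) (W : Submodule F (Fin n → F))
    {u u' : Fin n → F} (hu : u ∈ W) (hu' : u' ∈ W) (huu : ⟪u, u⟫ = 0)
    (huu' : ⟪u, u'⟫ = 1) :
    Module.finrank F (hypCompl q W u u') + 2 ≤ Module.finrank F W := by
  have hu'u : ⟪u', u⟫ = 1 := by rw [← hermForm_conj hF, huu', one_pow]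
  have hperp : ∀ x ∈ hypCompl q W u u' ⊔ Submodule.span F {u}, ⟪x, u⟫ = 0 := by
    intro x hx
    obtain ⟨a, ha, b, hb, rfl⟩ := Submodule.mem_sup.mp hx
    obtain ⟨c, rfl⟩ := Submodule.mem_span_singleton.mp hb
    rw [hermForm_add_left, ha.2.1, hermForm_smul_left, huu, mul_zero, add_zero]
  have h1 : hypCompl q W u u' < hypCompl q W u u' ⊔ Submodule.span F {u} := by
    refine lt_of_le_of_ne le_sup_left ?_
    intro h
    have : u ∈ hypCompl q W u u' := by
      rw [h]
      exact Submodule.mem_sup_right (Submodule.mem_span_singleton_self u)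
    have := this.2.2
    rw [huu'] at this
    exact one_ne_zero this
  have h2 : hypCompl q W u u' ⊔ Submodule.span F {u} < W := by
    refine lt_of_le_of_ne (sup_le (hypCompl_le W u u') ?_) ?_
    · rw [Submodule.span_le]
      intro x hx
      rw [Set.mem_singleton_iff.mp hx]
      exact hu
    · intro h
      have := hperp u' (by rw [h]; exact hu')
      rw [hu'u] at this
      exact one_ne_zero this
  have h3 := Submodule.finrank_lt_finrank_of_lt h1
  have h4 := Submodule.finrank_lt_finrank_of_lt h2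
  omega

theorem exists_mem_hypCompl_ne_zero (hF : Fintype.card F = q ^ 2) (W : Submodule F (Fin n → F))
    (h3 : 3 ≤ Module.finrank F W) {u u' : Fin n → F} (hu : u ∈ W) (hu' : u' ∈ W)
    (huu : ⟪u, u⟫ = 0) (hu'u' : ⟪u', u'⟫ = 0) (huu' : ⟪u, u'⟫ = 1) :
    ∃ y ∈ hypCompl q W u u', y ≠ 0 := by
  classical
  by_contra hcon
  push Not at hcon
  have hle : W ≤ Submodule.span F (({u, u'} : Finset (Fin n → F)) : Set (Fin n → F)) := by
    intro x hx
    have h0 := hcon _ (hypProj_mem hF W hu hu' huu hu'u' huu' hx)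
    rw [hypProj_decomp (q := q) u u' x, h0, add_zero]
    apply Submodule.add_mem
    · exact Submodule.smul_mem _ _ (Submodule.subset_span (by simp))
    · exact Submodule.smul_mem _ _ (Submodule.subset_span (by simp))
  have h4 := Submodule.finrank_mono hle
  have h5 : Module.finrank F
      (Submodule.span F (({u, u'} : Finset (Fin n → F)) : Set (Fin n → F))) ≤ _ :=
    finrank_span_finset_le_card (R := F) ({u, u'} : Finset (Fin n → F))
  have h6 : ({u, u'} : Finset (Fin n → F)).card ≤ 2 := Finset.card_le_two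
  omega

end Cfsg.Agent.Helper13
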