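import Mathlib

/-!
# Babai's minimal degree bound: distinguishing sets (part A)

For a group `G` acting on a finite set `Ω`, two ordered pairs lie in the same orbital
(`SP`); the distinguishing set `dF u w` consists of the points `z` such that `(u,z)` and
`(w,z)` lie in different orbitals.
-/

set_option autoImplicit false

namespace Cfsg.Agent.Helper13.Bab

open scoped Classical

variable (G : Type*) {Ω : Type*} [Group G] [MulAction G Ω]

/-- `(a,b)` and `(a',b')` lie in the same orbital. -/
def SP (a b a' b' : Ω) : Prop := ∃ h : G, h • a = a' ∧ h • b = b'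

variable {G}

theorem SP.refl (a b : Ω) : SP G a b a b := ⟨1, one_smul _ _, one_smul _ _⟩

theorem SP.symm {a b a' b' : Ω} (h : SP G a b a' b') : SP G a' b' a b := by
  obtain ⟨g, h1, h2⟩ := h
  exact ⟨g⁻¹, by rw [← h1, inv_smul_smul], by rw [← h2, inv_smul_smul]⟩

theorem SP.trans {a b a' b' a'' b'' : Ω} (h : SP G a b a' b') (h' : SP G a' b' a'' b'') :
    SP G a b a'' b'' := by
  obtain ⟨g, h1, h2⟩ := h
  obtain ⟨g', h1', h2'⟩ := h'
  exact ⟨g' * g, by rw [mul_smul, h1, h1'], by rw [mul_smul, h2, h2']⟩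

theorem SP.smul (g : G) (a b : Ω) : SP G a b (g • a) (g • b) := ⟨g, rfl, rfl⟩

theorem SP.swap {a b a' b' : Ω} (h : SP G a b a' b') : SP G b a b' a' := by
  obtain ⟨g, h1, h2⟩ := h
  exact ⟨g, h2, h1⟩

theorem SP.ne {a b a' b' : Ω} (h : SP G a b a' b') (hab : a ≠ b) : a' ≠ b' := by
  obtain ⟨g, h1, h2⟩ := h
  intro h3
  apply hab
  rw [← h1, ← h2] at h3
  exact (MulAction.injective g) h3

theorem SP.smul_iff (g : G) {a b a' b' : Ω} :
    SP G (g • a) (g • b) (g • a') (g • b') ↔ SP G a b a' b' := by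
  constructor
  · intro h
    exact ((SP.smul g a b).trans h).trans (SP.smul g a' b').symm
  · intro h
    exact ((SP.smul g a b).symm.trans h).trans (SP.smul g a' b')

variable [Fintype Ω]

variable (G) in
/-- The distinguishing set of `u` and `w`. -/
noncomputable def dF (u w : Ω) : Finset Ω := Finset.univ.filter (fun z => ¬ SP G u z w z)

variable (G) in
/-- The size of the distinguishing set. -/
noncomputable def dN (u w : Ω) : ℕ := (dF G u w).card

theorem mem_dF {u w z : Ω} : z ∈ dF G u w ↔ ¬ SP G u z w z := by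
  simp [dF]

theorem dF_subset_moved {u w : Ω} (g : G) (h : g • u = w) :
    dF G u w ⊆ Finset.univ.filter (fun z => g • z ≠ z) := by
  intro z hz
  rw [mem_dF] at hz
  simp only [Finset.mem_filter, Finset.mem_univ, true_and]
  intro hgz
  exact hz ⟨g, h, hgz⟩

theorem dF_comm (u w : Ω) : dF G u w = dF G w u := by
  ext z
  rw [mem_dF, mem_dF]
  exact not_congr ⟨SP.symm, SP.symm⟩

theorem dN_comm (u w : Ω) : dN G u w = dN G w u := by
  unfold dN; rw [dF_comm]

theorem dF_triangle (u v w : Ω) : dF G u w ⊆ dF G u v ∪ dF G v w := by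
  intro z hz
  rw [mem_dF] at hz
  rw [Finset.mem_union, mem_dF, mem_dF]
  by_contra hcon
  push Not at hcon
  exact hz (hcon.1.trans hcon.2)

theorem dN_triangle (u v w : Ω) : dN G u w ≤ dN G u v + dN G v w := by
  unfold dN
  exact (Finset.card_le_card (dF_triangle u v w)).trans (Finset.card_union_le _ _)

theorem dF_self (u : Ω) : dF G u u = ∅ := by
  ext z
  simp only [mem_dF, Finset.notMem_empty, iff_false, not_not]
  exact SP.refl u z

theorem dN_self (u : Ω) : dN G u u = 0 := by
  unfold dN; rw [dF_self]; rfl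

theorem dF_smul (g : G) (u w : Ω) :
    dF G (g • u) (g • w) = (dF G u w).map (MulAction.toPerm g).toEmbedding := by
  ext z
  rw [mem_dF, Finset.mem_map]
  constructor
  · intro hz
    refine ⟨g⁻¹ • z, ?_, by simp⟩
    rw [mem_dF]
    intro hcon
    apply hz
    have := (SP.smul_iff g).mpr hcon
    rwa [smul_inv_smul] at this
  · rintro ⟨z', hz', rfl⟩
    rw [mem_dF] at hz'
    intro hcon
    apply hz'
    have : SP G (g • u) (g • z') (g • w) (g • z') := hcon
    exact (SP.smul_iff g).mp this

theorem dN_smul (g : G) (u w : Ω) : dN G (g • u) (g • w) = dN G u w := by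
  unfold dN
  rw [dF_smul, Finset.card_map]

theorem dN_of_SP {x y u v : Ω} (h : SP G x y u v) : dN G u v = dN G x y := by
  obtain ⟨g, rfl, rfl⟩ := h
  exact dN_smul g x y

theorem left_mem_dF {u w : Ω} (h : u ≠ w) : u ∈ dF G u w := by
  rw [mem_dF]
  rintro ⟨g, h1, h2⟩
  exact h (h2.symm.trans h1)

theorem right_mem_dF {u w : Ω} (h : u ≠ w) : w ∈ dF G u w := by
  rw [dF_comm]
  exact left_mem_dF h.symm

theorem dN_pos {u w : Ω} (h : u ≠ w) : 0 < dN G u w :=
  Finset.card_pos.mpr ⟨u, left_mem_dF h⟩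

theorem dN_le_moved {u w : Ω} (g : G) (h : g • u = w) :
    dN G u w ≤ (Finset.univ.filter (fun z : Ω => g • z ≠ z)).card :=
  Finset.card_le_card (dF_subset_moved g h)

end Cfsg.Agent.Helper13.Bab
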