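import Cfsg.Agent.Helper13.BabA

/-!
# Babai's minimal degree bound: orbital graphs (part B)
-/

set_option autoImplicit false

namespace Cfsg.Agent.Helper13.Bab

open scoped Classical

variable {G : Type*} {Ω : Type*} [Group G] [MulAction G Ω]

variable (G) in
/-- The (undirected) orbital graph of the pair `(x,y)`. -/
def oG (x y : Ω) : SimpleGraph Ω where
  Adj u v := u ≠ v ∧ (SP G x y u v ∨ SP G x y v u)
  symm := ⟨fun _ _ h => ⟨h.1.symm, h.2.symm⟩⟩
  loopless := ⟨fun _ h => h.1 rfl⟩

theorem oG_adj {x y u v : Ω} :
    (oG G x y).Adj u v ↔ u ≠ v ∧ (SP G x y u v ∨ SP G x y v u) := Iff.rfl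

theorem oG_adj_smul (g : G) {x y u v : Ω} (h : (oG G x y).Adj u v) :
    (oG G x y).Adj (g • u) (g • v) := by
  refine ⟨fun hc => h.1 (MulAction.injective g hc), ?_⟩
  rcases h.2 with h2 | h2
  · exact Or.inl (h2.trans (SP.smul g u v))
  · exact Or.inr (h2.trans (SP.smul g v u))

theorem oG_adj_base {x y : Ω} (hxy : x ≠ y) : (oG G x y).Adj x y :=
  ⟨hxy, Or.inl (SP.refl x y)⟩

theorem oG_adj_of_SP {x y u v : Ω} (hxy : x ≠ y) (h : SP G x y u v) : (oG G x y).Adj u v :=
  ⟨h.ne hxy, Or.inl h⟩

theorem oG_adj_of_SP' {x y u v : Ω} (hxy : x ≠ y) (h : SP G x y v u) : (oG G x y).Adj u v :=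
  ⟨(h.ne hxy).symm, Or.inr h⟩

variable (G) in
/-- The graph homomorphism of the orbital graph induced by a group element. -/
def oGHom (x y : Ω) (g : G) : oG G x y →g oG G x y where
  toFun v := g • v
  map_rel' h := oG_adj_smul g h

theorem oG_reachable_smul (g : G) {x y u v : Ω} (h : (oG G x y).Reachable u v) :
    (oG G x y).Reachable (g • u) (g • v) :=
  h.map (oGHom G x y g)

theorem oG_dist_smul_le (g : G) (x y u v : Ω) (h : (oG G x y).Reachable u v) :
    (oG G x y).dist (g • u) (g • v) ≤ (oG G x y).dist u v := by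
  obtain ⟨p, hp⟩ := h.exists_walk_length_eq_dist
  have := SimpleGraph.dist_le (p.map (oGHom G x y g))
  rw [SimpleGraph.Walk.length_map, hp] at this
  exact this

theorem oG_connected [MulAction.IsPreprimitive G Ω] {x y : Ω} (hxy : x ≠ y) :
    (oG G x y).Connected := by
  have hne : Nonempty Ω := ⟨x⟩
  rw [SimpleGraph.connected_iff]
  refine ⟨?_, hne⟩
  set B : Set Ω := {v | (oG G x y).Reachable x v} with hB
  have hblock : MulAction.IsBlock G B := by
    rw [MulAction.isBlock_iff_smul_eq_of_mem]
    intro g a ha hga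
    have h1 : (oG G x y).Reachable (g • x) (g • a) := oG_reachable_smul g ha
    have h2 : (oG G x y).Reachable x (g • x) := hga.trans h1.symm
    ext w
    rw [Set.mem_smul_set]
    constructor
    · rintro ⟨v, hv, rfl⟩
      exact h2.trans (oG_reachable_smul g hv)
    · intro hw
      refine ⟨g⁻¹ • w, ?_, smul_inv_smul g w⟩
      have h3 : (oG G x y).Reachable (g • x) w := h2.symm.trans hw
      have h4 := oG_reachable_smul g⁻¹ h3
      rwa [inv_smul_smul] at h4
  have htriv := MulAction.IsPreprimitive.isTrivialBlock_of_isBlock hblock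
  have hxB : x ∈ B := SimpleGraph.Reachable.refl x
  have hyB : y ∈ B := (oG_adj_base hxy).reachable
  rcases htriv with hs | hu
  · exact absurd (hs hxB hyB) hxy
  · intro u v
    have hu' : u ∈ B := by rw [hu]; trivial
    have hv' : v ∈ B := by rw [hu]; trivial
    exact (hu' : (oG G x y).Reachable x u).symm.trans hv'

theorem oG_dist_smul [MulAction.IsPreprimitive G Ω] (g : G) {x y : Ω} (hxy : x ≠ y) (u v : Ω) :
    (oG G x y).dist (g • u) (g • v) = (oG G x y).dist u v := by
  have hc := oG_connected (G := G) hxy
  apply le_antisymm (oG_dist_smul_le g x y u v (hc u v))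
  have := oG_dist_smul_le g⁻¹ x y (g • u) (g • v) (hc _ _)
  rwa [inv_smul_smul, inv_smul_smul] at this

variable [Fintype Ω]

/-- Points at different distances from `u` and `w` distinguish `u` and `w`. -/
theorem mem_dF_of_dist_ne [MulAction.IsPreprimitive G Ω] {x y : Ω} (hxy : x ≠ y) {u w z : Ω}
    (h : (oG G x y).dist u z ≠ (oG G x y).dist w z) : z ∈ dF G u w := by
  rw [mem_dF]
  rintro ⟨g, h1, h2⟩
  apply h
  rw [← h1, ← oG_dist_smul g hxy u z, h2]

theorem dN_of_adj {x y u v : Ω} (h : (oG G x y).Adj u v) : dN G u v = dN G x y := by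
  rcases h.2 with h2 | h2
  · exact dN_of_SP h2
  · rw [dN_comm]; exact dN_of_SP h2

/-- Along a walk, the distance between two vertices is at most the difference of positions. -/
theorem dist_getVert_le {V : Type*} {H : SimpleGraph V} (hc : H.Connected) {u w : V}
    (p : H.Walk u w) (a k : ℕ) (h : a + k ≤ p.length) :
    H.dist (p.getVert a) (p.getVert (a + k)) ≤ k := by
  induction k with
  | zero => simp
  | succ k ih =>
    have h1 : H.Adj (p.getVert (a + k)) (p.getVert (a + k + 1)) :=
      p.adj_getVert_succ (by omega)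
    have h2 := ih (by omega)
    have h3 := hc.dist_triangle (u := p.getVert a) (v := p.getVert (a + k))
      (w := p.getVert (a + k + 1))
    rw [SimpleGraph.dist_eq_one_iff_adj.mpr h1] at h3
    rw [← add_assoc]
    omega

/-- On a geodesic, the distance from the start to the `j`-th vertex is `j`. -/
theorem dist_getVert_eq {V : Type*} {H : SimpleGraph V} (hc : H.Connected) {u w : V}
    (p : H.Walk u w) (hp : p.length = H.dist u w) (j : ℕ) (hj : j ≤ p.length) :
    H.dist u (p.getVert j) = j := by
  have h1 : H.dist (p.getVert 0) (p.getVert (0 + j)) ≤ j := dist_getVert_le hc p 0 j (by omega)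
  rw [SimpleGraph.Walk.getVert_zero, zero_add] at h1
  have h2 : H.dist (p.getVert j) (p.getVert (j + (p.length - j))) ≤ p.length - j :=
    dist_getVert_le hc p j (p.length - j) (by omega)
  rw [show j + (p.length - j) = p.length by omega, SimpleGraph.Walk.getVert_length] at h2
  have h3 := hc.dist_triangle (u := u) (v := p.getVert j) (w := w)
  omega

/-- The geodesic bound: every distance in the orbital graph is less than `dN x y`. -/
theorem dist_succ_le_dN [MulAction.IsPreprimitive G Ω] {x y : Ω} (hxy : x ≠ y) (u w : Ω) :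
    (oG G x y).dist u w + 1 ≤ dN G x y := by
  have hc := oG_connected (G := G) hxy
  by_cases huw : u = w
  · subst huw
    rw [SimpleGraph.dist_self]
    exact dN_pos hxy
  obtain ⟨p, hp⟩ := hc.exists_walk_length_eq_dist u w
  have hpos : 0 < p.length := by
    rw [hp]; exact hc.pos_dist_of_ne huw
  set l := p.length with hl
  have hadj : (oG G x y).Adj (p.getVert 0) (p.getVert 1) := p.adj_getVert_succ hpos
  rw [SimpleGraph.Walk.getVert_zero] at hadj
  rw [← hp, ← dN_of_adj hadj]
  -- the vertices of the geodesic all lie in `dF u (p.getVert 1)`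
  have hmem : ∀ j, j ≤ l → p.getVert j ∈ dF G u (p.getVert 1) := by
    intro j hj
    apply mem_dF_of_dist_ne hxy
    rw [dist_getVert_eq hc p hp j hj]
    rcases Nat.eq_zero_or_pos j with h0 | h0
    · subst h0
      rw [SimpleGraph.Walk.getVert_zero, SimpleGraph.dist_comm,
        SimpleGraph.dist_eq_one_iff_adj.mpr hadj]
      omega
    · have := dist_getVert_le hc p 1 (j - 1) (by omega)
      rw [show 1 + (j - 1) = j by omega] at this
      omega
  have hinj : Set.InjOn (fun j => p.getVert j) (Finset.range (l + 1) : Set ℕ) := by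
    intro a ha b hb hab
    simp only [Finset.coe_range, Set.mem_Iio] at ha hb
    have h1 := dist_getVert_eq hc p hp a (by omega)
    have h2 := dist_getVert_eq hc p hp b (by omega)
    simp only at hab
    rw [hab] at h1
    omega
  have := Finset.card_le_card_of_injOn (fun j => p.getVert j)
    (s := Finset.range (l + 1)) (t := dF G u (p.getVert 1)) (by
      intro j hj
      simp only [Finset.coe_range, Set.mem_Iio] at hj
      exact hmem j (by omega)) hinj
  rw [Finset.card_range] at this
  exact this

/-- The distinguishing number of a pair is at most the distance times `dN x y`. -/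
theorem dN_le_dist_mul [MulAction.IsPreprimitive G Ω] {x y : Ω} (hxy : x ≠ y) (u w : Ω) :
    dN G u w ≤ (oG G x y).dist u w * dN G x y := by
  have hc := oG_connected (G := G) hxy
  obtain ⟨p, hp⟩ := hc.exists_walk_length_eq_dist u w
  rw [← hp]
  clear hp
  induction p with
  | nil => simp [dN_self]
  | cons h p ih =>
    rw [SimpleGraph.Walk.length_cons]
    have h1 := dN_triangle (G := G) _ _ _ |>.trans (add_le_add (dN_of_adj h).le ih)
    calc _ ≤ _ := h1
      _ = _ := by ring

end Cfsg.Agent.Helper13.Bab
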