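import Cfsg.Agent.Helper13.BabB

/-!
# Babai's minimal degree bound: the averaging argument (part C)
-/

set_option autoImplicit false

namespace Cfsg.Agent.Helper13.Bab

open scoped Classical

variable {G : Type*} {Ω : Type*} [Group G] [MulAction G Ω] [Fintype Ω]

variable (G) in
/-- The number of `w` such that `(w,z)` lies in the orbital of `(u,z)`. -/
noncomputable def val (u z : Ω) : ℕ := (Finset.univ.filter (fun w => SP G u z w z)).card

theorem val_self (u : Ω) : val G u u = 1 := by
  unfold val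
  rw [Finset.card_eq_one]
  refine ⟨u, ?_⟩
  ext w
  simp only [Finset.mem_filter, Finset.mem_univ, true_and, Finset.mem_singleton]
  constructor
  · rintro ⟨g, h1, h2⟩
    exact h1.symm.trans h2
  · rintro rfl
    exact SP.refl _ _

theorem val_le (u z : Ω) : val G u z ≤ Fintype.card Ω := by
  unfold val
  exact Finset.card_le_univ _

/-- Double counting: the distinguishing numbers and the valencies add up to `n²`. -/
theorem sum_dN_add_sum_val (u : Ω) :
    ∑ w, dN G u w + ∑ z, val G u z = Fintype.card Ω ^ 2 := by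
  unfold dN dF val
  simp_rw [Finset.card_filter]
  rw [Finset.sum_comm (f := fun (w : Ω) (z : Ω) => if ¬ SP G u z w z then 1 else 0),
    ← Finset.sum_add_distrib]
  simp_rw [← Finset.sum_add_distrib]
  have : ∀ z w : Ω, ((if ¬ SP G u z w z then 1 else 0) + if SP G u z w z then 1 else 0) = 1 := by
    intro z w
    by_cases h : SP G u z w z <;> simp [h]
  simp_rw [this]
  simp [sq]

/-- The averaging inequality. -/
theorem sq_card_le [MulAction.IsPreprimitive G Ω] {x y : Ω} (hxy : x ≠ y) (u : Ω) :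
    Fintype.card Ω ^ 2 ≤
      (Fintype.card Ω - 1) * ((dN G x y - 1) * dN G x y) + ∑ z, val G u z := by
  rw [← sum_dN_add_sum_val (G := G) u]
  apply Nat.add_le_add_right
  have h1 : ∀ w ∈ Finset.univ.erase u, dN G u w ≤ (dN G x y - 1) * dN G x y := by
    intro w _
    have h2 := dist_succ_le_dN (G := G) hxy u w
    have h3 := dN_le_dist_mul (G := G) hxy u w
    exact h3.trans (Nat.mul_le_mul_right _ (by omega))
  have h4 : ∑ w, dN G u w = ∑ w ∈ Finset.univ.erase u, dN G u w := by
    rw [← Finset.add_sum_erase _ _ (Finset.mem_univ u), dN_self, zero_add]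
  rw [h4]
  have h5 := Finset.sum_le_card_nsmul _ _ _ h1
  rw [Finset.card_erase_of_mem (Finset.mem_univ u), Finset.card_univ, smul_eq_mul] at h5
  exact h5

/-- Case A: no dominant orbital. -/
theorem card_le_of_no_dominant [MulAction.IsPreprimitive G Ω] {x y : Ω} (hxy : x ≠ y) (u : Ω)
    (hA : ∀ z, z ≠ u → 4 * val G u z < 3 * Fintype.card Ω) :
    Fintype.card Ω ≤ 4 * dN G x y ^ 2 := by
  have h1 := sq_card_le (G := G) hxy u
  have h2 : ∑ z, val G u z = 1 + ∑ z ∈ Finset.univ.erase u, val G u z := by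
    rw [← Finset.add_sum_erase _ _ (Finset.mem_univ u), val_self]
  have h3 : ∀ z ∈ Finset.univ.erase u, 4 * val G u z ≤ 3 * Fintype.card Ω - 1 := by
    intro z hz
    have := hA z (Finset.ne_of_mem_erase hz)
    omega
  have h4 : ∑ z ∈ Finset.univ.erase u, 4 * val G u z ≤
      (Fintype.card Ω - 1) * (3 * Fintype.card Ω - 1) := by
    have := Finset.sum_le_card_nsmul _ _ _ h3
    rwa [Finset.card_erase_of_mem (Finset.mem_univ u), Finset.card_univ, smul_eq_mul] at this
  rw [← Finset.mul_sum] at h4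
  have hn : 2 ≤ Fintype.card Ω := by
    have : 1 < Fintype.card Ω := Fintype.one_lt_card_iff.mpr ⟨x, y, hxy⟩
    omega
  have hD : 1 ≤ dN G x y := dN_pos hxy
  obtain ⟨N, hN⟩ : ∃ N, Fintype.card Ω = N + 2 := ⟨Fintype.card Ω - 2, by omega⟩
  obtain ⟨E, hE⟩ : ∃ E, dN G x y = E + 1 := ⟨dN G x y - 1, by omega⟩
  rw [hN] at h4
  rw [hN, hE, h2] at h1
  rw [hN, hE]
  simp only [Nat.add_sub_cancel] at h1 h4
  have h5 : N + 2 - 1 = N + 1 := by omega
  have h6 : 3 * (N + 2) - 1 = 3 * N + 5 := by omega
  rw [h5] at h1 h4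
  rw [h6] at h4
  set S := ∑ z ∈ Finset.univ.erase u, val G u z with hS
  nlinarith

end Cfsg.Agent.Helper13.Bab
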