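import Cfsg.Agent.Helper13.BabC

/-!
# Babai's minimal degree bound: the dominant case (part D)
-/

set_option autoImplicit false

namespace Cfsg.Agent.Helper13.Bab

open scoped Classical

variable {G : Type*} {Ω : Type*} [Group G] [MulAction G Ω] [Fintype Ω]

variable (G) in
/-- Neighbours of `u` in the orbital graph of `(x,y)`. -/
noncomputable def nbr (x y u : Ω) : Finset Ω := Finset.univ.filter (fun v => (oG G x y).Adj u v)

theorem mem_nbr {x y u v : Ω} : v ∈ nbr G x y u ↔ (oG G x y).Adj u v := by
  simp [nbr]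

theorem nbr_smul (g : G) (x y u : Ω) :
    nbr G x y (g • u) = (nbr G x y u).map (MulAction.toPerm g).toEmbedding := by
  ext v
  rw [mem_nbr, Finset.mem_map]
  constructor
  · intro h
    refine ⟨g⁻¹ • v, ?_, by simp⟩
    rw [mem_nbr]
    have := oG_adj_smul g⁻¹ h
    rwa [inv_smul_smul] at this
  · rintro ⟨v', hv', rfl⟩
    rw [mem_nbr] at hv'
    exact oG_adj_smul g hv'

theorem card_nbr_eq [MulAction.IsPretransitive G Ω] (x y u u' : Ω) :
    (nbr G x y u).card = (nbr G x y u').card := by
  obtain ⟨g, rfl⟩ := MulAction.exists_smul_eq G u' u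
  rw [nbr_smul, Finset.card_map]

variable (G) in
/-- In-neighbours of `b` in the orbital of `(p,q)`. -/
noncomputable def inb (p q b : Ω) : Finset Ω := Finset.univ.filter (fun w => SP G p q w b)

theorem mem_inb {p q b w : Ω} : w ∈ inb G p q b ↔ SP G p q w b := by
  simp [inb]

theorem inb_smul (g : G) (p q b : Ω) :
    inb G p q (g • b) = (inb G p q b).map (MulAction.toPerm g).toEmbedding := by
  ext v
  rw [mem_inb, Finset.mem_map]
  constructor
  · intro h
    refine ⟨g⁻¹ • v, ?_, by simp⟩
    rw [mem_inb]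
    have := h.trans (SP.smul g⁻¹ v (g • b))
    rwa [inv_smul_smul] at this
  · rintro ⟨v', hv', rfl⟩
    rw [mem_inb] at hv'
    exact hv'.trans (SP.smul g v' b)

theorem card_inb [MulAction.IsPretransitive G Ω] (p q b : Ω) :
    (inb G p q b).card = val G p q := by
  obtain ⟨g, rfl⟩ := MulAction.exists_smul_eq G q b
  rw [inb_smul, Finset.card_map]
  rfl

/-- Neighbours of `b`, in-neighbours of `b` in a different orbital, and `b` itself are disjoint. -/
theorem card_nbr_add_val_lt [MulAction.IsPretransitive G Ω] {x y p q : Ω} (hpq : p ≠ q)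
    (h1 : ¬ SP G p q x y) (h2 : ¬ SP G p q y x) (b : Ω) :
    (nbr G x y b).card + val G p q + 1 ≤ Fintype.card Ω := by
  rw [← card_inb (G := G) p q b]
  have hdisj : Disjoint (nbr G x y b) (inb G p q b) := by
    rw [Finset.disjoint_left]
    intro v hv hv'
    rw [mem_nbr] at hv
    rw [mem_inb] at hv'
    rcases hv.2 with h3 | h3
    · exact h2 (hv'.trans h3.swap.symm)
    · exact h1 (hv'.trans h3.symm)
  have hb : b ∉ nbr G x y b ∪ inb G p q b := by
    rw [Finset.mem_union, mem_nbr, mem_inb]
    rintro (h | h)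
    · exact h.1 rfl
    · exact (h.ne hpq) rfl
  have := Finset.card_le_univ (insert b (nbr G x y b ∪ inb G p q b))
  rw [Finset.card_insert_of_notMem hb, Finset.card_union_of_disjoint hdisj] at this
  exact this

/-- Non-common neighbours distinguish. -/
theorem nbr_sdiff_subset (x y u w : Ω) : nbr G x y u \ nbr G x y w ⊆ dF G u w := by
  intro z hz
  rw [Finset.mem_sdiff, mem_nbr, mem_nbr] at hz
  rw [mem_dF]
  rintro ⟨g, h1, h2⟩
  apply hz.2
  have := oG_adj_smul g hz.1
  rwa [h1, h2] at this

theorem two_mul_card_nbr_le [MulAction.IsPretransitive G Ω] (x y u w : Ω) :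
    2 * (nbr G x y u).card ≤ dN G u w + 2 * (nbr G x y u ∩ nbr G x y w).card := by
  have h1 := nbr_sdiff_subset (G := G) x y u w
  have h2 := nbr_sdiff_subset (G := G) x y w u
  rw [dF_comm] at h2
  have hdisj : Disjoint (nbr G x y u \ nbr G x y w) (nbr G x y w \ nbr G x y u) := by
    rw [Finset.disjoint_left]
    intro z hz hz'
    rw [Finset.mem_sdiff] at hz hz'
    exact hz.2 hz'.1
  have h3 : (nbr G x y u \ nbr G x y w).card + (nbr G x y w \ nbr G x y u).card ≤ dN G u w := by
    rw [← Finset.card_union_of_disjoint hdisj]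
    exact Finset.card_le_card (Finset.union_subset h1 h2)
  have h4 := Finset.card_sdiff_add_card_inter (nbr G x y u) (nbr G x y w)
  have h5 := Finset.card_sdiff_add_card_inter (nbr G x y w) (nbr G x y u)
  rw [Finset.inter_comm] at h5
  have h6 := card_nbr_eq (G := G) x y u w
  omega

/-- Step (a): in the dominant case the valency of the orbital graph is at most `3D/2`. -/
theorem two_mul_card_nbr_le_three_mul [MulAction.IsPreprimitive G Ω] {x y p q : Ω}
    (hxy : x ≠ y) (hpq : p ≠ q) (h1 : ¬ SP G p q x y) (h2 : ¬ SP G p q y x)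
    (hdom : 3 * Fintype.card Ω ≤ 4 * val G p q) :
    2 * (nbr G x y x).card ≤ 3 * dN G x y := by
  by_contra hcon
  push Not at hcon
  have hc := oG_connected (G := G) hxy
  set K := (nbr G x y x).card with hK
  set D := dN G x y with hD
  have hKu : ∀ u, (nbr G x y u).card = K := fun u => card_nbr_eq (G := G) x y u x
  -- all distances are at most 2
  have hdist : ∀ u w, (oG G x y).dist u w ≤ 2 := by
    intro u w
    by_contra h3
    push Not at h3
    obtain ⟨p', hp'⟩ := hc.exists_walk_length_eq_dist u w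
    have h4 : (oG G x y).dist u (p'.getVert 3) = 3 := dist_getVert_eq hc p' hp' 3 (by omega)
    have h5 : dN G u (p'.getVert 3) ≤ (oG G x y).dist u (p'.getVert 3) * D :=
      dN_le_dist_mul (G := G) hxy u (p'.getVert 3)
    rw [h4] at h5
    have h6 := two_mul_card_nbr_le (G := G) x y u (p'.getVert 3)
    rw [hKu] at h6
    have h7 : 0 < (nbr G x y u ∩ nbr G x y (p'.getVert 3)).card := by omega
    obtain ⟨c, hc'⟩ := Finset.card_pos.mp h7
    rw [Finset.mem_inter, mem_nbr, mem_nbr] at hc'
    have h8 := hc.dist_triangle (u := u) (v := c) (w := p'.getVert 3)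
    rw [SimpleGraph.dist_eq_one_iff_adj.mpr hc'.1,
      SimpleGraph.dist_eq_one_iff_adj.mpr hc'.2.symm] at h8
    omega
  -- common neighbours
  have hcommon : ∀ w, K ≤ D + (nbr G x y x ∩ nbr G x y w).card := by
    intro w
    have h3 : dN G x w ≤ (oG G x y).dist x w * D := dN_le_dist_mul (G := G) hxy x w
    have h4 : 2 * K ≤ dN G x w + 2 * (nbr G x y x ∩ nbr G x y w).card :=
      two_mul_card_nbr_le (G := G) x y x w
    have h5 : (oG G x y).dist x w * D ≤ 2 * D := Nat.mul_le_mul_right _ (hdist x w)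
    omega
  -- double counting
  have hcount : ∑ w ∈ Finset.univ.erase x, (nbr G x y x ∩ nbr G x y w).card = K * (K - 1) := by
    have h3 : ∀ w, (nbr G x y x ∩ nbr G x y w).card =
        ∑ z ∈ nbr G x y x, if (oG G x y).Adj w z then 1 else 0 := by
      intro w
      rw [← Finset.card_filter]
      congr 1
      ext z
      simp only [Finset.mem_inter, mem_nbr, Finset.mem_filter]
    simp_rw [h3]
    rw [Finset.sum_comm]
    have h4 : ∀ z ∈ nbr G x y x,
        (∑ w ∈ Finset.univ.erase x, if (oG G x y).Adj w z then 1 else 0) = K - 1 := by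
      intro z hz
      rw [← Finset.card_filter]
      have h5 : (Finset.univ.erase x).filter (fun w => (oG G x y).Adj w z) =
          (nbr G x y z).erase x := by
        ext w
        simp only [Finset.mem_filter, Finset.mem_erase, Finset.mem_univ, and_true, mem_nbr]
        constructor
        · rintro ⟨h6, h7⟩
          exact ⟨h6, h7.symm⟩
        · rintro ⟨h6, h7⟩
          exact ⟨h6, h7.symm⟩
      rw [h5, Finset.card_erase_of_mem, hKu]
      rw [mem_nbr]
      exact (mem_nbr.mp hz).symm
    rw [Finset.sum_congr rfl h4, Finset.sum_const, smul_eq_mul]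
  have hsum : (Fintype.card Ω - 1) * K ≤ (Fintype.card Ω - 1) * D + K * (K - 1) := by
    rw [← hcount]
    have h3 : ∑ w ∈ Finset.univ.erase x, K ≤
        ∑ w ∈ Finset.univ.erase x, (D + (nbr G x y x ∩ nbr G x y w).card) :=
      Finset.sum_le_sum (fun w _ => hcommon w)
    rw [Finset.sum_const, Finset.card_erase_of_mem (Finset.mem_univ x), Finset.card_univ,
      smul_eq_mul, Finset.sum_add_distrib, Finset.sum_const,
      Finset.card_erase_of_mem (Finset.mem_univ x), Finset.card_univ, smul_eq_mul] at h3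
    exact h3
  have hKm := card_nbr_add_val_lt (G := G) hpq h1 h2 x
  rw [hKu] at hKm
  have hKpos : 0 < K := by
    rw [hK, Finset.card_pos]
    exact ⟨y, mem_nbr.mpr (oG_adj_base hxy)⟩
  obtain ⟨N, hN⟩ : ∃ N, Fintype.card Ω = N + 1 := ⟨Fintype.card Ω - 1, by omega⟩
  obtain ⟨K', hK'⟩ : ∃ K', K = K' + 1 := ⟨K - 1, by omega⟩
  rw [hN] at hsum hKm hdom
  rw [hK'] at hsum hKm hcon
  simp only [Nat.add_sub_cancel] at hsum
  -- 4K ≤ n - 4 and (n-1)K ≤ (n-1)D + K(K-1), 3D < 2K
  have h9 : 4 * (K' + 1) + 3 ≤ N := by omega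
  nlinarith

end Cfsg.Agent.Helper13.Bab
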