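import Cfsg.Agent.Helper13.BabD

/-!
# Babai's minimal degree bound: the dominant case, continued (part E)
-/

set_option autoImplicit false

namespace Cfsg.Agent.Helper13.Bab

open scoped Classical

variable {G : Type*} {Ω : Type*} [Group G] [MulAction G Ω] [Fintype Ω]

variable (G) in
/-- Closed balls in the orbital graph of `(x,y)`. -/
noncomputable def oball (x y c : Ω) (s : ℕ) : Finset Ω :=
  Finset.univ.filter (fun w => (oG G x y).dist c w ≤ s)

theorem mem_oball {x y c w : Ω} {s : ℕ} : w ∈ oball G x y c s ↔ (oG G x y).dist c w ≤ s := by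
  simp [oball]

theorem oball_smul [MulAction.IsPreprimitive G Ω] (g : G) {x y : Ω} (hxy : x ≠ y) (c : Ω) (s : ℕ) :
    oball G x y (g • c) s = (oball G x y c s).map (MulAction.toPerm g).toEmbedding := by
  ext v
  rw [mem_oball, Finset.mem_map]
  constructor
  · intro h
    refine ⟨g⁻¹ • v, ?_, by simp⟩
    rw [mem_oball]
    have := oG_dist_smul (G := G) g⁻¹ hxy (g • c) v
    rw [inv_smul_smul] at this
    rw [this]
    exact h
  · rintro ⟨v', hv', rfl⟩
    rw [mem_oball] at hv'
    change (oG G x y).dist (g • c) (g • v') ≤ s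
    rw [oG_dist_smul (G := G) g hxy]
    exact hv'

theorem card_oball_eq [MulAction.IsPreprimitive G Ω] {x y : Ω} (hxy : x ≠ y) (c c' : Ω) (s : ℕ) :
    (oball G x y c s).card = (oball G x y c' s).card := by
  obtain ⟨g, rfl⟩ := MulAction.exists_smul_eq G c' c
  rw [oball_smul g hxy, Finset.card_map]

theorem oball_sdiff_subset [MulAction.IsPreprimitive G Ω] {x y : Ω} (hxy : x ≠ y) (u v : Ω) (s : ℕ) :
    oball G x y v s \ oball G x y u s ⊆ dF G u v := by
  intro z hz
  rw [Finset.mem_sdiff, mem_oball, mem_oball] at hz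
  apply mem_dF_of_dist_ne hxy
  omega

theorem two_mul_card_oball_sdiff_le [MulAction.IsPreprimitive G Ω] {x y : Ω} (hxy : x ≠ y)
    {u v : Ω} (hadj : (oG G x y).Adj u v) (s : ℕ) :
    2 * (oball G x y v s \ oball G x y u s).card ≤ dN G x y := by
  rw [← dN_of_adj hadj]
  have h1 := oball_sdiff_subset (G := G) hxy u v s
  have h2 := oball_sdiff_subset (G := G) hxy v u s
  rw [dF_comm] at h2
  have hdisj : Disjoint (oball G x y v s \ oball G x y u s) (oball G x y u s \ oball G x y v s) := by
    rw [Finset.disjoint_left]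
    intro z hz hz'
    rw [Finset.mem_sdiff] at hz hz'
    exact hz.2 hz'.1
  have h3 : (oball G x y v s \ oball G x y u s).card + (oball G x y u s \ oball G x y v s).card
      ≤ dN G u v := by
    rw [← Finset.card_union_of_disjoint hdisj]
    exact Finset.card_le_card (Finset.union_subset h1 h2)
  have h4 := Finset.card_sdiff_comm (card_oball_eq (G := G) hxy v u s)
  omega

omit [Fintype Ω] in
theorem dist_eq_of_SP [MulAction.IsPreprimitive G Ω] {x y : Ω} (hxy : x ≠ y) {p q a b : Ω}
    (h : SP G p q a b) : (oG G x y).dist a b = (oG G x y).dist p q := by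
  obtain ⟨g, rfl, rfl⟩ := h
  exact oG_dist_smul g hxy p q

/-- Step (b): the dominant valency is at most `K * D / 2`. -/
theorem two_mul_val_le [MulAction.IsPreprimitive G Ω] {x y p q : Ω} (hxy : x ≠ y) (hpq : p ≠ q) :
    2 * val G p q ≤ (nbr G x y x).card * dN G x y := by
  have hc := oG_connected (G := G) hxy
  set t := (oG G x y).dist p q with ht
  have htpos : 0 < t := hc.pos_dist_of_ne hpq
  have hsub : inb G p q x ⊆ (nbr G x y x).biUnion
      (fun v => oball G x y v (t - 1) \ oball G x y x (t - 1)) := by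
    intro w hw
    rw [mem_inb] at hw
    have h1 : (oG G x y).dist w x = t := dist_eq_of_SP hxy hw
    rw [SimpleGraph.dist_comm] at h1
    obtain ⟨p', hp'⟩ := hc.exists_walk_length_eq_dist x w
    have hlen : p'.length = t := hp'.trans h1
    have hadj : (oG G x y).Adj (p'.getVert 0) (p'.getVert 1) :=
      p'.adj_getVert_succ (by omega)
    rw [SimpleGraph.Walk.getVert_zero] at hadj
    have h2 := dist_getVert_le hc p' 1 (t - 1) (by omega)
    rw [show 1 + (t - 1) = p'.length by omega, SimpleGraph.Walk.getVert_length] at h2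
    rw [Finset.mem_biUnion]
    refine ⟨p'.getVert 1, mem_nbr.mpr hadj, ?_⟩
    rw [Finset.mem_sdiff, mem_oball, mem_oball]
    exact ⟨h2, by omega⟩
  have h3 := Finset.card_le_card hsub
  rw [card_inb] at h3
  have h4 := h3.trans Finset.card_biUnion_le
  have h5 : ∑ v ∈ nbr G x y x, 2 * (oball G x y v (t - 1) \ oball G x y x (t - 1)).card ≤
      ∑ _v ∈ nbr G x y x, dN G x y :=
    Finset.sum_le_sum (fun v hv => two_mul_card_oball_sdiff_le hxy (mem_nbr.mp hv) (t - 1))
  rw [← Finset.mul_sum, Finset.sum_const, smul_eq_mul] at h5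
  calc 2 * val G p q ≤ 2 * ∑ v ∈ nbr G x y x,
        (oball G x y v (t - 1) \ oball G x y x (t - 1)).card := Nat.mul_le_mul_left _ h4
    _ ≤ _ := h5

/-- Case B2: the pair `(x,y)` is not in the dominant orbital. -/
theorem card_le_sq_of_dominant [MulAction.IsPreprimitive G Ω] {x y p q : Ω}
    (hxy : x ≠ y) (hpq : p ≠ q) (h1 : ¬ SP G p q x y) (h2 : ¬ SP G p q y x)
    (hdom : 3 * Fintype.card Ω ≤ 4 * val G p q) :
    Fintype.card Ω ≤ dN G x y ^ 2 := by
  have h3 := two_mul_card_nbr_le_three_mul (G := G) hxy hpq h1 h2 hdom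
  have h4 := two_mul_val_le (G := G) (x := x) (y := y) hxy hpq
  nlinarith

variable (G) in
/-- Out-neighbours of `a` in the orbital of `(p,q)`. -/
noncomputable def onb (p q a : Ω) : Finset Ω := Finset.univ.filter (fun w => SP G p q a w)

theorem mem_onb {p q a w : Ω} : w ∈ onb G p q a ↔ SP G p q a w := by
  simp [onb]

theorem onb_smul (g : G) (p q a : Ω) :
    onb G p q (g • a) = (onb G p q a).map (MulAction.toPerm g).toEmbedding := by
  ext v
  rw [mem_onb, Finset.mem_map]
  constructor
  · intro h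
    refine ⟨g⁻¹ • v, ?_, by simp⟩
    rw [mem_onb]
    have := h.trans (SP.smul g⁻¹ (g • a) v)
    rwa [inv_smul_smul] at this
  · rintro ⟨v', hv', rfl⟩
    rw [mem_onb] at hv'
    exact hv'.trans (SP.smul g a v')

theorem card_onb_eq [MulAction.IsPretransitive G Ω] (p q a a' : Ω) :
    (onb G p q a).card = (onb G p q a').card := by
  obtain ⟨g, rfl⟩ := MulAction.exists_smul_eq G a' a
  rw [onb_smul, Finset.card_map]

/-- In- and out-valencies agree. -/
theorem card_onb [MulAction.IsPretransitive G Ω] (p q a : Ω) :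
    (onb G p q a).card = val G p q := by
  have h1 : ∑ a' : Ω, (onb G p q a').card = ∑ b : Ω, (inb G p q b).card := by
    unfold onb inb
    simp_rw [Finset.card_filter]
    rw [Finset.sum_comm]
  have h2 : ∑ a' : Ω, (onb G p q a').card = Fintype.card Ω * (onb G p q a).card := by
    rw [Finset.sum_congr rfl (fun a' _ => card_onb_eq (G := G) p q a' a), Finset.sum_const,
      Finset.card_univ, smul_eq_mul]
  have h3 : ∑ b : Ω, (inb G p q b).card = Fintype.card Ω * val G p q := by
    rw [Finset.sum_congr rfl (fun b _ => card_inb (G := G) p q b), Finset.sum_const,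
      Finset.card_univ, smul_eq_mul]
  rw [h2, h3] at h1
  have hpos : 0 < Fintype.card Ω := Fintype.card_pos_iff.mpr ⟨a⟩
  exact Nat.eq_of_mul_eq_mul_left hpos h1

/-- A dominant orbital is self-paired. -/
theorem selfPaired_of_dominant [MulAction.IsPretransitive G Ω] {p q : Ω} (hpq : p ≠ q)
    (hdom : 3 * Fintype.card Ω ≤ 4 * val G p q) : SP G p q q p := by
  have h1 : inb G p q q ⊆ Finset.univ.erase q := by
    intro w hw
    rw [mem_inb] at hw
    exact Finset.mem_erase.mpr ⟨hw.ne hpq, Finset.mem_univ _⟩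
  have h2 : onb G p q q ⊆ Finset.univ.erase q := by
    intro w hw
    rw [mem_onb] at hw
    exact Finset.mem_erase.mpr ⟨(hw.ne hpq).symm, Finset.mem_univ _⟩
  have h3 : (Finset.univ.erase q).card < (inb G p q q).card + (onb G p q q).card := by
    rw [card_inb, card_onb, Finset.card_erase_of_mem (Finset.mem_univ q), Finset.card_univ]
    have hpos : 0 < Fintype.card Ω := Fintype.card_pos_iff.mpr ⟨q⟩
    omega
  obtain ⟨w, hw⟩ := Finset.inter_nonempty_of_card_lt_card_add_card h1 h2 h3
  rw [Finset.mem_inter, mem_inb, mem_onb] at hw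
  exact hw.2.trans hw.1.symm.swap

omit [Fintype Ω] in
theorem SP_comm_of_selfPaired {p q : Ω} (hsp : SP G p q q p) {a b : Ω} (h : SP G p q a b) :
    SP G p q b a := hsp.trans h.swap

/-- Case B1: the pair `(x,y)` lies in the dominant orbital. -/
theorem card_le_of_mem_dominant [MulAction.IsPreprimitive G Ω] {x y p q a b : Ω}
    (hxy : x ≠ y) (hpq : p ≠ q) (hab : a ≠ b) (h1 : ¬ SP G p q a b) (h2 : ¬ SP G p q b a)
    (hdom : 3 * Fintype.card Ω ≤ 4 * val G p q) (hx : SP G p q x y ∨ SP G p q y x) :
    Fintype.card Ω ≤ 4 * dN G x y ^ 2 := by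
  have h3 := card_le_sq_of_dominant (G := G) hab hpq h1 h2 hdom
  have hsub : ∀ c, inb G p q c ⊆ nbr G x y c := by
    intro c w hw
    rw [mem_inb] at hw
    rw [mem_nbr]
    rcases hx with hx | hx
    · exact oG_adj_of_SP' hxy (hx.symm.trans hw)
    · exact oG_adj_of_SP hxy (hx.symm.trans hw).swap
  have h4 : (Finset.univ : Finset Ω).card < (inb G p q a).card + (inb G p q b).card := by
    rw [card_inb, card_inb, Finset.card_univ]
    have hpos : 0 < Fintype.card Ω := Fintype.card_pos_iff.mpr ⟨a⟩
    omega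
  obtain ⟨v, hv⟩ := Finset.inter_nonempty_of_card_lt_card_add_card
    (Finset.subset_univ _) (Finset.subset_univ _) h4
  rw [Finset.mem_inter] at hv
  have h5 : dN G a v = dN G x y := dN_of_adj (mem_nbr.mp (hsub a hv.1))
  have h6 : dN G v b = dN G x y := dN_of_adj (mem_nbr.mp (hsub b hv.2)).symm
  have h7 := dN_triangle (G := G) a v b
  rw [h5, h6] at h7
  nlinarith

/-- Babai's bound for primitive groups that are not doubly transitive. -/
theorem card_le_of_not_two_transitive [MulAction.IsPreprimitive G Ω]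
    (hnt : ∃ a b a' b' : Ω, a ≠ b ∧ a' ≠ b' ∧ ¬ SP G a b a' b') {x y : Ω} (hxy : x ≠ y) :
    Fintype.card Ω ≤ 4 * dN G x y ^ 2 := by
  by_cases hA : ∀ z, z ≠ x → 4 * val G x z < 3 * Fintype.card Ω
  · exact card_le_of_no_dominant hxy x hA
  push Not at hA
  obtain ⟨q, hq, hdom⟩ := hA
  have hpq : x ≠ q := hq.symm
  by_cases hx : SP G x q x y ∨ SP G x q y x
  · have hsp := selfPaired_of_dominant (G := G) hpq hdom
    obtain ⟨a, b, a', b', hab, hab', hn⟩ := hnt
    by_cases h1 : SP G x q a b
    · have h2 : ¬ SP G x q a' b' := fun h => hn (h1.symm.trans h)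
      have h3 : ¬ SP G x q b' a' := fun h => h2 (SP_comm_of_selfPaired hsp h)
      exact card_le_of_mem_dominant hxy hpq hab' h2 h3 hdom hx
    · have h3 : ¬ SP G x q b a := fun h => h1 (SP_comm_of_selfPaired hsp h)
      exact card_le_of_mem_dominant hxy hpq hab h1 h3 hdom hx
  · push Not at hx
    have := card_le_sq_of_dominant (G := G) hxy hpq hx.1 hx.2 hdom
    nlinarith

end Cfsg.Agent.Helper13.Bab
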