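import Cfsg.Agent.Helper13.BabA
import Cfsg.Agent.Helper61.Bochert

/-!
# Babai's minimal degree bound: the doubly transitive case (part F)
-/

set_option autoImplicit false

namespace Cfsg.Agent.Helper13.Bab

variable {G : Type*} {Ω : Type*} [Group G] [MulAction G Ω] [Fintype Ω] [DecidableEq Ω]

/-- In a group whose point stabiliser of `a` is transitive on the other points, a small set
avoiding `a` can be moved off itself by an element fixing `a`. -/
theorem exists_fix_disjoint [Fintype G] (a : Ω) (T : Finset Ω) (haT : a ∉ T)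
    (h2 : ∀ z z' : Ω, z ≠ a → z' ≠ a → ∃ h : G, h • a = a ∧ h • z = z')
    (hcard : T.card ^ 2 + 1 < Fintype.card Ω) :
    ∃ h : G, h • a = a ∧ ∀ t ∈ T, h • t ∉ T := by
  classical
  by_contra hcon
  push Not at hcon
  set Ga : Finset G := Finset.univ.filter (fun h : G => h • a = a) with hGa
  have hGa1 : (1 : G) ∈ Ga := by simp [hGa]
  -- N t t' = number of elements of Ga mapping t to t'
  set N : Ω → Ω → ℕ := fun t t' => (Ga.filter (fun h => h • t = t')).card with hN
  have hNconst : ∀ t t' t'' : Ω, t' ≠ a → t'' ≠ a → N t t' ≤ N t t'' := by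
    intro t t' t'' ht' ht''
    obtain ⟨k, hk1, hk2⟩ := h2 t' t'' ht' ht''
    apply Finset.card_le_card_of_injOn (fun h => k * h)
    · intro h hh
      have hh' := Finset.mem_coe.mp hh
      rw [Finset.mem_filter, hGa, Finset.mem_filter] at hh'
      rw [Finset.mem_coe, Finset.mem_filter, hGa, Finset.mem_filter]
      exact ⟨⟨Finset.mem_univ _, by rw [mul_smul, hh'.1.2, hk1]⟩, by rw [mul_smul, hh'.2, hk2]⟩
    · intro h _ h' _ hhh
      exact mul_left_cancel hhh
  have hNsum : ∀ t : Ω, t ≠ a → Ga.card = ∑ t' ∈ Finset.univ.erase a, N t t' := by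
    intro t ht
    apply Finset.card_eq_sum_card_fiberwise
    intro h hh
    have hh' : h • a = a := by
      have := Finset.mem_coe.mp hh
      simpa [hGa] using this
    rw [Finset.mem_coe, Finset.mem_erase]
    refine ⟨?_, Finset.mem_univ _⟩
    intro hc
    apply ht
    rw [← hh'] at hc
    exact MulAction.injective h hc
  have hNeq : ∀ t t' : Ω, t ≠ a → t' ≠ a → Ga.card = (Fintype.card Ω - 1) * N t t' := by
    intro t t' ht ht'
    rw [hNsum t ht]
    have : ∀ t'' ∈ Finset.univ.erase a, N t t'' = N t t' := by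
      intro t'' ht''
      have h3 : t'' ≠ a := Finset.ne_of_mem_erase ht''
      exact le_antisymm (hNconst t t'' t' h3 ht') (hNconst t t' t'' ht' h3)
    rw [Finset.sum_congr rfl this, Finset.sum_const, Finset.card_erase_of_mem (Finset.mem_univ a),
      Finset.card_univ, smul_eq_mul]
  -- double counting
  have hcount : Ga.card ≤ ∑ h ∈ Ga, (T.filter (fun t => h • t ∈ T)).card := by
    have : ∀ h ∈ Ga, 1 ≤ (T.filter (fun t => h • t ∈ T)).card := by
      intro h hh
      simp only [hGa, Finset.mem_filter, Finset.mem_univ, true_and] at hh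
      obtain ⟨t, ht, ht'⟩ := hcon h hh
      exact Finset.card_pos.mpr ⟨t, Finset.mem_filter.mpr ⟨ht, ht'⟩⟩
    have h3 := Finset.card_nsmul_le_sum Ga _ 1 this
    simpa using h3
  have hswap : ∑ h ∈ Ga, (T.filter (fun t => h • t ∈ T)).card = ∑ t ∈ T, ∑ t' ∈ T, N t t' := by
    have h3 : ∀ h ∈ Ga, (T.filter (fun t => h • t ∈ T)).card =
        ∑ t ∈ T, ∑ t' ∈ T, if h • t = t' then 1 else 0 := by
      intro h _
      rw [Finset.card_filter]
      apply Finset.sum_congr rfl
      intro t _
      rw [Finset.sum_ite_eq]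
    rw [Finset.sum_congr rfl h3, Finset.sum_comm]
    apply Finset.sum_congr rfl
    intro t _
    rw [Finset.sum_comm]
    apply Finset.sum_congr rfl
    intro t' _
    rw [hN]
    simp only
    rw [Finset.card_filter]
  rcases T.eq_empty_or_nonempty with hT | ⟨t0, ht0⟩
  · obtain ⟨t, ht, _⟩ := hcon 1 (one_smul _ _)
    rw [hT] at ht
    exact absurd ht (Finset.notMem_empty t)
  have ht0a : t0 ≠ a := fun h => haT (h ▸ ht0)
  set c := N t0 t0 with hc
  have hNall : ∀ t ∈ T, ∀ t' ∈ T, N t t' = c := by
    intro t ht t' ht'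
    have hta : t ≠ a := fun h => haT (h ▸ ht)
    have ht'a : t' ≠ a := fun h => haT (h ▸ ht')
    have h3 := hNeq t t' hta ht'a
    have h4 := hNeq t0 t0 ht0a ht0a
    have hn : 0 < Fintype.card Ω - 1 := by omega
    exact Nat.eq_of_mul_eq_mul_left hn (h3.symm.trans h4)
  have hsum : ∑ t ∈ T, ∑ t' ∈ T, N t t' = T.card ^ 2 * c := by
    rw [Finset.sum_congr rfl (fun t ht => Finset.sum_congr rfl (fun t' ht' => hNall t ht t' ht'))]
    simp only [Finset.sum_const, smul_eq_mul]
    ring
  rw [hswap, hsum, hNeq t0 t0 ht0a ht0a] at hcount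
  have hcpos : 0 < c := by
    have h4 := hNeq t0 t0 ht0a ht0a
    have h5 : 0 < Ga.card := Finset.card_pos.mpr ⟨1, hGa1⟩
    rcases Nat.eq_zero_or_pos c with h0 | h0
    · rw [← hc, h0, mul_zero] at h4
      omega
    · exact h0
  have := Nat.le_of_mul_le_mul_right hcount hcpos
  omega

/-- Doubly transitive case: a primitive group not containing the alternating group has no
non-identity element with small support. -/
theorem card_le_of_two_transitive [Finite G] (hprim : MulAction.IsPreprimitive G Ω)
    (hA : ¬ alternatingGroup Ω ≤ (MulAction.toPermHom G Ω).range)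
    (h2t : ∀ a b a' b' : Ω, a ≠ b → a' ≠ b' → SP G a b a' b')
    (g : G) (a : Ω) (ha : g • a ≠ a) :
    Fintype.card Ω ≤ (Finset.univ.filter (fun z : Ω => g • z ≠ z)).card ^ 2 + 1 := by
  classical
  have : Fintype G := Fintype.ofFinite G
  by_contra hcon
  push Not at hcon
  set S : Finset Ω := Finset.univ.filter (fun z : Ω => g • z ≠ z) with hS
  have haS : a ∈ S := by simp [hS, ha]
  set T : Finset Ω := S.erase a with hT
  have hTS : T.card ≤ S.card := Finset.card_le_card (Finset.erase_subset _ _)
  have hcard : T.card ^ 2 + 1 < Fintype.card Ω := by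
    have : T.card ^ 2 ≤ S.card ^ 2 := Nat.pow_le_pow_left hTS 2
    omega
  have h2 : ∀ z z' : Ω, z ≠ a → z' ≠ a → ∃ h : G, h • a = a ∧ h • z = z' := by
    intro z z' hz hz'
    exact h2t a z a z' hz.symm hz'.symm
  obtain ⟨h, hha, hhT⟩ := exists_fix_disjoint (G := G) a T (Finset.notMem_erase a S) h2 hcard
  -- the two permutations
  set x : Equiv.Perm Ω := MulAction.toPermHom G Ω g with hx
  set y : Equiv.Perm Ω := MulAction.toPermHom G Ω (h⁻¹ * g * h) with hy
  have hxa : ∀ ω, x ω = g • ω := fun ω => rfl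
  have hya : ∀ ω, y ω = h⁻¹ • g • h • ω := by
    intro ω
    change (h⁻¹ * g * h) • ω = _
    rw [mul_smul, mul_smul]
  have h3 : (x * y * x⁻¹ * y⁻¹).IsThreeCycle := by
    apply Cfsg.Agent.Helper61.Bochert.isThreeCycle_commutator x y a
    · rw [hxa]; exact ha
    · rw [hya, hha]
      intro hc
      apply ha
      have : h • (h⁻¹ • g • a) = h • a := congrArg (fun z => h • z) hc
      rw [smul_inv_smul] at this
      rw [this, hha]
    · intro ω hxω hyω
      by_contra hωa
      rw [hxa] at hxω
      have hωT : ω ∈ T := by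
        rw [hT, Finset.mem_erase]
        exact ⟨hωa, by simp [hS, hxω]⟩
      apply hhT ω hωT
      rw [hT, Finset.mem_erase]
      refine ⟨?_, ?_⟩
      · intro hc
        apply hωa
        rw [← hha] at hc
        exact MulAction.injective h hc
      · simp only [hS, Finset.mem_filter, Finset.mem_univ, true_and]
        intro hc
        apply hyω
        rw [hya, hc, inv_smul_smul]
  have hmem : x * y * x⁻¹ * y⁻¹ ∈ (MulAction.toPermHom G Ω).range := by
    refine ⟨g * (h⁻¹ * g * h) * g⁻¹ * (h⁻¹ * g * h)⁻¹, ?_⟩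
    rw [hx, hy, map_mul, map_mul, map_mul, map_inv, map_inv]
  apply hA
  have hprim' : MulAction.IsPreprimitive (MulAction.toPermHom G Ω).range Ω := by
    have := hprim
    let f : Ω →ₑ[(MulAction.toPermHom G Ω).rangeRestrict] Ω :=
      { toFun := id
        map_smul' := fun g ω => rfl }
    exact MulAction.IsPreprimitive.of_surjective (f := f) Function.surjective_id
  exact Equiv.Perm.alternatingGroup_le_of_isPreprimitive_of_isThreeCycle_mem hprim' h3 hmem

end Cfsg.Agent.Helper13.Bab
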