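import Mathlib

set_option autoImplicit false

namespace Cfsg.Agent.Helper13

open Matrix

variable {F : Type*} [Field F] {ι : Type*} [Fintype ι] [DecidableEq ι]

/-- the Gram matrix of the polar form -/
noncomputable def polarMatrix (Q : QuadraticForm F (ι → F)) : Matrix ι ι F :=
  LinearMap.BilinForm.toMatrix' (QuadraticMap.polarBilin Q)

theorem transpose_mul_polarMatrix_mul_of_isometry (Q₁ Q₂ : QuadraticForm F (ι → F))
    (A : Matrix ι ι F) (hA : ∀ u, Q₂ (A *ᵥ u) = Q₁ u) :
    Aᵀ * polarMatrix Q₂ * A = polarMatrix Q₁ := by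
  have h := LinearMap.BilinForm.toMatrix'_comp (QuadraticMap.polarBilin Q₂)
    (Matrix.toLin' A) (Matrix.toLin' A)
  rw [LinearMap.toMatrix'_toLin'] at h
  rw [polarMatrix, polarMatrix, ← h]
  congr 1
  refine LinearMap.ext fun x => LinearMap.ext fun y => ?_
  simp only [LinearMap.BilinForm.comp_apply, Matrix.toLin'_apply,
    QuadraticMap.polarBilin_apply_apply]
  simp only [QuadraticMap.polar, ← Matrix.mulVec_add, hA]

theorem polarMatrix_weightedSumSquares (w : ι → F) :
    polarMatrix (QuadraticMap.weightedSumSquares F w) = Matrix.diagonal (fun i => 2 * w i) := by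
  have : QuadraticMap.polarBilin (QuadraticMap.weightedSumSquares F w)
      = Matrix.toBilin' (Matrix.diagonal (fun i => 2 * w i)) := by
    refine LinearMap.ext fun x => LinearMap.ext fun y => ?_
    rw [QuadraticMap.polarBilin_apply_apply, Matrix.toBilin'_apply']
    simp only [QuadraticMap.polar, QuadraticMap.weightedSumSquares_apply, Pi.add_apply,
      smul_eq_mul, dotProduct, Matrix.mulVec_diagonal]
    rw [← Finset.sum_sub_distrib, ← Finset.sum_sub_distrib]
    refine Finset.sum_congr rfl fun i _ => ?_
    ring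
  rw [polarMatrix, this, LinearMap.BilinForm.toMatrix'_toBilin']

theorem det_polarMatrix_weightedSumSquares (w : ι → F) :
    (polarMatrix (QuadraticMap.weightedSumSquares F w)).det = ∏ i, (2 * w i) := by
  rw [polarMatrix_weightedSumSquares, Matrix.det_diagonal]

/-- If two diagonal forms are equivalent then the ratio of their discriminants is a square. -/
theorem prod_eq_sq_mul_prod_of_equivalent (w₁ w₂ : ι → F)
    (h : (QuadraticMap.weightedSumSquares F w₁).Equivalent (QuadraticMap.weightedSumSquares F w₂)) :
    ∃ d : F, ∏ i, (2 * w₁ i) = d * d * ∏ i, (2 * w₂ i) := by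
  obtain ⟨e⟩ := h
  set A : Matrix ι ι F := LinearMap.toMatrix' (e.toLinearEquiv : (ι → F) →ₗ[F] (ι → F)) with hA
  have hAe : ∀ u, A *ᵥ u = e u := by
    intro u
    rw [hA, ← Matrix.toLin'_apply, Matrix.toLin'_toMatrix']
    rfl
  have h1 := transpose_mul_polarMatrix_mul_of_isometry
    (QuadraticMap.weightedSumSquares F w₁) (QuadraticMap.weightedSumSquares F w₂) A
    (fun u => by rw [hAe]; exact e.map_app u)
  have h2 := congrArg Matrix.det h1
  rw [Matrix.det_mul, Matrix.det_mul, Matrix.det_transpose, det_polarMatrix_weightedSumSquares,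
    det_polarMatrix_weightedSumSquares] at h2
  exact ⟨A.det, by rw [← h2]; ring⟩

end Cfsg.Agent.Helper13
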