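import Mathlib
import Cfsg.Prelude.Def_GeometricClasses
import Cfsg.Prelude.Def_ClassicalGeometry

/-!
# Definitions for S5975 / S5976 (elements of prime order of `PSp_{2d}(q)` and the normalizers of
field subalgebras)
-/

set_option autoImplicit false

namespace Cfsg.Agent.Helper13.FExt

open Matrix

variable {F : Type*} [Field F] {ι : Type} [Fintype ι] [DecidableEq ι]

/-- the matrix `y` commutes with every element of the subalgebra `K` -/
def Centralizes (K : Subalgebra F (Matrix ι ι F)) (y : Matrix ι ι F) : Prop :=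
  ∀ a ∈ K, y * a = a * y

/-- the subspace `W` is invariant under every element of `K` -/
def KInv (K : Subalgebra F (Matrix ι ι F)) (W : Submodule F (ι → F)) : Prop :=
  ∀ a ∈ K, ∀ w ∈ W, a *ᵥ w ∈ W

/-- the restriction of the form `f` to `W` is nondegenerate -/
def NondegOn (f : (ι → F) → (ι → F) → F) (W : Submodule F (ι → F)) : Prop :=
  ∀ w ∈ W, (∀ w' ∈ W, f w w' = 0) → w = 0

/-- the support `(y - 1) V` of a matrix -/
def supp (y : Matrix ι ι F) : Submodule F (ι → F) := LinearMap.range (y - 1).mulVecLin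

/-- the fixed space `ker (y - 1)` of a matrix -/
def fixSp (y : Matrix ι ι F) : Submodule F (ι → F) := LinearMap.ker (y - 1).mulVecLin

/-- "every element of order `r` of `PSp_{2d}(F)` is `Sp`-conjugate into `M`" -/
def AllFix (d r : ℕ) (M : Subgroup (GL (Fin d ⊕ Fin d) F)) : Prop :=
  ∀ x ∈ Cfsg.spGL d F,
    (∃ z : F, ((x ^ r : GL (Fin d ⊕ Fin d) F) : Matrix (Fin d ⊕ Fin d) (Fin d ⊕ Fin d) F) =
      z • (1 : Matrix (Fin d ⊕ Fin d) (Fin d ⊕ Fin d) F)) →
    (∀ z : F, (x : Matrix (Fin d ⊕ Fin d) (Fin d ⊕ Fin d) F) ≠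
      z • (1 : Matrix (Fin d ⊕ Fin d) (Fin d ⊕ Fin d) F)) →
    ∃ g ∈ Cfsg.spGL d F, g⁻¹ * x * g ∈ M

end Cfsg.Agent.Helper13.FExt
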