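import Mathlib
import Cfsg.Agent.Helper13.FExtDefs
import Cfsg.Agent.Helper13.SpMax1
import Cfsg.Agent.Helper43.SpOrthA

/-!
# (I1b) of S5975, abstract part: a semilinear identification `L^{2n} ≃ F^{2d}` embeds
`Sp_{2n}(L)` into the normalizer of `K`
-/

set_option autoImplicit false

namespace Cfsg.Agent.Helper13.FExtI1b

open Matrix Cfsg Cfsg.Geo

variable {F : Type*} [Field F] {L : Type*} [Field L] [Algebra F L] {n d : ℕ}

/-- transport of a matrix over `L` along `Ψ` -/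
noncomputable def theta (Ψ : (Fin n ⊕ Fin n → L) ≃ₗ[F] (Fin d ⊕ Fin d → F))
    (M : Matrix (Fin n ⊕ Fin n) (Fin n ⊕ Fin n) L) :
    Matrix (Fin d ⊕ Fin d) (Fin d ⊕ Fin d) F :=
  LinearMap.toMatrix' ((Ψ : (Fin n ⊕ Fin n → L) →ₗ[F] (Fin d ⊕ Fin d → F)) ∘ₗ
    (M.mulVecLin.restrictScalars F) ∘ₗ
    (Ψ.symm : (Fin d ⊕ Fin d → F) →ₗ[F] (Fin n ⊕ Fin n → L)))

theorem theta_mulVec (Ψ : (Fin n ⊕ Fin n → L) ≃ₗ[F] (Fin d ⊕ Fin d → F))
    (M : Matrix (Fin n ⊕ Fin n) (Fin n ⊕ Fin n) L) (c : Fin n ⊕ Fin n → L) :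
    theta Ψ M *ᵥ Ψ c = Ψ (M *ᵥ c) := by
  unfold theta
  rw [LinearMap.toMatrix'_mulVec]
  simp

theorem theta_mulVec' (Ψ : (Fin n ⊕ Fin n → L) ≃ₗ[F] (Fin d ⊕ Fin d → F))
    (M : Matrix (Fin n ⊕ Fin n) (Fin n ⊕ Fin n) L) (v : Fin d ⊕ Fin d → F) :
    theta Ψ M *ᵥ v = Ψ (M *ᵥ Ψ.symm v) := by
  have := theta_mulVec Ψ M (Ψ.symm v)
  rwa [LinearEquiv.apply_symm_apply] at this

theorem mat_ext_mulVec {ι : Type*} [Fintype ι] [DecidableEq ι] {R : Type*} [CommRing R]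
    {A B : Matrix ι ι R} (h : ∀ v, A *ᵥ v = B *ᵥ v) : A = B := by
  ext i j
  have := congrFun (h (Pi.single j 1)) i
  simpa using this

theorem theta_one (Ψ : (Fin n ⊕ Fin n → L) ≃ₗ[F] (Fin d ⊕ Fin d → F)) : theta Ψ 1 = 1 := by
  apply mat_ext_mulVec
  intro v
  rw [theta_mulVec', Matrix.one_mulVec, Matrix.one_mulVec, LinearEquiv.apply_symm_apply]

theorem theta_mul (Ψ : (Fin n ⊕ Fin n → L) ≃ₗ[F] (Fin d ⊕ Fin d → F))
    (M N : Matrix (Fin n ⊕ Fin n) (Fin n ⊕ Fin n) L) :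
    theta Ψ (M * N) = theta Ψ M * theta Ψ N := by
  apply mat_ext_mulVec
  intro v
  rw [← Matrix.mulVec_mulVec, theta_mulVec' Ψ N, theta_mulVec, theta_mulVec',
    Matrix.mulVec_mulVec]

/-- `theta` as a monoid homomorphism -/
noncomputable def thetaHom (Ψ : (Fin n ⊕ Fin n → L) ≃ₗ[F] (Fin d ⊕ Fin d → F)) :
    Matrix (Fin n ⊕ Fin n) (Fin n ⊕ Fin n) L →* Matrix (Fin d ⊕ Fin d) (Fin d ⊕ Fin d) F where
  toFun := theta Ψ
  map_one' := theta_one Ψ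
  map_mul' := theta_mul Ψ

theorem thetaHom_injective (Ψ : (Fin n ⊕ Fin n → L) ≃ₗ[F] (Fin d ⊕ Fin d → F)) :
    Function.Injective (thetaHom Ψ) := by
  intro M N h
  apply mat_ext_mulVec
  intro c
  have h1 : theta Ψ M *ᵥ Ψ c = theta Ψ N *ᵥ Ψ c := by
    have : theta Ψ M = theta Ψ N := h
    rw [this]
  rw [theta_mulVec, theta_mulVec] at h1
  exact Ψ.injective h1


/-- a matrix commuting with every element of `K` normalizes `K` -/
theorem mem_normalizer_of_commute {ι : Type} [Fintype ι] [DecidableEq ι]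
    (K : Subalgebra F (Matrix ι ι F)) (g : GL ι F)
    (hg : ∀ m ∈ K, (g : Matrix ι ι F) * m = m * (g : Matrix ι ι F)) :
    g ∈ subalgebraNormalizer K := by
  have hgi : (g : Matrix ι ι F) * ((g⁻¹ : GL ι F) : Matrix ι ι F) = 1 := by
    rw [← Units.val_mul, mul_inv_cancel, Units.val_one]
  have hig : ((g⁻¹ : GL ι F) : Matrix ι ι F) * (g : Matrix ι ι F) = 1 := by
    rw [← Units.val_mul, inv_mul_cancel, Units.val_one]
  intro m
  constructor
  · intro hm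
    rw [hg m hm, mul_assoc, hgi, mul_one]
    exact hm
  · intro hm
    have h1 := hg _ hm
    -- g * (g m g⁻¹) = (g m g⁻¹) * g = g m
    have h2 : (g : Matrix ι ι F) * m * ((g⁻¹ : GL ι F) : Matrix ι ι F) = m := by
      have h3 : (g : Matrix ι ι F) * ((g : Matrix ι ι F) * m * ((g⁻¹ : GL ι F) : Matrix ι ι F)) =
          (g : Matrix ι ι F) * m := by
        rw [h1, mul_assoc, mul_assoc, hig, mul_one]
      have h4 := congrArg (fun X => ((g⁻¹ : GL ι F) : Matrix ι ι F) * X) h3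
      simp only [← mul_assoc, hig, one_mul] at h4
      simpa [mul_assoc] using h4
    rw [← h2]
    exact hm

variable (K : Subalgebra F (Matrix (Fin d ⊕ Fin d) (Fin d ⊕ Fin d) F))
  (act : L → Matrix (Fin d ⊕ Fin d) (Fin d ⊕ Fin d) F)
  (Ψ : (Fin n ⊕ Fin n → L) ≃ₗ[F] (Fin d ⊕ Fin d → F))

/-- the image of `Sp_{2n}(L)` lies in `Sp_{2d}(F)` -/
theorem thetaGL_mem_spGL (φ : L →ₗ[F] F)
    (hφ : ∀ c c' : Fin n ⊕ Fin n → L, sympForm d F (Ψ c) (Ψ c') = φ (sympForm n L c c'))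
    (M : GL (Fin n ⊕ Fin n) L) (hM : M ∈ spGL n L) :
    Units.map (thetaHom Ψ) M ∈ spGL d F := by
  rw [Cfsg.Agent.Helper13.mem_spGL_iff]
  intro u v
  obtain ⟨c, rfl⟩ := Ψ.surjective u
  obtain ⟨c', rfl⟩ := Ψ.surjective v
  have h1 : ((Units.map (thetaHom Ψ) M : GL (Fin d ⊕ Fin d) F) :
      Matrix (Fin d ⊕ Fin d) (Fin d ⊕ Fin d) F) = theta Ψ (M : Matrix _ _ L) := rfl
  rw [h1, theta_mulVec, theta_mulVec, hφ, hφ, (Cfsg.Agent.Helper13.mem_spGL_iff M).mp hM]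

/-- the image of `GL_{2n}(L)` normalizes `K` -/
theorem thetaGL_mem_normalizer (hact : ∀ m ∈ K, ∃ a : L, act a = m)
    (hΨ : ∀ (a : L) (c : Fin n ⊕ Fin n → L), Ψ (a • c) = act a *ᵥ Ψ c)
    (M : GL (Fin n ⊕ Fin n) L) :
    Units.map (thetaHom Ψ) M ∈ subalgebraNormalizer K := by
  apply mem_normalizer_of_commute
  intro m hm
  obtain ⟨a, rfl⟩ := hact m hm
  have h1 : ((Units.map (thetaHom Ψ) M : GL (Fin d ⊕ Fin d) F) :
      Matrix (Fin d ⊕ Fin d) (Fin d ⊕ Fin d) F) = theta Ψ (M : Matrix _ _ L) := rfl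
  rw [h1]
  apply mat_ext_mulVec
  intro v
  obtain ⟨c, rfl⟩ := Ψ.surjective v
  rw [← Matrix.mulVec_mulVec, ← Matrix.mulVec_mulVec, ← hΨ, theta_mulVec, theta_mulVec, ← hΨ,
    Matrix.mulVec_smul]

/-- the abstract form of (I1b) -/
theorem card_spGL_dvd [Fintype L] (hact : ∀ m ∈ K, ∃ a : L, act a = m)
    (hΨ : ∀ (a : L) (c : Fin n ⊕ Fin n → L), Ψ (a • c) = act a *ᵥ Ψ c) (φ : L →ₗ[F] F)
    (hφ : ∀ c c' : Fin n ⊕ Fin n → L, sympForm d F (Ψ c) (Ψ c') = φ (sympForm n L c c')) :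
    Nat.card ↥(spGL n L) ∣ Nat.card ↥((subalgebraNormalizer K).subgroupOf (spGL d F)) := by
  let Θ : ↥(spGL n L) →* ↥((subalgebraNormalizer K).subgroupOf (spGL d F)) :=
    { toFun := fun M => ⟨⟨Units.map (thetaHom Ψ) M.1, thetaGL_mem_spGL Ψ φ hφ M.1 M.2⟩,
        thetaGL_mem_normalizer K act Ψ hact hΨ M.1⟩
      map_one' := by
        apply Subtype.ext
        apply Subtype.ext
        simp
      map_mul' := by
        intro M N
        apply Subtype.ext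
        apply Subtype.ext
        simp }
  apply Subgroup.card_dvd_of_injective Θ
  intro M N h
  apply Subtype.ext
  have h1 : Units.map (thetaHom Ψ) M.1 = Units.map (thetaHom Ψ) N.1 := by
    have := congrArg (fun X => (X.1.1 : GL (Fin d ⊕ Fin d) F)) h
    exact this
  apply Units.ext
  apply thetaHom_injective Ψ
  have := congrArg (fun X : GL (Fin d ⊕ Fin d) F => X.val) h1
  exact this

end Cfsg.Agent.Helper13.FExtI1b
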