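import Mathlib
import Cfsg.Agent.Helper13.FExtI1bA

/-!
# (I1b) of S5975, concrete part
-/

set_option autoImplicit false
set_option linter.style.haveILetI false

namespace Cfsg.Agent.Helper13.FExtI1b

open Matrix Cfsg Cfsg.Geo

variable {F : Type*} [Field F]

/-- the entries of `J` over an `F`-algebra come from `F` -/
theorem J_algebraMap {L : Type*} [Field L] [Algebra F L] (n : ℕ) (s t : Fin n ⊕ Fin n) :
    Matrix.J (Fin n) L s t = algebraMap F L (Matrix.J (Fin n) F s t) := by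
  rcases s with i | i <;> rcases t with j | j <;>
    simp [Matrix.J, Matrix.fromBlocks, Matrix.one_apply, Matrix.neg_apply] <;>
    split_ifs <;> simp

/-- `sympForm` as a double sum -/
theorem sympForm_eq_double_sum {R : Type*} [CommRing R] (n : ℕ) (u v : Fin n ⊕ Fin n → R) :
    sympForm n R u v = ∑ s, ∑ t, u s * Matrix.J (Fin n) R s t * v t := by
  unfold sympForm
  simp only [dotProduct, Matrix.mulVec, Finset.mul_sum, mul_assoc]


theorem sympForm_sum_left {R : Type*} [CommRing R] (n : ℕ) {α : Type*} (S : Finset α)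
    (u : α → (Fin n ⊕ Fin n → R)) (v : Fin n ⊕ Fin n → R) :
    sympForm n R (∑ s ∈ S, u s) v = ∑ s ∈ S, sympForm n R (u s) v := by
  unfold sympForm
  rw [sum_dotProduct]

theorem sympForm_sum_right {R : Type*} [CommRing R] (n : ℕ) {α : Type*} (S : Finset α)
    (u : Fin n ⊕ Fin n → R) (v : α → (Fin n ⊕ Fin n → R)) :
    sympForm n R u (∑ s ∈ S, v s) = ∑ s ∈ S, sympForm n R u (v s) := by
  unfold sympForm
  rw [Matrix.mulVec_sum, dotProduct_sum]


/-- (I1b) `Sp_{2n}(q^k)` embeds into the normalizer -/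
theorem card_dvd_of_basis [Fintype F] (q : ℕ) (hq : Fintype.card F = q) (d k : ℕ) (hk : 0 < k)
    (K : Subalgebra F (Matrix (Fin d ⊕ Fin d) (Fin d ⊕ Fin d) F)) (hK : IsFieldSubalgebra k K)
    (n : ℕ) (φ : ↥K →ₗ[F] F) (b : Fin n ⊕ Fin n → (Fin d ⊕ Fin d → F))
    (h1 : ∀ v : Fin d ⊕ Fin d → F, ∃! c : Fin n ⊕ Fin n → ↥K,
        v = ∑ s, (c s : Matrix (Fin d ⊕ Fin d) (Fin d ⊕ Fin d) F) *ᵥ b s)
    (h2 : ∀ a : ↥K, (∀ a' : ↥K, φ (a * a') = 0) → a = 0)
    (h3 : ∀ (a a' : ↥K) (s t : Fin n ⊕ Fin n),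
        sympForm d F ((a : Matrix (Fin d ⊕ Fin d) (Fin d ⊕ Fin d) F) *ᵥ b s)
          ((a' : Matrix (Fin d ⊕ Fin d) (Fin d ⊕ Fin d) F) *ᵥ b t) =
          φ (a * a') * Matrix.J (Fin n) F s t) :
    n * k = d ∧
      (q ^ k) ^ (n ^ 2) * ∏ i ∈ Finset.range n, ((q ^ k) ^ (2 * (i + 1)) - 1) ∣
        Nat.card ↥((subalgebraNormalizer K).subgroupOf (spGL d F)) := by
  classical
  have hnt : Nontrivial ↥K := by
    by_contra hnt
    rw [not_nontrivial_iff_subsingleton] at hnt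
    have := Module.finrank_zero_of_subsingleton (R := F) (M := ↥K)
    rw [hK.finrank_eq] at this
    omega
  have hF : IsField ↥K :=
    { exists_pair_ne := ⟨0, 1, zero_ne_one⟩
      mul_comm := fun a b => Subtype.ext (hK.comm a.1 a.2 b.1 b.2)
      mul_inv_cancel := fun {a} ha => by
        obtain ⟨b, hb, hab⟩ := hK.inv a.1 a.2 (fun h => ha (Subtype.ext h))
        exact ⟨⟨b, hb⟩, Subtype.ext hab⟩ }
  letI : Field ↥K := hF.toField
  haveI : Finite ↥K := Finite.of_injective (fun a : ↥K => a.1) Subtype.val_injective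
  letI : Fintype ↥K := Fintype.ofFinite _
  have hcardK : Fintype.card ↥K = q ^ k := by
    rw [Module.card_eq_pow_finrank (K := F) (V := ↥K), hq, hK.finrank_eq]
  -- the identification
  let Ψ₀ : (Fin n ⊕ Fin n → ↥K) →ₗ[F] (Fin d ⊕ Fin d → F) :=
    { toFun := fun c => ∑ s, (c s : Matrix (Fin d ⊕ Fin d) (Fin d ⊕ Fin d) F) *ᵥ b s
      map_add' := by
        intro c c'
        simp only [Pi.add_apply, Subalgebra.coe_add, Matrix.add_mulVec, Finset.sum_add_distrib]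
      map_smul' := by
        intro z c
        simp only [Pi.smul_apply, Subalgebra.coe_smul, Matrix.smul_mulVec, Finset.smul_sum,
          RingHom.id_apply] }
  have hΨ₀ : ∀ c, Ψ₀ c = ∑ s, (c s : Matrix (Fin d ⊕ Fin d) (Fin d ⊕ Fin d) F) *ᵥ b s :=
    fun c => rfl
  have hbij : Function.Bijective Ψ₀ := by
    constructor
    · intro c c' h
      obtain ⟨c₀, -, huniq⟩ := h1 (Ψ₀ c)
      rw [huniq c (hΨ₀ c), huniq c' (by rw [h, hΨ₀ c'])]
    · intro v
      obtain ⟨c, hc, -⟩ := h1 v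
      exact ⟨c, (hΨ₀ c).trans hc.symm⟩
  let Ψ : (Fin n ⊕ Fin n → ↥K) ≃ₗ[F] (Fin d ⊕ Fin d → F) := LinearEquiv.ofBijective Ψ₀ hbij
  have hΨc : ∀ c, Ψ c = ∑ s, (c s : Matrix (Fin d ⊕ Fin d) (Fin d ⊕ Fin d) F) *ᵥ b s :=
    fun c => rfl
  -- the count
  have hq2 : 2 ≤ q := by
    rw [← hq]
    exact Fintype.one_lt_card
  have hnk : n * k = d := by
    have hc := Fintype.card_congr Ψ.toEquiv
    rw [Fintype.card_fun, Fintype.card_fun, hcardK, hq, Fintype.card_sum, Fintype.card_sum,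
      Fintype.card_fin, Fintype.card_fin, ← pow_mul] at hc
    have := Nat.pow_right_injective hq2 hc
    have h' : k * (n + n) = 2 * (n * k) := by ring
    omega
  refine ⟨hnk, ?_⟩
  have hact : ∀ m ∈ K, ∃ a : ↥K, (a : Matrix (Fin d ⊕ Fin d) (Fin d ⊕ Fin d) F) = m :=
    fun m hm => ⟨⟨m, hm⟩, rfl⟩
  have hΨs : ∀ (a : ↥K) (c : Fin n ⊕ Fin n → ↥K),
      Ψ (a • c) = (a : Matrix (Fin d ⊕ Fin d) (Fin d ⊕ Fin d) F) *ᵥ Ψ c := by
    intro a c
    rw [hΨc, hΨc, Matrix.mulVec_sum]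
    refine Finset.sum_congr rfl fun s _ => ?_
    rw [Matrix.mulVec_mulVec]
    rfl
  have hφ : ∀ c c' : Fin n ⊕ Fin n → ↥K,
      sympForm d F (Ψ c) (Ψ c') = φ (sympForm n ↥K c c') := by
    intro c c'
    rw [hΨc, hΨc, sympForm_sum_left, sympForm_eq_double_sum, map_sum]
    refine Finset.sum_congr rfl fun s _ => ?_
    rw [sympForm_sum_right, map_sum]
    refine Finset.sum_congr rfl fun t _ => ?_
    rw [h3, J_algebraMap (F := F) (L := ↥K) n s t]
    have : c s * (algebraMap F ↥K) (Matrix.J (Fin n) F s t) * c' t =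
        (Matrix.J (Fin n) F s t) • (c s * c' t) := by
      rw [Algebra.smul_def]
      ring
    rw [this, map_smul, smul_eq_mul, mul_comm]
  have hdvd := card_spGL_dvd K (fun a : ↥K => (a : Matrix (Fin d ⊕ Fin d) (Fin d ⊕ Fin d) F)) Ψ
    hact hΨs φ hφ
  rw [Cfsg.Agent.Helper43.SpOrth.card_spGL, hcardK] at hdvd
  exact hdvd

end Cfsg.Agent.Helper13.FExtI1b
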