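import Mathlib
import Cfsg.Agent.Helper13.FExtDefs
import Cfsg.Agent.Helper13.FExtI1bB
import Cfsg.Agent.Helper32.FExtI1a
import Cfsg.Agent.Helper64.FExtE5
import Cfsg.Agent.Helper88.FExtE4
import Cfsg.Agent.Helper23.FExtE2p
import Cfsg.Agent.Helper29.FExtG3
import Cfsg.Agent.Helper29.FExtG4
import Cfsg.Agent.Helper29.FExtG5
import Cfsg.Agent.Helper29.FExtG6
import Cfsg.Agent.Helper31.FExtE1
import Cfsg.Agent.Helper31.FExtT1a
import Cfsg.Agent.Helper32.FExtI2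
import Cfsg.Agent.Helper33.FExtK7
import Cfsg.Agent.Helper41.FExtE2g
import Cfsg.Agent.Helper41.FExtS1b
import Cfsg.Agent.Helper50.FExtG2
import Cfsg.Agent.Helper50.FExtK5
import Cfsg.Agent.Helper59.FExtK4
import Cfsg.Agent.Helper64.FExtE3g
import Cfsg.Agent.Helper70.FExtS1a
import Cfsg.Agent.Helper81.FExtK3
import Cfsg.Agent.Helper13.SympTrans
import Cfsg.Agent.Helper13.SpMax1
import Cfsg.Agent.Helper43.SpOrthA

/-!
# Assembly for S5975
-/

set_option autoImplicit false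

namespace Cfsg.Agent.Helper13.FExt

open Matrix Cfsg Cfsg.Geo
open Cfsg.Agent.Helper13.FExtI1b (card_dvd_of_basis)
open Cfsg.Agent.Helper32.FExtI1a (exists_K_symplectic_basis)
open Cfsg.Agent.Helper88.FExtE4 (exists_invol_mem_normalizer)
open Cfsg.Agent.Helper64.FExtE5 (exists_sq_neg_one_mem_normalizer)
open Cfsg.Agent.Helper81.FExtK3 (centralizes_of_pow)
open Cfsg.Agent.Helper59.FExtK4 (dvd_finrank_of_KInv)
open Cfsg.Agent.Helper33.FExtK7 (two_mul_finrank_fixSp_le)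
open Cfsg.Agent.Helper29.FExtG3 (fixSp_inf_supp_eq_bot)
open Cfsg.Agent.Helper29.FExtG4 (finrank_supp_conj)
open Cfsg.Agent.Helper29.FExtG5 (finrank_fixSp_add_supp)
open Cfsg.Agent.Helper29.FExtG6 (KInv_supp)
open Cfsg.Agent.Helper50.FExtG2 (nondegOn_supp)
open Cfsg.Agent.Helper50.FExtK5 (two_mul_dvd_finrank_of_nondeg)
open Cfsg.Agent.Helper31.FExtT1a (exists_transvection)
open Cfsg.Agent.Helper70.FExtS1a (exists_fpf)
open Cfsg.Agent.Helper41.FExtS1b (exists_embed)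
open Cfsg.Agent.Helper32.FExtI2 (exists_of_dvd_quot)
open Cfsg.Agent.Helper31.FExtE1 (sq_scalar_cases)
open Cfsg.Agent.Helper41.FExtE2g (conj_of_sq_one)
open Cfsg.Agent.Helper23.FExtE2p (finrank_supp_of_invol)
open Cfsg.Agent.Helper64.FExtE3g (conj_of_sq_neg_one)

variable {F : Type*} [Field F] {ι : Type} [Fintype ι] [DecidableEq ι]

/-- the support of a scalar matrix `≠ 1` -/
theorem finrank_supp_scalar_ne (z : F) (hz : z ≠ 1) :
    Module.finrank F (supp (z • (1 : Matrix ι ι F))) = Fintype.card ι := by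
  unfold supp
  have h1 : z • (1 : Matrix ι ι F) - 1 = (z - 1) • (1 : Matrix ι ι F) := by
    rw [sub_smul, one_smul]
  rw [h1]
  have hz1 : z - 1 ≠ 0 := sub_ne_zero.mpr hz
  have hr : LinearMap.range ((z - 1) • (1 : Matrix ι ι F)).mulVecLin = ⊤ := by
    rw [LinearMap.range_eq_top]
    intro v
    refine ⟨(z - 1)⁻¹ • v, ?_⟩
    rw [Matrix.mulVecLin_apply, Matrix.smul_mulVec, Matrix.one_mulVec, smul_smul,
      mul_inv_cancel₀ hz1, one_smul]
  rw [hr, finrank_top, Module.finrank_fintype_fun_eq_card]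

/-- the support of a scalar matrix -/
theorem finrank_supp_scalar (z : F) :
    Module.finrank F (supp (z • (1 : Matrix ι ι F))) = 0 ∨
      Module.finrank F (supp (z • (1 : Matrix ι ι F))) = Fintype.card ι := by
  by_cases hz : z = 1
  · left
    unfold supp
    rw [hz, one_smul, sub_self]
    have : (0 : Matrix ι ι F).mulVecLin = 0 := by
      ext v
      simp
    rw [this, LinearMap.range_zero, finrank_bot]
  · right
    exact finrank_supp_scalar_ne z hz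

theorem centralizes_one (K : Subalgebra F (Matrix ι ι F)) : Centralizes K (1 : Matrix ι ι F) := by
  intro a _
  rw [one_mul, mul_one]


local notation "Mt" d => Matrix (Fin d ⊕ Fin d) (Fin d ⊕ Fin d) _

/-- powers of a conjugate -/
theorem conj_pow' {G : Type*} [Group G] (g x : G) (n : ℕ) :
    (g⁻¹ * x * g) ^ n = g⁻¹ * x ^ n * g := by
  induction n with
  | zero => simp
  | succ n ih => rw [pow_succ, ih, pow_succ]; group

/-- a non-identity element whose support has dimension `D` with `0 < D < card` is not scalar -/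
theorem not_scalar_of_finrank_supp (x : Matrix ι ι F) (D : ℕ) (hD : Module.finrank F (supp x) = D)
    (h0 : 0 < D) (h1 : D < Fintype.card ι) (z : F) : x ≠ z • (1 : Matrix ι ι F) := by
  intro h
  rw [h] at hD
  rcases finrank_supp_scalar (ι := ι) z with h' | h' <;> omega

/-- the core alternative for an element of `Sp ∩ N(K)` of order `r ≠ p` -/
theorem core [Fintype F] (p : ℕ) [Fact p.Prime] [CharP F p] (d k : ℕ) (hk : k.Prime)
    (K : Subalgebra F (Matrix (Fin d ⊕ Fin d) (Fin d ⊕ Fin d) F)) (hK : IsFieldSubalgebra k K)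
    (hKf : IsSelfAdjointFor (sympForm d F) K)
    (hKalt : ∀ a ∈ K, ∀ v : Fin d ⊕ Fin d → F, sympForm d F (a *ᵥ v) v = 0)
    (r : ℕ) (hr : r.Prime) (hrp : r ≠ p) (y : GL (Fin d ⊕ Fin d) F) (hyS : y ∈ spGL d F)
    (hyN : y ∈ subalgebraNormalizer K) (hyr : y ^ r = 1) :
    2 * k ∣ Module.finrank F (supp (y : Matrix (Fin d ⊕ Fin d) (Fin d ⊕ Fin d) F)) ∨
      (r = k ∧ d ≤ Module.finrank F (supp (y : Matrix (Fin d ⊕ Fin d) (Fin d ⊕ Fin d) F))) := by
  have hp : p.Prime := Fact.out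
  have hrF : (r : F) ≠ 0 := by
    intro h0
    rw [CharP.cast_eq_zero_iff F p r] at h0
    exact hrp ((Nat.prime_dvd_prime_iff_eq hp hr).mp h0).symm
  have hyr' : (y : Matrix (Fin d ⊕ Fin d) (Fin d ⊕ Fin d) F) ^ r = 1 := by
    rw [← Units.val_pow_eq_pow_val, hyr, Units.val_one]
  have hbot := fixSp_inf_supp_eq_bot (y : Matrix (Fin d ⊕ Fin d) (Fin d ⊕ Fin d) F) r hrF hyr'
  by_cases hc : Centralizes K (y : Matrix (Fin d ⊕ Fin d) (Fin d ⊕ Fin d) F)
  · left
    exact two_mul_dvd_finrank_of_nondeg d k hk.pos K hK hKf hKalt _ (KInv_supp K _ hc)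
      (nondegOn_supp d y hyS hbot)
  · right
    constructor
    · by_contra hrk
      apply hc
      apply centralizes_of_pow k hk K hK y hyN r hr hrk
      rw [hyr, Units.val_one]
      exact centralizes_one K
    · have h7 := two_mul_finrank_fixSp_le k K hK y hyN hc
      have h5 := finrank_fixSp_add_supp (y : Matrix (Fin d ⊕ Fin d) (Fin d ⊕ Fin d) F)
      rw [Fintype.card_sum, Fintype.card_fin] at h7 h5
      omega

/-- the transvection is a derangement -/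
theorem not_allFix_of_char (p : ℕ) [Fact p.Prime] [CharP F p] (d : ℕ) (hd : 2 ≤ d) (k : ℕ)
    (hk : k.Prime) (K : Subalgebra F (Matrix (Fin d ⊕ Fin d) (Fin d ⊕ Fin d) F))
    (hK : IsFieldSubalgebra k K) : ¬ AllFix d p (subalgebraNormalizer K) := by
  intro hall
  obtain ⟨x, hxS, hxp, hx1⟩ := exists_transvection (F := F) p d (by omega)
  have hns : ∀ z : F, (x : Matrix (Fin d ⊕ Fin d) (Fin d ⊕ Fin d) F) ≠
      z • (1 : Matrix (Fin d ⊕ Fin d) (Fin d ⊕ Fin d) F) := by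
    intro z
    apply not_scalar_of_finrank_supp _ 1 hx1 one_pos
    rw [Fintype.card_sum, Fintype.card_fin]
    omega
  obtain ⟨g, -, hg⟩ := hall x hxS ⟨1, by rw [hxp, Units.val_one, one_smul]⟩ hns
  set y := g⁻¹ * x * g with hy
  have hy1 : Module.finrank F (supp (y : Matrix (Fin d ⊕ Fin d) (Fin d ⊕ Fin d) F)) = 1 := by
    rw [hy, finrank_supp_conj, hx1]
  by_cases hc : Centralizes K (y : Matrix (Fin d ⊕ Fin d) (Fin d ⊕ Fin d) F)
  · have h4 := dvd_finrank_of_KInv k K hK _ (KInv_supp K _ hc)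
    rw [hy1, Nat.dvd_one] at h4
    exact hk.one_lt.ne' h4
  · have h7 := two_mul_finrank_fixSp_le k K hK y hg hc
    have h5 := finrank_fixSp_add_supp (y : Matrix (Fin d ⊕ Fin d) (Fin d ⊕ Fin d) F)
    rw [Fintype.card_sum, Fintype.card_fin] at h7 h5
    omega


/-- `k` divides `d` -/
theorem k_dvd_d (d k : ℕ) (hk : 0 < k)
    (K : Subalgebra F (Matrix (Fin d ⊕ Fin d) (Fin d ⊕ Fin d) F)) (hK : IsFieldSubalgebra k K)
    (hKf : IsSelfAdjointFor (sympForm d F) K)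
    (hKalt : ∀ a ∈ K, ∀ v : Fin d ⊕ Fin d → F, sympForm d F (a *ᵥ v) v = 0) : k ∣ d := by
  have h := two_mul_dvd_finrank_of_nondeg d k hk K hK hKf hKalt ⊤
    (fun a _ w _ => Submodule.mem_top)
    (by
      intro w _ hw
      by_contra hw0
      obtain ⟨x, hx⟩ := Cfsg.Agent.Helper13.sympForm_nondeg_left hw0
      apply hx
      rw [Cfsg.Agent.Helper13.sympForm_swap, hw x Submodule.mem_top, neg_zero])
  rw [finrank_top, Module.finrank_fintype_fun_eq_card, Fintype.card_sum, Fintype.card_fin,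
    ← two_mul] at h
  exact Nat.dvd_of_mul_dvd_mul_left two_pos h

/-- the element `-1` of `Sp_2(F)` -/
theorem exists_neg_one (h2 : (2 : F) ≠ 0) :
    ∃ y ∈ spGL 1 F, y ^ 2 = 1 ∧
      Module.finrank F (supp (y : Matrix (Fin 1 ⊕ Fin 1) (Fin 1 ⊕ Fin 1) F)) = 2 := by
  refine ⟨-1, ?_, ?_, ?_⟩
  · rw [Cfsg.Agent.Helper13.mem_spGL_iff]
    intro u v
    rw [Units.val_neg, Units.val_one, Matrix.neg_mulVec, Matrix.neg_mulVec, Matrix.one_mulVec,
      Matrix.one_mulVec, Cfsg.Agent.Helper13.sympForm_neg_left,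
      Cfsg.Agent.Helper13.sympForm_neg_right, neg_neg]
  · rw [neg_one_sq]
  · have h := finrank_supp_scalar_ne (ι := Fin 1 ⊕ Fin 1) (-1 : F) (by
      intro h
      apply h2
      have : (2 : F) = 1 - (-1) := by ring
      rw [this, h, sub_self])
    rw [Units.val_neg, Units.val_one]
    rw [neg_smul, one_smul] at h
    rw [h, Fintype.card_sum, Fintype.card_fin]

/-- the case `r = 2 ≠ p` of the forward direction -/
theorem of_allFix_two [Fintype F] (p : ℕ) [Fact p.Prime] [CharP F p] (hp2 : p ≠ 2) (d : ℕ)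
    (hd : 2 ≤ d) (k : ℕ) (hk : k.Prime)
    (K : Subalgebra F (Matrix (Fin d ⊕ Fin d) (Fin d ⊕ Fin d) F)) (hK : IsFieldSubalgebra k K)
    (hKf : IsSelfAdjointFor (sympForm d F) K)
    (hKalt : ∀ a ∈ K, ∀ v : Fin d ⊕ Fin d → F, sympForm d F (a *ᵥ v) v = 0)
    (hall : AllFix d 2 (subalgebraNormalizer K)) : d = 2 ∧ k = 2 := by
  have hp : p.Prime := Fact.out
  have h2 : (2 : F) ≠ 0 := by
    intro h0
    have h0' : ((2 : ℕ) : F) = 0 := by exact_mod_cast h0
    rw [CharP.cast_eq_zero_iff F p 2] at h0'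
    exact hp2 ((Nat.prime_dvd_prime_iff_eq hp Nat.prime_two).mp h0')
  obtain ⟨y₀, hy₀S, hy₀2, hy₀D⟩ := exists_neg_one h2
  obtain ⟨x, hxS, hxn, hxD⟩ := exists_embed 1 d (by omega) y₀ hy₀S
  rw [hy₀D] at hxD
  have hx2 : x ^ 2 = 1 := hxn 2 hy₀2
  have hns : ∀ z : F, (x : Matrix (Fin d ⊕ Fin d) (Fin d ⊕ Fin d) F) ≠
      z • (1 : Matrix (Fin d ⊕ Fin d) (Fin d ⊕ Fin d) F) := by
    intro z
    apply not_scalar_of_finrank_supp _ 2 hxD two_pos
    rw [Fintype.card_sum, Fintype.card_fin]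
    omega
  obtain ⟨g, hgS, hg⟩ := hall x hxS ⟨1, by rw [hx2, Units.val_one, one_smul]⟩ hns
  set y := g⁻¹ * x * g with hy
  have hyS : y ∈ spGL d F :=
    Subgroup.mul_mem _ (Subgroup.mul_mem _ (Subgroup.inv_mem _ hgS) hxS) hgS
  have hy2 : y ^ 2 = 1 := by
    rw [hy, conj_pow', hx2]
    group
  have hyD : Module.finrank F (supp (y : Matrix (Fin d ⊕ Fin d) (Fin d ⊕ Fin d) F)) = 2 := by
    rw [hy, finrank_supp_conj, hxD]
  rcases core p d k hk K hK hKf hKalt 2 Nat.prime_two (Ne.symm hp2) y hyS hg hy2 with h | ⟨h, h'⟩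
  · exfalso
    rw [hyD] at h
    have := Nat.le_of_dvd two_pos h
    have := hk.two_le
    omega
  · rw [hyD] at h'
    exact ⟨by omega, h.symm⟩


/-- divisibility of `q^(2j) - 1` in terms of `ZMod r` -/
theorem dvd_sq_pow_sub_one_iff (r q j : ℕ) (hq : 0 < q) :
    r ∣ q ^ (2 * j) - 1 ↔ ((q : ZMod r) ^ 2) ^ j = 1 := by
  have h1 : 1 ≤ q ^ (2 * j) := Nat.one_le_pow _ _ hq
  rw [← ZMod.natCast_eq_zero_iff, Nat.cast_sub h1, sub_eq_zero, Nat.cast_pow, Nat.cast_one,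
    pow_mul]

/-- the index: gluing (I1a), (I1b), (I2) -/
theorem exists_of_dvd_relIndex [Fintype F] (p : ℕ) [Fact p.Prime] [CharP F p] (q : ℕ)
    (hq : Fintype.card F = q) (d k : ℕ) (hk : k.Prime)
    (K : Subalgebra F (Matrix (Fin d ⊕ Fin d) (Fin d ⊕ Fin d) F)) (hK : IsFieldSubalgebra k K)
    (hKf : IsSelfAdjointFor (sympForm d F) K)
    (hKalt : ∀ a ∈ K, ∀ v : Fin d ⊕ Fin d → F, sympForm d F (a *ᵥ v) v = 0)
    (r : ℕ) (hr : r.Prime) (hrp : r ≠ p)
    (hΩ : r ∣ (subalgebraNormalizer K).relIndex (spGL d F)) :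
    ∃ j, 1 ≤ j ∧ j ≤ d ∧ ¬ k ∣ j ∧ r ∣ q ^ (2 * j) - 1 := by
  have hp : p.Prime := Fact.out
  obtain ⟨e, -, hqe⟩ := FiniteField.card F p
  rw [hq] at hqe
  obtain ⟨n, φ, b, h1, h2, h3⟩ := exists_K_symplectic_basis d k hk.pos K hK hKf hKalt
  obtain ⟨hnk, s, hs⟩ := card_dvd_of_basis q hq d k hk.pos K hK n φ b h1 h2 h3
  have hidx := Subgroup.index_mul_card ((subalgebraNormalizer K).subgroupOf (spGL d F))
  rw [Cfsg.Agent.Helper43.SpOrth.card_spGL, hq, hs] at hidx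
  refine exists_of_dvd_quot p r q e hp hr hrp e.pos hqe n k d hk.pos hnk
    (((subalgebraNormalizer K).subgroupOf (spGL d F)).index * s) (Dvd.dvd.mul_right hΩ s) ?_
  rw [← hidx]
  ring

/-- the derangement of odd order `r ≠ p` -/
theorem not_allFix_of_elt [Fintype F] (p : ℕ) [Fact p.Prime] [CharP F p] (d k : ℕ) (hk : k.Prime)
    (K : Subalgebra F (Matrix (Fin d ⊕ Fin d) (Fin d ⊕ Fin d) F)) (hK : IsFieldSubalgebra k K)
    (hKf : IsSelfAdjointFor (sympForm d F) K)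
    (hKalt : ∀ a ∈ K, ∀ v : Fin d ⊕ Fin d → F, sympForm d F (a *ᵥ v) v = 0)
    (r : ℕ) (hr : r.Prime) (hrp : r ≠ p) (m : ℕ) (hm0 : 0 < m) (hmd : m < d) (hkm : ¬ k ∣ m)
    (hrk : r = k → 2 * m < d)
    (y₀ : GL (Fin m ⊕ Fin m) F) (hy₀S : y₀ ∈ spGL m F) (hy₀r : y₀ ^ r = 1)
    (hy₀D : Module.finrank F (supp (y₀ : Matrix (Fin m ⊕ Fin m) (Fin m ⊕ Fin m) F)) = 2 * m) :
    ¬ AllFix d r (subalgebraNormalizer K) := by
  intro hall
  obtain ⟨x, hxS, hxn, hxD⟩ := exists_embed m d hmd.le y₀ hy₀S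
  rw [hy₀D] at hxD
  have hxr : x ^ r = 1 := hxn r hy₀r
  have hns : ∀ z : F, (x : Matrix (Fin d ⊕ Fin d) (Fin d ⊕ Fin d) F) ≠
      z • (1 : Matrix (Fin d ⊕ Fin d) (Fin d ⊕ Fin d) F) := by
    intro z
    apply not_scalar_of_finrank_supp _ (2 * m) hxD (by omega)
    rw [Fintype.card_sum, Fintype.card_fin]
    omega
  obtain ⟨g, hgS, hg⟩ := hall x hxS ⟨1, by rw [hxr, Units.val_one, one_smul]⟩ hns
  set y := g⁻¹ * x * g with hy
  have hyS : y ∈ spGL d F :=
    Subgroup.mul_mem _ (Subgroup.mul_mem _ (Subgroup.inv_mem _ hgS) hxS) hgS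
  have hyr : y ^ r = 1 := by
    rw [hy, conj_pow', hxr]
    group
  have hyD : Module.finrank F (supp (y : Matrix (Fin d ⊕ Fin d) (Fin d ⊕ Fin d) F)) = 2 * m := by
    rw [hy, finrank_supp_conj, hxD]
  rcases core p d k hk K hK hKf hKalt r hr hrp y hyS hg hyr with h | ⟨h, h'⟩
  · rw [hyD] at h
    exact hkm (Nat.dvd_of_mul_dvd_mul_left two_pos h)
  · rw [hyD] at h'
    have := hrk h
    omega


/-- odd `r ≠ p` dividing the index: a derangement exists -/
theorem not_allFix_odd [Fintype F] (p : ℕ) [Fact p.Prime] [CharP F p] (q : ℕ)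
    (hq : Fintype.card F = q) (d : ℕ) (hd : 2 ≤ d) (k : ℕ) (hk : k.Prime)
    (K : Subalgebra F (Matrix (Fin d ⊕ Fin d) (Fin d ⊕ Fin d) F)) (hK : IsFieldSubalgebra k K)
    (hKf : IsSelfAdjointFor (sympForm d F) K)
    (hKalt : ∀ a ∈ K, ∀ v : Fin d ⊕ Fin d → F, sympForm d F (a *ᵥ v) v = 0)
    (r : ℕ) [hrf : Fact r.Prime] (hr2 : r ≠ 2) (hrp : r ≠ p)
    (hΩ : r ∣ (subalgebraNormalizer K).relIndex (spGL d F)) :
    ¬ AllFix d r (subalgebraNormalizer K) := by
  have hp : p.Prime := Fact.out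
  have hr : r.Prime := Fact.out
  obtain ⟨e, -, hqe⟩ := FiniteField.card F p
  rw [hq] at hqe
  have hq0 : 0 < q := by
    rw [hqe]
    exact pow_pos hp.pos _
  have hqr : (q : ZMod r) ≠ 0 := by
    intro h0
    rw [ZMod.natCast_eq_zero_iff, hqe] at h0
    exact hrp ((Nat.prime_dvd_prime_iff_eq hr hp).mp (hr.dvd_of_dvd_pow h0))
  set c : ZMod r := (q : ZMod r) ^ 2 with hc
  have hc0 : c ≠ 0 := pow_ne_zero 2 hqr
  have hferm : c ^ ((r - 1) / 2) = 1 := by
    rw [hc, ← pow_mul]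
    have hodd : r % 2 = 1 := by
      rcases hr.eq_two_or_odd with h | h
      · exact absurd h hr2
      · exact h
    have : 2 * ((r - 1) / 2) = r - 1 := by omega
    rw [this]
    exact ZMod.pow_card_sub_one_eq_one hqr
  have hr3 : 3 ≤ r := by
    have := hr.two_le
    omega
  have hhalf : 0 < (r - 1) / 2 := by omega
  set m := orderOf c with hm
  have hm0 : 0 < m := by
    rw [hm, orderOf_pos_iff, isOfFinOrder_iff_pow_eq_one]
    exact ⟨(r - 1) / 2, hhalf, hferm⟩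
  have hdiv : ∀ j, r ∣ q ^ (2 * j) - 1 ↔ m ∣ j := by
    intro j
    rw [dvd_sq_pow_sub_one_iff r q j hq0, ← hc, hm, orderOf_dvd_iff_pow_eq_one]
  have h2m : 2 * m ≤ r - 1 := by
    have h1 : m ∣ (r - 1) / 2 := by
      rw [hm, orderOf_dvd_iff_pow_eq_one]
      exact hferm
    have := Nat.le_of_dvd hhalf h1
    omega
  have hkd : k ∣ d := k_dvd_d d k hk.pos K hK hKf hKalt
  have hkled : k ≤ d := Nat.le_of_dvd (by omega) hkd
  -- the data on `m`
  have hdata : m < d ∧ ¬ k ∣ m ∧ (r = k → 2 * m < d) := by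
    by_cases hrk : r = k
    · refine ⟨by omega, ?_, fun _ => by omega⟩
      intro h
      have := Nat.le_of_dvd hm0 h
      omega
    · obtain ⟨j, hj1, hjd, hkj, hrj⟩ :=
        exists_of_dvd_relIndex p q hq d k hk K hK hKf hKalt r hr hrp hΩ
      have hmj : m ∣ j := (hdiv j).mp hrj
      have hkm : ¬ k ∣ m := fun h => hkj (h.trans hmj)
      have hmle : m ≤ d := (Nat.le_of_dvd (by omega) hmj).trans hjd
      refine ⟨?_, hkm, fun h => absurd h hrk⟩
      rcases Nat.lt_or_ge m d with h | h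
      · exact h
      · exfalso
        have : m = d := le_antisymm hmle h
        exact hkm (this ▸ hkd)
  obtain ⟨hmd, hkm, hrk⟩ := hdata
  obtain ⟨y₀, hy₀S, hy₀r, hy₀D⟩ := exists_fpf p q hq r hr2 hrp m hm0 ((hdiv m).mpr dvd_rfl)
    (by
      intro j hj0 hjm h
      have := Nat.le_of_dvd hj0 ((hdiv j).mp h)
      omega)
  exact not_allFix_of_elt p d k hk K hK hKf hKalt r hr hrp m hm0 hmd hkm hrk y₀ hy₀S hy₀r hy₀D


/-- the converse: `r = 2`, `d = 2`, `k = 2`, `q` odd -/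
theorem allFix_two [Fintype F] (h2 : (2 : F) ≠ 0)
    (K : Subalgebra F (Matrix (Fin 2 ⊕ Fin 2) (Fin 2 ⊕ Fin 2) F)) (hK : IsFieldSubalgebra 2 K)
    (hKf : IsSelfAdjointFor (sympForm 2 F) K)
    (hKalt : ∀ a ∈ K, ∀ v : Fin 2 ⊕ Fin 2 → F, sympForm 2 F (a *ᵥ v) v = 0) :
    AllFix 2 2 (subalgebraNormalizer K) := by
  intro x hxS ⟨z, hz⟩ hns
  rcases sq_scalar_cases 2 (by norm_num) x hxS z hz with h | h
  · have hx2 : x ^ 2 = 1 := by
      apply Units.ext
      rw [hz, h, one_smul, Units.val_one]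
    obtain ⟨y, hyS, hyN, hy2, hyns⟩ := exists_invol_mem_normalizer h2 K hK hKf hKalt
    obtain ⟨g, hgS, hg⟩ := conj_of_sq_one h2 2 x y hxS hyS hx2 hy2
      (by rw [finrank_supp_of_invol h2 x hxS hx2 hns, finrank_supp_of_invol h2 y hyS hy2 hyns])
    exact ⟨g, hgS, hg ▸ hyN⟩
  · have hx2 : ((x ^ 2 : GL (Fin 2 ⊕ Fin 2) F) : Matrix (Fin 2 ⊕ Fin 2) (Fin 2 ⊕ Fin 2) F) = -1 := by
      rw [hz, h, neg_smul, one_smul]
    obtain ⟨y, hyS, hyN, hy2⟩ := exists_sq_neg_one_mem_normalizer h2 K hK hKf hKalt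
    obtain ⟨g, hgS, hg⟩ := conj_of_sq_neg_one h2 2 x y hxS hyS hx2 hy2
    exact ⟨g, hgS, hg ▸ hyN⟩

/-- S5975 -/
theorem main [Fintype F] (p : ℕ) [Fact p.Prime] [CharP F p] (q : ℕ)
    (hq : Fintype.card F = q) (d : ℕ) (hd : 2 ≤ d) (k : ℕ) (hk : k.Prime)
    (K : Subalgebra F (Matrix (Fin d ⊕ Fin d) (Fin d ⊕ Fin d) F)) (hK : IsFieldSubalgebra k K)
    (hKf : IsSelfAdjointFor (sympForm d F) K)
    (hKalt : ∀ a ∈ K, ∀ v : Fin d ⊕ Fin d → F, sympForm d F (a *ᵥ v) v = 0)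
    (r : ℕ) [hrf : Fact r.Prime]
    (hΩ : r ∣ (subalgebraNormalizer K).relIndex (spGL d F)) :
    AllFix d r (subalgebraNormalizer K) ↔ (r = 2 ∧ d = 2 ∧ k = 2 ∧ Odd q) := by
  have hp : p.Prime := Fact.out
  obtain ⟨e, -, hqe⟩ := FiniteField.card F p
  rw [hq] at hqe
  constructor
  · intro hall
    by_cases hrp : r = p
    · exfalso
      subst hrp
      exact not_allFix_of_char r d hd k hk K hK hall
    · by_cases hr2 : r = 2
      · subst hr2
        obtain ⟨h1, h2⟩ := of_allFix_two p (Ne.symm hrp) d hd k hk K hK hKf hKalt hall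
        refine ⟨rfl, h1, h2, ?_⟩
        rw [hqe]
        apply Odd.pow
        rcases hp.eq_two_or_odd' with h | h
        · exact absurd h.symm hrp
        · exact h
      · exfalso
        exact not_allFix_odd p q hq d hd k hk K hK hKf hKalt r hr2 hrp hΩ hall
  · rintro ⟨rfl, rfl, rfl, hodd⟩
    have h2 : (2 : F) ≠ 0 := by
      intro h0
      have h0' : ((2 : ℕ) : F) = 0 := by exact_mod_cast h0
      rw [CharP.cast_eq_zero_iff F p 2] at h0'
      have hp2 : p = 2 := ((Nat.prime_dvd_prime_iff_eq hp Nat.prime_two).mp h0')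
      rw [hqe, hp2] at hodd
      have : Even (2 ^ (e : ℕ)) := (Nat.even_pow' e.pos.ne').mpr even_two
      exact (Nat.not_even_iff_odd.mpr hodd) this
    exact allFix_two h2 K hK hKf hKalt

end Cfsg.Agent.Helper13.FExt
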