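import Mathlib

set_option autoImplicit false

namespace Cfsg.Agent.Helper13

/-- if all fibres of `f` have `m` elements then `|α| = |β| * m` -/
theorem card_eq_mul_of_fibers {α β : Type*} [Finite α] [Finite β] (f : α → β) (m : ℕ)
    (hf : ∀ b, Nat.card {a // f a = b} = m) : Nat.card α = Nat.card β * m := by
  have : Fintype β := Fintype.ofFinite β
  rw [← Nat.card_congr (Equiv.sigmaFiberEquiv f), Nat.card_sigma]
  simp only [hf, Finset.sum_const, Finset.card_univ, smul_eq_mul, Nat.card_eq_fintype_card]

variable {F V : Type*} [Field F] [Fintype F] [AddCommGroup V] [Module F V]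
  [FiniteDimensional F V]

theorem natCard_submodule (W : Submodule F V) :
    Nat.card W = Fintype.card F ^ Module.finrank F W := by
  rw [Module.natCard_eq_pow_finrank (K := F) (V := W), Nat.card_eq_fintype_card]

theorem finrank_span_pair {v w : V} (hv : v ≠ 0) (hw : w ∉ Submodule.span F {v}) :
    Module.finrank F (Submodule.span F ({v, w} : Set V)) = 2 := by
  have hli : LinearIndependent F ![v, w] := by
    rw [LinearIndependent.pair_iff' hv]
    intro a ha
    exact hw (ha ▸ Submodule.smul_mem _ a (Submodule.mem_span_singleton_self v))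
  have h1 := finrank_span_eq_card hli
  rw [Fintype.card_fin] at h1
  have h2 : Set.range ![v, w] = ({v, w} : Set V) := by
    ext x
    simp only [Matrix.range_cons, Matrix.range_empty, Set.union_empty, Set.mem_union,
      Set.mem_singleton_iff, Set.mem_insert_iff]
  rw [h2] at h1
  exact h1

theorem span_pair_eq {v w : V} (hv : v ≠ 0) (hw : w ∉ Submodule.span F {v})
    {W : Submodule F V} (hW : Module.finrank F W = 2) (hvW : v ∈ W) (hwW : w ∈ W) :
    Submodule.span F ({v, w} : Set V) = W := by
  apply Submodule.eq_of_le_of_finrank_eq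
  · rw [Submodule.span_le]
    intro x hx
    rcases hx with rfl | rfl
    · exact hvW
    · exact hwW
  · rw [finrank_span_pair hv hw, hW]

/-- the number of vectors of a plane outside a line through `v` -/
theorem card_plane_diff_line {v : V} (hv : v ≠ 0) {W : Submodule F V}
    (hW : Module.finrank F W = 2) (hvW : v ∈ W) :
    Nat.card {w : V // w ∈ W ∧ w ∉ Submodule.span F {v}} =
      Fintype.card F ^ 2 - Fintype.card F := by
  have : Finite V := Module.finite_of_finite F
  have hsub : ((Submodule.span F {v} : Submodule F V) : Set V) ⊆ (W : Set V) := by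
    intro x hx
    exact (Submodule.span_le.mpr (Set.singleton_subset_iff.mpr hvW)) hx
  have h1 : Nat.card {w : V // w ∈ W ∧ w ∉ Submodule.span F {v}} =
      ((W : Set V) \ ((Submodule.span F {v} : Submodule F V) : Set V)).ncard := by
    rw [← Nat.card_coe_set_eq]
    rfl
  rw [h1, Set.ncard_sdiff hsub, ← Nat.card_coe_set_eq, ← Nat.card_coe_set_eq]
  have h2 : Nat.card (W : Set V) = Fintype.card F ^ 2 := by
    rw [← hW]; exact natCard_submodule W
  have h3 : Nat.card ((Submodule.span F {v} : Submodule F V) : Set V) = Fintype.card F := by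
    have := natCard_submodule (Submodule.span F {v} : Submodule F V)
    rw [finrank_span_singleton hv, pow_one] at this
    exact this
  rw [h2, h3]

/-- lines through a point: fibration of the "collinear" vectors over the lines -/
theorem card_lines_through (P : Submodule F V → Prop) (v : V) (hv : v ≠ 0) :
    Nat.card {W : Submodule F V // Module.finrank F W = 2 ∧ v ∈ W ∧ P W} *
        (Fintype.card F ^ 2 - Fintype.card F) =
      Nat.card {w : V // w ∉ Submodule.span F {v} ∧ P (Submodule.span F ({v, w} : Set V))} := by
  have : Finite V := Module.finite_of_finite F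
  have hfinS : Finite (Submodule F V) := Finite.of_injective (fun W => (W : Set V))
    SetLike.coe_injective
  symm
  let f : {w : V // w ∉ Submodule.span F {v} ∧ P (Submodule.span F ({v, w} : Set V))} →
      {W : Submodule F V // Module.finrank F W = 2 ∧ v ∈ W ∧ P W} := fun w =>
    ⟨Submodule.span F ({v, w.1} : Set V), finrank_span_pair hv w.2.1,
      Submodule.subset_span (Set.mem_insert _ _), w.2.2⟩
  apply card_eq_mul_of_fibers f
  intro W
  rw [← card_plane_diff_line hv W.2.1 W.2.2.1]
  refine Nat.card_congr ?_
  refine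
    { toFun := fun a => ⟨a.1.1, ?_, a.1.2.1⟩
      invFun := fun w => ⟨⟨w.1, w.2.2, ?_⟩, ?_⟩
      left_inv := fun a => rfl
      right_inv := fun w => rfl }
  · have h := congrArg Subtype.val a.2
    simp only [f] at h
    rw [← h]
    exact Submodule.subset_span (Set.mem_insert_of_mem _ rfl)
  · rw [span_pair_eq hv w.2.2 W.2.1 W.2.2.1 w.2.1]
    exact W.2.2.2
  · apply Subtype.ext
    exact span_pair_eq hv w.2.2 W.2.1 W.2.2.1 w.2.1

/-- the number of nonzero vectors of a plane -/
theorem card_plane_nonzero {W : Submodule F V} (hW : Module.finrank F W = 2) :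
    Nat.card {w : V // w ∈ W ∧ w ≠ 0} = Fintype.card F ^ 2 - 1 := by
  have : Finite V := Module.finite_of_finite F
  have hsub : ({0} : Set V) ⊆ (W : Set V) := by
    intro x hx
    rw [Set.mem_singleton_iff] at hx
    rw [hx]
    exact W.zero_mem
  have h1 : Nat.card {w : V // w ∈ W ∧ w ≠ 0} = ((W : Set V) \ {0}).ncard := by
    rw [← Nat.card_coe_set_eq]
    rfl
  rw [h1, Set.ncard_sdiff hsub, Set.ncard_singleton, ← Nat.card_coe_set_eq]
  have h2 : Nat.card (W : Set V) = Fintype.card F ^ 2 := by
    rw [← hW]; exact natCard_submodule W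
  rw [h2]

/-- double counting of incident (point, line) pairs -/
theorem card_lines_double_count (P : Submodule F V → Prop) [Fintype {v : V // v ≠ 0}] :
    Nat.card {W : Submodule F V // Module.finrank F W = 2 ∧ P W} * (Fintype.card F ^ 2 - 1) =
      ∑ v : {v : V // v ≠ 0},
        Nat.card {W : Submodule F V // Module.finrank F W = 2 ∧ v.1 ∈ W ∧ P W} := by
  have : Finite V := Module.finite_of_finite F
  have hfinS : Finite (Submodule F V) := Finite.of_injective (fun W => (W : Set V))
    SetLike.coe_injective
  have : Fintype {W : Submodule F V // Module.finrank F W = 2 ∧ P W} := Fintype.ofFinite _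
  rw [← Nat.card_sigma]
  have h1 : Nat.card (Σ W : {W : Submodule F V // Module.finrank F W = 2 ∧ P W},
      {w : V // w ∈ W.1 ∧ w ≠ 0}) =
      Nat.card {W : Submodule F V // Module.finrank F W = 2 ∧ P W} *
        (Fintype.card F ^ 2 - 1) := by
    rw [Nat.card_sigma]
    simp only [fun W : {W : Submodule F V // Module.finrank F W = 2 ∧ P W} =>
      card_plane_nonzero W.2.1, Finset.sum_const, Finset.card_univ, smul_eq_mul,
      Nat.card_eq_fintype_card]
  rw [← h1]
  refine Nat.card_congr ?_
  exact
    { toFun := fun x => ⟨⟨x.2.1, x.2.2.2⟩, ⟨x.1.1, x.1.2.1, x.2.2.1, x.1.2.2⟩⟩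
      invFun := fun y => ⟨⟨y.2.1, y.2.2.1, y.2.2.2.2⟩, ⟨y.1.1, y.2.2.2.1, y.1.2⟩⟩
      left_inv := fun x => rfl
      right_inv := fun y => rfl }

end Cfsg.Agent.Helper13
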