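/-
Helper13 (S5634 package): base definitions for block-monomial matrices.
`IsBlockMono β A`: the matrix `A` permutes the coordinate blocks (fibres of `β`).
`IsMonoMat A`: monomial matrix.  `MatIn Y A`: the matrix `A` is (the matrix of) an element of the subgroup `Y`.
`rk1 u φ h`: the unit `1 + u φᵀ` of `GL ι F`.  `sl_le_of_elem`: diagonal + elementary matrices generate `SL`.
-/
import Mathlib

set_option autoImplicit false
set_option linter.unusedSectionVars false

namespace Cfsg.Agent.Helper13.Mono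

open Matrix

variable {ι : Type*} [Fintype ι] [DecidableEq ι] {τ : Type*} {F : Type*} [Field F]

/-- block-monomial matrix with respect to the block map `β` -/
def IsBlockMono (β : ι → τ) (A : Matrix ι ι F) : Prop :=
  ∃ σ : Equiv.Perm τ, ∀ i j, A i j ≠ 0 → β i = σ (β j)

/-- monomial matrix -/
def IsMonoMat (A : Matrix ι ι F) : Prop :=
  ∃ σ : Equiv.Perm ι, ∀ i j, A i j ≠ 0 → i = σ j

theorem isBlockMono_iff_isMonoMat {β : ι → τ} (hβ : Function.Bijective β) (A : Matrix ι ι F) :
    IsBlockMono β A ↔ IsMonoMat A := by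
  set e : ι ≃ τ := Equiv.ofBijective β hβ with he
  have hβe : ∀ i, β i = e i := fun i => rfl
  constructor
  · rintro ⟨σ, hσ⟩
    refine ⟨e.trans (σ.trans e.symm), fun i j hij => ?_⟩
    have := hσ i j hij
    simp only [Equiv.trans_apply]
    rw [← hβe j, ← this, hβe, Equiv.symm_apply_apply]
  · rintro ⟨σ, hσ⟩
    refine ⟨e.symm.trans (σ.trans e), fun i j hij => ?_⟩
    have := hσ i j hij
    simp only [Equiv.trans_apply]
    rw [hβe j, Equiv.symm_apply_apply, ← this, hβe]

/-- the matrix `A` belongs to the subgroup `Y` of `GL` -/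
def MatIn (Y : Subgroup (GL ι F)) (A : Matrix ι ι F) : Prop :=
  ∃ g ∈ Y, (g : Matrix ι ι F) = A

theorem matIn_of_mem {Y : Subgroup (GL ι F)} {g : GL ι F} (hg : g ∈ Y) : MatIn Y (g : Matrix ι ι F) :=
  ⟨g, hg, rfl⟩

theorem MatIn.one (Y : Subgroup (GL ι F)) : MatIn Y (1 : Matrix ι ι F) :=
  ⟨1, Y.one_mem, rfl⟩

theorem MatIn.mul {Y : Subgroup (GL ι F)} {A B : Matrix ι ι F} (hA : MatIn Y A) (hB : MatIn Y B) :
    MatIn Y (A * B) := by
  obtain ⟨g, hg, rfl⟩ := hA
  obtain ⟨g', hg', rfl⟩ := hB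
  exact ⟨g * g', Y.mul_mem hg hg', rfl⟩

theorem MatIn.of_mul_eq_one {Y : Subgroup (GL ι F)} {A B : Matrix ι ι F} (hA : MatIn Y A)
    (h : A * B = 1) : MatIn Y B := by
  obtain ⟨g, hg, rfl⟩ := hA
  refine ⟨g⁻¹, Y.inv_mem hg, ?_⟩
  have h1 : ((g⁻¹ : GL ι F) : Matrix ι ι F) * ((g : Matrix ι ι F) * B) = B := by
    rw [← Matrix.mul_assoc, ← Units.val_mul, inv_mul_cancel, Units.val_one, Matrix.one_mul]
  rw [← h1, h, Matrix.mul_one]

theorem MatIn.inv_val {Y : Subgroup (GL ι F)} {g : GL ι F} (hg : MatIn Y (g : Matrix ι ι F)) :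
    MatIn Y ((g⁻¹ : GL ι F) : Matrix ι ι F) :=
  hg.of_mul_eq_one (by rw [← Units.val_mul, mul_inv_cancel, Units.val_one])

theorem MatIn.mem {Y : Subgroup (GL ι F)} {g : GL ι F} (hg : MatIn Y (g : Matrix ι ι F)) : g ∈ Y := by
  obtain ⟨g', hg', h⟩ := hg
  have : g' = g := Units.ext h
  exact this ▸ hg'

theorem vecMulVec_mul_self (u φ : ι → F) :
    vecMulVec u φ * vecMulVec u φ = (φ ⬝ᵥ u) • vecMulVec u φ := by
  rw [vecMulVec_mul_vecMulVec]
  ext i j
  simp only [vecMulVec_apply, Pi.smul_apply, smul_eq_mul, Matrix.smul_apply]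
  ring

/-- the unit `1 + u φᵀ` -/
noncomputable def rk1 (u φ : ι → F) (h : 1 + φ ⬝ᵥ u ≠ 0) : GL ι F where
  val := 1 + vecMulVec u φ
  inv := 1 - (1 + φ ⬝ᵥ u)⁻¹ • vecMulVec u φ
  val_inv := by
    rw [Matrix.add_mul, Matrix.one_mul, Matrix.mul_sub, Matrix.mul_one, Matrix.mul_smul,
      vecMulVec_mul_self]
    have : (1 + φ ⬝ᵥ u)⁻¹ * (1 + φ ⬝ᵥ u) = 1 := inv_mul_cancel₀ h
    ext i j
    simp only [Matrix.add_apply, Matrix.sub_apply, Matrix.smul_apply, smul_eq_mul]
    linear_combination (-(vecMulVec u φ i j)) * this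
  inv_val := by
    rw [Matrix.sub_mul, Matrix.one_mul, Matrix.mul_add, Matrix.mul_one, Matrix.smul_mul,
      vecMulVec_mul_self]
    have : (1 + φ ⬝ᵥ u)⁻¹ * (1 + φ ⬝ᵥ u) = 1 := inv_mul_cancel₀ h
    ext i j
    simp only [Matrix.add_apply, Matrix.sub_apply, Matrix.smul_apply, smul_eq_mul]
    linear_combination (-(vecMulVec u φ i j)) * this

theorem rk1_val (u φ : ι → F) (h : 1 + φ ⬝ᵥ u ≠ 0) :
    ((rk1 u φ h : GL ι F) : Matrix ι ι F) = 1 + vecMulVec u φ := rfl

theorem rk1_inv_val (u φ : ι → F) (h : 1 + φ ⬝ᵥ u ≠ 0) :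
    (((rk1 u φ h)⁻¹ : GL ι F) : Matrix ι ι F) = 1 - (1 + φ ⬝ᵥ u)⁻¹ • vecMulVec u φ := rfl

theorem det_one_add_vecMulVec (u φ : ι → F) : (1 + vecMulVec u φ).det = 1 + φ ⬝ᵥ u := by
  rw [vecMulVec_eq Unit, det_one_add_replicateCol_mul_replicateRow]

theorem det_rk1 (u φ : ι → F) (h : 1 + φ ⬝ᵥ u ≠ 0) :
    ((rk1 u φ h : GL ι F) : Matrix ι ι F).det = 1 + φ ⬝ᵥ u := by
  rw [rk1_val, det_one_add_vecMulVec]

theorem vecMulVec_single_single (i j : ι) (c : F) :
    vecMulVec (Pi.single i (1 : F)) (Pi.single j c) = Matrix.single i j c := by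
  ext a b
  rw [vecMulVec_apply, Matrix.single_apply]
  by_cases ha : i = a
  · by_cases hb : j = b
    · subst ha; subst hb; simp
    · subst ha; simp [hb, Ne.symm hb]
  · simp [ha, Pi.single_apply, Ne.symm ha]

theorem single_dotProduct_single_ne {i j : ι} (hij : i ≠ j) (c : F) :
    (Pi.single j c : ι → F) ⬝ᵥ (Pi.single i (1 : F)) = 0 := by
  rw [single_dotProduct]
  simp [hij.symm]

/-- elementary transvection as a unit -/
noncomputable def elGL {i j : ι} (hij : i ≠ j) (c : F) : GL ι F :=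
  rk1 (Pi.single i 1) (Pi.single j c) (by rw [single_dotProduct_single_ne hij, add_zero]; exact one_ne_zero)

theorem elGL_val {i j : ι} (hij : i ≠ j) (c : F) :
    ((elGL hij c : GL ι F) : Matrix ι ι F) = transvection i j c := by
  rw [elGL, rk1_val, vecMulVec_single_single, transvection]

theorem det_elGL {i j : ι} (hij : i ≠ j) (c : F) :
    ((elGL hij c : GL ι F) : Matrix ι ι F).det = 1 := by
  rw [elGL_val, det_transvection_of_ne _ _ hij]

/-- diagonal unit -/
noncomputable def dg (d : ι → Fˣ) : GL ι F where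
  val := diagonal (fun i => (d i : F))
  inv := diagonal (fun i => ((d i)⁻¹ : Fˣ))
  val_inv := by
    rw [diagonal_mul_diagonal, ← diagonal_one]
    congr 1
    funext i
    simp
  inv_val := by
    rw [diagonal_mul_diagonal, ← diagonal_one]
    congr 1
    funext i
    simp

theorem dg_val (d : ι → Fˣ) : ((dg d : GL ι F) : Matrix ι ι F) = diagonal (fun i => (d i : F)) := rfl

theorem dg_inv_val (d : ι → Fˣ) :
    (((dg d)⁻¹ : GL ι F) : Matrix ι ι F) = diagonal (fun i => (((d i)⁻¹ : Fˣ) : F)) := rfl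

theorem det_dg (d : ι → Fˣ) : ((dg d : GL ι F) : Matrix ι ι F).det = ∏ i, (d i : F) := by
  rw [dg_val, det_diagonal]

theorem isBlockMono_diagonal (β : ι → τ) (d : ι → F) : IsBlockMono β (diagonal d) := by
  refine ⟨1, fun i j hij => ?_⟩
  by_cases h : i = j
  · subst h; rfl
  · exact absurd (diagonal_apply_ne _ h) hij

theorem isMonoMat_diagonal (d : ι → F) : IsMonoMat (diagonal d) :=
  isBlockMono_diagonal id d

theorem isBlockMono_one (β : ι → τ) : IsBlockMono β (1 : Matrix ι ι F) := by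
  rw [← diagonal_one]; exact isBlockMono_diagonal β _

/-- a subgroup of `GL` containing the diagonal matrices of determinant one and all elementary
transvections contains every matrix of determinant one -/
theorem sl_le_of_elem [Nontrivial ι] (M : Subgroup (GL ι F))
    (hd : ∀ g : GL ι F, (∃ d : ι → F, (g : Matrix ι ι F) = diagonal d) →
      (g : Matrix ι ι F).det = 1 → g ∈ M)
    (ht : ∀ i j : ι, i ≠ j → ∀ c : F, MatIn M (transvection i j c)) :
    ∀ g : GL ι F, (g : Matrix ι ι F).det = 1 → g ∈ M := by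
  intro g hdet
  have hg' : g = Matrix.SpecialLinearGroup.toGL (⟨(g : Matrix ι ι F), hdet⟩ :
      Matrix.SpecialLinearGroup ι F) := Units.ext rfl
  rw [hg']
  refine Matrix.SpecialLinearGroup.diagonal_transvection_induction'
    (fun A => Matrix.SpecialLinearGroup.toGL A ∈ M) _ ?_ ?_ ?_
  · intro i j hij c hc
    refine hd _ ⟨fun k => if k = i then c else if k = j then c⁻¹ else 1, ?_⟩ ?_
    · rw [Matrix.SpecialLinearGroup.coe_GL_coe_matrix, Matrix.SpecialLinearGroup.diag2n_coe]
    · rw [Matrix.SpecialLinearGroup.coe_GL_coe_matrix]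
      exact (Matrix.SpecialLinearGroup.diag2n hij c hc).2
  · intro i j hij a
    refine MatIn.mem ?_
    rw [Matrix.SpecialLinearGroup.coe_GL_coe_matrix, Matrix.SpecialLinearGroup.transvection_coe]
    exact ht i j hij a
  · intro A B hA hB
    show Matrix.SpecialLinearGroup.toGL (A * B) ∈ M
    rw [map_mul]
    exact M.mul_mem hA hB

/-- an elementary transvection across two blocks is not block-monomial -/
theorem not_isBlockMono_transvection {β : ι → τ} (hβ : Function.Surjective β) {i j : ι}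
    (hij : β i ≠ β j) {c : F} (hc : c ≠ 0) : ¬ IsBlockMono β (transvection i j c) := by
  rintro ⟨σ, hσ⟩
  have hne : i ≠ j := fun h => hij (h ▸ rfl)
  have hdiag : ∀ k, transvection i j c k k ≠ 0 := by
    intro k
    rw [transvection, Matrix.add_apply, Matrix.one_apply_eq, Matrix.single_apply]
    by_cases h : i = k ∧ j = k
    · exact absurd (h.1.trans h.2.symm) hne
    · rw [if_neg h, add_zero]; exact one_ne_zero
  have hσ1 : ∀ b, σ b = b := by
    intro b
    obtain ⟨k, rfl⟩ := hβ b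
    exact (hσ k k (hdiag k)).symm
  have hijne : transvection i j c i j ≠ 0 := by
    rw [transvection, Matrix.add_apply, Matrix.one_apply_ne hne, Matrix.single_apply_same, zero_add]
    exact hc
  have := hσ i j hijne
  rw [hσ1] at this
  exact hij this

end Cfsg.Agent.Helper13.Mono
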