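/-
Helper13 (S5634 package): the diagonal `d_{kl}(c)` and the family `x * d_{kl}(c) * x⁻¹`.
-/
import Mathlib
import Cfsg.Agent.Helper13.MonoA

set_option autoImplicit false
set_option linter.unusedSectionVars false

namespace Cfsg.Agent.Helper13.Mono

open Matrix

variable {ι : Type*} [Fintype ι] [DecidableEq ι] {F : Type*} [Field F]

/-- `d_{kl}(c)`: `c` at `k`, `c⁻¹` at `l`, `1` elsewhere -/
noncomputable def dkl (k l : ι) (c : F) : ι → F :=
  fun i => if i = k then c else if i = l then c⁻¹ else 1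

theorem dkl_k (k l : ι) (c : F) : dkl k l c k = c := by simp [dkl]

theorem dkl_l {k l : ι} (hkl : k ≠ l) (c : F) : dkl k l c l = c⁻¹ := by simp [dkl, hkl.symm]

theorem dkl_of_ne {k l i : ι} (hk : i ≠ k) (hl : i ≠ l) (c : F) : dkl k l c i = 1 := by
  simp [dkl, hk, hl]

theorem dkl_ne_zero (k l : ι) {c : F} (hc : c ≠ 0) (i : ι) : dkl k l c i ≠ 0 := by
  unfold dkl
  split_ifs
  · exact hc
  · exact inv_ne_zero hc
  · exact one_ne_zero

theorem dkl_eq {k l : ι} (hkl : k ≠ l) (c : F) (m : ι) :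
    dkl k l c m = 1 + (c - 1) * (if m = k then 1 else 0) + (c⁻¹ - 1) * (if m = l then 1 else 0) := by
  unfold dkl
  by_cases h1 : m = k
  · subst h1; simp [hkl]
  · by_cases h2 : m = l
    · subst h2; simp [h1]
    · simp [h1, h2]

theorem dkl_one (k l : ι) : dkl k l (1 : F) = 1 := by
  funext i
  unfold dkl
  split_ifs <;> simp

/-- entries of `x * d_{kl}(c) * xi` -/
theorem mul_dkl_mul (x xi : Matrix ι ι F) {k l : ι} (hkl : k ≠ l) (c : F) (i j : ι) :
    (x * diagonal (dkl k l c) * xi) i j =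
      (x * xi) i j + (c - 1) * (x i k * xi k j) + (c⁻¹ - 1) * (x i l * xi l j) := by
  rw [Matrix.mul_apply, Matrix.mul_apply]
  have : ∀ m, (x * diagonal (dkl k l c)) i m * xi m j =
      x i m * xi m j + (c - 1) * (if m = k then x i m * xi m j else 0)
        + (c⁻¹ - 1) * (if m = l then x i m * xi m j else 0) := by
    intro m
    rw [Matrix.mul_diagonal, dkl_eq hkl]
    split_ifs <;> ring
  rw [Finset.sum_congr rfl (fun m _ => this m), Finset.sum_add_distrib, Finset.sum_add_distrib,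
    ← Finset.mul_sum, ← Finset.mul_sum, Finset.sum_ite_eq' Finset.univ k,
    Finset.sum_ite_eq' Finset.univ l]
  simp

/-- `∏ d_{kl}(c) = 1` -/
theorem prod_dkl {k l : ι} (hkl : k ≠ l) {c : F} (hc : c ≠ 0) : ∏ i, dkl k l c i = 1 := by
  have h1 : ∀ i, dkl k l c i = (if i = k then c else 1) * (if i = l then c⁻¹ else 1) := by
    intro i
    unfold dkl
    by_cases h1 : i = k
    · subst h1; simp [hkl]
    · by_cases h2 : i = l
      · subst h2; simp [h1]
      · simp [h1, h2]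
  rw [Finset.prod_congr rfl (fun i _ => h1 i), Finset.prod_mul_distrib, Finset.prod_ite_eq' Finset.univ k,
    Finset.prod_ite_eq' Finset.univ l]
  simp [hc]

/-- the unit `d_{kl}(c)` -/
noncomputable def dklGL (k l : ι) (c : F) (hc : c ≠ 0) : GL ι F :=
  dg (fun i => Units.mk0 (dkl k l c i) (dkl_ne_zero k l hc i))

theorem dklGL_val (k l : ι) (c : F) (hc : c ≠ 0) :
    ((dklGL k l c hc : GL ι F) : Matrix ι ι F) = diagonal (dkl k l c) := by
  rw [dklGL, dg_val]
  rfl

theorem dklGL_inv_val {k l : ι} (hkl : k ≠ l) (c : F) (hc : c ≠ 0) :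
    (((dklGL k l c hc)⁻¹ : GL ι F) : Matrix ι ι F) = diagonal (dkl k l c⁻¹) := by
  rw [dklGL, dg_inv_val]
  congr 1
  funext i
  simp only [Units.val_inv_eq_inv_val, Units.val_mk0]
  unfold dkl
  split_ifs <;> simp

theorem det_dklGL {k l : ι} (hkl : k ≠ l) (c : F) (hc : c ≠ 0) :
    ((dklGL k l c hc : GL ι F) : Matrix ι ι F).det = 1 := by
  rw [dklGL_val, det_diagonal, prod_dkl hkl hc]

/-- a subgroup containing the monomial determinant-one matrices contains `d_{kl}(c)` -/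
theorem dklGL_mem {M : Subgroup (GL ι F)}
    (hN : ∀ g : GL ι F, IsMonoMat (g : Matrix ι ι F) → (g : Matrix ι ι F).det = 1 → g ∈ M)
    {k l : ι} (hkl : k ≠ l) (c : F) (hc : c ≠ 0) : dklGL k l c hc ∈ M :=
  hN _ (by rw [dklGL_val]; exact isMonoMat_diagonal _) (det_dklGL hkl c hc)

/-- the family `x * d_{kl}(c) * x⁻¹` lies in `M` -/
theorem matIn_family {M : Subgroup (GL ι F)}
    (hN : ∀ g : GL ι F, IsMonoMat (g : Matrix ι ι F) → (g : Matrix ι ι F).det = 1 → g ∈ M)
    {x : GL ι F} (hx : x ∈ M) {k l : ι} (hkl : k ≠ l) (c : F) (hc : c ≠ 0) :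
    MatIn M ((x : Matrix ι ι F) * diagonal (dkl k l c) * ((x⁻¹ : GL ι F) : Matrix ι ι F)) := by
  refine ⟨x * dklGL k l c hc * x⁻¹, M.mul_mem (M.mul_mem hx (dklGL_mem hN hkl c hc)) (M.inv_mem hx), ?_⟩
  rw [Units.val_mul, Units.val_mul, dklGL_val]

end Cfsg.Agent.Helper13.Mono
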