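/-
Helper13 (S5634 package): Step A of the monomial case.  A subgroup `M` containing the monomial matrices of
determinant one and a non-monomial element contains a non-monomial element with a monomial row or column.
-/
import Mathlib
import Cfsg.Agent.Helper13.MonoA2
import Cfsg.Agent.Helper62.MonoTOR

set_option autoImplicit false
set_option linter.unusedSectionVars false
set_option linter.unusedVariables false

namespace Cfsg.Agent.Helper13.Mono

open Matrix
open Cfsg.Agent.Helper62.MonoTOR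

variable {ι : Type*} [Fintype ι] [DecidableEq ι] {F : Type*} [Field F]

/-- a one-sided inverse of a monomial matrix is monomial -/
theorem IsMonoMat.of_inv {A B : Matrix ι ι F} (hBA : B * A = 1) (hA : IsMonoMat A) : IsMonoMat B := by
  obtain ⟨σ, hσ⟩ := hA
  refine ⟨σ.symm, fun k i hki => ?_⟩
  -- i = σ j with j = σ.symm i
  set j := σ.symm i with hj
  have hij : σ j = i := by rw [hj, Equiv.apply_symm_apply]
  have hsum : (B * A) k j = B k i * A i j := by
    rw [Matrix.mul_apply]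
    refine Finset.sum_eq_single i (fun m _ hm => ?_) (fun h => absurd (Finset.mem_univ i) h)
    by_cases hA0 : A m j = 0
    · rw [hA0, mul_zero]
    · exact absurd ((hσ m j hA0).trans hij) hm
  rw [hBA] at hsum
  by_contra hkj
  rw [Matrix.one_apply_ne hkj] at hsum
  have hAij : A i j ≠ 0 := by
    intro h0
    have hsum2 : (B * A) j j = B j i * A i j := by
      rw [Matrix.mul_apply]
      refine Finset.sum_eq_single i (fun m _ hm => ?_) (fun h => absurd (Finset.mem_univ i) h)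
      by_cases hA0 : A m j = 0
      · rw [hA0, mul_zero]
      · exact absurd ((hσ m j hA0).trans hij) hm
    rw [hBA, Matrix.one_apply_eq, h0, mul_zero] at hsum2
    exact one_ne_zero hsum2
  rcases mul_eq_zero.mp hsum.symm with h | h
  · exact hki h
  · exact hAij h

theorem not_isMonoMat_inv {x : GL ι F} (hx : ¬ IsMonoMat (x : Matrix ι ι F)) :
    ¬ IsMonoMat ((x⁻¹ : GL ι F) : Matrix ι ι F) := by
  intro h
  apply hx
  refine IsMonoMat.of_inv (A := ((x⁻¹ : GL ι F) : Matrix ι ι F)) ?_ h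
  rw [← Units.val_mul, mul_inv_cancel, Units.val_one]

/-- a fixed column `j` of `x * diag t * xi` forces zeros in column `j` of `xi` -/
theorem fixed_col_zero (x xi : Matrix ι ι F) (h2 : xi * x = 1) (t : ι → F) (j : ι)
    (hj : ∀ i, (x * diagonal t * xi) i j = (1 : Matrix ι ι F) i j) (m : ι) :
    (t m - 1) * xi m j = 0 := by
  have h : xi * (x * diagonal t * xi) = diagonal t * xi := by
    rw [← Matrix.mul_assoc, ← Matrix.mul_assoc, h2, Matrix.one_mul]
  have h3 := congrFun (congrFun h m) j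
  rw [Matrix.mul_apply, Matrix.diagonal_mul] at h3
  have h4 : ∑ i, xi m i * (x * diagonal t * xi) i j = xi m j := by
    rw [Finset.sum_congr rfl (fun i _ => by rw [hj i])]
    simp [Matrix.one_apply]
  rw [h4] at h3
  rw [sub_mul, one_mul, ← h3, sub_self]

/-- two homogeneous linear equations in three unknowns have a nonzero solution -/
theorem exists_ne_zero_two_eq (p q : Fin 3 → F) :
    ∃ α : Fin 3 → F, α ≠ 0 ∧ p ⬝ᵥ α = 0 ∧ q ⬝ᵥ α = 0 := by
  let M : Matrix (Fin 3) (Fin 3) F := Matrix.of ![p, q, 0]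
  have hdet : M.det = 0 := Matrix.det_eq_zero_of_row_eq_zero 2 (by intro j; simp [M])
  obtain ⟨v, hv, hMv⟩ := Matrix.exists_mulVec_eq_zero_iff.mpr hdet
  refine ⟨v, hv, ?_, ?_⟩
  · have := congrFun hMv 0
    simpa [M, Matrix.mulVec] using this
  · have := congrFun hMv 1
    simpa [M, Matrix.mulVec] using this

/-- three distinct columns of an invertible matrix cannot all be supported in two rows -/
theorem three_cols_two_rows (x xi : Matrix ι ι F) (h1 : x * xi = 1) {s1 s2 s3 p1 p2 : ι}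
    (h12 : s1 ≠ s2) (h13 : s1 ≠ s3) (h23 : s2 ≠ s3)
    (hs : ∀ i, i ≠ p1 → i ≠ p2 → xi i s1 = 0 ∧ xi i s2 = 0 ∧ xi i s3 = 0) : False := by
  obtain ⟨α, hα, hp, hq⟩ := exists_ne_zero_two_eq ![xi p1 s1, xi p1 s2, xi p1 s3]
    ![xi p2 s1, xi p2 s2, xi p2 s3]
  simp only [dotProduct, Fin.sum_univ_three, Matrix.cons_val_zero, Matrix.cons_val_one,
    Matrix.cons_val_two, Matrix.head_cons, Matrix.tail_cons] at hp hq
  -- z = α0 e_{s1} + α1 e_{s2} + α2 e_{s3}; xi z = 0
  set z : ι → F := fun m => α 0 * (if m = s1 then 1 else 0) + α 1 * (if m = s2 then 1 else 0)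
    + α 2 * (if m = s3 then 1 else 0) with hz
  have hxz : ∀ i, (xi *ᵥ z) i = xi i s1 * α 0 + xi i s2 * α 1 + xi i s3 * α 2 := by
    intro i
    simp only [Matrix.mulVec, dotProduct, hz, mul_add, Finset.sum_add_distrib]
    have : ∀ (s : ι) (c : F), ∑ m, xi i m * (c * (if m = s then 1 else 0)) = xi i s * c := by
      intro s c
      rw [Finset.sum_eq_single s (fun m _ hm => by simp [hm]) (fun h => absurd (Finset.mem_univ s) h)]
      simp
    rw [this, this, this]
  have hxz0 : xi *ᵥ z = 0 := by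
    funext i
    rw [hxz i, Pi.zero_apply]
    by_cases hi1 : i = p1
    · subst hi1; exact hp
    · by_cases hi2 : i = p2
      · subst hi2; exact hq
      · obtain ⟨e1, e2, e3⟩ := hs i hi1 hi2
        rw [e1, e2, e3]; ring
  have hz0 : z = 0 := by
    have : x *ᵥ (xi *ᵥ z) = z := by rw [Matrix.mulVec_mulVec, h1, Matrix.one_mulVec]
    rw [← this, hxz0, Matrix.mulVec_zero]
  apply hα
  have e1 := congrFun hz0 s1
  have e2 := congrFun hz0 s2
  have e3 := congrFun hz0 s3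
  simp only [hz, Pi.zero_apply, if_pos, h12, h13, h23, h12.symm, h13.symm, h23.symm, if_false,
    mul_one, mul_zero, add_zero, zero_add, if_true] at e1 e2 e3
  funext s
  fin_cases s
  · exact e1
  · exact e2
  · exact e3

/-- the output of Step A: a non-monomial element of `M` with a monomial row or a monomial column -/
def GoodOut (M : Subgroup (GL ι F)) : Prop :=
  ∃ w : GL ι F, w ∈ M ∧ ¬ IsMonoMat (w : Matrix ι ι F) ∧
    ((∃ a b, ∀ j, j ≠ b → (w : Matrix ι ι F) a j = 0) ∨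
      (∃ a b, ∀ i, i ≠ a → (w : Matrix ι ι F) i b = 0))

theorem exists_notMem_of_card_lt (s : Finset ι) (h : s.card < Fintype.card ι) : ∃ a, a ∉ s := by
  by_contra hc
  push Not at hc
  have : s = Finset.univ := Finset.eq_univ_iff_forall.mpr hc
  rw [this, Finset.card_univ] at h
  exact lt_irrefl _ h

theorem exists_three_avoid (hn : 5 ≤ Fintype.card ι) (b b' : ι) :
    ∃ a1 a2 a3 : ι, a1 ≠ a2 ∧ a1 ≠ a3 ∧ a2 ≠ a3 ∧ a1 ≠ b ∧ a1 ≠ b' ∧ a2 ≠ b ∧ a2 ≠ b' ∧
      a3 ≠ b ∧ a3 ≠ b' := by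
  obtain ⟨a1, h1⟩ := exists_notMem_of_card_lt ({b, b'} : Finset ι)
    (lt_of_le_of_lt (Finset.card_le_two) (by omega))
  obtain ⟨a2, h2⟩ := exists_notMem_of_card_lt ({b, b', a1} : Finset ι)
    (lt_of_le_of_lt (Finset.card_le_three) (by omega))
  obtain ⟨a3, h3⟩ := exists_notMem_of_card_lt ({b, b', a1, a2} : Finset ι)
    (lt_of_le_of_lt (Finset.card_le_four) (by omega))
  simp only [Finset.mem_insert, Finset.mem_singleton, not_or] at h1 h2 h3
  exact ⟨a1, a2, a3, fun h => h2.2.2 h.symm, fun h => h3.2.2.1 h.symm, fun h => h3.2.2.2 h.symm,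
    h1.1, h1.2, h2.1, h2.2.1, h3.1, h3.2.1⟩

section stepA

variable [Fintype F] {M : Subgroup (GL ι F)}

/-- a non-monomial member of the family `x d_{kl}(c) x⁻¹` is a good output -/
theorem fam_out
    (hN : ∀ g : GL ι F, IsMonoMat (g : Matrix ι ι F) → (g : Matrix ι ι F).det = 1 → g ∈ M)
    {x : GL ι F} (hx : x ∈ M) {k l : ι} (hkl : k ≠ l)
    (H : (∃ a, (x : Matrix ι ι F) a k = 0 ∧ (x : Matrix ι ι F) a l = 0) ∨
      (∃ j, ((x⁻¹ : GL ι F) : Matrix ι ι F) k j = 0 ∧ ((x⁻¹ : GL ι F) : Matrix ι ι F) l j = 0))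
    (c : F) (hc : c ≠ 0)
    (hnm : ¬ IsMonoMat ((x : Matrix ι ι F) * diagonal (dkl k l c) * ((x⁻¹ : GL ι F) : Matrix ι ι F))) :
    GoodOut M := by
  have hxx : (x : Matrix ι ι F) * ((x⁻¹ : GL ι F) : Matrix ι ι F) = 1 := by
    rw [← Units.val_mul, mul_inv_cancel, Units.val_one]
  refine ⟨x * dklGL k l c hc * x⁻¹,
    M.mul_mem (M.mul_mem hx (dklGL_mem hN hkl c hc)) (M.inv_mem hx), ?_, ?_⟩
  · rw [Units.val_mul, Units.val_mul, dklGL_val]; exact hnm
  · rw [Units.val_mul, Units.val_mul, dklGL_val]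
    rcases H with ⟨a, ha1, ha2⟩ | ⟨j, hj1, hj2⟩
    · left
      refine ⟨a, a, fun j hj => ?_⟩
      rw [mul_dkl_mul _ _ hkl, hxx, ha1, ha2, Matrix.one_apply_ne (Ne.symm hj)]
      ring
    · right
      refine ⟨j, j, fun i hi => ?_⟩
      rw [mul_dkl_mul _ _ hkl, hxx, hj1, hj2, Matrix.one_apply_ne hi]
      ring

/-- applying the rigidity lemma to `x⁻¹` and the pair of columns `a1`, `a2` -/
theorem line1 (hq : 5 ≤ Fintype.card F)
    (hN : ∀ g : GL ι F, IsMonoMat (g : Matrix ι ι F) → (g : Matrix ι ι F).det = 1 → g ∈ M)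
    {x : GL ι F} (hx : x ∈ M) (hxn : ¬ IsMonoMat (x : Matrix ι ι F)) {a1 a2 k : ι} (h12 : a1 ≠ a2)
    (h1 : (x : Matrix ι ι F) a1 k = 0) (h2 : (x : Matrix ι ι F) a2 k = 0) :
    GoodOut M ∨ (∃ p p', ∀ i, i ≠ p → i ≠ p' →
      ((x⁻¹ : GL ι F) : Matrix ι ι F) i a1 = 0 ∧ ((x⁻¹ : GL ι F) : Matrix ι ι F) i a2 = 0) := by
  have hxx : (x : Matrix ι ι F) * ((x⁻¹ : GL ι F) : Matrix ι ι F) = 1 := by
    rw [← Units.val_mul, mul_inv_cancel, Units.val_one]
  have hxx' : ((x⁻¹ : GL ι F) : Matrix ι ι F) * (x : Matrix ι ι F) = 1 := by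
    rw [← Units.val_mul, inv_mul_cancel, Units.val_one]
  have hX : x⁻¹ ∈ M := M.inv_mem hx
  have hXn := not_isMonoMat_inv hxn
  have HX : (∃ a, ((x⁻¹ : GL ι F) : Matrix ι ι F) a a1 = 0 ∧ ((x⁻¹ : GL ι F) : Matrix ι ι F) a a2 = 0) ∨
      (∃ j, (((x⁻¹)⁻¹ : GL ι F) : Matrix ι ι F) a1 j = 0 ∧ (((x⁻¹)⁻¹ : GL ι F) : Matrix ι ι F) a2 j = 0) := by
    right
    refine ⟨k, ?_, ?_⟩
    · rw [inv_inv]; exact h1
    · rw [inv_inv]; exact h2
  by_cases h : ∃ c : F, c ≠ 0 ∧ ¬ IsMonoMat (((x⁻¹ : GL ι F) : Matrix ι ι F) * diagonal (dkl a1 a2 c) *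
      (((x⁻¹)⁻¹ : GL ι F) : Matrix ι ι F))
  · obtain ⟨c, hc, hnm⟩ := h
    exact Or.inl (fam_out hN hX h12 HX c hc hnm)
  · push Not at h
    rw [inv_inv] at h
    rcases tor hq _ _ hxx' hxx h12 h with ⟨b, hb⟩ | ⟨p, p', hp⟩
    · left
      exact ⟨x⁻¹, hX, hXn, Or.inr ⟨b, a1, hb⟩⟩
    · right
      exact ⟨p, p', hp⟩

/-- two zeros in a row of `x` (columns `k`, `l`) or in a column of `x⁻¹` (rows `k`, `l`) give a good output -/
theorem line0 (hq : 5 ≤ Fintype.card F) (hn : 5 ≤ Fintype.card ι)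
    (hN : ∀ g : GL ι F, IsMonoMat (g : Matrix ι ι F) → (g : Matrix ι ι F).det = 1 → g ∈ M)
    {x : GL ι F} (hx : x ∈ M) (hxn : ¬ IsMonoMat (x : Matrix ι ι F)) {k l : ι} (hkl : k ≠ l)
    (H : (∃ a, (x : Matrix ι ι F) a k = 0 ∧ (x : Matrix ι ι F) a l = 0) ∨
      (∃ j, ((x⁻¹ : GL ι F) : Matrix ι ι F) k j = 0 ∧ ((x⁻¹ : GL ι F) : Matrix ι ι F) l j = 0)) :
    GoodOut M := by
  have hxx : (x : Matrix ι ι F) * ((x⁻¹ : GL ι F) : Matrix ι ι F) = 1 := by
    rw [← Units.val_mul, mul_inv_cancel, Units.val_one]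
  have hxx' : ((x⁻¹ : GL ι F) : Matrix ι ι F) * (x : Matrix ι ι F) = 1 := by
    rw [← Units.val_mul, inv_mul_cancel, Units.val_one]
  by_cases h : ∃ c : F, c ≠ 0 ∧ ¬ IsMonoMat ((x : Matrix ι ι F) * diagonal (dkl k l c) *
      ((x⁻¹ : GL ι F) : Matrix ι ι F))
  · obtain ⟨c, hc, hnm⟩ := h
    exact fam_out hN hx hkl H c hc hnm
  · push Not at h
    rcases tor hq _ _ hxx hxx' hkl h with ⟨b, hb⟩ | ⟨b, b', hbb⟩
    · exact ⟨x, hx, hxn, Or.inr ⟨b, k, hb⟩⟩
    · obtain ⟨a1, a2, a3, h12, h13, h23, h1b, h1b', h2b, h2b', h3b, h3b'⟩ := exists_three_avoid hn b b'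
      have e1 := (hbb a1 h1b h1b').1
      have e2 := (hbb a2 h2b h2b').1
      have e3 := (hbb a3 h3b h3b').1
      rcases line1 hq hN hx hxn h12 e1 e2 with hg | ⟨p, p', hp⟩
      · exact hg
      rcases line1 hq hN hx hxn h13 e1 e3 with hg | ⟨r, r', hr⟩
      · exact hg
      by_cases hcol : ∃ b0, ∀ i, i ≠ b0 → ((x⁻¹ : GL ι F) : Matrix ι ι F) i a1 = 0
      · obtain ⟨b0, hb0⟩ := hcol
        exact ⟨x⁻¹, M.inv_mem hx, not_isMonoMat_inv hxn, Or.inr ⟨b0, a1, hb0⟩⟩
      · exfalso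
        push Not at hcol
        obtain ⟨p1, hp1, hp1n⟩ := hcol p
        obtain ⟨p2, hp2, hp2n⟩ := hcol p1
        have hp1in : p1 = p ∨ p1 = p' := by
          by_contra hc
          push Not at hc
          exact hp1n (hp p1 hc.1 hc.2).1
        have hp2in : p2 = p ∨ p2 = p' := by
          by_contra hc
          push Not at hc
          exact hp2n (hp p2 hc.1 hc.2).1
        have hr1in : p1 = r ∨ p1 = r' := by
          by_contra hc
          push Not at hc
          exact hp1n (hr p1 hc.1 hc.2).1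
        have hr2in : p2 = r ∨ p2 = r' := by
          by_contra hc
          push Not at hc
          exact hp2n (hr p2 hc.1 hc.2).1
        refine three_cols_two_rows _ _ hxx h12 h13 h23 (p1 := p1) (p2 := p2) (fun i hi1 hi2 => ?_)
        have hip : i ≠ p ∧ i ≠ p' := by
          rcases hp1in with e | e <;> rcases hp2in with e' | e'
          · exact absurd (e'.trans e.symm) hp2
          · exact ⟨e ▸ hi1, e' ▸ hi2⟩
          · exact ⟨e' ▸ hi2, e ▸ hi1⟩
          · exact absurd (e'.trans e.symm) hp2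
        have hir : i ≠ r ∧ i ≠ r' := by
          rcases hr1in with e | e <;> rcases hr2in with e' | e'
          · exact absurd (e'.trans e.symm) hp2
          · exact ⟨e ▸ hi1, e' ▸ hi2⟩
          · exact ⟨e' ▸ hi2, e ▸ hi1⟩
          · exact absurd (e'.trans e.symm) hp2
        exact ⟨(hp i hip.1 hip.2).1, (hp i hip.1 hip.2).2, (hr i hir.1 hir.2).2⟩

end stepA

end Cfsg.Agent.Helper13.Mono
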