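/-
Helper13 (S5634 package): Step A of the monomial case, part 2: one zero entry gives two zeros in a line.
-/
import Mathlib
import Cfsg.Agent.Helper13.MonoB
import Cfsg.Agent.Helper69.MonoFixed

set_option autoImplicit false
set_option linter.unusedSectionVars false
set_option linter.unusedVariables false

namespace Cfsg.Agent.Helper13.Mono

open Matrix
open Cfsg.Agent.Helper69.MonoFixed

variable {ι : Type*} [Fintype ι] [DecidableEq ι] {F : Type*} [Field F]

/-- entries of `x * diag t * xi` as a perturbation of `x * xi` -/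
theorem entry_formula (x xi : Matrix ι ι F) (t : ι → F) (a j : ι) :
    (x * diagonal t * xi) a j = (x * xi) a j + ∑ m, (t m - 1) * (x a m * xi m j) := by
  rw [Matrix.mul_apply, Matrix.mul_apply, ← Finset.sum_add_distrib]
  refine Finset.sum_congr rfl (fun m _ => ?_)
  rw [Matrix.mul_diagonal]
  ring

/-- a scalar avoiding at most four values -/
theorem exists_scalar_avoid [Fintype F] (hq : 5 ≤ Fintype.card F) (α : Fin 3 → F) :
    ∃ τ : F, τ ≠ 0 ∧ ∀ s, 1 + τ * α s ≠ 0 := by
  classical
  obtain ⟨τ, hτ⟩ := exists_notMem_of_card_lt ({0, -(α 0)⁻¹, -(α 1)⁻¹, -(α 2)⁻¹} : Finset F)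
    (lt_of_le_of_lt Finset.card_le_four (by omega))
  simp only [Finset.mem_insert, Finset.mem_singleton, not_or] at hτ
  refine ⟨τ, hτ.1, fun s h => ?_⟩
  have hα : α s ≠ 0 := by
    intro h0
    rw [h0, mul_zero, add_zero] at h
    exact one_ne_zero h
  have : τ = -(α s)⁻¹ := by
    field_simp
    linear_combination h
  fin_cases s
  · exact hτ.2.1 this
  · exact hτ.2.2.1 this
  · exact hτ.2.2.2 this

section stepA2

variable [Fintype F] {M : Subgroup (GL ι F)}

/-- a zero entry of a non-monomial element gives a good output -/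
theorem s2 (hq : 5 ≤ Fintype.card F) (hn : 13 ≤ Fintype.card ι)
    (hN : ∀ g : GL ι F, IsMonoMat (g : Matrix ι ι F) → (g : Matrix ι ι F).det = 1 → g ∈ M)
    {x : GL ι F} (hx : x ∈ M) (hxn : ¬ IsMonoMat (x : Matrix ι ι F)) {a i0 : ι}
    (hz : (x : Matrix ι ι F) a i0 = 0) : GoodOut M := by
  have hn5 : 5 ≤ Fintype.card ι := by omega
  have hxx : (x : Matrix ι ι F) * ((x⁻¹ : GL ι F) : Matrix ι ι F) = 1 := by
    rw [← Units.val_mul, mul_inv_cancel, Units.val_one]
  have hxx' : ((x⁻¹ : GL ι F) : Matrix ι ι F) * (x : Matrix ι ι F) = 1 := by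
    rw [← Units.val_mul, inv_mul_cancel, Units.val_one]
  set xi : Matrix ι ι F := ((x⁻¹ : GL ι F) : Matrix ι ι F) with hxi
  obtain ⟨b, b', _, hbb', _, _, hba, _, hb'a, _, _, _⟩ := exists_three_avoid hn5 a a
  obtain ⟨i1, i2, i3, h12, h13, h23, h10, _, h20, _, h30, _⟩ := exists_three_avoid hn5 i0 i0
  obtain ⟨α, hα, hp, hq'⟩ := exists_ne_zero_two_eq
    ![(x : Matrix ι ι F) a i1 * xi i1 b, (x : Matrix ι ι F) a i2 * xi i2 b, (x : Matrix ι ι F) a i3 * xi i3 b]
    ![(x : Matrix ι ι F) a i1 * xi i1 b', (x : Matrix ι ι F) a i2 * xi i2 b',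
      (x : Matrix ι ι F) a i3 * xi i3 b']
  simp only [dotProduct, Fin.sum_univ_three, Matrix.cons_val_zero, Matrix.cons_val_one,
    Matrix.cons_val_two, Matrix.head_cons, Matrix.tail_cons] at hp hq'
  obtain ⟨τ, hτ0, hτ⟩ := exists_scalar_avoid hq α
  set c : Fin 3 → F := fun s => 1 + τ * α s with hc
  have hc0 : ∀ s, c s ≠ 0 := hτ
  set t : ι → F := fun m => dkl i1 i0 (c 0) m * dkl i2 i0 (c 1) m * dkl i3 i0 (c 2) m with ht
  set D : GL ι F := dklGL i1 i0 (c 0) (hc0 0) * dklGL i2 i0 (c 1) (hc0 1) * dklGL i3 i0 (c 2) (hc0 2)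
    with hD
  have hDM : D ∈ M := M.mul_mem (M.mul_mem (dklGL_mem hN h10 _ _) (dklGL_mem hN h20 _ _))
    (dklGL_mem hN h30 _ _)
  have hDval : (D : Matrix ι ι F) = diagonal t := by
    rw [hD, Units.val_mul, Units.val_mul, dklGL_val, dklGL_val, dklGL_val, diagonal_mul_diagonal,
      diagonal_mul_diagonal]
  have ht0 : ∀ m, t m ≠ 0 := fun m =>
    mul_ne_zero (mul_ne_zero (dkl_ne_zero _ _ (hc0 0) m) (dkl_ne_zero _ _ (hc0 1) m))
      (dkl_ne_zero _ _ (hc0 2) m)
  have ht1 : t i1 = c 0 := by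
    simp only [ht]
    rw [dkl_k, dkl_of_ne h12 h10, dkl_of_ne h13 h10, mul_one, mul_one]
  have ht2 : t i2 = c 1 := by
    simp only [ht]
    rw [dkl_k, dkl_of_ne h12.symm h20, dkl_of_ne h23 h20, mul_one, one_mul]
  have ht3 : t i3 = c 2 := by
    simp only [ht]
    rw [dkl_k, dkl_of_ne h13.symm h30, dkl_of_ne h23.symm h30, one_mul, one_mul]
  have hti0 : t i0 = (c 0)⁻¹ * (c 1)⁻¹ * (c 2)⁻¹ := by
    simp only [ht]
    rw [dkl_l h10, dkl_l h20, dkl_l h30]
  have htoff : ∀ m, m ∉ ({i1, i2, i3, i0} : Finset ι) → t m = 1 := by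
    intro m hm
    simp only [Finset.mem_insert, Finset.mem_singleton, not_or] at hm
    simp only [ht]
    rw [dkl_of_ne hm.1 hm.2.2.2, dkl_of_ne hm.2.1 hm.2.2.2, dkl_of_ne hm.2.2.1 hm.2.2.2]
    ring
  set Yg : GL ι F := x * D * x⁻¹ with hYg
  have hYgM : Yg ∈ M := M.mul_mem (M.mul_mem hx hDM) (M.inv_mem hx)
  have hYval : (Yg : Matrix ι ι F) = (x : Matrix ι ι F) * diagonal t * xi := by
    rw [hYg, Units.val_mul, Units.val_mul, hDval]
  -- the two zero entries
  have hzero : ∀ j, j ≠ a →
      (α 0 * ((x : Matrix ι ι F) a i1 * xi i1 j) + α 1 * ((x : Matrix ι ι F) a i2 * xi i2 j)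
        + α 2 * ((x : Matrix ι ι F) a i3 * xi i3 j) = 0) → (Yg : Matrix ι ι F) a j = 0 := by
    intro j hj hsum
    rw [hYval, entry_formula, hxx, Matrix.one_apply_ne (Ne.symm hj), zero_add]
    have hsub : ∑ m, (t m - 1) * ((x : Matrix ι ι F) a m * xi m j) =
        ∑ m ∈ ({i1, i2, i3} : Finset ι), (t m - 1) * ((x : Matrix ι ι F) a m * xi m j) := by
      symm
      refine Finset.sum_subset (Finset.subset_univ _) (fun m _ hm => ?_)
      by_cases hm0 : m = i0
      · rw [hm0, hz, zero_mul, mul_zero]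
      · have : m ∉ ({i1, i2, i3, i0} : Finset ι) := by
          simp only [Finset.mem_insert, Finset.mem_singleton, not_or] at hm ⊢
          exact ⟨hm.1, hm.2.1, hm.2.2, hm0⟩
        rw [htoff m this, sub_self, zero_mul]
    rw [hsub, Finset.sum_insert (by simp [h12, h13]), Finset.sum_insert (by simp [h23]),
      Finset.sum_singleton, ht1, ht2, ht3]
    simp only [hc]
    linear_combination τ * hsum
  have hYab : (Yg : Matrix ι ι F) a b = 0 := hzero b hba (by linear_combination hp)
  have hYab' : (Yg : Matrix ι ι F) a b' = 0 := hzero b' hb'a (by linear_combination hq')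
  by_cases hmono : IsMonoMat (Yg : Matrix ι ι F)
  · -- monomial: a fixed column gives zeros in a column of xi
    rw [hYval] at hmono
    have hScard : 2 * ({i1, i2, i3, i0} : Finset ι).card < Fintype.card ι := by
      have := Finset.card_le_four (a := i1) (b := i2) (c := i3) (d := i0)
      omega
    obtain ⟨j, hj⟩ := mono_fixed ({i1, i2, i3, i0} : Finset ι) (x : Matrix ι ι F) xi hxx hxx' t ht0
      htoff hmono hScard
    have hfz := fixed_col_zero (x : Matrix ι ι F) xi hxx' t j hj
    -- indices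
    set I : Fin 3 → ι := ![i1, i2, i3] with hI
    have htI : ∀ s, t (I s) = c s := by
      intro s
      fin_cases s
      · exact ht1
      · exact ht2
      · exact ht3
    have hI0 : ∀ s, I s ≠ i0 := by
      intro s
      fin_cases s
      · exact h10
      · exact h20
      · exact h30
    have hIinj : ∀ s s', s ≠ s' → I s ≠ I s' := by
      intro s s' hss heq
      fin_cases s <;> fin_cases s' <;>
        first
        | exact hss rfl
        | exact h12 heq
        | exact h13 heq
        | exact h23 heq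
        | exact h12 heq.symm
        | exact h13 heq.symm
        | exact h23 heq.symm
    obtain ⟨s0, hs0⟩ : ∃ s0, α s0 ≠ 0 := by
      by_contra hcon
      push Not at hcon
      exact hα (funext hcon)
    have hz0 : xi (I s0) j = 0 := by
      have := hfz (I s0)
      rw [htI] at this
      rcases mul_eq_zero.mp this with h | h
      · exfalso
        simp only [hc] at h
        have : τ * α s0 = 0 := by linear_combination h
        exact mul_ne_zero hτ0 hs0 this
      · exact h
    by_cases hs1 : ∃ s1, s1 ≠ s0 ∧ α s1 ≠ 0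
    · obtain ⟨s1, hs10, hs1⟩ := hs1
      have hz1 : xi (I s1) j = 0 := by
        have := hfz (I s1)
        rw [htI] at this
        rcases mul_eq_zero.mp this with h | h
        · exfalso
          simp only [hc] at h
          have : τ * α s1 = 0 := by linear_combination h
          exact mul_ne_zero hτ0 hs1 this
        · exact h
      exact line0 hq hn5 hN hx hxn (hIinj s0 s1 hs10.symm) (Or.inr ⟨j, hz0, hz1⟩)
    · push Not at hs1
      have hcs : ∀ s, s ≠ s0 → c s = 1 := by
        intro s hs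
        simp only [hc]
        rw [hs1 s hs, mul_zero, add_zero]
      have hcs0 : c s0 ≠ 1 := by
        intro h
        simp only [hc] at h
        have : τ * α s0 = 0 := by linear_combination h
        exact mul_ne_zero hτ0 hs0 this
      have hti0' : t i0 = (c s0)⁻¹ := by
        rw [hti0]
        fin_cases s0
        · rw [hcs 1 (by decide), hcs 2 (by decide)]; simp
        · rw [hcs 0 (by decide), hcs 2 (by decide)]; simp
        · rw [hcs 0 (by decide), hcs 1 (by decide)]; simp
      have hz1 : xi i0 j = 0 := by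
        have := hfz i0
        rcases mul_eq_zero.mp this with h | h
        · exfalso
          rw [hti0'] at h
          apply hcs0
          have h' : (c s0)⁻¹ = 1 := by linear_combination h
          rw [inv_eq_one] at h'
          exact h'
        · exact h
      exact line0 hq hn5 hN hx hxn (hI0 s0) (Or.inr ⟨j, hz0, hz1⟩)
  · exact line0 hq hn5 hN hYgM hmono hbb' (Or.inl ⟨a, hYab, hYab'⟩)

/-- all entries of `x` and `x⁻¹` nonzero: produce a zero entry -/
theorem nz (hq : 5 ≤ Fintype.card F) (hn : 13 ≤ Fintype.card ι)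
    (hN : ∀ g : GL ι F, IsMonoMat (g : Matrix ι ι F) → (g : Matrix ι ι F).det = 1 → g ∈ M)
    {x : GL ι F} (hx : x ∈ M) (hx0 : ∀ i j, (x : Matrix ι ι F) i j ≠ 0)
    (hxi0 : ∀ i j, ((x⁻¹ : GL ι F) : Matrix ι ι F) i j ≠ 0) : GoodOut M := by
  have hn5 : 5 ≤ Fintype.card ι := by omega
  have hxx : (x : Matrix ι ι F) * ((x⁻¹ : GL ι F) : Matrix ι ι F) = 1 := by
    rw [← Units.val_mul, mul_inv_cancel, Units.val_one]
  have hxx' : ((x⁻¹ : GL ι F) : Matrix ι ι F) * (x : Matrix ι ι F) = 1 := by
    rw [← Units.val_mul, inv_mul_cancel, Units.val_one]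
  set xi : Matrix ι ι F := ((x⁻¹ : GL ι F) : Matrix ι ι F) with hxi
  have hne : Nonempty ι := Fintype.card_pos_iff.mp (by omega)
  obtain ⟨b, a, a', hba, hba', haa', _⟩ := exists_three_avoid hn5 (Classical.arbitrary ι)
    (Classical.arbitrary ι)
  have hclaim : ∃ a₀ k l, a₀ ≠ b ∧
      (x : Matrix ι ι F) a₀ k * xi k b ≠ (x : Matrix ι ι F) a₀ l * xi l b := by
    by_contra H
    push Not at H
    set ca : F := (x : Matrix ι ι F) a b * xi b b with hca
    set ca' : F := (x : Matrix ι ι F) a' b * xi b b with hca'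
    have hca0 : ca ≠ 0 := mul_ne_zero (hx0 _ _) (hxi0 _ _)
    have hca'0 : ca' ≠ 0 := mul_ne_zero (hx0 _ _) (hxi0 _ _)
    have hrow : ∀ k, (x : Matrix ι ι F) a' k = (ca' / ca) * (x : Matrix ι ι F) a k := by
      intro k
      have e1 : (x : Matrix ι ι F) a k * xi k b = ca := H a k b hba.symm
      have e2 : (x : Matrix ι ι F) a' k * xi k b = ca' := H a' k b hba'.symm
      have hk : xi k b ≠ 0 := hxi0 _ _
      field_simp
      have : (x : Matrix ι ι F) a' k * ca * xi k b = ca' * (x : Matrix ι ι F) a k * xi k b := by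
        rw [← e1, ← e2]; ring
      exact mul_right_cancel₀ hk this
    have h0 : (x * xi : Matrix ι ι F) a' a = 0 := by
      rw [hxx, Matrix.one_apply_ne haa'.symm]
    have h1 : (x * xi : Matrix ι ι F) a a = 1 := by
      rw [hxx, Matrix.one_apply_eq]
    rw [Matrix.mul_apply] at h0 h1
    rw [Finset.sum_congr rfl (fun k _ => by rw [hrow k, mul_assoc]), ← Finset.mul_sum, h1, mul_one] at h0
    exact div_ne_zero hca'0 hca0 h0
  obtain ⟨a₀, k, l, ha₀, hAB⟩ := hclaim
  set A : F := (x : Matrix ι ι F) a₀ k * xi k b with hA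
  set B : F := (x : Matrix ι ι F) a₀ l * xi l b with hB
  have hA0 : A ≠ 0 := mul_ne_zero (hx0 _ _) (hxi0 _ _)
  have hB0 : B ≠ 0 := mul_ne_zero (hx0 _ _) (hxi0 _ _)
  have hkl : k ≠ l := by
    intro h
    apply hAB
    rw [hA, hB, h]
  have hlam0 : B / A ≠ 0 := div_ne_zero hB0 hA0
  have hlam1 : B / A ≠ 1 := by
    intro h
    rw [div_eq_one_iff_eq hA0] at h
    exact hAB h.symm
  set Yg : GL ι F := x * dklGL k l (B / A) hlam0 * x⁻¹ with hYg
  have hYgM : Yg ∈ M := M.mul_mem (M.mul_mem hx (dklGL_mem hN hkl _ hlam0)) (M.inv_mem hx)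
  have hYval : (Yg : Matrix ι ι F) = (x : Matrix ι ι F) * diagonal (dkl k l (B / A)) * xi := by
    rw [hYg, Units.val_mul, Units.val_mul, dklGL_val]
  have hYzero : (Yg : Matrix ι ι F) a₀ b = 0 := by
    rw [hYval, mul_dkl_mul _ _ hkl, hxx, Matrix.one_apply_ne ha₀, ← hA, ← hB]
    field_simp
    ring
  have hYn : ¬ IsMonoMat (Yg : Matrix ι ι F) := by
    intro hmono
    rw [hYval] at hmono
    have hScard : 2 * ({k, l} : Finset ι).card < Fintype.card ι := by
      have := Finset.card_le_two (a := k) (b := l)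
      omega
    obtain ⟨j, hj⟩ := mono_fixed ({k, l} : Finset ι) (x : Matrix ι ι F) xi hxx hxx' (dkl k l (B / A))
      (dkl_ne_zero k l hlam0)
      (fun m hm => by
        simp only [Finset.mem_insert, Finset.mem_singleton, not_or] at hm
        exact dkl_of_ne hm.1 hm.2 _) hmono hScard
    have := fixed_col_zero (x : Matrix ι ι F) xi hxx' _ j hj k
    rw [dkl_k] at this
    rcases mul_eq_zero.mp this with h | h
    · exact hlam1 (by linear_combination h)
    · exact hxi0 _ _ h
  exact s2 hq hn hN hYgM hYn hYzero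

/-- **Step A**: a non-monomial element gives a non-monomial element with a monomial row or column -/
theorem stepA (hq : 5 ≤ Fintype.card F) (hn : 13 ≤ Fintype.card ι)
    (hN : ∀ g : GL ι F, IsMonoMat (g : Matrix ι ι F) → (g : Matrix ι ι F).det = 1 → g ∈ M)
    {x : GL ι F} (hx : x ∈ M) (hxn : ¬ IsMonoMat (x : Matrix ι ι F)) : GoodOut M := by
  by_cases h1 : ∃ i j, (x : Matrix ι ι F) i j = 0
  · obtain ⟨i, j, hij⟩ := h1
    exact s2 hq hn hN hx hxn hij
  by_cases h2 : ∃ i j, ((x⁻¹ : GL ι F) : Matrix ι ι F) i j = 0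
  · obtain ⟨i, j, hij⟩ := h2
    exact s2 hq hn hN (M.inv_mem hx) (not_isMonoMat_inv hxn) hij
  push Not at h1 h2
  exact nz hq hn hN hx h1 h2

end stepA2

end Cfsg.Agent.Helper13.Mono
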