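/-
Helper13 (S5634 package): Step B of the monomial case: a non-monomial element with a monomial row forces `SL ≤ M`.
-/
import Mathlib
import Cfsg.Agent.Helper13.MonoA2
import Cfsg.Agent.Helper93.MonoBLK
import Cfsg.Agent.Helper62.MonoAX

set_option autoImplicit false
set_option linter.unusedSectionVars false
set_option linter.unusedVariables false

namespace Cfsg.Agent.Helper13.Mono

open Matrix
open Cfsg.Agent.Helper93.MonoBLK Cfsg.Agent.Helper62.MonoAX

variable {ι : Type*} [Fintype ι] [DecidableEq ι] {F : Type*} [Field F]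

theorem exists_notMem_of_card_lt' {α : Type*} [Fintype α] (s : Finset α) (h : s.card < Fintype.card α) :
    ∃ a, a ∉ s := by
  by_contra hc
  push Not at hc
  have : s = Finset.univ := Finset.eq_univ_iff_forall.mpr hc
  rw [this, Finset.card_univ] at h
  exact lt_irrefl _ h

/-- column `a` is supported at `a` -/
def ColAt (a : ι) (A : Matrix ι ι F) : Prop := ∀ m, m ≠ a → A m a = 0

theorem col_mul_of_colAt (a : ι) (A B : Matrix ι ι F) (hB : ColAt a B) (m : ι) :
    (A * B) m a = A m a * B a a := by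
  rw [Matrix.mul_apply]
  apply Finset.sum_eq_single a
  · intro k _ hk
    rw [hB k hk, mul_zero]
  · intro h; exact absurd (Finset.mem_univ a) h

theorem colAt_mul (a : ι) (A B : Matrix ι ι F) (hA : ColAt a A) (hB : ColAt a B) : ColAt a (A * B) := by
  intro m hm
  rw [col_mul_of_colAt a A B hB, hA m hm, zero_mul]

theorem colAt_diagonal (a : ι) (d : ι → F) : ColAt a (diagonal d) := fun m hm => diagonal_apply_ne _ hm

theorem rowAt_diagonal (a : ι) (d : ι → F) : RowAt a (diagonal d) :=
  fun j hj => diagonal_apply_ne _ (Ne.symm hj)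

theorem colAt_inv (a : ι) (g : GL ι F) (hg : ColAt a (g : Matrix ι ι F)) :
    ColAt a ((g⁻¹ : GL ι F) : Matrix ι ι F) := by
  have h1 : ((g⁻¹ : GL ι F) : Matrix ι ι F) * (g : Matrix ι ι F) = 1 := by
    rw [← Units.val_mul, inv_mul_cancel, Units.val_one]
  have haa : ((g⁻¹ : GL ι F) : Matrix ι ι F) a a * (g : Matrix ι ι F) a a = 1 := by
    rw [← col_mul_of_colAt a _ _ hg, h1, Matrix.one_apply_eq]
  have hne : (g : Matrix ι ι F) a a ≠ 0 := right_ne_zero_of_mul_eq_one haa
  intro m hm
  have := col_mul_of_colAt a ((g⁻¹ : GL ι F) : Matrix ι ι F) (g : Matrix ι ι F) hg m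
  rw [h1, Matrix.one_apply_ne hm] at this
  rcases mul_eq_zero.mp this.symm with h | h
  · exact h
  · exact absurd h hne

/-- the `(a,a)` entry of the inverse of a matrix with row `a` supported at `a` -/
theorem inv_aa_of_rowAt (a : ι) (g : GL ι F) (hg : RowAt a (g : Matrix ι ι F)) :
    (g : Matrix ι ι F) a a * ((g⁻¹ : GL ι F) : Matrix ι ι F) a a = 1 := by
  have h1 : (g : Matrix ι ι F) * ((g⁻¹ : GL ι F) : Matrix ι ι F) = 1 := by
    rw [← Units.val_mul, mul_inv_cancel, Units.val_one]
  rw [← row_mul_of_rowAt a _ _ hg, h1, Matrix.one_apply_eq]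

/-- a matrix with row `a` equal to `e_a` and trivial block is a `Z a γ` -/
theorem eq_Z_of (a : ι) (A : Matrix ι ι F) (hrow : RowAt a A) (haa : A a a = 1) (hblk : blk a A = 1) :
    A = Z a (fun m => if m = a then 0 else A m a) := by
  ext m n
  unfold Z
  rw [Matrix.add_apply, vecMulVec_apply]
  by_cases hm : m = a
  · subst hm
    by_cases hn : n = m
    · subst hn; simp [haa]
    · rw [hrow n hn, Matrix.one_apply_ne (Ne.symm hn)]; simp
  · by_cases hn : n = a
    · subst hn
      rw [Matrix.one_apply_ne hm, if_neg hm]; simp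
    · have h1 := congrFun (congrFun hblk ⟨m, hm⟩) ⟨n, hn⟩
      rw [blk_apply] at h1
      simp only [] at h1
      rw [h1, Pi.single_apply, if_neg hn, mul_zero, add_zero, Matrix.one_apply, Matrix.one_apply]
      simp only [Subtype.mk.injEq]

/-- a matrix with row and column `a` equal to `e_a` and block an elementary transvection is an
elementary transvection -/
theorem eq_transvection_of (a : ι) (A : Matrix ι ι F) (hrow : RowAt a A) (hcol : ColAt a A)
    (haa : A a a = 1) (i j : {j : ι // j ≠ a}) (c : F) (hblk : blk a A = transvection i j c) :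
    A = transvection i.1 j.1 c := by
  ext m n
  rw [transvection, Matrix.add_apply, Matrix.single_apply]
  by_cases hm : m = a
  · subst hm
    have h1 : ¬ (i.1 = m ∧ j.1 = n) := fun h => i.2 h.1
    rw [if_neg h1, add_zero]
    by_cases hn : n = m
    · subst hn; rw [haa, Matrix.one_apply_eq]
    · rw [hrow n hn, Matrix.one_apply_ne (Ne.symm hn)]
  · by_cases hn : n = a
    · subst hn
      have h1 : ¬ (i.1 = m ∧ j.1 = n) := fun h => j.2 h.2
      rw [if_neg h1, add_zero, hcol m hm, Matrix.one_apply_ne hm]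
    · have h1 := congrFun (congrFun hblk ⟨m, hm⟩) ⟨n, hn⟩
      rw [blk_apply] at h1
      simp only [] at h1
      rw [h1, transvection, Matrix.add_apply, Matrix.single_apply, Matrix.one_apply, Matrix.one_apply]
      simp only [Subtype.ext_iff]

/-- conjugating an elementary transvection by a diagonal matrix -/
theorem diag_conj_transvection {κ : Type*} [Fintype κ] [DecidableEq κ] (d d' : κ → F)
    (hdd' : ∀ k, d k * d' k = 1) (i j : κ) (c : F) :
    diagonal d * transvection i j c * diagonal d' = transvection i j (d i * c * d' j) := by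
  ext m n
  rw [Matrix.mul_diagonal, Matrix.diagonal_mul, transvection, transvection, Matrix.add_apply,
    Matrix.add_apply, Matrix.single_apply, Matrix.single_apply]
  by_cases hmn : m = n
  · subst hmn
    rw [Matrix.one_apply_eq]
    by_cases h : i = m ∧ j = m
    · rw [if_pos h, if_pos h, h.1, h.2]
      have := hdd' m
      linear_combination this
    · rw [if_neg h, if_neg h]
      have := hdd' m
      linear_combination this
  · rw [Matrix.one_apply_ne hmn]
    by_cases h : i = m ∧ j = n
    · rw [if_pos h, if_pos h, h.1, h.2]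
      ring
    · rw [if_neg h, if_neg h]
      ring

theorem blk_diagonal (a : ι) (f : ι → F) :
    blk a (diagonal f) = diagonal (fun k : {j : ι // j ≠ a} => f k.1) := by
  unfold blk
  rw [submatrix_diagonal _ _ Subtype.val_injective]
  rfl

/-- the commutator `z t z⁻¹ t⁻¹` of an element with elementary block and a diagonal element -/
theorem comm_blk (a : ι) (z : GL ι F) (hrow : RowAt a (z : Matrix ι ι F)) (i j : {j : ι // j ≠ a})
    (hij : i ≠ j) (c : F) (hblk : blk a (z : Matrix ι ι F) = transvection i j c)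
    (d : ι → Fˣ) (hda : d a = 1) :
    RowAt a ((z * dg d * z⁻¹ * (dg d)⁻¹ : GL ι F) : Matrix ι ι F) ∧
    ((z * dg d * z⁻¹ * (dg d)⁻¹ : GL ι F) : Matrix ι ι F) a a = 1 ∧
    blk a ((z * dg d * z⁻¹ * (dg d)⁻¹ : GL ι F) : Matrix ι ι F) =
      transvection i j (c * (1 - (d i.1 : F) * (((d j.1)⁻¹ : Fˣ) : F))) := by
  have hval : ((z * dg d * z⁻¹ * (dg d)⁻¹ : GL ι F) : Matrix ι ι F) =
      (z : Matrix ι ι F) * diagonal (fun k => (d k : F)) * ((z⁻¹ : GL ι F) : Matrix ι ι F) *
        diagonal (fun k => (((d k)⁻¹ : Fˣ) : F)) := by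
    rw [Units.val_mul, Units.val_mul, Units.val_mul, dg_val, dg_inv_val]
  have hzi : RowAt a ((z⁻¹ : GL ι F) : Matrix ι ι F) := rowAt_inv a z hrow
  have hT : RowAt a (diagonal (fun k => (d k : F))) := rowAt_diagonal a _
  have hTi : RowAt a (diagonal (fun k => (((d k)⁻¹ : Fˣ) : F))) := rowAt_diagonal a _
  have h1 : RowAt a ((z : Matrix ι ι F) * diagonal (fun k => (d k : F))) := rowAt_mul a _ _ hrow hT
  have h2 : RowAt a ((z : Matrix ι ι F) * diagonal (fun k => (d k : F)) *
      ((z⁻¹ : GL ι F) : Matrix ι ι F)) := rowAt_mul a _ _ h1 hzi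
  have hblkzi : blk a ((z⁻¹ : GL ι F) : Matrix ι ι F) = transvection i j (-c) := by
    have e1 : blk a (z : Matrix ι ι F) * blk a ((z⁻¹ : GL ι F) : Matrix ι ι F) = 1 := by
      rw [← blk_mul a _ _ hzi, ← Units.val_mul, mul_inv_cancel, Units.val_one, blk_one]
    have e2 : transvection i j (-c) * transvection i j c = (1 : Matrix _ _ F) := by
      rw [transvection_mul_transvection_same _ _ hij, neg_add_cancel, transvection_zero]
    calc blk a ((z⁻¹ : GL ι F) : Matrix ι ι F)
        = (transvection i j (-c) * transvection i j c) * blk a ((z⁻¹ : GL ι F) : Matrix ι ι F) := by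
          rw [e2, Matrix.one_mul]
      _ = transvection i j (-c) * (blk a (z : Matrix ι ι F) * blk a ((z⁻¹ : GL ι F) : Matrix ι ι F)) := by
          rw [hblk, Matrix.mul_assoc]
      _ = transvection i j (-c) := by rw [e1, Matrix.mul_one]
  refine ⟨?_, ?_, ?_⟩
  · rw [hval]; exact rowAt_mul a _ _ h2 hTi
  · rw [hval, row_mul_of_rowAt a _ _ h2, row_mul_of_rowAt a _ _ h1, row_mul_of_rowAt a _ _ hrow,
      diagonal_apply_eq, diagonal_apply_eq, hda]
    have := inv_aa_of_rowAt a z hrow
    simp only [inv_one, Units.val_one, mul_one]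
    exact this
  · rw [hval, blk_mul a _ _ hTi, blk_mul a _ _ hzi, blk_mul a _ _ hT, hblk, hblkzi, blk_diagonal,
      blk_diagonal, Matrix.mul_assoc, Matrix.mul_assoc, ← Matrix.mul_assoc (diagonal _),
      diag_conj_transvection _ _ (fun k => by simp) i j (-c),
      transvection_mul_transvection_same _ _ hij]
    congr 1
    ring

theorem exists_unit_ne_one [Fintype F] (hq : 3 ≤ Fintype.card F) : ∃ s : Fˣ, s ≠ 1 := by
  classical
  obtain ⟨s, hs⟩ := exists_notMem_of_card_lt' ({0, 1} : Finset F)
    (lt_of_le_of_lt Finset.card_le_two (by omega))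
  simp only [Finset.mem_insert, Finset.mem_singleton, not_or] at hs
  refine ⟨Units.mk0 s hs.1, fun h => hs.2 ?_⟩
  have := congrArg Units.val h
  simpa using this

/-- a diagonal element of determinant one with `d a = 1`, `d i = d j`, `d m ≠ 1` -/
theorem exists_torus (hn : 5 ≤ Fintype.card ι) {a i j m : ι} (hia : i ≠ a) (hja : j ≠ a)
    (hij : i ≠ j) (hma : m ≠ a) (s : Fˣ) (hs : s ≠ 1) :
    ∃ d : ι → Fˣ, (∏ k, ((d k : Fˣ) : F)) = 1 ∧ d a = 1 ∧ d i = d j ∧ d m ≠ 1 := by
  by_cases hm : m = i ∨ m = j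
  · obtain ⟨a', ha'⟩ := exists_notMem_of_card_lt' ({a, i, j} : Finset ι)
      (lt_of_le_of_lt Finset.card_le_three (by omega))
    simp only [Finset.mem_insert, Finset.mem_singleton, not_or] at ha'
    obtain ⟨h1, h2, h3⟩ := ha'
    refine ⟨fun k => d2 i a' s k * d2 j a' s k, ?_, ?_, ?_, ?_⟩
    · have : ∀ k, (((d2 i a' s k * d2 j a' s k : Fˣ)) : F) = (d2 i a' s k : F) * (d2 j a' s k : F) :=
        fun k => Units.val_mul _ _
      rw [Finset.prod_congr rfl (fun k _ => this k), Finset.prod_mul_distrib,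
        d2_prod i a' (Ne.symm h2) s, d2_prod j a' (Ne.symm h3) s, mul_one]
    · simp only []
      rw [d2_of_ne i a' s (Ne.symm hia) (Ne.symm h1), d2_of_ne j a' s (Ne.symm hja) (Ne.symm h1), mul_one]
    · simp only []
      rw [d2_same, d2_same, d2_of_ne j a' s hij (Ne.symm h2), d2_of_ne i a' s (Ne.symm hij) (Ne.symm h3),
        mul_one, one_mul]
    · simp only []
      rcases hm with rfl | rfl
      · rw [d2_same, d2_of_ne j a' s hij (Ne.symm h2), mul_one]; exact hs
      · rw [d2_same, d2_of_ne i a' s (Ne.symm hij) (Ne.symm h3), one_mul]; exact hs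
  · push Not at hm
    obtain ⟨a', ha'⟩ := exists_notMem_of_card_lt' ({a, i, j, m} : Finset ι)
      (lt_of_le_of_lt Finset.card_le_four (by omega))
    simp only [Finset.mem_insert, Finset.mem_singleton, not_or] at ha'
    obtain ⟨h1, h2, h3, h4⟩ := ha'
    refine ⟨d2 m a' s, d2_prod m a' (Ne.symm h4) s, ?_, ?_, ?_⟩
    · rw [d2_of_ne m a' s (Ne.symm hma) (Ne.symm h1)]
    · rw [d2_of_ne m a' s (Ne.symm hm.1) (Ne.symm h2), d2_of_ne m a' s (Ne.symm hm.2) (Ne.symm h3)]
    · rw [d2_same]; exact hs

end Cfsg.Agent.Helper13.Mono
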