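/-
Helper13 (S5634 package): Step B of the monomial case, part 2: the row case.
-/
import Mathlib
import Cfsg.Agent.Helper13.MonoC

set_option autoImplicit false
set_option linter.unusedSectionVars false
set_option linter.unusedVariables false

namespace Cfsg.Agent.Helper13.Mono

open Matrix
open Cfsg.Agent.Helper93.MonoBLK Cfsg.Agent.Helper62.MonoAX

variable {ι : Type*} [Fintype ι] [DecidableEq ι] {F : Type*} [Field F] {M : Subgroup (GL ι F)}

theorem dg_mem_of_prod
    (hN : ∀ g : GL ι F, IsMonoMat (g : Matrix ι ι F) → (g : Matrix ι ι F).det = 1 → g ∈ M)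
    (d : ι → Fˣ) (hd : (∏ k, ((d k : Fˣ) : F)) = 1) : dg d ∈ M :=
  hN _ (by rw [dg_val]; exact isMonoMat_diagonal _) (by rw [det_dg, hd])

/-- Application A: a nonzero entry in column `a` gives a nontrivial `Z a γ` in `M` -/
theorem exists_Z_of_col [Fintype F] (hq : 3 ≤ Fintype.card F) (hn : 5 ≤ Fintype.card ι)
    (hN : ∀ g : GL ι F, IsMonoMat (g : Matrix ι ι F) → (g : Matrix ι ι F).det = 1 → g ∈ M)
    (a : ι) {z : GL ι F} (hz : z ∈ M) (hrow : RowAt a (z : Matrix ι ι F)) (i j : {j : ι // j ≠ a})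
    (hij : i ≠ j) (c : F) (hblk : blk a (z : Matrix ι ι F) = transvection i j c)
    {m : ι} (hma : m ≠ a) (hzm : (z : Matrix ι ι F) m a ≠ 0) :
    ∃ γ : ι → F, γ a = 0 ∧ γ ≠ 0 ∧ MatIn M (Z a γ) := by
  obtain ⟨s, hs⟩ := exists_unit_ne_one hq
  have hij' : i.1 ≠ j.1 := fun h => hij (Subtype.ext h)
  obtain ⟨d, hdprod, hda, hdij, hdm⟩ := exists_torus hn i.2 j.2 hij' hma s hs
  have hdM : dg d ∈ M := dg_mem_of_prod hN d hdprod
  obtain ⟨hkrow, hkaa, hkblk⟩ := comm_blk a z hrow i j hij c hblk d hda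
  set k : GL ι F := z * dg d * z⁻¹ * (dg d)⁻¹ with hk
  have hkM : k ∈ M := M.mul_mem (M.mul_mem (M.mul_mem hz hdM) (M.inv_mem hz)) (M.inv_mem hdM)
  have hkblk1 : blk a (k : Matrix ι ι F) = 1 := by
    rw [hkblk, hdij]
    have : ((d j.1 : Fˣ) : F) * (((d j.1)⁻¹ : Fˣ) : F) = 1 := by
      rw [← Units.val_mul, mul_inv_cancel, Units.val_one]
    rw [this, sub_self, mul_zero, transvection_zero]
  have hkZ := eq_Z_of a (k : Matrix ι ι F) hkrow hkaa hkblk1
  refine ⟨fun m' => if m' = a then 0 else (k : Matrix ι ι F) m' a, by simp, ?_, ?_⟩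
  · intro h0
    rw [h0, Z_zero] at hkZ
    have hk1 : k = 1 := Units.ext hkZ
    have hcomm : z * dg d = dg d * z := by
      have : z * dg d * z⁻¹ * (dg d)⁻¹ = 1 := hk1
      have h2 : z * dg d * z⁻¹ = dg d := by
        rw [mul_inv_eq_one] at this; exact this
      rw [mul_inv_eq_iff_eq_mul] at h2
      exact h2
    have hent := congrArg (fun g : GL ι F => (g : Matrix ι ι F) m a) hcomm
    simp only [Units.val_mul, dg_val, Matrix.mul_diagonal, Matrix.diagonal_mul, hda, Units.val_one,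
      mul_one] at hent
    apply hdm
    have h3 : ((d m : Fˣ) : F) = 1 := by
      have : (((d m : Fˣ) : F) - 1) * (z : Matrix ι ι F) m a = 0 := by linear_combination -hent
      rcases mul_eq_zero.mp this with h | h
      · linear_combination h
      · exact absurd h hzm
    exact Units.ext h3
  · rw [← hkZ]
    exact matIn_of_mem hkM

/-- Application B: if column `a` is also trivial, an elementary transvection lies in `M` -/
theorem exists_transvection_of_colAt [Fintype F] (hq : 3 ≤ Fintype.card F) (hn : 5 ≤ Fintype.card ι)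
    (hN : ∀ g : GL ι F, IsMonoMat (g : Matrix ι ι F) → (g : Matrix ι ι F).det = 1 → g ∈ M)
    (a : ι) {z : GL ι F} (hz : z ∈ M) (hrow : RowAt a (z : Matrix ι ι F))
    (hcol : ColAt a (z : Matrix ι ι F)) (i j : {j : ι // j ≠ a})
    (hij : i ≠ j) (c : F) (hc : c ≠ 0) (hblk : blk a (z : Matrix ι ι F) = transvection i j c) :
    ∃ c' : F, c' ≠ 0 ∧ MatIn M (transvection i.1 j.1 c') := by
  obtain ⟨s, hs⟩ := exists_unit_ne_one hq
  have hij' : i.1 ≠ j.1 := fun h => hij (Subtype.ext h)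
  obtain ⟨a', ha'⟩ := exists_notMem_of_card_lt' ({a, i.1, j.1} : Finset ι)
    (lt_of_le_of_lt Finset.card_le_three (by omega))
  simp only [Finset.mem_insert, Finset.mem_singleton, not_or] at ha'
  obtain ⟨h1, h2, h3⟩ := ha'
  set d : ι → Fˣ := d2 i.1 a' s with hd
  have hdM : dg d ∈ M := dg_mem_of_prod hN d (d2_prod i.1 a' (Ne.symm h2) s)
  have hda : d a = 1 := d2_of_ne i.1 a' s (Ne.symm i.2) (Ne.symm h1)
  have hdi : d i.1 = s := d2_same i.1 a' s
  have hdj : d j.1 = 1 := d2_of_ne i.1 a' s (Ne.symm hij') (Ne.symm h3)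
  obtain ⟨hkrow, hkaa, hkblk⟩ := comm_blk a z hrow i j hij c hblk d hda
  set k : GL ι F := z * dg d * z⁻¹ * (dg d)⁻¹ with hk
  have hkM : k ∈ M := M.mul_mem (M.mul_mem (M.mul_mem hz hdM) (M.inv_mem hz)) (M.inv_mem hdM)
  have hkcol : ColAt a (k : Matrix ι ι F) := by
    rw [hk, Units.val_mul, Units.val_mul, Units.val_mul, dg_val, dg_inv_val]
    exact colAt_mul a _ _ (colAt_mul a _ _ (colAt_mul a _ _ hcol (colAt_diagonal a _))
      (colAt_inv a z hcol)) (colAt_diagonal a _)
  rw [hdi, hdj] at hkblk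
  have hkE := eq_transvection_of a (k : Matrix ι ι F) hkrow hkcol hkaa i j _ hkblk
  refine ⟨c * (1 - (s : F) * (((1 : Fˣ)⁻¹ : Fˣ) : F)), ?_, ?_⟩
  · simp only [inv_one, Units.val_one, mul_one]
    refine mul_ne_zero hc ?_
    intro h
    apply hs
    exact Units.ext (by simp only [Units.val_one]; linear_combination -h)
  · rw [← hkE]
    exact matIn_of_mem hkM

end Cfsg.Agent.Helper13.Mono
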