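/-
Helper13 (S5634 package): Step B of the monomial case, part 3: monomial block, and the row case theorem.
-/
import Mathlib
import Cfsg.Agent.Helper13.MonoC2
import Cfsg.Agent.Helper88.MonoThmB

set_option autoImplicit false
set_option linter.unusedSectionVars false
set_option linter.unusedVariables false

namespace Cfsg.Agent.Helper13.Mono

open Matrix
open Cfsg.Agent.Helper93.MonoBLK Cfsg.Agent.Helper62.MonoAX

variable {ι : Type*} [Fintype ι] [DecidableEq ι] {F : Type*} [Field F] {M : Subgroup (GL ι F)}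

/-- a matrix with row `a` supported at `a`, column `a` supported at `a` and monomial block is monomial -/
theorem isMonoMat_of_blk (a : ι) (A : Matrix ι ι F) (hrow : RowAt a A) (hcol : ColAt a A)
    (hW : IsMonoMat (blk a A)) : IsMonoMat A := by
  obtain ⟨σ, hσ⟩ := hW
  refine ⟨Equiv.Perm.ofSubtype σ, fun m n hmn => ?_⟩
  by_cases hm : m = a
  · subst hm
    by_cases hn : n = m
    · subst hn
      rw [Equiv.Perm.ofSubtype_apply_of_not_mem σ (by simp)]
    · exact absurd (hrow n hn) hmn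
  · by_cases hn : n = a
    · subst hn
      exact absurd (hcol m hm) hmn
    · have := hσ ⟨m, hm⟩ ⟨n, hn⟩ (by rw [blk_apply]; exact hmn)
      rw [Equiv.Perm.ofSubtype_apply_of_mem σ hn, ← this]

/-- the case of a monomial block -/
theorem exists_Z_of_mono_blk
    (hN : ∀ g : GL ι F, IsMonoMat (g : Matrix ι ι F) → (g : Matrix ι ι F).det = 1 → g ∈ M)
    (hMsl : ∀ g ∈ M, (g : Matrix ι ι F).det = 1)
    (a : ι) {w : GL ι F} (hw : w ∈ M) (hwn : ¬ IsMonoMat (w : Matrix ι ι F))
    (hrow : RowAt a (w : Matrix ι ι F)) (hW : IsMonoMat (blk a (w : Matrix ι ι F))) :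
    ∃ γ : ι → F, γ a = 0 ∧ γ ≠ 0 ∧ MatIn M (Z a γ) := by
  have hww : (w : Matrix ι ι F) * ((w⁻¹ : GL ι F) : Matrix ι ι F) = 1 := by
    rw [← Units.val_mul, mul_inv_cancel, Units.val_one]
  set β : ι → F := fun m => if m = a then 0 else (w : Matrix ι ι F) m a with hβ
  have hβa : β a = 0 := by simp [hβ]
  have hβ0 : β ≠ 0 := by
    intro h0
    apply hwn
    refine isMonoMat_of_blk a _ hrow (fun m hm => ?_) hW
    have := congrFun h0 m
    simp only [hβ, if_neg hm, Pi.zero_apply] at this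
    exact this
  set γ : ι → F := ((w⁻¹ : GL ι F) : Matrix ι ι F) *ᵥ β with hγ
  have hwγ : (w : Matrix ι ι F) *ᵥ γ = β := by
    rw [hγ, Matrix.mulVec_mulVec, hww, Matrix.one_mulVec]
  have hγa : γ a = 0 := by
    rw [hγ, Matrix.mulVec, dotProduct]
    apply Finset.sum_eq_zero
    intro k _
    by_cases hk : k = a
    · rw [hk, hβa, mul_zero]
    · rw [rowAt_inv a w hrow k hk, zero_mul]
  have hγ0 : γ ≠ 0 := by
    intro h0
    apply hβ0
    rw [← hwγ, h0, Matrix.mulVec_zero]
  have hdot : (Pi.single a (1 : F) : ι → F) ⬝ᵥ (-γ) = 0 := by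
    rw [single_dotProduct, Pi.neg_apply, hγa, neg_zero, mul_zero]
  have hρ : (1 : F) + (Pi.single a (1 : F) : ι → F) ⬝ᵥ (-γ) ≠ 0 := by
    rw [hdot, add_zero]; exact one_ne_zero
  set ρ : GL ι F := rk1 (-γ) (Pi.single a (1 : F)) hρ with hρdef
  have hρval : (ρ : Matrix ι ι F) = Z a (-γ) := rfl
  set ν : GL ι F := w * ρ with hν
  have hνval : (ν : Matrix ι ι F) = (w : Matrix ι ι F) - vecMulVec β (Pi.single a (1 : F)) := by
    rw [hν, Units.val_mul, hρdef, rk1_val, Matrix.mul_add, Matrix.mul_one, mul_vecMulVec,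
      Matrix.mulVec_neg, hwγ]
    ext m n
    simp only [Matrix.add_apply, Matrix.sub_apply, vecMulVec_apply, Pi.neg_apply]
    ring
  have hνent : ∀ m n, (ν : Matrix ι ι F) m n =
      if n = a then (if m = a then (w : Matrix ι ι F) a a else 0) else (w : Matrix ι ι F) m n := by
    intro m n
    rw [hνval, Matrix.sub_apply, vecMulVec_apply, Pi.single_apply]
    by_cases hn : n = a
    · rw [if_pos hn, if_pos hn, mul_one]
      by_cases hm : m = a
      · rw [if_pos hm, hm, hn, hβa, sub_zero]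
      · rw [if_neg hm, hn]; simp only [hβ, if_neg hm, sub_self]
    · rw [if_neg hn, if_neg hn, mul_zero, sub_zero]
  have hνrow : RowAt a (ν : Matrix ι ι F) := by
    intro n hn
    rw [hνent, if_neg hn]
    exact hrow n hn
  have hνcol : ColAt a (ν : Matrix ι ι F) := by
    intro m hm
    rw [hνent, if_pos rfl, if_neg hm]
  have hνblk : blk a (ν : Matrix ι ι F) = blk a (w : Matrix ι ι F) := by
    ext m n
    rw [blk_apply, blk_apply, hνent, if_neg n.2]
  have hνmono : IsMonoMat (ν : Matrix ι ι F) :=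
    isMonoMat_of_blk a _ hνrow hνcol (by rw [hνblk]; exact hW)
  have hνdet : (ν : Matrix ι ι F).det = 1 := by
    rw [hν, Units.val_mul, Matrix.det_mul, hMsl w hw, hρdef, det_rk1, hdot, add_zero, one_mul]
  have hνM : ν ∈ M := hN ν hνmono hνdet
  have hρM : ρ ∈ M := by
    have : ρ = w⁻¹ * ν := by rw [hν, inv_mul_cancel_left]
    rw [this]
    exact M.mul_mem (M.inv_mem hw) hνM
  refine ⟨-γ, by rw [Pi.neg_apply, hγa, neg_zero], neg_ne_zero.mpr hγ0, ?_⟩
  rw [← hρval]
  exact matIn_of_mem hρM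

theorem card_subtype_ne (a : ι) : Fintype.card {j : ι // j ≠ a} = Fintype.card ι - 1 := by
  rw [Fintype.card_subtype_compl (fun x => x = a), Fintype.card_subtype_eq]

/-- **Row case**: a non-monomial element of `M` whose row `a` is supported at `a` forces `SL ≤ M` -/
theorem rowcase [Fintype F] (hq : 5 ≤ Fintype.card F) (hn : 13 ≤ Fintype.card ι)
    (hN : ∀ g : GL ι F, IsMonoMat (g : Matrix ι ι F) → (g : Matrix ι ι F).det = 1 → g ∈ M)
    (hMsl : ∀ g ∈ M, (g : Matrix ι ι F).det = 1)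
    (a : ι) {w : GL ι F} (hw : w ∈ M) (hwn : ¬ IsMonoMat (w : Matrix ι ι F))
    (hrow : RowAt a (w : Matrix ι ι F)) :
    ∀ g : GL ι F, (g : Matrix ι ι F).det = 1 → g ∈ M := by
  have hq3 : 3 ≤ Fintype.card F := by omega
  have hn4 : 4 ≤ Fintype.card ι := by omega
  have hn5 : 5 ≤ Fintype.card ι := by omega
  by_cases hW : IsMonoMat (blk a (w : Matrix ι ι F))
  · obtain ⟨γ, hγa, hγ0, hγM⟩ := exists_Z_of_mono_blk hN hMsl a hw hwn hrow hW
    exact axis_all hq3 hn4 M hN a γ hγa hγ0 hγM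
  · obtain ⟨G, hG⟩ := exists_blk_unit a w hrow
    have hGY : G ∈ blkSub M a := (mem_blkSub_iff M a G).mpr ⟨w, hw, hrow, hG.symm⟩
    have hκ : 3 ≤ Fintype.card {j : ι // j ≠ a} := by rw [card_subtype_ne]; omega
    have hGn : ¬ IsMonoMat (G : Matrix {j : ι // j ≠ a} {j : ι // j ≠ a} F) := by
      rw [hG]; exact hW
    obtain ⟨i, j, hij, c, hc, G', hG'Y, hG'val⟩ := Cfsg.Agent.Helper88.MonoB.thmB hq hκ (blkSub M a) (blkSub_diag M a hN)
      (blkSub_swap M a hN) G hGY hGn
    obtain ⟨z, hzM, hzrow, hzblk⟩ := (mem_blkSub_iff M a G').mp hG'Y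
    have hzblk' : blk a (z : Matrix ι ι F) = transvection i j c := by
      rw [← hG'val, ← hzblk]; rfl
    have hij' : i.1 ≠ j.1 := fun h => hij (Subtype.ext h)
    by_cases hcol : ColAt a (z : Matrix ι ι F)
    · obtain ⟨c', hc', hE⟩ := exists_transvection_of_colAt hq3 hn5 hN a hzM hzrow hcol i j hij c hc hzblk'
      rw [← Z_single] at hE
      refine axis_all hq3 hn4 M hN j.1 (Pi.single i.1 c') ?_ ?_ hE
      · rw [Pi.single_apply, if_neg (Ne.symm hij')]
      · intro h0
        have := congrFun h0 i.1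
        rw [Pi.single_eq_same, Pi.zero_apply] at this
        exact hc' this
    · unfold ColAt at hcol
      push Not at hcol
      obtain ⟨m, hma, hzm⟩ := hcol
      obtain ⟨γ, hγa, hγ0, hγM⟩ := exists_Z_of_col hq3 hn5 hN a hzM hzrow i j hij c hzblk' hma hzm
      exact axis_all hq3 hn4 M hN a γ hγa hγ0 hγM

end Cfsg.Agent.Helper13.Mono
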