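/-
Helper13 (S5634 package): the monomial case: a subgroup of `SL` containing the monomial matrices of determinant one
and a non-monomial element is `SL` (`q ≥ 5`, `n ≥ 13`).
-/
import Mathlib
import Cfsg.Agent.Helper13.MonoB2
import Cfsg.Agent.Helper13.MonoC3

set_option autoImplicit false
set_option linter.unusedSectionVars false
set_option linter.unusedVariables false

namespace Cfsg.Agent.Helper13.Mono

open Matrix
open Cfsg.Agent.Helper93.MonoBLK Cfsg.Agent.Helper62.MonoAX

variable {ι : Type*} [Fintype ι] [DecidableEq ι] {F : Type*} [Field F]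

theorem IsMonoMat.mul {A B : Matrix ι ι F} (hA : IsMonoMat A) (hB : IsMonoMat B) : IsMonoMat (A * B) := by
  obtain ⟨σ, hσ⟩ := hA
  obtain ⟨τ, hτ⟩ := hB
  refine ⟨σ * τ, fun i j hij => ?_⟩
  rw [Matrix.mul_apply] at hij
  obtain ⟨k, _, hk⟩ := Finset.exists_ne_zero_of_sum_ne_zero hij
  have h1 : A i k ≠ 0 := left_ne_zero_of_mul hk
  have h2 : B k j ≠ 0 := right_ne_zero_of_mul hk
  rw [Equiv.Perm.mul_apply, ← hτ k j h2, ← hσ i k h1]

theorem IsMonoMat.transpose {A : Matrix ι ι F} (hA : IsMonoMat A) : IsMonoMat Aᵀ := by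
  obtain ⟨σ, hσ⟩ := hA
  refine ⟨σ⁻¹, fun i j hij => ?_⟩
  rw [Matrix.transpose_apply] at hij
  have := hσ j i hij
  rw [this]
  simp

/-- the transpose-inverse automorphism -/
def tinv : GL ι F →* GL ι F where
  toFun g :=
    { val := ((g⁻¹ : GL ι F) : Matrix ι ι F)ᵀ
      inv := (g : Matrix ι ι F)ᵀ
      val_inv := by
        rw [← Matrix.transpose_mul, ← Units.val_mul, mul_inv_cancel, Units.val_one, Matrix.transpose_one]
      inv_val := by
        rw [← Matrix.transpose_mul, ← Units.val_mul, inv_mul_cancel, Units.val_one, Matrix.transpose_one] }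
  map_one' := by
    apply Units.ext
    show ((1⁻¹ : GL ι F) : Matrix ι ι F)ᵀ = 1
    rw [inv_one, Units.val_one, Matrix.transpose_one]
  map_mul' g h := by
    apply Units.ext
    show (((g * h)⁻¹ : GL ι F) : Matrix ι ι F)ᵀ =
      ((g⁻¹ : GL ι F) : Matrix ι ι F)ᵀ * ((h⁻¹ : GL ι F) : Matrix ι ι F)ᵀ
    rw [_root_.mul_inv_rev, Units.val_mul, Matrix.transpose_mul]

theorem tinv_val (g : GL ι F) : ((tinv g : GL ι F) : Matrix ι ι F) = ((g⁻¹ : GL ι F) : Matrix ι ι F)ᵀ := rfl

theorem tinv_inv_val (g : GL ι F) : (((tinv g)⁻¹ : GL ι F) : Matrix ι ι F) = (g : Matrix ι ι F)ᵀ := rfl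

theorem tinv_tinv (g : GL ι F) : tinv (tinv g) = g := by
  apply Units.ext
  rw [tinv_val, tinv_inv_val, Matrix.transpose_transpose]

theorem det_inv_val_eq_one {g : GL ι F} (h : (g : Matrix ι ι F).det = 1) :
    ((g⁻¹ : GL ι F) : Matrix ι ι F).det = 1 := by
  have : (g : Matrix ι ι F).det * ((g⁻¹ : GL ι F) : Matrix ι ι F).det = 1 := by
    rw [← Matrix.det_mul, ← Units.val_mul, mul_inv_cancel, Units.val_one, Matrix.det_one]
  rw [h, one_mul] at this
  exact this

theorem det_tinv {g : GL ι F} (h : (g : Matrix ι ι F).det = 1) :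
    ((tinv g : GL ι F) : Matrix ι ι F).det = 1 := by
  rw [tinv_val, Matrix.det_transpose, det_inv_val_eq_one h]

theorem isMonoMat_tinv {g : GL ι F} (h : IsMonoMat (g : Matrix ι ι F)) :
    IsMonoMat ((tinv g : GL ι F) : Matrix ι ι F) := by
  rw [tinv_val]
  refine IsMonoMat.transpose (IsMonoMat.of_inv (A := (g : Matrix ι ι F)) ?_ h)
  rw [← Units.val_mul, inv_mul_cancel, Units.val_one]

/-- if column `b` of `w` is supported at `a` then column `a` of `w⁻¹` is supported at `b` -/
theorem inv_col_of_col {w : GL ι F} {a b : ι} (hw : ∀ i, i ≠ a → (w : Matrix ι ι F) i b = 0) :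
    ∀ m, m ≠ b → ((w⁻¹ : GL ι F) : Matrix ι ι F) m a = 0 := by
  have h1 : ((w⁻¹ : GL ι F) : Matrix ι ι F) * (w : Matrix ι ι F) = 1 := by
    rw [← Units.val_mul, inv_mul_cancel, Units.val_one]
  have hent : ∀ m, (((w⁻¹ : GL ι F) : Matrix ι ι F) * (w : Matrix ι ι F)) m b =
      ((w⁻¹ : GL ι F) : Matrix ι ι F) m a * (w : Matrix ι ι F) a b := by
    intro m
    rw [Matrix.mul_apply]
    apply Finset.sum_eq_single a
    · intro k _ hk
      rw [hw k hk, mul_zero]
    · intro h; exact absurd (Finset.mem_univ a) h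
  have hab : (w : Matrix ι ι F) a b ≠ 0 := by
    have := hent b
    rw [h1, Matrix.one_apply_eq] at this
    exact right_ne_zero_of_mul_eq_one this.symm
  intro m hm
  have := hent m
  rw [h1, Matrix.one_apply_ne hm] at this
  rcases mul_eq_zero.mp this.symm with h | h
  · exact h
  · exact absurd h hab

section core

variable [Fintype F] {M : Subgroup (GL ι F)}

/-- row case, general position of the nonzero entry -/
theorem rowcase' (hq : 5 ≤ Fintype.card F) (hn : 13 ≤ Fintype.card ι)
    (hN : ∀ g : GL ι F, IsMonoMat (g : Matrix ι ι F) → (g : Matrix ι ι F).det = 1 → g ∈ M)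
    (hMsl : ∀ g ∈ M, (g : Matrix ι ι F).det = 1)
    {w : GL ι F} (hw : w ∈ M) (hwn : ¬ IsMonoMat (w : Matrix ι ι F)) {a b : ι}
    (hrow : ∀ j, j ≠ b → (w : Matrix ι ι F) a j = 0) :
    ∀ g : GL ι F, (g : Matrix ι ι F).det = 1 → g ∈ M := by
  by_cases hab : a = b
  · subst hab
    exact rowcase hq hn hN hMsl a hw hwn hrow
  · have hdet : (nu a b : Matrix ι ι F).det = 1 := det_nu hab
    set ν : GL ι F := Matrix.GeneralLinearGroup.mkOfDetNeZero (nu a b)
      (by rw [hdet]; exact one_ne_zero) with hνdef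
    have hνval : (ν : Matrix ι ι F) = nu a b := rfl
    have hνmono : IsMonoMat (ν : Matrix ι ι F) := by rw [hνval]; exact isMonoMat_nu a b
    have hνM : ν ∈ M := hN ν hνmono (by rw [hνval]; exact hdet)
    have hw'M : w * ν ∈ M := M.mul_mem hw hνM
    have hw'n : ¬ IsMonoMat ((w * ν : GL ι F) : Matrix ι ι F) := by
      intro h
      apply hwn
      have hνi : IsMonoMat ((ν⁻¹ : GL ι F) : Matrix ι ι F) := by
        refine IsMonoMat.of_inv (A := (ν : Matrix ι ι F)) ?_ hνmono
        rw [← Units.val_mul, inv_mul_cancel, Units.val_one]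
      have : (w : Matrix ι ι F) = ((w * ν : GL ι F) : Matrix ι ι F) * ((ν⁻¹ : GL ι F) : Matrix ι ι F) := by
        rw [← Units.val_mul, mul_inv_cancel_right]
      rw [this]
      exact IsMonoMat.mul h hνi
    refine rowcase hq hn hN hMsl a hw'M hw'n ?_
    intro j hj
    rw [Units.val_mul, Matrix.mul_apply]
    apply Finset.sum_eq_zero
    intro k _
    by_cases hk : k = b
    · subst hk
      rw [hνval, nu_apply]
      have : k ≠ Equiv.swap a k j := by
        intro h
        apply hj
        have h' := congrArg (Equiv.swap a k) h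
        rw [Equiv.swap_apply_right, Equiv.swap_apply_self] at h'
        exact h'.symm
      rw [if_neg this, mul_zero]
    · rw [hrow k hk, zero_mul]

/-- **the monomial case**: `M ≤ SL` contains the monomial matrices of determinant one and a non-monomial
element; then `M` contains every matrix of determinant one -/
theorem core_mono (hq : 5 ≤ Fintype.card F) (hn : 13 ≤ Fintype.card ι)
    (hN : ∀ g : GL ι F, IsMonoMat (g : Matrix ι ι F) → (g : Matrix ι ι F).det = 1 → g ∈ M)
    (hMsl : ∀ g ∈ M, (g : Matrix ι ι F).det = 1)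
    {x : GL ι F} (hx : x ∈ M) (hxn : ¬ IsMonoMat (x : Matrix ι ι F)) :
    ∀ g : GL ι F, (g : Matrix ι ι F).det = 1 → g ∈ M := by
  obtain ⟨w, hwM, hwn, ⟨a, b, hrow⟩ | ⟨a, b, hcol⟩⟩ := stepA hq hn hN hx hxn
  · exact rowcase' hq hn hN hMsl hwM hwn hrow
  · -- transpose-inverse
    set M' : Subgroup (GL ι F) := M.comap tinv with hM'
    have hN' : ∀ g : GL ι F, IsMonoMat (g : Matrix ι ι F) → (g : Matrix ι ι F).det = 1 → g ∈ M' := by
      intro g hg hdet
      rw [hM', Subgroup.mem_comap]
      exact hN _ (isMonoMat_tinv hg) (det_tinv hdet)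
    have hMsl' : ∀ g ∈ M', (g : Matrix ι ι F).det = 1 := by
      intro g hg
      rw [hM', Subgroup.mem_comap] at hg
      have := det_tinv (hMsl _ hg)
      rw [tinv_tinv] at this
      exact this
    have hw' : tinv w ∈ M' := by
      rw [hM', Subgroup.mem_comap, tinv_tinv]; exact hwM
    have hw'n : ¬ IsMonoMat ((tinv w : GL ι F) : Matrix ι ι F) := by
      intro h
      apply hwn
      have := isMonoMat_tinv h
      rw [tinv_tinv] at this
      exact this
    have hrow' : ∀ j, j ≠ b → ((tinv w : GL ι F) : Matrix ι ι F) a j = 0 := by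
      intro j hj
      rw [tinv_val, Matrix.transpose_apply]
      exact inv_col_of_col hcol j hj
    have hall := rowcase' hq hn hN' hMsl' hw' hw'n hrow'
    intro g hg
    have := hall (tinv g) (det_tinv hg)
    rw [hM', Subgroup.mem_comap, tinv_tinv] at this
    exact this

end core

end Cfsg.Agent.Helper13.Mono
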