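/-
Helper13 (S5634 package): assembly.  The stabiliser in `SL_n(q)` of an `m`-decomposition is maximal.
-/
import Mathlib
import Cfsg.Prelude.Def_GeometricClasses
import Cfsg.Agent.Helper13.MonoD
import Cfsg.Agent.Helper31.MonoM2a
import Cfsg.Agent.Helper67.MonoM2c
import Cfsg.Agent.Helper69.GeoR
import Cfsg.Agent.Helper34.MonoM2b

set_option autoImplicit false
set_option linter.unusedSectionVars false
set_option linter.unusedVariables false

namespace Cfsg.Agent.Helper13.Mono

open Matrix Cfsg.Geo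

/-- the case of blocks of size at least two -/
theorem core_block {τ κ : Type*} [Fintype τ] [DecidableEq τ] [Fintype κ] [DecidableEq κ]
    {F : Type*} [Field F] [Fintype F] (hκ : 2 ≤ Fintype.card κ)
    (h2 : ¬ (Fintype.card κ = 2 ∧ Fintype.card F = 2))
    (h3 : Fintype.card κ = 2 → 3 ≤ Fintype.card τ) (M : Subgroup (GL (τ × κ) F))
    (hN : ∀ g : GL (τ × κ) F, IsBlockMono (Prod.fst : τ × κ → τ) (g : Matrix (τ × κ) (τ × κ) F) →
      (g : Matrix (τ × κ) (τ × κ) F).det = 1 → g ∈ M)
    {x : GL (τ × κ) F} (hx : x ∈ M)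
    (hxn : ¬ IsBlockMono (Prod.fst : τ × κ → τ) (x : Matrix (τ × κ) (τ × κ) F)) :
    ∀ g : GL (τ × κ) F, (g : Matrix (τ × κ) (τ × κ) F).det = 1 → g ∈ M := by
  obtain ⟨u, φ, hφu, hφ, hM, hu⟩ := Cfsg.Agent.Helper31.MonoM2a.m2a hκ M hN x hx hxn
  obtain ⟨w, χ, b, c, hbc, hw, hχ, hw0, hχ0, hM'⟩ :=
    Cfsg.Agent.Helper34.MonoM2b.m2b hκ h2 h3 M hN u φ hφu hφ hM hu
  exact Cfsg.Agent.Helper67.MonoM2c.m2c hκ M hN w χ b c hbc hw hχ hw0 hχ0 hM'

/-- the coordinate form of the theorem -/
theorem core_coord {t m : ℕ} {F : Type*} [Field F] [Fintype F] (hm : 0 < m) (h13 : 13 ≤ t * m)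
    (h1 : ¬ (m = 1 ∧ Fintype.card F ≤ 4)) (h2 : ¬ (m = 2 ∧ Fintype.card F = 2))
    (M : Subgroup (GL (Fin t × Fin m) F))
    (hN : ∀ g : GL (Fin t × Fin m) F, IsBlockMono (Prod.fst : Fin t × Fin m → Fin t)
      (g : Matrix (Fin t × Fin m) (Fin t × Fin m) F) →
      (g : Matrix (Fin t × Fin m) (Fin t × Fin m) F).det = 1 → g ∈ M)
    (hMsl : ∀ g ∈ M, (g : Matrix (Fin t × Fin m) (Fin t × Fin m) F).det = 1)
    {x : GL (Fin t × Fin m) F} (hx : x ∈ M)
    (hxn : ¬ IsBlockMono (Prod.fst : Fin t × Fin m → Fin t)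
      (x : Matrix (Fin t × Fin m) (Fin t × Fin m) F)) :
    ∀ g : GL (Fin t × Fin m) F, (g : Matrix (Fin t × Fin m) (Fin t × Fin m) F).det = 1 → g ∈ M := by
  by_cases hm1 : m = 1
  · subst hm1
    have hbij : Function.Bijective (Prod.fst : Fin t × Fin 1 → Fin t) := by
      constructor
      · rintro ⟨a, b⟩ ⟨a', b'⟩ h
        simp only at h
        subst h
        congr 1
        exact Subsingleton.elim _ _
      · intro a; exact ⟨(a, 0), rfl⟩
    have hq : 5 ≤ Fintype.card F := by
      by_contra h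
      exact h1 ⟨rfl, by omega⟩
    have hn : 13 ≤ Fintype.card (Fin t × Fin 1) := by
      rw [Fintype.card_prod, Fintype.card_fin, Fintype.card_fin]; exact h13
    refine core_mono hq hn (fun g hg hdet => hN g ((isBlockMono_iff_isMonoMat hbij _).mpr hg) hdet) hMsl hx
      (fun h => hxn ((isBlockMono_iff_isMonoMat hbij _).mpr h))
  · have hκ : 2 ≤ Fintype.card (Fin m) := by rw [Fintype.card_fin]; omega
    refine core_block hκ ?_ ?_ M hN hx hxn
    · rw [Fintype.card_fin]; exact h2
    · rw [Fintype.card_fin, Fintype.card_fin]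
      intro h
      subst h
      omega

theorem mem_specialLinear_iff {n : ℕ} {F : Type*} [Field F] (g : GL (Fin n) F) :
    g ∈ specialLinear (Fin n) F ↔ (g : Matrix (Fin n) (Fin n) F).det = 1 := by
  constructor
  · intro hg
    have h : Matrix.GeneralLinearGroup.det g = 1 := hg
    have := congrArg Units.val h
    simpa using this
  · intro hg
    show Matrix.GeneralLinearGroup.det g = 1
    apply Units.ext
    simpa using hg

/-- **S5634**: the stabiliser in `SL_n(q)` of an `m`-decomposition is a maximal subgroup -/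
theorem decomposition_stabilizer_maximal {F : Type*} [Field F] [Fintype F] (n : ℕ) (hn : 13 ≤ n) {t : ℕ}
    (m : ℕ) (D : Fin t → Submodule F (Fin n → F)) (hD : IsMDecomposition m D)
    (h1 : ¬ (m = 1 ∧ Fintype.card F ≤ 4)) (h2 : ¬ (m = 2 ∧ Fintype.card F = 2)) :
    IsMaximalIn (specialLinear (Fin n) F) (decompositionStabilizer D ⊓ specialLinear (Fin n) F) := by
  obtain ⟨htm, Φ, hdet, hstab⟩ := Cfsg.Agent.Helper69.GeoR.exists_coord_equiv m D hD
  have hmpos : 0 < m := hD.pos
  have ht2 : 2 ≤ t := hD.two_le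
  have h13 : 13 ≤ t * m := by rw [htm]; exact hn
  refine ⟨lt_of_le_of_ne inf_le_right ?_, ?_⟩
  · -- proper
    intro heq
    have hne : ((⟨0, by omega⟩ : Fin t), (⟨0, hmpos⟩ : Fin m)) ≠ ((⟨1, by omega⟩ : Fin t), (⟨0, hmpos⟩ : Fin m)) := by
      intro h
      have := congrArg (fun p => (p.1 : ℕ)) h
      simp at this
    set e : GL (Fin t × Fin m) F := elGL hne 1 with he
    set g : GL (Fin n) F := Φ.symm e with hg
    have hΦg : Φ g = e := by rw [hg, MulEquiv.apply_symm_apply]
    have hgdet : (g : Matrix (Fin n) (Fin n) F).det = 1 := by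
      rw [← hdet g, hΦg, he, det_elGL]
    have hgK : g ∈ specialLinear (Fin n) F := (mem_specialLinear_iff g).mpr hgdet
    rw [← heq] at hgK
    have hgS : g ∈ decompositionStabilizer D := hgK.1
    rw [hstab g, hΦg, he, elGL_val] at hgS
    have hsurj : Function.Surjective (Prod.fst : Fin t × Fin m → Fin t) :=
      fun a => ⟨(a, ⟨0, hmpos⟩), rfl⟩
    refine not_isBlockMono_transvection hsurj ?_ one_ne_zero hgS
    intro h
    have := congrArg (fun p : Fin t => (p : ℕ)) h
    simp at this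
  · intro M' hHM hMK
    by_cases hMH : M' = decompositionStabilizer D ⊓ specialLinear (Fin n) F
    · exact Or.inl hMH
    · right
      apply le_antisymm hMK
      have hnle : ¬ M' ≤ decompositionStabilizer D ⊓ specialLinear (Fin n) F :=
        fun h => hMH (le_antisymm h hHM)
      obtain ⟨x, hxM, hxH⟩ := SetLike.not_le_iff_exists.mp hnle
      have hxK : x ∈ specialLinear (Fin n) F := hMK hxM
      have hxS : x ∉ decompositionStabilizer D := fun h => hxH ⟨h, hxK⟩
      set M'' : Subgroup (GL (Fin t × Fin m) F) := M'.map Φ.toMonoidHom with hM''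
      have hmem : ∀ g, g ∈ M' → Φ g ∈ M'' := fun g hg => Subgroup.mem_map_of_mem _ hg
      have hN'' : ∀ g' : GL (Fin t × Fin m) F, IsBlockMono (Prod.fst : Fin t × Fin m → Fin t)
          (g' : Matrix (Fin t × Fin m) (Fin t × Fin m) F) →
          (g' : Matrix (Fin t × Fin m) (Fin t × Fin m) F).det = 1 → g' ∈ M'' := by
        intro g' hg' hdet'
        have h1' : Φ (Φ.symm g') = g' := MulEquiv.apply_symm_apply _ _
        have hS : Φ.symm g' ∈ decompositionStabilizer D := by rw [hstab, h1']; exact hg'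
        have hK : Φ.symm g' ∈ specialLinear (Fin n) F := by
          rw [mem_specialLinear_iff, ← hdet, h1']; exact hdet'
        rw [← h1']
        exact hmem _ (hHM ⟨hS, hK⟩)
      have hMsl'' : ∀ g' ∈ M'', (g' : Matrix (Fin t × Fin m) (Fin t × Fin m) F).det = 1 := by
        rintro g' ⟨g, hg, rfl⟩
        show ((Φ g : GL (Fin t × Fin m) F) : Matrix (Fin t × Fin m) (Fin t × Fin m) F).det = 1
        rw [hdet]
        exact (mem_specialLinear_iff g).mp (hMK hg)
      have hxn : ¬ IsBlockMono (Prod.fst : Fin t × Fin m → Fin t)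
          ((Φ x : GL (Fin t × Fin m) F) : Matrix (Fin t × Fin m) (Fin t × Fin m) F) := by
        rw [← hstab]; exact hxS
      have hall := core_coord hmpos h13 h1 h2 M'' hN'' hMsl'' (hmem x hxM) hxn
      intro g hgK
      have hgdet := (mem_specialLinear_iff g).mp hgK
      have := hall (Φ g) (by rw [hdet]; exact hgdet)
      obtain ⟨g₀, hg₀, hg₀eq⟩ := this
      have : g₀ = g := Φ.injective hg₀eq
      rw [← this]
      exact hg₀

end Cfsg.Agent.Helper13.Mono
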