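/-
Helper13 (S5634 package): two field lemmas for "Theorem B".
-/
import Mathlib

set_option autoImplicit false

namespace Cfsg.Agent.Helper13.Mono

variable {F : Type*} [Field F] [Fintype F]

/-- a nonzero polynomial of degree at most two has at most two roots -/
theorem quad_roots_card_le_two [DecidableEq F] (a b c : F) (h : a ≠ 0 ∨ b ≠ 0) :
    (Finset.univ.filter fun ε : F => a * ε ^ 2 + b * ε + c = 0).card ≤ 2 := by
  by_contra hcon
  push Not at hcon
  obtain ⟨x, y, z, hx, hy, hz, hxy, hxz, hyz⟩ := Finset.two_lt_card_iff.mp hcon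
  simp only [Finset.mem_filter, Finset.mem_univ, true_and] at hx hy hz
  have h1 : (x - y) * (a * (x + y) + b) = 0 := by linear_combination hx - hy
  have h2 : (x - z) * (a * (x + z) + b) = 0 := by linear_combination hx - hz
  have h1' : a * (x + y) + b = 0 := by
    rcases mul_eq_zero.mp h1 with h | h
    · exact absurd (sub_eq_zero.mp h) hxy
    · exact h
  have h2' : a * (x + z) + b = 0 := by
    rcases mul_eq_zero.mp h2 with h | h
    · exact absurd (sub_eq_zero.mp h) hxz
    · exact h
  have h3 : a * (y - z) = 0 := by linear_combination h1' - h2'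
  have ha : a = 0 := by
    rcases mul_eq_zero.mp h3 with h | h
    · exact h
    · exact absurd (sub_eq_zero.mp h) hyz
  have hb : b = 0 := by rw [ha] at h1'; linear_combination h1'
  rcases h with h | h
  · exact h ha
  · exact h hb

/-- (P1) the choice of `ε` for `q ≥ 7` -/
theorem exists_eps (hq : 7 ≤ Fintype.card F) (c1 c2 : F) :
    ∃ ε : F, ε ≠ 0 ∧ ε ≠ 1 ∧ (ε - 1) * (ε⁻¹ - 1) * c1 ≠ 1 ∧ (ε - 1) * (ε⁻¹ - 1) * c2 ≠ 1 := by
  classical
  set B : F → Finset F := fun c => Finset.univ.filter fun ε : F => c * ε ^ 2 + (1 - 2 * c) * ε + c = 0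
    with hB
  have hBc : ∀ c, (B c).card ≤ 2 := by
    intro c
    apply quad_roots_card_le_two
    by_cases hc : c = 0
    · right; rw [hc]; simp
    · left; exact hc
  have hcard : (({0, 1} : Finset F) ∪ B c1 ∪ B c2).card < Fintype.card F := by
    have h1 := Finset.card_union_le (({0, 1} : Finset F) ∪ B c1) (B c2)
    have h2 := Finset.card_union_le ({0, 1} : Finset F) (B c1)
    have h3 : ({0, 1} : Finset F).card ≤ 2 := Finset.card_le_two
    have := hBc c1
    have := hBc c2
    omega
  have hex : ∃ ε, ε ∉ (({0, 1} : Finset F) ∪ B c1 ∪ B c2) := by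
    by_contra hc
    push Not at hc
    have : (({0, 1} : Finset F) ∪ B c1 ∪ B c2) = Finset.univ := Finset.eq_univ_iff_forall.mpr hc
    rw [this, Finset.card_univ] at hcard
    exact lt_irrefl _ hcard
  obtain ⟨ε, hε⟩ := hex
  simp only [Finset.mem_union, Finset.mem_insert, Finset.mem_singleton, not_or, hB, Finset.mem_filter,
    Finset.mem_univ, true_and] at hε
  obtain ⟨⟨⟨h0, h1⟩, hq1⟩, hq2⟩ := hε
  have key : ∀ c : F, c * ε ^ 2 + (1 - 2 * c) * ε + c ≠ 0 → (ε - 1) * (ε⁻¹ - 1) * c ≠ 1 := by
    intro c hc h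
    apply hc
    have e : ε * (ε⁻¹ - 1) = 1 - ε := by rw [mul_sub, mul_inv_cancel₀ h0, mul_one]
    have h'' : (ε - 1) * (1 - ε) * c = ε := by
      calc (ε - 1) * (1 - ε) * c = ε * ((ε - 1) * (ε⁻¹ - 1) * c) := by rw [← e]; ring
        _ = ε := by rw [h, mul_one]
    linear_combination -h''
  exact ⟨ε, h0, h1, key c1 hq1, key c2 hq2⟩

/-- (P2) the field with five elements -/
theorem f5_cases (h : Fintype.card F = 5) :
    (5 : F) = 0 ∧ ∀ x : F, x = 0 ∨ x = 1 ∨ x = 2 ∨ x = 3 ∨ x = 4 := by
  classical
  have h5 : (5 : F) = 0 := by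
    have := FiniteField.cast_card_eq_zero F
    rw [h] at this
    exact_mod_cast this
  have : CharP F 5 := by
    have hdvd : ringChar F ∣ 5 := by
      apply ringChar.dvd
      exact_mod_cast h5
    rcases (Nat.dvd_prime (by norm_num : Nat.Prime 5)).mp hdvd with h1 | h1
    · exfalso
      have : CharP F 1 := h1 ▸ ringChar.charP F
      exact CharP.char_ne_one F 1 rfl
    · exact h1 ▸ ringChar.charP F
  refine ⟨h5, ?_⟩
  have hinj : Function.Injective (fun i : Fin 5 => ((i : ℕ) : F)) := by
    intro i j hij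
    simp only at hij
    have := (CharP.natCast_eq_natCast F 5).mp hij
    apply Fin.ext
    have hi := i.2
    have hj := j.2
    unfold Nat.ModEq at this
    rw [Nat.mod_eq_of_lt hi, Nat.mod_eq_of_lt hj] at this
    exact this
  have hbij : Function.Bijective (fun i : Fin 5 => ((i : ℕ) : F)) := by
    rw [Fintype.bijective_iff_injective_and_card]
    exact ⟨hinj, by rw [Fintype.card_fin, h]⟩
  intro x
  obtain ⟨i, rfl⟩ := hbij.2 x
  fin_cases i
  · left; simp
  · right; left; simp
  · right; right; left; simp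
  · right; right; right; left; simp
  · right; right; right; right; simp

end Cfsg.Agent.Helper13.Mono
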