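import Mathlib

/-! # S5977 / S5978: the arithmetic definitions (orders of orthogonal groups, the condition on `ord_r(q)`) -/

set_option autoImplicit false

namespace Cfsg.Agent.Helper13.QFE

/-- order of `O⁺_{2d}(q)` -/
def cardOp (q d : ℕ) : ℕ :=
  2 * q ^ (d * (d - 1)) * (q ^ d - 1) * ∏ i ∈ Finset.range (d - 1), (q ^ (2 * (i + 1)) - 1)

/-- order of `O⁻_{2d}(q)` -/
def cardOm (q d : ℕ) : ℕ :=
  2 * q ^ (d * (d - 1)) * (q ^ d + 1) * ∏ i ∈ Finset.range (d - 1), (q ^ (2 * (i + 1)) - 1)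

/-- order of `O_{2m+1}(q)` -/
def cardOo (q m : ℕ) : ℕ :=
  2 * q ^ (m ^ 2) * ∏ i ∈ Finset.range m, (q ^ (2 * (i + 1)) - 1)

/-- the arithmetic condition on `i = ord_r(q)` -/
def ICond (q r d : ℕ) (ε : ℤ) : Prop :=
  (Odd (orderOf (q : ZMod r)) ∧ orderOf (q : ZMod r) ≤ d ∧ (orderOf (q : ZMod r) = d → ε = 1)) ∨
  (orderOf (q : ZMod r) % 4 = 2 ∧ orderOf (q : ZMod r) ≤ 2 * d ∧
    (orderOf (q : ZMod r) = 2 * d → ε = -1))

end Cfsg.Agent.Helper13.QFE
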