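import Mathlib
import Cfsg.Agent.Helper12.QFEINV1
import Cfsg.Agent.Helper44.OmegaIndex
import Cfsg.Agent.Helper44.QTypeAniso
import Cfsg.Agent.Helper44.OrthOddA
import Cfsg.Agent.Helper44.OrthRealizeE
import Cfsg.Agent.Helper45.QSimIDX
import Cfsg.Agent.Helper45.OmegaTrans2
import Cfsg.Agent.Helper99.OrthJTF
import Cfsg.Agent.Helper81.FExtK3
import Cfsg.Agent.Helper13.QFEDefs
import Cfsg.Agent.Helper13.QFEArith
import Cfsg.Agent.Helper14.QFEE1
import Cfsg.Agent.Helper97.QFEE2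
import Cfsg.Agent.Helper97.QFEL0
import Cfsg.Agent.Helper3.QFEM1
import Cfsg.Agent.Helper47.QFEM1p
import Cfsg.Agent.Helper32.QFEM3
import Cfsg.Agent.Helper68.QFEM4
import Cfsg.Agent.Helper68.QFEM5
import Cfsg.Agent.Helper14.QFEM6
import Cfsg.Agent.Helper14.QFEC1
import Cfsg.Agent.Helper65.QFEC2a
import Cfsg.Agent.Helper32.QFEC2b
import Cfsg.Agent.Helper65.QFEINV2
import Cfsg.Agent.Helper67.QFENEG2
import Cfsg.Agent.Helper67.QFENEG3
import Cfsg.Agent.Helper65.QFEIDX1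
import Cfsg.Agent.Helper63.QFEAE
import Cfsg.Agent.Helper63.QFEAO
import Cfsg.Agent.Helper22.QFEPO
import Cfsg.Agent.Helper22.QFEPE
import Cfsg.Agent.Helper97.QFERANK
import Cfsg.Agent.Helper12.QFEM2
import Cfsg.Agent.Helper12.QFESIEGEL
import Cfsg.Agent.Helper67.QFENEG1
import Cfsg.Agent.Helper44.StdForms
import Cfsg.Agent.Helper44.StdNondeg
import Cfsg.Agent.Helper44.OrthPrimeArith

/-! # S5977 / S5978: assembly -/

set_option autoImplicit false

namespace Cfsg.Agent.Helper13.QFEAsm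

open Matrix Cfsg Cfsg.Geo QuadraticMap Polynomial
open Cfsg.Agent.Helper44 Cfsg.Agent.Helper44.QType Cfsg.Agent.Helper13.QFE
open Cfsg.Agent.Helper12.QFEINV1 (exists_tdata_commute)
open Cfsg.Agent.Helper14.QFEE1 (exists_tdata)
open Cfsg.Agent.Helper97.QFEE2 (mem_normalizer_of_conj)
open Cfsg.Agent.Helper97.QFEL0 (exists_qext)
open Cfsg.Agent.Helper3.QFEM1 (exists_model)
open Cfsg.Agent.Helper47.QFEM1p (model_nondeg)
open Cfsg.Agent.Helper32.QFEM3 (card_isometry_dvd)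
open Cfsg.Agent.Helper68.QFEM4 (exists_lift_of_commute)
open Cfsg.Agent.Helper68.QFEM5 (rank_tr)
open Cfsg.Agent.Helper14.QFEM6 (even_rank_sub_one)
open Cfsg.Agent.Helper14.QFEC1 (conj_of_iso)
open Cfsg.Agent.Helper65.QFEC2a (exists_similarity_pair)
open Cfsg.Agent.Helper32.QFEC2b (isSquare_of_similar)
open Cfsg.Agent.Helper65.QFEINV2 (exists_fixed_vec)
open Cfsg.Agent.Helper67.QFENEG2 (anticommute_refl_conj)
open Cfsg.Agent.Helper67.QFENEG3 (exists_commuting_rotation)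
open Cfsg.Agent.Helper65.QFEIDX1 (mul_dvd_card_of_dvd_relIndex)
open Cfsg.Agent.Helper63.QFEAE (icond_even)
open Cfsg.Agent.Helper63.QFEAO (icond_odd)
open Cfsg.Agent.Helper22.QFEPO (exists_poly_odd)
open Cfsg.Agent.Helper22.QFEPE (exists_poly_even)
open Cfsg.Agent.Helper97.QFERANK (rank_sub_one_of_charpoly)
open Cfsg.Agent.Helper12.QFEM2 (hasType_model)
open Cfsg.Agent.Helper12.QFESIEGEL (exists_siegel)
open Cfsg.Agent.Helper67.QFENEG1 (exists_tdata_anticommute)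

universe u

variable {F : Type u} [Field F] {ι : Type} [Fintype ι] [DecidableEq ι]

/-! ### algebra of `tr` -/

section tr

variable {L : Type*} [Field L] [Algebra F L] {n : ℕ} (Ψ : (Fin n → L) ≃ₗ[F] (ι → F))

theorem tr_mulVec' (M : Matrix (Fin n) (Fin n) L) (v : ι → F) :
    tr Ψ M *ᵥ v = Ψ (M *ᵥ Ψ.symm v) := by
  have := tr_mulVec Ψ M (Ψ.symm v)
  rwa [LinearEquiv.apply_symm_apply] at this

theorem mat_ext_mulVec {κ : Type*} [Fintype κ] [DecidableEq κ] {R : Type*} [CommRing R]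
    {A B : Matrix κ κ R} (h : ∀ v, A *ᵥ v = B *ᵥ v) : A = B := by
  ext i j
  have := congrFun (h (Pi.single j 1)) i
  simpa using this

theorem tr_one : tr Ψ 1 = 1 := by
  apply mat_ext_mulVec
  intro v
  rw [tr_mulVec', Matrix.one_mulVec, Matrix.one_mulVec, LinearEquiv.apply_symm_apply]

theorem tr_mul (M N : Matrix (Fin n) (Fin n) L) : tr Ψ (M * N) = tr Ψ M * tr Ψ N := by
  apply mat_ext_mulVec
  intro v
  rw [← Matrix.mulVec_mulVec, tr_mulVec' Ψ N, tr_mulVec, tr_mulVec', Matrix.mulVec_mulVec]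

theorem tr_sub (M N : Matrix (Fin n) (Fin n) L) : tr Ψ (M - N) = tr Ψ M - tr Ψ N := by
  apply mat_ext_mulVec
  intro v
  rw [Matrix.sub_mulVec, tr_mulVec', tr_mulVec', tr_mulVec', Matrix.sub_mulVec, map_sub]

theorem tr_pow (M : Matrix (Fin n) (Fin n) L) (k : ℕ) : tr Ψ (M ^ k) = tr Ψ M ^ k := by
  induction k with
  | zero => rw [pow_zero, pow_zero, tr_one]
  | succ k ih => rw [pow_succ, pow_succ, tr_mul, ih]

theorem tr_injective : Function.Injective (tr Ψ) := by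
  intro M N h
  apply mat_ext_mulVec
  intro c
  have h1 : tr Ψ M *ᵥ Ψ c = tr Ψ N *ᵥ Ψ c := by rw [h]
  rw [tr_mulVec, tr_mulVec] at h1
  exact Ψ.injective h1

end tr

/-! ### (P2) elements of odd order commuting with `θ` -/

theorem two_ne_zero_L (h2 : (2 : F) ≠ 0) {L : Type*} [Field L] [Algebra F L] : (2 : L) ≠ 0 := by
  intro h
  apply h2
  have h1 : algebraMap F L 2 = 0 := by rw [map_ofNat]; exact h
  exact (map_eq_zero (algebraMap F L)).mp h1

theorem four_dvd_rank (h2 : (2 : F) ≠ 0) {Q : QuadraticForm F (ι → F)}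
    (hQ : (polarBilin Q).Nondegenerate) {θ : Matrix ι ι F} {δ : F} (hθ : TData Q θ δ)
    {L : Type*} [Field L] [Algebra F L] {s : L} (hL : QExt F L δ s) {φ : L →ₗ[F] F}
    (hφ : φ ≠ 0) {n : ℕ} (M : LModel Q θ L s φ n) (y : GL ι F)
    (hy : y ∈ Cfsg.isometryGroup F ⇑Q)
    (hc : (y : Matrix ι ι F) * θ = θ * (y : Matrix ι ι F)) (r : ℕ) (hr : Odd r)
    (hyr : y ^ r = 1) : 4 ∣ ((y : Matrix ι ι F) - 1).rank := by
  obtain ⟨Y, hYO, hYy⟩ := exists_lift_of_commute h2 hθ hL hφ M y hy hc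
  have hYr : Y ^ r = 1 := by
    apply Units.ext
    rw [Units.val_pow_eq_pow_val, Units.val_one]
    apply tr_injective M.Ψ
    rw [tr_pow, hYy, tr_one, ← Units.val_pow_eq_pow_val, hyr, Units.val_one]
  have hev := even_rank_sub_one M.QL (two_ne_zero_L h2) (model_nondeg hQ M) Y hYO r hr hYr
  have h1 : (y : Matrix ι ι F) - 1 = tr M.Ψ ((Y : Matrix (Fin n) (Fin n) L) - 1) := by
    rw [tr_sub, tr_one, hYy]
  rw [h1, rank_tr hθ.nsq hL M]
  obtain ⟨k, hk⟩ := hev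
  exact ⟨k, by rw [hk]; ring⟩

/-! ### (C) all `θ` with the same `δ` are conjugate under the isometry group -/

theorem exists_functional {L : Type*} [Field L] [Algebra F L] : ∃ φ : L →ₗ[F] F, φ ≠ 0 := by
  obtain ⟨φ, hφ1⟩ : ∃ φ : Module.Dual F L, φ 1 ≠ 0 := by
    by_contra hcon
    push Not at hcon
    exact one_ne_zero ((Module.forall_dual_apply_eq_zero_iff F (1 : L)).1 hcon)
  exact ⟨φ, fun h => hφ1 (by rw [h]; rfl)⟩

theorem exists_conj [Fintype F] (hodd : Odd (Fintype.card F)) (h2 : (2 : F) ≠ 0)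
    {Q : QuadraticForm F (ι → F)} (hQ : (polarBilin Q).Nondegenerate) {d : ℕ}
    (hι : Fintype.card ι = 2 * d) {ε : ℤ} (hT : HasType (⇑Q) d ε) {θ θ' : Matrix ι ι F} {δ : F}
    (hθ : TData Q θ δ) (hθ' : TData Q θ' δ) :
    ∃ h : ↥(Cfsg.isometryGroup F ⇑Q),
      ((h : GL ι F) : Matrix ι ι F) * θ = θ' * ((h : GL ι F) : Matrix ι ι F) := by
  classical
  obtain ⟨L, _, _, _, s, hL⟩ := exists_qext δ hθ.nsq
  obtain ⟨φ, hφ⟩ := exists_functional (F := F) (L := L)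
  obtain ⟨M⟩ := exists_model h2 Q hQ hθ hL φ hφ hι
  obtain ⟨M'⟩ := exists_model h2 Q hQ hθ' hL φ hφ hι
  have hnd := model_nondeg hQ M
  have hnd' := model_nondeg hQ M'
  rcases Nat.even_or_odd' d with ⟨m, hm | hm⟩
  · subst hm
    have hTM := hasType_model hodd hQ hθ hL hφ M hT
    have hTM' := hasType_model hodd hQ hθ' hL hφ M' hT
    have hV : Module.finrank L (Fin (2 * m) → L) = 2 * m := by
      rw [Module.finrank_fintype_fun_eq_card, Fintype.card_fin]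
    obtain ⟨γ, hγ⟩ := exists_isometry_of_hasType M.QL M'.QL hV hV
      (fun x hx => hnd.1 x hx) (fun x hx => hnd'.1 x hx) hTM hTM'
    exact conj_of_iso M M' γ hγ
  · subst hm
    obtain ⟨c, γ, hc, hγ⟩ := exists_similarity_pair rfl M.QL M'.QL hnd hnd'
    have hsq := isSquare_of_similar hodd hQ hθ hθ' hL hφ ⟨m, rfl⟩ hι M M' c hc γ hγ
    obtain ⟨k, hk⟩ := hsq
    have hk0 : k ≠ 0 := by
      rintro rfl
      exact hc (by rw [hk, mul_zero])
    let γ' : (Fin (2 * m + 1) → L) ≃ₗ[L] (Fin (2 * m + 1) → L) :=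
      (LinearEquiv.smulOfNeZero L _ k⁻¹ (inv_ne_zero hk0)).trans γ
    refine conj_of_iso M M' γ' ?_
    intro x
    show M'.QL (γ (k⁻¹ • x)) = M.QL x
    rw [hγ, QuadraticMap.map_smul, hk, smul_eq_mul]
    field_simp

/-! ### (⇐) the case `r = 2` -/

theorem mem_omegaGL_of_omegaChar [Fintype F] (h2 : (2 : F) ≠ 0) {Q : QuadraticForm F (ι → F)}
    (hQ : (polarBilin Q).Nondegenerate) {c₀ : F} (hc₀ : ¬ IsSquare c₀)
    (g : ↥(Cfsg.isometryGroup F ⇑Q)) (hg : omegaChar Q c₀ g = 1) :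
    (g : GL ι F) ∈ omegaGL ⇑Q := by
  have hmem : g ∈ Cfsg.Omega F ⇑Q := by
    rw [← ker_omegaChar Q h2 hQ hc₀, MonoidHom.mem_ker]
    exact hg
  exact ⟨g, hmem, rfl⟩

theorem exists_of_mem_omegaGL {Q : QuadraticForm F (ι → F)} {x : GL ι F}
    (hx : x ∈ omegaGL ⇑Q) :
    ∃ xo : ↥(Cfsg.isometryGroup F ⇑Q), xo ∈ Cfsg.Omega F ⇑Q ∧ (xo : GL ι F) = x := by
  obtain ⟨xo, hxo, rfl⟩ := hx
  exact ⟨xo, hxo, rfl⟩

/-- the adjusting step -/
theorem finish [Fintype F] (h2 : (2 : F) ≠ 0) {Q : QuadraticForm F (ι → F)}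
    (hQ : (polarBilin Q).Nondegenerate) {c₀ : F} (hc₀ : ¬ IsSquare c₀)
    (K : Subalgebra F (Matrix ι ι F)) (θ : Matrix ι ι F) (hθK : θ ∈ K)
    (hgen : ∀ k ∈ K, ∃ a b : F, k = a • (1 : Matrix ι ι F) + b • θ) (x : GL ι F)
    (h t : ↥(Cfsg.isometryGroup F ⇑Q)) (θs : Matrix ι ι F) (e : F) (he : e = 1 ∨ e = -1)
    (hh : ((h : GL ι F) : Matrix ι ι F) * θ = θs * ((h : GL ι F) : Matrix ι ι F))
    (hx : (x : Matrix ι ι F) * θs = e • (θs * (x : Matrix ι ι F)))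
    (ht : (t : GL ι F) * x = x * (t : GL ι F)) (hχ : omegaChar Q c₀ (t * h) = 1) :
    ∃ g ∈ omegaGL ⇑Q, g⁻¹ * x * g ∈ subalgebraNormalizer K := by
  refine ⟨((t * h : ↥(Cfsg.isometryGroup F ⇑Q)) : GL ι F),
    mem_omegaGL_of_omegaChar h2 hQ hc₀ _ hχ, ?_⟩
  have hconj : ((t * h : ↥(Cfsg.isometryGroup F ⇑Q)) : GL ι F)⁻¹ * x *
      ((t * h : ↥(Cfsg.isometryGroup F ⇑Q)) : GL ι F) = (h : GL ι F)⁻¹ * x * (h : GL ι F) := by
    rw [Subgroup.coe_mul, _root_.mul_inv_rev]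
    have : (t : GL ι F)⁻¹ * x * (t : GL ι F) = x := by
      rw [mul_assoc, ← ht, ← mul_assoc, inv_mul_cancel, one_mul]
    calc (h : GL ι F)⁻¹ * (t : GL ι F)⁻¹ * x * ((t : GL ι F) * (h : GL ι F))
        = (h : GL ι F)⁻¹ * ((t : GL ι F)⁻¹ * x * (t : GL ι F)) * (h : GL ι F) := by group
      _ = _ := by rw [this]
  rw [hconj]
  apply mem_normalizer_of_conj K θ hθK hgen _ e he
  set H : Matrix ι ι F := ((h : GL ι F) : Matrix ι ι F) with hH
  set Hi : Matrix ι ι F := (((h : GL ι F)⁻¹ : GL ι F) : Matrix ι ι F) with hHi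
  set X : Matrix ι ι F := (x : Matrix ι ι F) with hX
  have hHiH : Hi * H = 1 := by
    rw [hHi, hH, ← Units.val_mul, inv_mul_cancel, Units.val_one]
  have hHHi : H * Hi = 1 := by
    rw [hHi, hH, ← Units.val_mul, mul_inv_cancel, Units.val_one]
  have h1 : Hi * θs = θ * Hi := by
    calc Hi * θs = Hi * θs * (H * Hi) := by rw [hHHi, mul_one]
      _ = Hi * (θs * H) * Hi := by simp only [mul_assoc]
      _ = Hi * (H * θ) * Hi := by rw [hh]
      _ = (Hi * H) * θ * Hi := by simp only [mul_assoc]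
      _ = θ * Hi := by rw [hHiH, one_mul]
  have hval : (((h : GL ι F)⁻¹ * x * (h : GL ι F) : GL ι F) : Matrix ι ι F) = Hi * X * H := by
    rw [Units.val_mul, Units.val_mul]
  rw [hval]
  calc Hi * X * H * θ = Hi * X * (H * θ) := by simp only [mul_assoc]
    _ = Hi * X * (θs * H) := by rw [hh]
    _ = Hi * (X * θs) * H := by simp only [mul_assoc]
    _ = Hi * (e • (θs * X)) * H := by rw [hx]
    _ = e • ((Hi * θs) * X * H) := by
        rw [Matrix.mul_smul, Matrix.smul_mul]; simp only [mul_assoc]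
    _ = e • (θ * Hi * X * H) := by rw [h1]
    _ = e • (θ * (Hi * X * H)) := by simp only [mul_assoc]

theorem omegaChar_apply' [Fintype F] (Q : QuadraticForm F (ι → F)) (c : F)
    (g : ↥(Cfsg.isometryGroup F ⇑Q)) :
    omegaChar Q c g = (parityChar Q c g, signChar ⇑Q c g) := rfl

theorem units_int_mul_self (a : ℤˣ) : a * a = 1 := by
  rcases Int.units_eq_one_or a with rfl | rfl <;> rfl

/-- the involution case -/
theorem all_fix_two_inv [Fintype F] (hodd : Odd (Fintype.card F)) (h2 : (2 : F) ≠ 0)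
    {Q : QuadraticForm F (ι → F)} (hQ : (polarBilin Q).Nondegenerate) {d : ℕ}
    (hι : Fintype.card ι = 2 * d) {ε : ℤ} (hT : HasType (⇑Q) d ε)
    (K : Subalgebra F (Matrix ι ι F)) (θ : Matrix ι ι F) (δ : F) (hθK : θ ∈ K)
    (hθ : TData Q θ δ) (hgen : ∀ k ∈ K, ∃ a b : F, k = a • (1 : Matrix ι ι F) + b • θ)
    (xo : ↥(Cfsg.isometryGroup F ⇑Q)) (hxoΩ : xo ∈ Cfsg.Omega F ⇑Q)
    (hx2 : (xo : GL ι F) * (xo : GL ι F) = 1)
    (hns : ∀ z : F, ((xo : GL ι F) : Matrix ι ι F) ≠ z • (1 : Matrix ι ι F)) :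
    ∃ g ∈ omegaGL ⇑Q, g⁻¹ * (xo : GL ι F) * g ∈ subalgebraNormalizer K := by
  classical
  obtain ⟨c₀, hc₀⟩ := FiniteField.exists_nonsquare (ringChar_ne_two_of_two_ne_zero h2)
  have hc₀0 : c₀ ≠ 0 := by
    rintro rfl
    exact hc₀ ⟨0, by simp⟩
  have hdet : ((xo : GL ι F) : Matrix ι ι F).det = 1 := by
    have h1 := hom_eq_one_of_mem_Omega (detHom ⇑Q) hxoΩ
    have h3 := congrArg Units.val h1
    simpa [detHom] using h3
  obtain ⟨θ', hθ', hcomm⟩ :=
    exists_tdata_commute hodd Q hQ (xo : GL ι F) xo.2 hx2 hdet hθ.nsq hι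
  obtain ⟨h, hh⟩ := exists_conj hodd h2 hQ hι hT hθ hθ'
  obtain ⟨u₁, hu₁, hxu₁⟩ :=
    exists_fixed_vec hodd Q hQ (xo : GL ι F) xo.2 hx2 hdet hns hι 1 one_ne_zero
  obtain ⟨u₂, hu₂, hxu₂⟩ :=
    exists_fixed_vec hodd Q hQ (xo : GL ι F) xo.2 hx2 hdet hns hι c₀ hc₀0
  have hu₁0 : Q u₁ ≠ 0 := by rw [hu₁]; exact one_ne_zero
  have hu₂0 : Q u₂ ≠ 0 := by rw [hu₂]; exact hc₀0
  have hχ₁ : omegaChar Q c₀ (reflT Q u₁) = (-1, 1) := by
    rw [omegaChar_apply', parityChar_reflT Q h2 hc₀ u₁ hu₁0,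
      (signChar_reflT Q h2 hc₀ u₁ hu₁0).1 (by rw [hu₁]; exact IsSquare.one)]
  have hχ₂ : omegaChar Q c₀ (reflT Q u₂) = (-1, -1) := by
    rw [omegaChar_apply', parityChar_reflT Q h2 hc₀ u₂ hu₂0,
      (signChar_reflT Q h2 hc₀ u₂ hu₂0).2 (by rw [hu₂]; exact hc₀)]
  have hcm₁ : reflT Q u₁ * xo = xo * reflT Q u₁ :=
    Cfsg.Agent.Helper45.OmegaParity.reflT_comm_of_fixed Q xo u₁ hu₁0 hxu₁
  have hcm₂ : reflT Q u₂ * xo = xo * reflT Q u₂ :=
    Cfsg.Agent.Helper45.OmegaParity.reflT_comm_of_fixed Q xo u₂ hu₂0 hxu₂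
  -- choose `t` commuting with `xo` with `omegaChar t = omegaChar h`
  obtain ⟨a, b, hab⟩ : ∃ a b : ℤˣ, omegaChar Q c₀ h = (a, b) := ⟨_, _, rfl⟩
  obtain ⟨t, htx, htχ⟩ : ∃ t : ↥(Cfsg.isometryGroup F ⇑Q), t * xo = xo * t ∧
      omegaChar Q c₀ t = omegaChar Q c₀ h := by
    rcases Int.units_eq_one_or a with rfl | rfl <;> rcases Int.units_eq_one_or b with rfl | rfl
    · exact ⟨1, by rw [one_mul, mul_one], by rw [map_one, hab]; rfl⟩
    · refine ⟨reflT Q u₁ * reflT Q u₂, ?_, ?_⟩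
      · rw [mul_assoc, hcm₂, ← mul_assoc, hcm₁, mul_assoc]
      · rw [map_mul, hχ₁, hχ₂, hab]; rfl
    · exact ⟨reflT Q u₁, hcm₁, by rw [hχ₁, hab]⟩
    · exact ⟨reflT Q u₂, hcm₂, by rw [hχ₂, hab]⟩
  refine finish h2 hQ hc₀ K θ hθK hgen (xo : GL ι F) h t θ' 1 (Or.inl rfl) hh
    (by rw [one_smul]; exact hcomm) ?_ ?_
  · have := congrArg (fun g : ↥(Cfsg.isometryGroup F ⇑Q) => (g : GL ι F)) htx
    simpa using this
  · rw [map_mul, htχ, hab]
    show (a * a, b * b) = 1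
    rw [units_int_mul_self, units_int_mul_self]
    rfl

/-- the case `x² = -1` -/
theorem all_fix_two_neg [Fintype F] (hodd : Odd (Fintype.card F)) (h2 : (2 : F) ≠ 0)
    {Q : QuadraticForm F (ι → F)} (hQ : (polarBilin Q).Nondegenerate) {d : ℕ}
    (hι : Fintype.card ι = 2 * d) (hd : 1 ≤ d) {ε : ℤ} (hT : HasType (⇑Q) d ε)
    (K : Subalgebra F (Matrix ι ι F)) (θ : Matrix ι ι F) (δ : F) (hθK : θ ∈ K)
    (hθ : TData Q θ δ) (hgen : ∀ k ∈ K, ∃ a b : F, k = a • (1 : Matrix ι ι F) + b • θ)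
    (xo : ↥(Cfsg.isometryGroup F ⇑Q))
    (hx2 : ((xo : GL ι F) : Matrix ι ι F) * ((xo : GL ι F) : Matrix ι ι F) = -1) :
    ∃ g ∈ omegaGL ⇑Q, g⁻¹ * (xo : GL ι F) * g ∈ subalgebraNormalizer K := by
  classical
  obtain ⟨c₀, hc₀⟩ := FiniteField.exists_nonsquare (ringChar_ne_two_of_two_ne_zero h2)
  have hne : Nonempty ι := by
    rw [← Fintype.card_pos_iff, hι]
    omega
  obtain ⟨θ', u, hθ', hanti, hu, hP⟩ :=
    exists_tdata_anticommute hodd Q hQ (xo : GL ι F) xo.2 hx2 hθ.nsq hne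
  obtain ⟨hθ'', hanti''⟩ :=
    anticommute_refl_conj h2 Q hQ (xo : GL ι F) xo.2 hx2 hθ' hanti u hu hP
  obtain ⟨t, htx, htχ⟩ :=
    exists_commuting_rotation hodd Q hQ (xo : GL ι F) xo.2 hx2 u hu hc₀
  obtain ⟨h₁, hh₁⟩ := exists_conj hodd h2 hQ hι hT hθ hθ'
  set R : Matrix ι ι F := ((reflT Q u : GL ι F) : Matrix ι ι F) with hR
  have hRR : R * R = 1 := by
    have h1 := reflT_mul_self Q u
    have h3 := congrArg (fun g : ↥(Cfsg.isometryGroup F ⇑Q) => ((g : GL ι F) : Matrix ι ι F)) h1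
    simpa using h3
  -- the second candidate
  have hh₂ : (((reflT Q u * h₁ : ↥(Cfsg.isometryGroup F ⇑Q)) : GL ι F) : Matrix ι ι F) * θ
      = (R * θ' * R) * (((reflT Q u * h₁ : ↥(Cfsg.isometryGroup F ⇑Q)) : GL ι F) :
        Matrix ι ι F) := by
    rw [Subgroup.coe_mul, Units.val_mul]
    calc R * ((h₁ : GL ι F) : Matrix ι ι F) * θ
        = R * (((h₁ : GL ι F) : Matrix ι ι F) * θ) := by rw [mul_assoc]
      _ = R * (θ' * ((h₁ : GL ι F) : Matrix ι ι F)) := by rw [hh₁]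
      _ = R * θ' * (R * R) * ((h₁ : GL ι F) : Matrix ι ι F) := by
          rw [hRR, mul_one, mul_assoc]
      _ = R * θ' * R * (R * ((h₁ : GL ι F) : Matrix ι ι F)) := by simp only [mul_assoc]
  have hχρ : (omegaChar Q c₀ (reflT Q u)).1 = -1 := by
    rw [omegaChar_apply']
    exact parityChar_reflT Q h2 hc₀ u hu
  -- pick `h` with trivial parity
  obtain ⟨h, θs, hθs, hantis, hh, hpar⟩ : ∃ (h : ↥(Cfsg.isometryGroup F ⇑Q))
      (θs : Matrix ι ι F), TData Q θs δ ∧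
      ((xo : GL ι F) : Matrix ι ι F) * θs = -(θs * ((xo : GL ι F) : Matrix ι ι F)) ∧
      ((h : GL ι F) : Matrix ι ι F) * θ = θs * ((h : GL ι F) : Matrix ι ι F) ∧
      (omegaChar Q c₀ h).1 = 1 := by
    rcases Int.units_eq_one_or (omegaChar Q c₀ h₁).1 with h1 | h1
    · exact ⟨h₁, θ', hθ', hanti, hh₁, h1⟩
    · refine ⟨reflT Q u * h₁, R * θ' * R, hθ'', hanti'', hh₂, ?_⟩
      rw [map_mul, Prod.fst_mul, hχρ, h1]
      rfl
  have hxs : ((xo : GL ι F) : Matrix ι ι F) * θs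
      = (-1 : F) • (θs * ((xo : GL ι F) : Matrix ι ι F)) := by
    rw [neg_one_smul]; exact hantis
  rcases Int.units_eq_one_or (omegaChar Q c₀ h).2 with h1 | h1
  · refine finish h2 hQ hc₀ K θ hθK hgen (xo : GL ι F) h 1 θs (-1) (Or.inr rfl) hh hxs
      (by rw [OneMemClass.coe_one, one_mul, mul_one]) ?_
    rw [one_mul]
    exact Prod.ext hpar h1
  · refine finish h2 hQ hc₀ K θ hθK hgen (xo : GL ι F) h t θs (-1) (Or.inr rfl) hh hxs htx ?_
    rw [map_mul, htχ]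
    apply Prod.ext
    · rw [Prod.fst_mul, hpar]; rfl
    · rw [Prod.snd_mul, h1]; rfl

/-- (⇐) every element with `x²` scalar, `x` not scalar, is `Ω`-conjugate into `N(K)` -/
theorem all_fix_two [Fintype F] (hodd : Odd (Fintype.card F)) (h2 : (2 : F) ≠ 0)
    {Q : QuadraticForm F (ι → F)} (hQ : (polarBilin Q).Nondegenerate) {d : ℕ}
    (hι : Fintype.card ι = 2 * d) (hd : 1 ≤ d) {ε : ℤ} (hT : HasType (⇑Q) d ε)
    (K : Subalgebra F (Matrix ι ι F)) (θ : Matrix ι ι F) (δ : F) (hθK : θ ∈ K)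
    (hθ : TData Q θ δ) (hgen : ∀ k ∈ K, ∃ a b : F, k = a • (1 : Matrix ι ι F) + b • θ)
    (x : GL ι F) (hxΩ : x ∈ omegaGL ⇑Q) (z : F)
    (hz : ((x ^ 2 : GL ι F) : Matrix ι ι F) = z • (1 : Matrix ι ι F))
    (hns : ∀ z : F, (x : Matrix ι ι F) ≠ z • (1 : Matrix ι ι F)) :
    ∃ g ∈ omegaGL ⇑Q, g⁻¹ * x * g ∈ subalgebraNormalizer K := by
  classical
  obtain ⟨xo, hxoΩ, rfl⟩ := exists_of_mem_omegaGL hxΩ
  have hn : 2 ≤ Module.finrank F (ι → F) := by
    rw [Module.finrank_fintype_fun_eq_card, hι]; omega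
  obtain ⟨u₁, hu₁⟩ := exists_Q_eq Q h2 hQ hn 1
  have hXX : ((xo : GL ι F) : Matrix ι ι F) * ((xo : GL ι F) : Matrix ι ι F)
      = z • (1 : Matrix ι ι F) := by
    rw [← hz, pow_two, Units.val_mul]
  have hzz : z * z = 1 := by
    have h1 := isometryGroup_apply (xo * xo) u₁
    rw [Subgroup.coe_mul, Units.val_mul, hXX, Matrix.smul_mulVec, Matrix.one_mulVec,
      QuadraticMap.map_smul, hu₁, smul_eq_mul, mul_one] at h1
    exact h1
  have hz1 : z = 1 ∨ z = -1 := by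
    have h1 : (z - 1) * (z + 1) = 0 := by linear_combination hzz
    rcases mul_eq_zero.mp h1 with h | h
    · exact Or.inl (sub_eq_zero.mp h)
    · exact Or.inr (eq_neg_of_add_eq_zero_left h)
  rcases hz1 with rfl | rfl
  · refine all_fix_two_inv hodd h2 hQ hι hT K θ δ hθK hθ hgen xo hxoΩ ?_ hns
    apply Units.ext
    rw [Units.val_mul, hXX, one_smul, Units.val_one]
  · refine all_fix_two_neg hodd h2 hQ hι hd hT K θ δ hθK hθ hgen xo ?_
    rw [hXX, neg_one_smul]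

/-! ### (⇒) elements of odd prime order with `rank (x - 1) ≡ 2 (mod 4)` -/

theorem reverse_sq_pow (k : ℕ) : (((X - 1 : F[X]) ^ 2) ^ k).reverse = ((X - 1 : F[X]) ^ 2) ^ k := by
  induction k with
  | zero =>
    rw [pow_zero]
    have := Polynomial.reverse_C (1 : F)
    rwa [map_one] at this
  | succ k ih => rw [pow_succ, Polynomial.reverse_mul_of_domain, ih, reverse_X_sub_one_sq]

theorem exists_elt_of_poly [Fintype F] {p : ℕ} [Fact p.Prime] [CharP F p] (h2 : (2 : F) ≠ 0)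
    {Q : QuadraticForm F (ι → F)} (hQ : (polarBilin Q).Nondegenerate) {d : ℕ}
    (hι : Fintype.card ι = 2 * d) {ε : ℤ} (hε : ε = 1 ∨ ε = -1) (hT : HasType (⇑Q) d ε)
    (r : ℕ) (hr : r.Prime) (hr2 : r ≠ 2) (hrp : r ≠ p) (g : F[X]) (k : ℕ) (hgm : g.Monic)
    (hgd : g.natDegree + 2 * k = 2 * d) (hgpos : 0 < g.natDegree) (hgr : g.reverse = g)
    (hfac : ∀ P : F[X], P.Monic → Irreducible P → P ∣ g → P ∣ (X ^ r - 1 : F[X]))
    (hgn : ¬ (X - 1 : F[X]) ∣ g)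
    (hgood : k = 0 → ((Nat.card F : ℕ) : ZMod r) ^ d = ((ε : ℤ) : ZMod r)) :
    ∃ x : GL ι F, x ∈ omegaGL ⇑Q ∧ x ^ r = 1 ∧ ((x : Matrix ι ι F) - 1).rank = g.natDegree := by
  classical
  have hX1 : (X - 1 : F[X]).Monic := by simpa using monic_X_sub_C (1 : F)
  have hX1d : (X - 1 : F[X]).natDegree = 1 := by simpa using natDegree_X_sub_C (1 : F)
  have hX1ne : (X - 1 : F[X]) ≠ 0 := hX1.ne_zero
  set f : F[X] := (X - 1) ^ (2 * k) * g with hf
  have hfm : f.Monic := (hX1.pow _).mul hgm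
  have hfd : f.natDegree = 2 * d := by
    rw [hf, (hX1.pow _).natDegree_mul hgm, hX1.natDegree_pow, hX1d, mul_one]
    omega
  have hfr : f.reverse = f := by
    rw [hf, Polynomial.reverse_mul_of_domain, hgr, pow_mul, reverse_sq_pow]
  have hX1dvd : (X - 1 : F[X]) ∣ X ^ r - 1 := by
    have := sub_dvd_pow_sub_pow (X : F[X]) 1 r
    rwa [one_pow] at this
  have hfac' : ∀ P : F[X], P.Monic → Irreducible P → P ∣ f → P ∣ (X ^ r - 1 : F[X]) := by
    intro P hPm hPi hPf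
    rcases hPi.prime.dvd_or_dvd hPf with h | h
    · exact (hPi.prime.dvd_of_dvd_pow h).trans hX1dvd
    · exact hfac P hPm hPi h
  have hne : f ≠ (X - 1) ^ (2 * d) := by
    intro h
    have h1 : (X - 1 : F[X]) ^ (2 * k) * g = (X - 1) ^ (2 * k) * (X - 1) ^ g.natDegree := by
      rw [← pow_add, add_comm, hgd]; exact h
    have h3 := mul_left_cancel₀ (pow_ne_zero _ hX1ne) h1
    apply hgn
    rw [h3]
    exact dvd_pow_self _ hgpos.ne'
  have hgood' : ¬ (X - 1 : F[X]) ∣ f →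
      ((Nat.card F : ℕ) : ZMod r) ^ d = ((ε : ℤ) : ZMod r) := by
    intro h
    apply hgood
    by_contra hk
    apply h
    exact (dvd_pow_self _ (by omega : 2 * k ≠ 0)).mul_right g
  obtain ⟨y, hyo, hych⟩ := exists_isometry_of_poly p Q hι (fun x hx => hQ.1 x hx) hε hT r hr hr2
    hrp hfm hfd hfr hfac' hne hgood'
  have hyr : y ^ r = 1 := by rw [← hyo]; exact pow_orderOf_eq_one y
  have hxr : (y : GL ι F) ^ r = 1 := by
    have := congrArg (fun g : ↥(Cfsg.isometryGroup F ⇑Q) => (g : GL ι F)) hyr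
    simpa using this
  refine ⟨(y : GL ι F),
    Cfsg.Agent.Helper99.OrthJT.mem_omegaGL_of_pow_eq_one Q h2 hQ _ y.2 r
      (hr.odd_of_ne_two hr2) hxr, hxr, ?_⟩
  have hrF : (r : F) ≠ 0 := by
    intro h
    have h1 := (CharP.cast_eq_zero_iff F p r).mp h
    exact hrp ((Nat.prime_dvd_prime_iff_eq Fact.out hr).mp h1).symm
  have hyrM : ((y : GL ι F) : Matrix ι ι F) ^ r = 1 := by
    rw [← Units.val_pow_eq_pow_val, hxr, Units.val_one]
  exact rank_sub_one_of_charpoly _ r hrF hyrM (2 * k) g hych hgn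

theorem exists_elt_of_icond [Fintype F] {p : ℕ} [Fact p.Prime] [CharP F p] (h2 : (2 : F) ≠ 0)
    {Q : QuadraticForm F (ι → F)} (hQ : (polarBilin Q).Nondegenerate) {d : ℕ}
    (hι : Fintype.card ι = 2 * d) (hd : 1 ≤ d) {ε : ℤ} (hε : ε = 1 ∨ ε = -1)
    (hT : HasType (⇑Q) d ε) (r : ℕ) (hr : r.Prime) (hr2 : r ≠ 2) (hrp : r ≠ p)
    (hI : ICond (Fintype.card F) r d ε) :
    ∃ x : GL ι F, x ∈ omegaGL ⇑Q ∧ x ^ r = 1 ∧ ((x : Matrix ι ι F) - 1).rank % 4 = 2 := by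
  classical
  have : Fact r.Prime := ⟨hr⟩
  have hrq : ¬ r ∣ Fintype.card F := by
    obtain ⟨n, hp, hcard⟩ := FiniteField.card F p
    rw [hcard]
    intro h
    exact hrp ((Nat.prime_dvd_prime_iff_eq hr hp).mp (hr.dvd_of_dvd_pow h))
  rcases hI with ⟨hiodd, hid, hiε⟩ | ⟨hi4, hid, hiε⟩
  · obtain ⟨g, hgm, hgd, hgr, hfac, hgn⟩ := exists_poly_odd (F := F) r hr hr2 hrq hiodd
    set i := orderOf ((Fintype.card F : ℕ) : ZMod r) with hi
    have hipos : 0 < i := hiodd.pos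
    obtain ⟨x, hxΩ, hxr, hrank⟩ := exists_elt_of_poly h2 hQ hι hε hT r hr hr2 hrp g (d - i) hgm
      (by rw [hgd]; omega) (by rw [hgd]; omega) hgr hfac hgn (by
        intro hk
        have hid' : i = d := by omega
        rw [hiε hid', Nat.card_eq_fintype_card, ← hid', hi, pow_orderOf_eq_one]
        simp)
    refine ⟨x, hxΩ, hxr, ?_⟩
    rw [hrank, hgd]
    obtain ⟨j, hj⟩ := hiodd
    omega
  · have hieven : Even (orderOf ((Fintype.card F : ℕ) : ZMod r)) := by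
      rw [Nat.even_iff]; omega
    obtain ⟨g, hgm, hgd, hgr, hfac, hgn⟩ := exists_poly_even (F := F) r hr hr2 hrq hieven
    set i := orderOf ((Fintype.card F : ℕ) : ZMod r) with hi
    obtain ⟨x, hxΩ, hxr, hrank⟩ := exists_elt_of_poly h2 hQ hι hε hT r hr hr2 hrp g
      ((2 * d - i) / 2) hgm (by rw [hgd]; omega) (by rw [hgd]; omega) hgr hfac hgn (by
        intro hk
        have hid' : i = 2 * d := by omega
        rw [hiε hid', Nat.card_eq_fintype_card,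
          pow_half_eq_neg_one ((Fintype.card F : ℕ) : ZMod r) d (by omega) hid']
        simp)
    refine ⟨x, hxΩ, hxr, ?_⟩
    rw [hrank, hgd]
    exact hi4

theorem exists_bad [Fintype F] {p : ℕ} [Fact p.Prime] [CharP F p] (hodd : Odd (Fintype.card F))
    (h2 : (2 : F) ≠ 0) {Q : QuadraticForm F (ι → F)} (hQ : (polarBilin Q).Nondegenerate) {d : ℕ}
    (hι : Fintype.card ι = 2 * d) (hd : 3 ≤ d) {ε : ℤ} (hε : ε = 1 ∨ ε = -1)
    (hT : HasType (⇑Q) d ε)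
    (hcard : (ε = 1 → Nat.card ↥(Cfsg.isometryGroup F ⇑Q) = cardOp (Fintype.card F) d) ∧
      (ε = -1 → Nat.card ↥(Cfsg.isometryGroup F ⇑Q) = cardOm (Fintype.card F) d))
    (K : Subalgebra F (Matrix ι ι F)) (θ : Matrix ι ι F) (δ : F) (hθ : TData Q θ δ)
    (hgen : ∀ k ∈ K, ∃ a b : F, k = a • (1 : Matrix ι ι F) + b • θ) (r : ℕ) (hr : r.Prime)
    (hr2 : r ≠ 2) (hΩ : r ∣ (subalgebraNormalizer K).relIndex (omegaGL ⇑Q)) :
    ∃ x : GL ι F, x ∈ omegaGL ⇑Q ∧ x ^ r = 1 ∧ ((x : Matrix ι ι F) - 1).rank % 4 = 2 := by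
  classical
  by_cases hrp : r = p
  · subst hrp
    obtain ⟨x, hx, hxp, hrank⟩ := exists_siegel hodd Q hQ hι hd hε hT
    exact ⟨x, hx, hxp, by rw [hrank]⟩
  · obtain ⟨L, _, _, _, s, hL⟩ := exists_qext δ hθ.nsq
    obtain ⟨φ, hφ⟩ := exists_functional (F := F) (L := L)
    obtain ⟨M⟩ := exists_model h2 Q hQ hθ hL φ hφ hι
    have hnd := model_nondeg hQ M
    have hdvd := card_isometry_dvd hθ hL hφ M K hgen
    have hmul := mul_dvd_card_of_dvd_relIndex h2 Q hQ (by rw [hι]; omega)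
      (subalgebraNormalizer K) r hΩ _ hdvd
    have hcardL : Fintype.card L = Fintype.card F ^ 2 := by
      rw [Module.card_eq_pow_finrank (K := F) (V := L), hL.fr]
    have hoddL : Odd (Fintype.card F ^ 2) := hodd.pow
    have hq2 : 2 ≤ Fintype.card F := Fintype.one_lt_card
    have hrq : ¬ r ∣ Fintype.card F := by
      obtain ⟨n, hp, hc⟩ := FiniteField.card F p
      rw [hc]
      intro h
      exact hrp ((Nat.prime_dvd_prime_iff_eq hr hp).mp (hr.dvd_of_dvd_pow h))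
    have hI : ICond (Fintype.card F) r d ε := by
      rcases Nat.even_or_odd' d with ⟨m, hm | hm⟩
      · subst hm
        have hm1 : 1 ≤ m := by omega
        have hTM := hasType_model hodd hQ hθ hL hφ M hT
        rcases hε with rfl | rfl
        · have hOL : Nat.card ↥(Cfsg.isometryGroup L ⇑M.QL) = cardOp (Fintype.card F ^ 2) m :=
            Cfsg.Agent.Helper45.QSim.card_isometryGroup_plus hcardL M.QL hnd rfl hm1 hTM
          rw [hOL, hcard.1 rfl] at hmul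
          exact (icond_even _ r m hq2 hr hr2 hrq hm1).1 hmul
        · have hOL : Nat.card ↥(Cfsg.isometryGroup L ⇑M.QL) = cardOm (Fintype.card F ^ 2) m :=
            Cfsg.Agent.Helper45.QSim.card_isometryGroup_minus hcardL M.QL hnd rfl hm1 hTM
          rw [hOL, hcard.2 rfl] at hmul
          exact (icond_even _ r m hq2 hr hr2 hrq hm1).2 hmul
      · subst hm
        have hm1 : 1 ≤ m := by omega
        have hOL : Nat.card ↥(Cfsg.isometryGroup L ⇑M.QL) = cardOo (Fintype.card F ^ 2) m :=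
          Cfsg.Agent.Helper45.QSim.card_isometryGroup_odd hcardL hoddL M.QL hnd rfl
        rcases hε with rfl | rfl
        · rw [hOL, hcard.1 rfl] at hmul
          exact (icond_odd _ r m hq2 hr hr2 hrq hm1).1 hmul
        · rw [hOL, hcard.2 rfl] at hmul
          exact (icond_odd _ r m hq2 hr hr2 hrq hm1).2 hmul
    exact exists_elt_of_icond h2 hQ hι (by omega) hε hT r hr hr2 hrp hI

theorem isUnit_det_GL (g : GL ι F) : IsUnit ((g : Matrix ι ι F)).det := by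
  have h : (g : Matrix ι ι F) * ((g⁻¹ : GL ι F) : Matrix ι ι F) = 1 := by
    rw [← Units.val_mul, mul_inv_cancel, Units.val_one]
  exact IsUnit.of_mul_eq_one _ (by rw [← Matrix.det_mul, h, Matrix.det_one])

/-- (⇒) for an odd prime `r` dividing the index some element of order `r` is a derangement -/
theorem not_all_fix_odd [Fintype F] {p : ℕ} [Fact p.Prime] [CharP F p]
    (hodd : Odd (Fintype.card F)) (h2 : (2 : F) ≠ 0) {Q : QuadraticForm F (ι → F)}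
    (hQ : (polarBilin Q).Nondegenerate) {d : ℕ} (hι : Fintype.card ι = 2 * d) (hd : 3 ≤ d)
    {ε : ℤ} (hε : ε = 1 ∨ ε = -1) (hT : HasType (⇑Q) d ε)
    (hcard : (ε = 1 → Nat.card ↥(Cfsg.isometryGroup F ⇑Q) = cardOp (Fintype.card F) d) ∧
      (ε = -1 → Nat.card ↥(Cfsg.isometryGroup F ⇑Q) = cardOm (Fintype.card F) d))
    (K : Subalgebra F (Matrix ι ι F)) (hK : IsFieldSubalgebra 2 K) (θ : Matrix ι ι F) (δ : F)
    (hθK : θ ∈ K) (hθ : TData Q θ δ)
    (hgen : ∀ k ∈ K, ∃ a b : F, k = a • (1 : Matrix ι ι F) + b • θ) (r : ℕ) (hr : r.Prime)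
    (hr2 : r ≠ 2) (hΩ : r ∣ (subalgebraNormalizer K).relIndex (omegaGL ⇑Q))
    (H : ∀ x ∈ omegaGL ⇑Q,
      (∃ z : F, ((x ^ r : GL ι F) : Matrix ι ι F) = z • (1 : Matrix ι ι F)) →
      (∀ z : F, (x : Matrix ι ι F) ≠ z • (1 : Matrix ι ι F)) →
      ∃ g ∈ omegaGL ⇑Q, g⁻¹ * x * g ∈ subalgebraNormalizer K) : False := by
  classical
  have hrodd : Odd r := hr.odd_of_ne_two hr2
  obtain ⟨x, hxΩ, hxr, hrank⟩ :=
    exists_bad hodd h2 hQ hι hd hε hT hcard K θ δ hθ hgen r hr hr2 hΩ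
  obtain ⟨xo, -, hxo⟩ := exists_of_mem_omegaGL hxΩ
  have hxO : x ∈ Cfsg.isometryGroup F ⇑Q := by rw [← hxo]; exact xo.2
  have hn : 2 ≤ Module.finrank F (ι → F) := by
    rw [Module.finrank_fintype_fun_eq_card, hι]; omega
  obtain ⟨u₁, hu₁⟩ := exists_Q_eq Q h2 hQ hn 1
  have hns : ∀ z : F, (x : Matrix ι ι F) ≠ z • (1 : Matrix ι ι F) := by
    intro z hz
    -- `z² = 1`
    have h1 := isometryGroup_apply (⟨x, hxO⟩ : ↥(Cfsg.isometryGroup F ⇑Q)) u₁
    simp only [] at h1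
    rw [hz, Matrix.smul_mulVec, Matrix.one_mulVec, QuadraticMap.map_smul, hu₁, smul_eq_mul,
      mul_one] at h1
    -- `z^r = 1`
    have h3 : ((x ^ r : GL ι F) : Matrix ι ι F) = 1 := by rw [hxr, Units.val_one]
    rw [Units.val_pow_eq_pow_val, hz, _root_.smul_pow, one_pow] at h3
    have hne : Nonempty ι := by
      rw [← Fintype.card_pos_iff, hι]; omega
    obtain ⟨i⟩ := hne
    have h4 : z ^ r = 1 := by
      have := congrFun (congrFun h3 i) i
      simpa using this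
    have hz1 : z = 1 := by
      obtain ⟨k, hk⟩ := hrodd
      have : z ^ r = z := by
        rw [hk, pow_succ, pow_mul, pow_two, h1, one_pow, one_mul]
      rw [← this, h4]
    rw [hz1, one_smul] at hz
    rw [hz, sub_self, Matrix.rank_zero] at hrank
    omega
  obtain ⟨g, hgΩ, hgN⟩ := H x hxΩ ⟨1, by rw [hxr, Units.val_one, one_smul]⟩ hns
  obtain ⟨go, -, hgo⟩ := exists_of_mem_omegaGL hgΩ
  have hgO : g ∈ Cfsg.isometryGroup F ⇑Q := by rw [← hgo]; exact go.2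
  set y : GL ι F := g⁻¹ * x * g with hy
  have hyO : y ∈ Cfsg.isometryGroup F ⇑Q :=
    Subgroup.mul_mem _ (Subgroup.mul_mem _ (Subgroup.inv_mem _ hgO) hxO) hgO
  have hyr : y ^ r = 1 := by
    have : y = g⁻¹ * x * g⁻¹⁻¹ := by rw [inv_inv]
    rw [this, conj_pow, hxr, mul_one, mul_inv_cancel]
  have hcen : Cfsg.Agent.Helper13.FExt.Centralizes K (y : Matrix ι ι F) := by
    apply Cfsg.Agent.Helper81.FExtK3.centralizes_of_pow 2 Nat.prime_two K hK y hgN r hr hr2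
    intro a _
    rw [hyr, Units.val_one, one_mul, mul_one]
  have hc : (y : Matrix ι ι F) * θ = θ * (y : Matrix ι ι F) := hcen θ hθK
  obtain ⟨L, _, _, _, s, hL⟩ := exists_qext δ hθ.nsq
  obtain ⟨φ, hφ⟩ := exists_functional (F := F) (L := L)
  obtain ⟨M⟩ := exists_model h2 Q hQ hθ hL φ hφ hι
  have h4 := four_dvd_rank h2 hQ hθ hL hφ M y hyO hc r hrodd hyr
  have hrk : ((y : Matrix ι ι F) - 1).rank = ((x : Matrix ι ι F) - 1).rank := by
    have h5 : (y : Matrix ι ι F) - 1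
        = ((g⁻¹ : GL ι F) : Matrix ι ι F) * ((x : Matrix ι ι F) - 1) * (g : Matrix ι ι F) := by
      rw [hy, Units.val_mul, Units.val_mul, Matrix.mul_sub, Matrix.sub_mul, mul_one,
        ← Units.val_mul g⁻¹ g, inv_mul_cancel, Units.val_one]
    rw [h5, Matrix.rank_mul_eq_left_of_isUnit_det _ _ (isUnit_det_GL g),
      Matrix.rank_mul_eq_right_of_isUnit_det _ _ (isUnit_det_GL g⁻¹)]
  rw [hrk] at h4
  omega

/-- **Main theorem** (both signs) -/
theorem main [Fintype F] {p : ℕ} [Fact p.Prime] [CharP F p] (hodd : Odd (Fintype.card F))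
    {Q : QuadraticForm F (ι → F)} (hQ : (polarBilin Q).Nondegenerate) {d : ℕ}
    (hι : Fintype.card ι = 2 * d) (hd : 3 ≤ d) {ε : ℤ} (hε : ε = 1 ∨ ε = -1)
    (hT : HasType (⇑Q) d ε)
    (hcard : (ε = 1 → Nat.card ↥(Cfsg.isometryGroup F ⇑Q) = cardOp (Fintype.card F) d) ∧
      (ε = -1 → Nat.card ↥(Cfsg.isometryGroup F ⇑Q) = cardOm (Fintype.card F) d))
    (K : Subalgebra F (Matrix ι ι F)) (hK : IsFieldSubalgebra 2 K)
    (hKf : IsSelfAdjointFor (polar ⇑Q) K) (r : ℕ) [Fact r.Prime]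
    (hΩ : r ∣ (subalgebraNormalizer K).relIndex (omegaGL ⇑Q)) :
    (∀ x ∈ omegaGL ⇑Q,
      (∃ z : F, ((x ^ r : GL ι F) : Matrix ι ι F) = z • (1 : Matrix ι ι F)) →
      (∀ z : F, (x : Matrix ι ι F) ≠ z • (1 : Matrix ι ι F)) →
      ∃ g ∈ omegaGL ⇑Q, g⁻¹ * x * g ∈ subalgebraNormalizer K) ↔ r = 2 := by
  have h2 : (2 : F) ≠ 0 := by
    apply Ring.two_ne_zero
    intro h
    have := FiniteField.even_card_of_char_two h
    rcases hodd with ⟨k, hk⟩
    omega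
  obtain ⟨θ, δ, hθK, hθ, hgen⟩ := exists_tdata h2 Q K hK hKf
  constructor
  · intro H
    by_contra hr2
    exact not_all_fix_odd hodd h2 hQ hι hd hε hT hcard K hK θ δ hθK hθ hgen r Fact.out hr2 hΩ H
  · rintro rfl
    intro x hxΩ ⟨z, hz⟩ hns
    exact all_fix_two hodd h2 hQ hι (by omega) hT K θ δ hθK hθ hgen x hxΩ z hz hns

end Cfsg.Agent.Helper13.QFEAsm
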