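import Cfsg.Agent.Helper13.SpDec1

set_option autoImplicit false

namespace Cfsg.Agent.Helper13

open Matrix Cfsg.Agent.S0776

variable {F : Type*} [Field F] {m : ℕ}

local notation "Vec" => (Fin m ⊕ Fin m → F)
local notation "Mat" => Matrix (Fin m ⊕ Fin m) (Fin m ⊕ Fin m) F
local notation "⟪" x ", " y "⟫" => Cfsg.sympForm m F x y

theorem le_spPerp_comm {A B : Submodule F Vec} (h : A ≤ spPerp B) : B ≤ spPerp A := by
  intro b hb
  rw [mem_spPerp']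
  intro a ha
  exact (mem_spPerp B a).mp (h ha) b hb

theorem relNondeg_sup {A B : Submodule F Vec} (hA : RelNondeg A) (hB : RelNondeg B)
    (hAB : A ≤ spPerp B) : RelNondeg (A ⊔ B) := by
  intro u hu hu0
  obtain ⟨a, ha, b, hb, rfl⟩ := Submodule.mem_sup.mp hu
  by_cases ha0 : a = 0
  · subst ha0
    rw [zero_add] at hu0 ⊢
    obtain ⟨x, hx, hxb⟩ := hB b hb hu0
    exact ⟨x, Submodule.mem_sup_right hx, hxb⟩
  · obtain ⟨x, hx, hxa⟩ := hA a ha ha0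
    refine ⟨x, Submodule.mem_sup_left hx, ?_⟩
    rw [sympForm_add_right, (mem_spPerp' B x).mp (hAB hx) b hb, add_zero]
    exact hxa

theorem isNondegenerateOn_of_relNondeg {W : Submodule F Vec} (hW : RelNondeg W) :
    Cfsg.Geo.IsNondegenerateOn (Cfsg.sympForm m F) W := by
  intro w hw hw0
  obtain ⟨x, hx, hxw⟩ := hW w hw hw0
  exact ⟨⟨x, hx, hxw⟩, ⟨x, hx, by rw [sympForm_swap]; exact neg_ne_zero.mpr hxw⟩⟩

/-- a vector of `tvVecs` with non-zero components in two orthogonal non-degenerate subspaces of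
`tvVecs` forces their sum into `tvVecs` -/
theorem tvVecs_sup_of_mixed {M : Subgroup (GL (Fin m ⊕ Fin m) F)} (hM : M ≤ Cfsg.spGL m F)
    {A B : Submodule F Vec} (hA : RelNondeg A) (hB : RelNondeg B) (hAB : A ≤ spPerp B)
    (hAS : ∀ u ∈ A, u ∈ tvVecs M) (hBS : ∀ u ∈ B, u ∈ tvVecs M)
    (hcardA : (∃ b : F, b ≠ 0 ∧ b ≠ 1) ∨
      ∃ u ∈ A, ∃ u' ∈ A, u ≠ 0 ∧ u' ≠ 0 ∧ u + u' ≠ 0 ∧ ⟪u', u⟫ = 0)
    (hcardB : (∃ b : F, b ≠ 0 ∧ b ≠ 1) ∨
      ∃ u ∈ B, ∃ u' ∈ B, u ≠ 0 ∧ u' ≠ 0 ∧ u + u' ≠ 0 ∧ ⟪u', u⟫ = 0)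
    {x : Vec} (hx : x ∈ tvVecs M) (hxA : x ∉ spPerp A) (hxB : x ∉ spPerp B) :
    ∀ p ∈ A ⊔ B, p ∈ tvVecs M := by
  have hBA : B ≤ spPerp A := le_spPerp_comm hAB
  obtain ⟨yA, hyA, wA, hwA, hdecA⟩ := exists_decomp A (isNondegenerateOn_of_relNondeg hA) x
  have hyA0 : yA ≠ 0 := by
    rintro rfl
    rw [zero_add] at hdecA
    exact hxA (hdecA ▸ hwA)
  have h1 : ∀ u ∈ A, wA + u ∈ tvVecs M := fun u hu =>
    tvVecs_translate hM hA hAS hcardA hyA hyA0 hwA (hdecA ▸ hx) hu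
  obtain ⟨yB, hyB, z, hz, hdecB⟩ := exists_decomp B (isNondegenerateOn_of_relNondeg hB) wA
  have hyB0 : yB ≠ 0 := by
    rintro rfl
    rw [zero_add] at hdecB
    apply hxB
    rw [hdecA, hdecB]
    exact (spPerp B).add_mem (hAB hyA) hz
  have hzA : z ∈ spPerp A := by
    have h2 : z = wA - yB := by rw [hdecB]; abel
    rw [h2]
    exact (spPerp A).sub_mem hwA (hBA hyB)
  have h2 : ∀ u ∈ A, ∀ v ∈ B, z + u + v ∈ tvVecs M := by
    intro u hu v hv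
    have h3 := h1 u hu
    have h4 : z + u ∈ spPerp B := (spPerp B).add_mem hz (hAB hu)
    have h5 : yB + (z + u) ∈ tvVecs M := by
      have h6 : yB + (z + u) = wA + u := by rw [hdecB]; abel
      rw [h6]
      exact h3
    exact tvVecs_translate hM hB hBS hcardB hyB hyB0 h4 h5 hv
  have hzq : ∀ q ∈ A ⊔ B, ⟪z, q⟫ = 0 := by
    intro q hq
    obtain ⟨a, ha, b, hb, rfl⟩ := Submodule.mem_sup.mp hq
    rw [sympForm_add_right, (mem_spPerp' A z).mp hzA a ha, (mem_spPerp' B z).mp hz b hb,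
      add_zero]
  have hqz : ∀ q ∈ A ⊔ B, ⟪q, z⟫ = 0 := by
    intro q hq
    rw [sympForm_swap, hzq q hq, neg_zero]
  intro p hp
  by_cases hp0 : p = 0
  · rw [hp0]
    exact zero_mem_tvVecs M
  obtain ⟨r, hr, hrp⟩ := relNondeg_sup hA hB hAB p hp hp0
  obtain ⟨u1, hu1, v1, hv1, h1eq⟩ := Submodule.mem_sup.mp ((A ⊔ B).add_mem hp hr)
  obtain ⟨u2, hu2, v2, hv2, h2eq⟩ := Submodule.mem_sup.mp hr
  have hy1 : z + (p + r) ∈ tvVecs M := by
    have := h2 u1 hu1 v1 hv1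
    rwa [add_assoc, h1eq] at this
  have hy2 : z + r ∈ tvVecs M := by
    have := h2 u2 hu2 v2 hv2
    rwa [add_assoc, h2eq] at this
  have hne : ⟪z + (p + r), (-1 : F) • (z + r)⟫ ≠ 0 := by
    rw [sympForm_smul_right, sympForm_add_left, sympForm_add_right, sympForm_add_right,
      sympForm_self, hzq r hr, hqz _ ((A ⊔ B).add_mem hp hr), sympForm_add_left, sympForm_self]
    rw [sympForm_swap] at hrp
    simpa using hrp
  have h3 := tvVecs_add hM hy1 (tvVecs_smul hy2 (-1)) hne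
  have h4 : z + (p + r) + (-1 : F) • (z + r) = p := by module
  rwa [h4] at h3

/-- enlarging: if `U` and `A ⊔ C` lie in `tvVecs` with `0 ≠ A ≤ U` and `C ⊥ U` then `U ⊔ C` does -/
theorem tvVecs_sup_extend {M : Subgroup (GL (Fin m ⊕ Fin m) F)} (hM : M ≤ Cfsg.spGL m F)
    {U A C : Submodule F Vec} (hU : RelNondeg U) (hUS : ∀ u ∈ U, u ∈ tvVecs M)
    (hcard : (∃ b : F, b ≠ 0 ∧ b ≠ 1) ∨
      ∃ u ∈ U, ∃ u' ∈ U, u ≠ 0 ∧ u' ≠ 0 ∧ u + u' ≠ 0 ∧ ⟪u', u⟫ = 0)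
    (hAU : A ≤ U) (hA0 : A ≠ ⊥) (hCU : C ≤ spPerp U)
    (hAC : ∀ p ∈ A ⊔ C, p ∈ tvVecs M) : ∀ p ∈ U ⊔ C, p ∈ tvVecs M := by
  intro p hp
  obtain ⟨u, hu, d, hd, rfl⟩ := Submodule.mem_sup.mp hp
  obtain ⟨a, ha, ha0⟩ := (Submodule.ne_bot_iff A).mp hA0
  have hx : a + d ∈ tvVecs M :=
    hAC _ ((A ⊔ C).add_mem (Submodule.mem_sup_left ha) (Submodule.mem_sup_right hd))
  have := tvVecs_translate hM hU hUS hcard (hAU ha) ha0 (hCU hd) hx hu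
  rwa [add_comm] at this

end Cfsg.Agent.Helper13
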