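import Cfsg.Agent.Helper13.SpDec2

set_option autoImplicit false

namespace Cfsg.Agent.Helper13

open Matrix Cfsg.Agent.S0776

variable {F : Type*} [Field F] {m : ℕ}

local notation "Vec" => (Fin m ⊕ Fin m → F)
local notation "Mat" => Matrix (Fin m ⊕ Fin m) (Fin m ⊕ Fin m) F
local notation "⟪" x ", " y "⟫" => Cfsg.sympForm m F x y

theorem relTransvectionSubgroup_mono {W W' : Submodule F Vec} (h : W ≤ W') :
    relTransvectionSubgroup W ≤ relTransvectionSubgroup W' := by
  apply Subgroup.closure_mono
  rintro A ⟨w, hw, c, hA⟩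
  exact ⟨w, h hw, c, hA⟩

theorem spPerp_anti {A B : Submodule F Vec} (h : A ≤ B) : spPerp B ≤ spPerp A := by
  intro x hx
  rw [mem_spPerp] at hx ⊢
  intro w hw
  exact hx w (h hw)

theorem relNondeg_inf_spPerp {A P : Submodule F Vec}
    (hP : Cfsg.Geo.IsNondegenerateOn (Cfsg.sympForm m F) P) (hPA : P ≤ A) (hA : RelNondeg A) :
    RelNondeg (A ⊓ spPerp P) := by
  rintro u ⟨huA, huP⟩ hu0
  obtain ⟨x, hx, hxu⟩ := hA u huA hu0
  obtain ⟨p, hp, x', hx', rfl⟩ := exists_decomp P hP x
  refine ⟨x', ⟨?_, hx'⟩, ?_⟩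
  · have := A.sub_mem hx (hPA hp)
    rwa [add_sub_cancel_left] at this
  · rw [sympForm_add_left, (mem_spPerp P u).mp huP p hp, zero_add] at hxu
    exact hxu

theorem finrank_inf_spPerp {A P : Submodule F Vec}
    (hP : Cfsg.Geo.IsNondegenerateOn (Cfsg.sympForm m F) P) (hPA : P ≤ A) :
    Module.finrank F ↥(A ⊓ spPerp P) + Module.finrank F P = Module.finrank F A := by
  have hc := isCompl_spPerp P hP
  have h1 : P ⊔ (A ⊓ spPerp P) = A := by
    have := sup_inf_assoc_of_le (spPerp P) hPA
    rw [hc.sup_eq_top, top_inf_eq, inf_comm] at this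
    exact this.symm
  have h2 : P ⊓ (A ⊓ spPerp P) = ⊥ := by
    apply le_bot_iff.mp
    calc P ⊓ (A ⊓ spPerp P) ≤ P ⊓ spPerp P := inf_le_inf_left _ inf_le_right
      _ = ⊥ := hc.inf_eq_bot
  have h3 := Submodule.finrank_sup_add_finrank_inf_eq P (A ⊓ spPerp P)
  rw [h1, h2, finrank_bot] at h3
  omega

theorem exists_hyp_pair {A : Submodule F Vec} (hA : RelNondeg A) (hA0 : A ≠ ⊥) :
    ∃ e ∈ A, ∃ f ∈ A, ⟪e, f⟫ = 1 := by
  obtain ⟨e, he, he0⟩ := (Submodule.ne_bot_iff A).mp hA0
  obtain ⟨x, hx, hxe⟩ := hA e he he0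
  refine ⟨e, he, (-(⟪x, e⟫)⁻¹) • x, A.smul_mem _ hx, ?_⟩
  rw [sympForm_smul_right, sympForm_swap e x]
  field_simp

theorem relNondeg_span_pair {e f : Vec} (h : ⟪e, f⟫ = 1) :
    RelNondeg (Submodule.span F {e, f}) := by
  intro u hu hu0
  obtain ⟨a, b, rfl⟩ := Submodule.mem_span_pair.mp hu
  have hfe : ⟪f, e⟫ = -1 := by rw [sympForm_swap, h]
  by_cases hb : b = 0
  · have ha : a ≠ 0 := by
      rintro rfl
      apply hu0
      rw [hb, zero_smul, zero_smul, add_zero]
    refine ⟨f, Submodule.subset_span (by simp), ?_⟩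
    rw [sympForm_add_right, sympForm_smul_right, sympForm_smul_right, sympForm_self, hfe, hb]
    simpa using ha
  · refine ⟨e, Submodule.subset_span (by simp), ?_⟩
    rw [sympForm_add_right, sympForm_smul_right, sympForm_smul_right, sympForm_self, h]
    simpa using hb

theorem finrank_span_hypPair {e f : Vec} (h : ⟪e, f⟫ = 1) :
    Module.finrank F (Submodule.span F ({e, f} : Set Vec)) = 2 := by
  have hfe : ⟪f, e⟫ = -1 := by rw [sympForm_swap, h]
  have hli : LinearIndependent F ![e, f] := by
    rw [LinearIndependent.pair_iff]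
    intro s t hst
    have h1 := congrArg (fun z => ⟪z, f⟫) hst
    have h2 := congrArg (fun z => ⟪z, e⟫) hst
    simp only [sympForm_add_left, sympForm_smul_left, sympForm_self, h, hfe,
      sympForm_zero_left] at h1 h2
    constructor
    · simpa using h1
    · simpa using h2
  have h3 := finrank_span_eq_card hli
  have h4 : Set.range ![e, f] = ({e, f} : Set Vec) := by
    ext x
    simp [eq_comm, or_comm]
  rw [h4] at h3
  rw [h3]
  simp

/-- an element of the relative transvection group of `A ⊔ B` taking `A` into `B`, for orthogonal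
non-degenerate subspaces of the same dimension -/
theorem exists_rel_map_into : ∀ (n : ℕ) (A B : Submodule F Vec), Module.finrank F A = n →
    Module.finrank F B = n → RelNondeg A → RelNondeg B → A ≤ spPerp B →
    ∃ g ∈ relTransvectionSubgroup (A ⊔ B), ∀ a ∈ A, (g : Mat) *ᵥ a ∈ B := by
  intro n
  induction n using Nat.strong_induction_on with
  | _ n ih =>
    intro A B hAn hBn hA hB hAB
    by_cases hA0 : A = ⊥
    · refine ⟨1, Subgroup.one_mem _, ?_⟩
      intro a ha
      rw [hA0, Submodule.mem_bot] at ha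
      rw [ha, Matrix.mulVec_zero]
      exact B.zero_mem
    · have hn0 : n ≠ 0 := by
        intro h
        apply hA0
        rw [← Submodule.finrank_eq_zero]
        omega
      have hB0 : B ≠ ⊥ := by
        intro h
        rw [h, finrank_bot] at hBn
        omega
      obtain ⟨e, he, f, hf, hef⟩ := exists_hyp_pair hA hA0
      obtain ⟨e', he', f', hf', hef'⟩ := exists_hyp_pair hB hB0
      have hPA : Submodule.span F {e, f} ≤ A := by
        rw [Submodule.span_le]
        rintro x (rfl | rfl)
        · exact he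
        · exact hf
      have hP'B : Submodule.span F {e', f'} ≤ B := by
        rw [Submodule.span_le]
        rintro x (rfl | rfl)
        · exact he'
        · exact hf'
      have hPnd := relNondeg_span_pair hef
      have hP'nd := relNondeg_span_pair hef'
      have hfinA := finrank_inf_spPerp (isNondegenerateOn_of_relNondeg hPnd) hPA
      have hfinB := finrank_inf_spPerp (isNondegenerateOn_of_relNondeg hP'nd) hP'B
      rw [finrank_span_hypPair hef] at hfinA
      rw [finrank_span_hypPair hef'] at hfinB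
      have hA₁nd := relNondeg_inf_spPerp (isNondegenerateOn_of_relNondeg hPnd) hPA hA
      have hB₁nd := relNondeg_inf_spPerp (isNondegenerateOn_of_relNondeg hP'nd) hP'B hB
      have hA₁B₁ : A ⊓ spPerp (Submodule.span F {e, f}) ≤
          spPerp (B ⊓ spPerp (Submodule.span F {e', f'})) :=
        (inf_le_left.trans hAB).trans (spPerp_anti inf_le_left)
      obtain ⟨g₁, hg₁, hg₁A⟩ := ih (n - 2) (by omega) _ _ (by omega) (by omega) hA₁nd hB₁nd hA₁B₁
      have hPP' : Submodule.span F {e, f} ≤ spPerp (Submodule.span F {e', f'}) :=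
        (hPA.trans hAB).trans (spPerp_anti hP'B)
      have hW0 : RelNondeg (Submodule.span F {e, f} ⊔ Submodule.span F {e', f'}) :=
        relNondeg_sup hPnd hP'nd hPP'
      have heP : e ∈ Submodule.span F ({e, f} : Set Vec) := Submodule.subset_span (by simp)
      have hfP : f ∈ Submodule.span F ({e, f} : Set Vec) := Submodule.subset_span (by simp)
      have he'P : e' ∈ Submodule.span F ({e', f'} : Set Vec) := Submodule.subset_span (by simp)
      have hf'P : f' ∈ Submodule.span F ({e', f'} : Set Vec) := Submodule.subset_span (by simp)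
      obtain ⟨g₀, hg₀, hg₀e, hg₀f⟩ := exists_transvection_map_pair_rel hW0
        (Submodule.mem_sup_left heP) (Submodule.mem_sup_left hfP)
        (Submodule.mem_sup_right he'P) (Submodule.mem_sup_right hf'P) hef hef'
      refine ⟨g₀ * g₁, mul_mem (relTransvectionSubgroup_mono (sup_le_sup hPA hP'B) hg₀)
        (relTransvectionSubgroup_mono (sup_le_sup inf_le_left inf_le_left) hg₁), ?_⟩
      -- `g₁` fixes the vectors of `P`
      have hg₁fix : ∀ p ∈ Submodule.span F ({e, f} : Set Vec), (g₁ : Mat) *ᵥ p = p := by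
        intro p hp
        apply relTransvectionSubgroup_fix _ hg₁
        intro w hw
        obtain ⟨a', ha', b', hb', rfl⟩ := Submodule.mem_sup.mp hw
        rw [sympForm_add_right, (mem_spPerp _ a').mp ha'.2 p hp,
          (mem_spPerp' B p).mp (hAB (hPA hp)) b' hb'.1, add_zero]
      -- `g₀` fixes the vectors of `B₁`
      have hg₀fix : ∀ b ∈ B ⊓ spPerp (Submodule.span F {e', f'}), (g₀ : Mat) *ᵥ b = b := by
        intro b hb
        apply relTransvectionSubgroup_fix _ hg₀
        intro w hw
        obtain ⟨p, hp, p', hp', rfl⟩ := Submodule.mem_sup.mp hw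
        rw [sympForm_add_right, (mem_spPerp B p).mp (hAB (hPA hp)) b hb.1,
          (mem_spPerp' _ b).mp hb.2 p' hp', add_zero]
      intro a ha
      obtain ⟨p, hp, a₁, ha₁, rfl⟩ := exists_decomp _ (isNondegenerateOn_of_relNondeg hPnd) a
      have ha₁A : a₁ ∈ A ⊓ spPerp (Submodule.span F {e, f}) := by
        refine ⟨?_, ha₁⟩
        have := A.sub_mem ha (hPA hp)
        rwa [add_sub_cancel_left] at this
      have hb₁ := hg₁A a₁ ha₁A
      rw [symp_coe_mul, ← Matrix.mulVec_mulVec, Matrix.mulVec_add, hg₁fix p hp,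
        Matrix.mulVec_add, hg₀fix _ hb₁]
      refine B.add_mem ?_ hb₁.1
      obtain ⟨s, t, rfl⟩ := Submodule.mem_span_pair.mp hp
      rw [Matrix.mulVec_add, Matrix.mulVec_smul, Matrix.mulVec_smul, hg₀e, hg₀f]
      exact B.add_mem (B.smul_mem _ he') (B.smul_mem _ hf')

end Cfsg.Agent.Helper13
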