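import Cfsg.Agent.Helper13.SpDec3

set_option autoImplicit false

namespace Cfsg.Agent.Helper13

open Matrix Cfsg.Agent.S0776

variable {F : Type*} [Field F] {m : ℕ}

local notation "Vec" => (Fin m ⊕ Fin m → F)
local notation "Mat" => Matrix (Fin m ⊕ Fin m) (Fin m ⊕ Fin m) F
local notation "⟪" x ", " y "⟫" => Cfsg.sympForm m F x y

theorem gl_mulVec_injective (g : GL (Fin m ⊕ Fin m) F) {x y : Vec}
    (h : (g : Mat) *ᵥ x = (g : Mat) *ᵥ y) : x = y := by
  have := congrArg (fun z => ((g⁻¹ : GL (Fin m ⊕ Fin m) F) : Mat) *ᵥ z) h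
  simpa only [gl_inv_mulVec] using this

/-- an invertible matrix mapping `W` into `W'` of the same dimension maps `W` onto `W'` -/
theorem map_toLin'_eq_of_maps_into (g : GL (Fin m ⊕ Fin m) F) {W W' : Submodule F Vec}
    (hfin : Module.finrank F W = Module.finrank F W') (h : ∀ x ∈ W, (g : Mat) *ᵥ x ∈ W') :
    W.map (Matrix.toLin' (g : Mat)) = W' := by
  have hinj : Function.Injective (Matrix.toLin' (g : Mat)) := by
    intro x y hxy
    rw [Matrix.toLin'_apply, Matrix.toLin'_apply] at hxy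
    exact gl_mulVec_injective g hxy
  have hle : W.map (Matrix.toLin' (g : Mat)) ≤ W' := by
    rintro _ ⟨x, hx, rfl⟩
    rw [Matrix.toLin'_apply]
    exact h x hx
  apply Submodule.eq_of_le_of_finrank_eq hle
  rw [← hfin]
  have h3 := LinearEquiv.finrank_map_eq (LinearEquiv.ofInjectiveEndo _ hinj) W
  rw [← h3]
  congr 2

theorem exists_preimage_of_maps_into (g : GL (Fin m ⊕ Fin m) F) {W W' : Submodule F Vec}
    (hfin : Module.finrank F W = Module.finrank F W') (h : ∀ x ∈ W, (g : Mat) *ᵥ x ∈ W')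
    {y : Vec} (hy : y ∈ W') : ∃ x ∈ W, (g : Mat) *ᵥ x = y := by
  rw [← map_toLin'_eq_of_maps_into g hfin h] at hy
  obtain ⟨x, hx, hxy⟩ := hy
  rw [Matrix.toLin'_apply] at hxy
  exact ⟨x, hx, hxy⟩

theorem spToGL_mem_spGL (A : Matrix.symplecticGroup (Fin m) F) :
    spToGL m F A ∈ Cfsg.spGL m F := by
  rw [mem_spGL_iff]
  exact (mem_symplecticGroup_iff_preserves _).mp A.2

theorem mem_of_mem_sup_of_mem_spPerp {A B : Submodule F Vec} (hB : RelNondeg B)
    (hAB : A ≤ spPerp B) {z : Vec} (hz : z ∈ A ⊔ B) (hzB : z ∈ spPerp B) : z ∈ A := by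
  obtain ⟨a, ha, b, hb, rfl⟩ := Submodule.mem_sup.mp hz
  have hb' : b ∈ spPerp B := by
    have := (spPerp B).sub_mem hzB (hAB ha)
    rwa [add_sub_cancel_left] at this
  have hb0 := eq_zero_of_mem_of_mem_spPerp B (isNondegenerateOn_of_relNondeg hB) hb hb'
  rw [hb0, add_zero]
  exact ha

/-- an element of the relative transvection group of `A ⊔ B` interchanging `A` and `B` -/
theorem exists_rel_swap {A B : Submodule F Vec} (hfin : Module.finrank F A = Module.finrank F B)
    (hA : RelNondeg A) (hB : RelNondeg B) (hAB : A ≤ spPerp B) :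
    ∃ g ∈ relTransvectionSubgroup (A ⊔ B), (∀ a ∈ A, (g : Mat) *ᵥ a ∈ B) ∧
      (∀ b ∈ B, (g : Mat) *ᵥ b ∈ A) := by
  obtain ⟨g, hg, hgA⟩ := exists_rel_map_into _ A B rfl hfin.symm hA hB hAB
  refine ⟨g, hg, hgA, ?_⟩
  intro b hb
  have hpres := (mem_symplecticGroup_iff_preserves (g : Mat)).mp g.2
  apply mem_of_mem_sup_of_mem_spPerp hB hAB
  · exact relTransvectionSubgroup_preserves _ hg b (Submodule.mem_sup_right hb)
  · rw [mem_spPerp]
    intro b' hb'
    obtain ⟨a, ha, rfl⟩ := exists_preimage_of_maps_into (spToGL m F g) hfin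
      (fun x hx => by rw [spToGL_coe]; exact hgA x hx) hb'
    rw [spToGL_coe, hpres]
    exact (mem_spPerp' B a).mp (hAB ha) b hb

end Cfsg.Agent.Helper13
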