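import Cfsg.Agent.Helper13.SpDec4

set_option autoImplicit false

namespace Cfsg.Agent.Helper13

open Matrix Cfsg.Agent.S0776

variable {F : Type*} [Field F] {m : ℕ}

local notation "Vec" => (Fin m ⊕ Fin m → F)
local notation "Mat" => Matrix (Fin m ⊕ Fin m) (Fin m ⊕ Fin m) F
local notation "⟪" x ", " y "⟫" => Cfsg.sympForm m F x y

theorem decomp_perp {t k : ℕ} {D : Fin t → Submodule F (Fin m ⊕ Fin m → F)}
    (hD : Cfsg.Geo.IsNondegenerateMDecomposition (Cfsg.sympForm m F) k D)
    {i j : Fin t} (hij : i ≠ j) : D i ≤ spPerp (D j) := by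
  intro x hx
  rw [mem_spPerp]
  intro w hw
  exact hD.orthogonal j i hij.symm w hw x hx

theorem decomp_relNondeg {t k : ℕ} {D : Fin t → Submodule F (Fin m ⊕ Fin m → F)}
    (hD : Cfsg.Geo.IsNondegenerateMDecomposition (Cfsg.sympForm m F) k D)
    (i : Fin t) : RelNondeg (D i) :=
  relNondeg_of_isNondegenerateOn _ (hD.nondegenerate i)

theorem decomp_ne_bot {t k : ℕ} {D : Fin t → Submodule F (Fin m ⊕ Fin m → F)}
    (hD : Cfsg.Geo.IsNondegenerateMDecomposition (Cfsg.sympForm m F) k D)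
    (i : Fin t) : D i ≠ ⊥ := by
  intro h
  have h1 := hD.decomp.finrank_eq i
  rw [h, finrank_bot] at h1
  have h2 := hD.decomp.pos
  omega

/-- a vector orthogonal to all members vanishes -/
theorem decomp_eq_zero_of_perp {t k : ℕ} {D : Fin t → Submodule F (Fin m ⊕ Fin m → F)}
    (hD : Cfsg.Geo.IsNondegenerateMDecomposition (Cfsg.sympForm m F) k D) {z : Vec}
    (hz : ∀ j, z ∈ spPerp (D j)) : z = 0 := by
  by_contra hz0
  obtain ⟨x, hx⟩ := sympForm_nondeg_left (m := m) hz0
  have hle : ⨆ j, D j ≤ spPerp (Submodule.span F {z}) := by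
    apply iSup_le
    intro j
    apply le_spPerp_comm
    rw [Submodule.span_le, Set.singleton_subset_iff]
    exact hz j
  have hx' : x ∈ spPerp (Submodule.span F {z}) :=
    hle (by rw [hD.decomp.iSup_eq_top]; exact Submodule.mem_top)
  apply hx
  exact (mem_spPerp' _ x).mp hx' z (Submodule.mem_span_singleton_self z)

/-- a vector orthogonal to all members but one lies in that one -/
theorem decomp_mem_of_perp {t k : ℕ} {D : Fin t → Submodule F (Fin m ⊕ Fin m → F)}
    (hD : Cfsg.Geo.IsNondegenerateMDecomposition (Cfsg.sympForm m F) k D) {z : Vec} (a : Fin t)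
    (hz : ∀ j, j ≠ a → z ∈ spPerp (D j)) : z ∈ D a := by
  obtain ⟨y, hy, w, hw, rfl⟩ := exists_decomp (D a) (hD.nondegenerate a) z
  have hw0 : w = 0 := by
    apply decomp_eq_zero_of_perp hD
    intro j
    by_cases hj : j = a
    · rw [hj]; exact hw
    · have := (spPerp (D j)).sub_mem (hz j hj) (decomp_perp hD (Ne.symm hj) hy)
      rwa [add_sub_cancel_left] at this
  rw [hw0, add_zero]
  exact hy

theorem tvGL_mem_decompositionStabilizer {t k : ℕ} {D : Fin t → Submodule F (Fin m ⊕ Fin m → F)}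
    (hD : Cfsg.Geo.IsNondegenerateMDecomposition (Cfsg.sympForm m F) k D) {i : Fin t} {v : Vec}
    (hv : v ∈ D i) (c : F) : tvGL v c ∈ Cfsg.Geo.decompositionStabilizer D := by
  change ∃ σ : Equiv.Perm (Fin t), ∀ j,
    (D j).map (Matrix.toLin' ((tvGL v c : GL (Fin m ⊕ Fin m) F) : Mat)) = D (σ j)
  refine ⟨1, fun j => ?_⟩
  rw [Equiv.Perm.one_apply]
  apply map_toLin'_eq_of_maps_into _ rfl
  intro x hx
  rw [tvGL_coe, sympTransvection_mulVec]
  by_cases hj : j = i
  · subst hj
    exact (D j).add_mem hx ((D j).smul_mem _ hv)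
  · rw [(mem_spPerp' (D i) x).mp (decomp_perp hD hj hx) v hv, mul_zero, zero_smul, add_zero]
    exact hx

/-- an element of the stabiliser interchanging two members and fixing the others pointwise -/
theorem exists_swap_mem {t k : ℕ} {D : Fin t → Submodule F (Fin m ⊕ Fin m → F)}
    (hD : Cfsg.Geo.IsNondegenerateMDecomposition (Cfsg.sympForm m F) k D)
    {b c : Fin t} (hbc : b ≠ c) :
    ∃ h ∈ Cfsg.Geo.decompositionStabilizer D ⊓ Cfsg.spGL m F,
      (∀ x ∈ D c, (h : Mat) *ᵥ x ∈ D b) ∧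
      ∀ a, a ≠ b → a ≠ c → ∀ x ∈ D a, (h : Mat) *ᵥ x = x := by
  have hfinij : ∀ i j, Module.finrank F (D i) = Module.finrank F (D j) := fun i j => by
    rw [hD.decomp.finrank_eq, hD.decomp.finrank_eq]
  obtain ⟨g, hg, hgb, hgc⟩ := exists_rel_swap (A := D b) (B := D c) (hfinij b c)
    (decomp_relNondeg hD b) (decomp_relNondeg hD c) (decomp_perp hD hbc)
  have hfix : ∀ a, a ≠ b → a ≠ c → ∀ x ∈ D a, (g : Mat) *ᵥ x = x := by
    intro a hab hac x hx
    apply relTransvectionSubgroup_fix _ hg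
    intro w hw
    obtain ⟨u, hu, v, hv, rfl⟩ := Submodule.mem_sup.mp hw
    rw [sympForm_add_right, (mem_spPerp' (D b) x).mp (decomp_perp hD hab hx) u hu,
      (mem_spPerp' (D c) x).mp (decomp_perp hD hac hx) v hv, add_zero]
  refine ⟨spToGL m F g, ⟨?_, spToGL_mem_spGL g⟩, hgc, hfix⟩
  change ∃ σ : Equiv.Perm (Fin t), ∀ i,
    (D i).map (Matrix.toLin' ((spToGL m F g : GL (Fin m ⊕ Fin m) F) : Mat)) = D (σ i)
  refine ⟨Equiv.swap b c, fun i => ?_⟩
  by_cases hib : i = b
  · subst hib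
    rw [Equiv.swap_apply_left]
    exact map_toLin'_eq_of_maps_into _ (hfinij _ _) hgb
  by_cases hic : i = c
  · subst hic
    rw [Equiv.swap_apply_right]
    exact map_toLin'_eq_of_maps_into _ (hfinij _ _) hgc
  rw [Equiv.swap_apply_of_ne_of_ne hib hic]
  exact map_toLin'_eq_of_maps_into _ rfl (fun x hx => by
    rw [spToGL_coe, hfix i hib hic x hx]; exact hx)

theorem decomp_hcard [Fintype F] {t k : ℕ} {D : Fin t → Submodule F (Fin m ⊕ Fin m → F)}
    (hD : Cfsg.Geo.IsNondegenerateMDecomposition (Cfsg.sympForm m F) k D)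
    (hex : ¬ (k = 2 ∧ Fintype.card F = 2)) (i : Fin t) :
    (∃ b : F, b ≠ 0 ∧ b ≠ 1) ∨
      ∃ u ∈ D i, ∃ u' ∈ D i, u ≠ 0 ∧ u' ≠ 0 ∧ u + u' ≠ 0 ∧ ⟪u', u⟫ = 0 := by
  classical
  by_cases hq : ∃ b : F, b ≠ 0 ∧ b ≠ 1
  · exact Or.inl hq
  right
  push Not at hq
  have hcard2 : Fintype.card F = 2 := by
    have h1 : (Finset.univ : Finset F) ⊆ {0, 1} := by
      intro b _
      by_cases hb : b = 0
      · simp [hb]
      · simp [hq b hb]
    have h2 := Finset.card_le_card h1
    have h3 : Finset.card ({0, 1} : Finset F) ≤ 2 := Finset.card_le_two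
    have h4 : 1 < Fintype.card F := Fintype.one_lt_card
    rw [Finset.card_univ] at h2
    omega
  have hk2 : k ≠ 2 := fun h => hex ⟨h, hcard2⟩
  have hnd := decomp_relNondeg hD i
  obtain ⟨e, he, f, hf, hef⟩ := exists_hyp_pair hnd (decomp_ne_bot hD i)
  have hPA : Submodule.span F {e, f} ≤ D i := by
    rw [Submodule.span_le]
    rintro x (rfl | rfl)
    · exact he
    · exact hf
  have hk : 2 ≤ k := by
    have := Submodule.finrank_mono hPA
    rw [finrank_span_hypPair hef, hD.decomp.finrank_eq] at this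
    exact this
  have he0 : e ≠ 0 := by
    rintro rfl
    rw [sympForm_zero_left] at hef
    exact zero_ne_one hef
  have h1 := Submodule.finrank_sup_add_finrank_inf_eq (D i) (spPerp (Submodule.span F {e}))
  have h2 := finrank_spPerp (Submodule.span F {e})
  have h3 : Module.finrank F (Submodule.span F {e}) = 1 := finrank_span_singleton he0
  have h4 : Module.finrank F ↥(D i ⊔ spPerp (Submodule.span F {e})) ≤ 2 * m := by
    have := Submodule.finrank_le (D i ⊔ spPerp (Submodule.span F {e}))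
    simpa [Module.finrank_fintype_fun_eq_card, two_mul] using this
  have h5 : 1 ≤ 2 * m := by
    have := Submodule.finrank_le (Submodule.span F {e})
    rw [h3] at this
    simpa [Module.finrank_fintype_fun_eq_card, two_mul] using this
  rw [hD.decomp.finrank_eq] at h1
  have h6 : 2 ≤ Module.finrank F ↥(D i ⊓ spPerp (Submodule.span F {e})) := by omega
  have h7 : ¬ (D i ⊓ spPerp (Submodule.span F {e}) ≤ Submodule.span F {e}) := by
    intro hle
    have := Submodule.finrank_mono hle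
    omega
  obtain ⟨u', hu', hu'e⟩ := SetLike.not_le_iff_exists.mp h7
  refine ⟨e, he, u', hu'.1, he0, ?_, ?_, ?_⟩
  · rintro rfl
    exact hu'e (Submodule.zero_mem _)
  · intro h
    apply hu'e
    have h8 : u' = -e := eq_neg_of_add_eq_zero_right h
    rw [h8]
    exact Submodule.neg_mem _ (Submodule.mem_span_singleton_self e)
  · exact (mem_spPerp' _ u').mp hu'.2 e (Submodule.mem_span_singleton_self e)

/-- an element outside the stabiliser maps some vector of a member to a vector with two non-zero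
components -/
theorem exists_mixed {t k : ℕ} {D : Fin t → Submodule F (Fin m ⊕ Fin m → F)}
    (hD : Cfsg.Geo.IsNondegenerateMDecomposition (Cfsg.sympForm m F) k D)
    {g : GL (Fin m ⊕ Fin m) F} (hg : g ∉ Cfsg.Geo.decompositionStabilizer D) :
    ∃ i, ∃ y ∈ D i, ∃ a b, a ≠ b ∧ (g : Mat) *ᵥ y ∉ spPerp (D a) ∧
      (g : Mat) *ᵥ y ∉ spPerp (D b) := by
  have hfinij : ∀ i j, Module.finrank F (D i) = Module.finrank F (D j) := fun i j => by
    rw [hD.decomp.finrank_eq, hD.decomp.finrank_eq]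
  obtain ⟨i, hi⟩ : ∃ i, ∀ j, ¬ ∀ x ∈ D i, (g : Mat) *ᵥ x ∈ D j := by
    by_contra hcon
    push Not at hcon
    choose σ hσ using hcon
    have hinj : Function.Injective σ := by
      intro i i' hii'
      by_contra hne
      obtain ⟨u, hu, hu0⟩ := (Submodule.ne_bot_iff _).mp (decomp_ne_bot hD i)
      have h1 : (g : Mat) *ᵥ u ∈ D (σ i') := by rw [← hii']; exact hσ i u hu
      obtain ⟨v, hv, hvu⟩ := exists_preimage_of_maps_into g (hfinij i' (σ i')) (hσ i') h1
      have h2 := gl_mulVec_injective g hvu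
      rw [h2] at hv
      exact hu0 (eq_zero_of_mem_of_mem_spPerp (D i) (hD.nondegenerate i) hu
        (decomp_perp hD (Ne.symm hne) hv))
    apply hg
    change ∃ τ : Equiv.Perm (Fin t), ∀ i,
      (D i).map (Matrix.toLin' ((g : GL (Fin m ⊕ Fin m) F) : Mat)) = D (τ i)
    refine ⟨Equiv.ofBijective σ (Finite.injective_iff_bijective.mp hinj), fun i => ?_⟩
    rw [Equiv.ofBijective_apply]
    exact map_toLin'_eq_of_maps_into g (hfinij _ _) (hσ i)
  by_contra hcon
  push Not at hcon
  -- every image lies in a single member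
  have hsingle : ∀ y ∈ D i, ∀ a, (g : Mat) *ᵥ y ∉ spPerp (D a) → (g : Mat) *ᵥ y ∈ D a := by
    intro y hy a hya
    apply decomp_mem_of_perp hD a
    intro j hja
    exact hcon i y hy a j (Ne.symm hja) hya
  have hex : ∀ y ∈ D i, (g : Mat) *ᵥ y ≠ 0 → ∃ a, (g : Mat) *ᵥ y ∉ spPerp (D a) := by
    intro y _ hy0
    by_contra hc
    push Not at hc
    exact hy0 (decomp_eq_zero_of_perp hD hc)
  obtain ⟨y0, hy0, hy00⟩ := (Submodule.ne_bot_iff _).mp (decomp_ne_bot hD i)
  have hgy0 : (g : Mat) *ᵥ y0 ≠ 0 := by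
    intro h
    apply hy00
    apply gl_mulVec_injective g
    rw [h, Matrix.mulVec_zero]
  obtain ⟨a, hya⟩ := hex y0 hy0 hgy0
  have hy0a := hsingle y0 hy0 a hya
  have hia := hi a
  push Not at hia
  obtain ⟨y1, hy1, hy1a⟩ := hia
  have hgy1 : (g : Mat) *ᵥ y1 ≠ 0 := by
    intro h
    apply hy1a
    rw [h]
    exact (D a).zero_mem
  obtain ⟨b, hyb⟩ := hex y1 hy1 hgy1
  have hy1b := hsingle y1 hy1 b hyb
  have hab : a ≠ b := by
    rintro rfl
    exact hy1a hy1b
  have h1 : (g : Mat) *ᵥ (y0 + y1) ∉ spPerp (D a) := by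
    intro h
    apply hya
    have := (spPerp (D a)).sub_mem h (decomp_perp hD (Ne.symm hab) hy1b)
    rwa [Matrix.mulVec_add, add_sub_cancel_right] at this
  have h2 := hcon i (y0 + y1) ((D i).add_mem hy0 hy1) a b hab h1
  apply hyb
  have := (spPerp (D b)).sub_mem h2 (decomp_perp hD hab hy0a)
  rwa [Matrix.mulVec_add, add_sub_cancel_left] at this

end Cfsg.Agent.Helper13
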