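import Cfsg.Agent.Helper13.SpDec5

set_option autoImplicit false

namespace Cfsg.Agent.Helper13

open Matrix Cfsg.Agent.S0776

variable {F : Type*} [Field F] {m : ℕ}

local notation "Vec" => (Fin m ⊕ Fin m → F)
local notation "Mat" => Matrix (Fin m ⊕ Fin m) (Fin m ⊕ Fin m) F
local notation "⟪" x ", " y "⟫" => Cfsg.sympForm m F x y

theorem hcard_mono {A U : Submodule F (Fin m ⊕ Fin m → F)} (hAU : A ≤ U)
    (h : (∃ b : F, b ≠ 0 ∧ b ≠ 1) ∨
      ∃ u ∈ A, ∃ u' ∈ A, u ≠ 0 ∧ u' ≠ 0 ∧ u + u' ≠ 0 ∧ ⟪u', u⟫ = 0) :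
    (∃ b : F, b ≠ 0 ∧ b ≠ 1) ∨
      ∃ u ∈ U, ∃ u' ∈ U, u ≠ 0 ∧ u' ≠ 0 ∧ u + u' ≠ 0 ∧ ⟪u', u⟫ = 0 := by
  rcases h with h | ⟨u, hu, u', hu', h⟩
  · exact Or.inl h
  · exact Or.inr ⟨u, hAU hu, u', hAU hu', h⟩

/-- the stabiliser of a decomposition into pairwise orthogonal non-degenerate subspaces is maximal
in `Sp_{2m}`, unless the members are planes over the field of two elements -/
theorem sp_decomp_stab_isMaximalIn [Fintype F] {t k : ℕ}
    {D : Fin t → Submodule F (Fin m ⊕ Fin m → F)}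
    (hD : Cfsg.Geo.IsNondegenerateMDecomposition (Cfsg.sympForm m F) k D)
    (hex : ¬ (k = 2 ∧ Fintype.card F = 2)) :
    Cfsg.Geo.IsMaximalIn (Cfsg.spGL m F)
      (Cfsg.Geo.decompositionStabilizer D ⊓ Cfsg.spGL m F) := by
  have h2t := hD.decomp.two_le
  refine ⟨lt_of_le_of_ne inf_le_right ?_, ?_⟩
  · -- properness
    intro heq
    have h01 : (⟨0, by omega⟩ : Fin t) ≠ ⟨1, by omega⟩ := by
      intro h
      have := congrArg Fin.val h
      simp at this
    generalize (⟨0, by omega⟩ : Fin t) = i0 at h01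
    generalize (⟨1, by omega⟩ : Fin t) = i1 at h01
    obtain ⟨u0, hu0, hu00⟩ := (Submodule.ne_bot_iff _).mp (decomp_ne_bot hD i0)
    obtain ⟨u1, hu1, hu10⟩ := (Submodule.ne_bot_iff _).mp (decomp_ne_bot hD i1)
    have h1 : tvGL (u0 + u1) 1 ∈ Cfsg.Geo.decompositionStabilizer D ⊓ Cfsg.spGL m F := by
      rw [heq]; exact tvGL_mem_spGL _ _
    obtain ⟨σ, hσ⟩ := h1.1
    obtain ⟨x, hx, hxu0⟩ := decomp_relNondeg hD i0 u0 hu0 hu00
    have htx : ((tvGL (u0 + u1) 1 : GL (Fin m ⊕ Fin m) F) : Mat) *ᵥ x ∈ D (σ i0) := by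
      rw [← hσ i0]
      exact ⟨x, hx, Matrix.toLin'_apply _ _⟩
    rw [tvGL_coe, sympTransvection_mulVec, one_mul, sympForm_add_right,
      (mem_spPerp' (D i1) x).mp (decomp_perp hD h01 hx) u1 hu1, add_zero] at htx
    have hσ1 : σ i0 = i1 := by
      by_contra hne
      have h2 := decomp_perp hD hne htx
      obtain ⟨z, hz, hzu1⟩ := decomp_relNondeg hD i1 u1 hu1 hu10
      have h3 := (mem_spPerp (D i1) _).mp h2 z hz
      rw [sympForm_add_right, sympForm_smul_right, sympForm_add_right,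
        (mem_spPerp' (D i0) z).mp (decomp_perp hD h01.symm hz) x hx,
        (mem_spPerp' (D i0) z).mp (decomp_perp hD h01.symm hz) u0 hu0, zero_add, zero_add] at h3
      exact (mul_ne_zero hxu0 hzu1) h3
    rw [hσ1] at htx
    have h3 : x + ⟪x, u0⟫ • u0 ∈ D i1 := by
      have h4 := (D i1).sub_mem htx ((D i1).smul_mem ⟪x, u0⟫ hu1)
      have h5 : x + ⟪x, u0⟫ • (u0 + u1) - ⟪x, u0⟫ • u1 = x + ⟪x, u0⟫ • u0 := by module
      rwa [h5] at h4
    have h4 : x + ⟪x, u0⟫ • u0 ∈ D i0 := (D i0).add_mem hx ((D i0).smul_mem _ hu0)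
    have h5 := eq_zero_of_mem_of_mem_spPerp (D i0) (hD.nondegenerate i0) h4
      (decomp_perp hD h01.symm h3)
    have h6 : ⟪x + ⟪x, u0⟫ • u0, u0⟫ = ⟪x, u0⟫ := by
      rw [sympForm_add_left, sympForm_smul_left, sympForm_self, mul_zero, add_zero]
    rw [h5, sympForm_zero_left] at h6
    exact hxu0 h6.symm
  · intro M hHM hMG
    by_cases hMH : M = Cfsg.Geo.decompositionStabilizer D ⊓ Cfsg.spGL m F
    · exact Or.inl hMH
    right
    obtain ⟨g, hgM, hgH⟩ : ∃ g ∈ M, g ∉ Cfsg.Geo.decompositionStabilizer D ⊓ Cfsg.spGL m F := by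
      by_contra hcon
      push Not at hcon
      exact hMH (le_antisymm hcon hHM)
    have hgS : g ∉ Cfsg.Geo.decompositionStabilizer D := fun h => hgH ⟨h, hMG hgM⟩
    have hDS : ∀ i, ∀ v ∈ D i, v ∈ tvVecs M := fun i v hv c =>
      hHM ⟨tvGL_mem_decompositionStabilizer hD hv c, tvGL_mem_spGL v c⟩
    obtain ⟨i, y, hy, a, b, hab, hya, hyb⟩ := exists_mixed hD hgS
    have hx : (g : Mat) *ᵥ y ∈ tvVecs M := tvVecs_map hMG hgM (hDS i y hy)
    have hAB := tvVecs_sup_of_mixed hMG (decomp_relNondeg hD a) (decomp_relNondeg hD b)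
      (decomp_perp hD hab) (hDS a) (hDS b) (decomp_hcard hD hex a) (decomp_hcard hD hex b)
      hx hya hyb
    -- the star centred at `a`
    have hstar : ∀ c, c ≠ a → ∀ p ∈ D a ⊔ D c, p ∈ tvVecs M := by
      intro c hca p hp
      by_cases hcb : c = b
      · subst hcb
        exact hAB p hp
      obtain ⟨h, hhH, hhc, hhfix⟩ := exists_swap_mem hD (Ne.symm hcb)
      obtain ⟨u, hu, v, hv, rfl⟩ := Submodule.mem_sup.mp hp
      have hhM := hHM hhH
      have h1 : (h : Mat) *ᵥ (u + v) ∈ tvVecs M := by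
        rw [Matrix.mulVec_add, hhfix a hab (Ne.symm hca) u hu]
        apply hAB
        exact (D a ⊔ D b).add_mem (Submodule.mem_sup_left hu) (Submodule.mem_sup_right (hhc v hv))
      have h2 := tvVecs_map hMG (M.inv_mem hhM) h1
      rwa [gl_inv_mulVec] at h2
    -- induction over the members
    have hind : ∀ I : Finset (Fin t), RelNondeg (D a ⊔ ⨆ i ∈ I, D i) ∧
        ∀ p ∈ D a ⊔ ⨆ i ∈ I, D i, p ∈ tvVecs M := by
      intro I
      induction I using Finset.induction_on with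
      | empty =>
        simp only [Finset.notMem_empty, iSup_false, iSup_bot, sup_bot_eq]
        exact ⟨decomp_relNondeg hD a, hDS a⟩
      | insert c I hcI ih =>
        rw [Finset.iSup_insert]
        by_cases hca : c = a
        · subst hca
          rw [← sup_assoc, sup_idem]
          exact ih
        · have hperp : D c ≤ spPerp (D a ⊔ ⨆ i ∈ I, D i) := by
            apply le_spPerp_comm
            apply sup_le (decomp_perp hD (Ne.symm hca))
            apply iSup₂_le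
            intro i hi
            exact decomp_perp hD (by rintro rfl; exact hcI hi)
          have heq : D a ⊔ (D c ⊔ ⨆ i ∈ I, D i) = (D a ⊔ ⨆ i ∈ I, D i) ⊔ D c := by
            rw [sup_comm (D c), sup_assoc]
          rw [heq]
          refine ⟨relNondeg_sup ih.1 (decomp_relNondeg hD c) (le_spPerp_comm hperp), ?_⟩
          exact tvVecs_sup_extend hMG ih.1 ih.2 (hcard_mono le_sup_left (decomp_hcard hD hex a))
            le_sup_left (decomp_ne_bot hD a) hperp (hstar c hca)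
    have htop : (⨆ i ∈ (Finset.univ : Finset (Fin t)), D i) = ⊤ := by
      simp [hD.decomp.iSup_eq_top]
    apply le_antisymm hMG
    apply spGL_le_of_tv
    intro v
    apply (hind Finset.univ).2 v
    rw [htop, sup_top_eq]
    exact Submodule.mem_top

end Cfsg.Agent.Helper13
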