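import Cfsg.Agent.Helper13.LineCount
import Cfsg.Agent.S0749
import Cfsg.Agent.S0776

set_option autoImplicit false

namespace Cfsg.Agent.Helper13

open Matrix Cfsg.Agent.S0776

variable {F : Type*} [Field F] {m : ℕ}

/-- totally isotropic frames: linearly independent families of pairwise orthogonal vectors -/
def IsTIFrame (m : ℕ) {k : ℕ} (f : Fin k → (Fin m ⊕ Fin m → F)) : Prop :=
  LinearIndependent F f ∧ ∀ i j, Cfsg.sympForm m F (f i) (f j) = 0

theorem sympForm_span_eq_zero {k : ℕ} (f : Fin k → (Fin m ⊕ Fin m → F))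
    (hf : ∀ i j, Cfsg.sympForm m F (f i) (f j) = 0) :
    ∀ x ∈ Submodule.span F (Set.range f), ∀ y ∈ Submodule.span F (Set.range f),
      Cfsg.sympForm m F x y = 0 := by
  have h1 : ∀ i, ∀ y ∈ Submodule.span F (Set.range f), Cfsg.sympForm m F (f i) y = 0 := by
    intro i y hy
    have hle : Submodule.span F (Set.range f) ≤ LinearMap.ker ((omega m F) (f i)) := by
      rw [Submodule.span_le]
      rintro _ ⟨j, rfl⟩
      rw [SetLike.mem_coe, LinearMap.mem_ker, omega_apply]
      exact hf i j
    have := hle hy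
    rw [LinearMap.mem_ker, omega_apply] at this
    exact this
  intro x hx y hy
  have hle : Submodule.span F (Set.range f) ≤ LinearMap.ker ((omega m F).flip y) := by
    rw [Submodule.span_le]
    rintro _ ⟨i, rfl⟩
    rw [SetLike.mem_coe, LinearMap.mem_ker]
    change (omega m F) (f i) y = 0
    rw [omega_apply]
    exact h1 i y hy
  have := hle hx
  rw [LinearMap.mem_ker] at this
  change (omega m F) x y = 0 at this
  rw [omega_apply] at this
  exact this

/-- Witt: the symplectic group is transitive on totally isotropic frames -/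
theorem exists_symp_map_frame {k : ℕ} (e f : Fin k → (Fin m ⊕ Fin m → F))
    (he : IsTIFrame m e) (hf : IsTIFrame m f) :
    ∃ g : Matrix.symplecticGroup (Fin m) F,
      ∀ i, (g : Matrix (Fin m ⊕ Fin m) (Fin m ⊕ Fin m) F) *ᵥ e i = f i := by
  set X := Submodule.span F (Set.range e) with hX
  set Y := Submodule.span F (Set.range f) with hY
  set bX := Module.Basis.span he.1 with hbX
  set bY := Module.Basis.span hf.1 with hbY
  set φ : X ≃ₗ[F] Y := bX.equiv bY (Equiv.refl _) with hφdef
  have hφ : ∀ x x' : X, (omega m F) (φ x : Fin m ⊕ Fin m → F) (φ x' : Fin m ⊕ Fin m → F) =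
      (omega m F) (x : Fin m ⊕ Fin m → F) (x' : Fin m ⊕ Fin m → F) := by
    intro x x'
    rw [omega_apply, omega_apply, sympForm_span_eq_zero e he.2 x x.2 x' x'.2,
      sympForm_span_eq_zero f hf.2 _ (φ x).2 _ (φ x').2]
  obtain ⟨g, hg1, hg2⟩ := Cfsg.Agent.S0749.result (omega m F) (omega_nondegenerate m)
    (omega_isAlt m) X Y φ hφ
  refine ⟨⟨LinearMap.toMatrix' (g : (Fin m ⊕ Fin m → F) →ₗ[F] (Fin m ⊕ Fin m → F)), ?_⟩, ?_⟩
  · rw [mem_symplecticGroup_iff_preserves]
    intro u v
    have := hg1 u v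
    rw [omega_apply, omega_apply] at this
    rw [LinearMap.toMatrix'_mulVec, LinearMap.toMatrix'_mulVec]
    exact this
  · intro i
    show LinearMap.toMatrix' (g : (Fin m ⊕ Fin m → F) →ₗ[F] (Fin m ⊕ Fin m → F)) *ᵥ e i = f i
    rw [LinearMap.toMatrix'_mulVec]
    have h1 : (bX i : Fin m ⊕ Fin m → F) = e i := by
      rw [hbX, Module.Basis.span_apply]
    have h2 : (bY i : Fin m ⊕ Fin m → F) = f i := by
      rw [hbY, Module.Basis.span_apply]
    have h3 := hg2 (bX i)
    rw [h1] at h3
    rw [LinearEquiv.coe_coe, h3, hφdef, Module.Basis.equiv_apply, Equiv.refl_apply, h2]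

/-- the image of a frame under a symplectic matrix is a frame -/
theorem isTIFrame_mulVec {k : ℕ} (g : Matrix.symplecticGroup (Fin m) F)
    (e : Fin k → (Fin m ⊕ Fin m → F)) (he : IsTIFrame m e) :
    IsTIFrame m (fun i => (g : Matrix (Fin m ⊕ Fin m) (Fin m ⊕ Fin m) F) *ᵥ e i) := by
  constructor
  · have hker : LinearMap.ker (Matrix.toLin'
        (g : Matrix (Fin m ⊕ Fin m) (Fin m ⊕ Fin m) F)) = ⊥ := by
      rw [LinearMap.ker_eq_bot]
      intro v w hvw
      rw [Matrix.toLin'_apply, Matrix.toLin'_apply] at hvw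
      have h1 : ((g⁻¹ : Matrix.symplecticGroup (Fin m) F) :
          Matrix (Fin m ⊕ Fin m) (Fin m ⊕ Fin m) F) *
          (g : Matrix (Fin m ⊕ Fin m) (Fin m ⊕ Fin m) F) = 1 := by
        rw [← Submonoid.coe_mul, inv_mul_cancel, Submonoid.coe_one]
      have := congrArg (fun u => ((g⁻¹ : Matrix.symplecticGroup (Fin m) F) :
          Matrix (Fin m ⊕ Fin m) (Fin m ⊕ Fin m) F) *ᵥ u) hvw
      simpa [Matrix.mulVec_mulVec, h1] using this
    have := he.1.map' _ hker
    exact this
  · intro i j
    rw [(mem_symplecticGroup_iff_preserves _).mp g.2]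
    exact he.2 i j

/-- the type of totally isotropic frames -/
abbrev TIFrames (F : Type*) [Field F] (m k : ℕ) :=
  {f : Fin k → (Fin m ⊕ Fin m → F) // IsTIFrame m f}

/-- the orbit map of a frame -/
def frameMap {k : ℕ} (e : TIFrames F m k) (g : Matrix.symplecticGroup (Fin m) F) :
    TIFrames F m k :=
  ⟨fun i => (g : Matrix (Fin m ⊕ Fin m) (Fin m ⊕ Fin m) F) *ᵥ e.1 i, isTIFrame_mulVec g e.1 e.2⟩

theorem frameMap_mul {k : ℕ} (e : TIFrames F m k) (a b : Matrix.symplecticGroup (Fin m) F) :
    frameMap e (a * b) = frameMap (frameMap e b) a := by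
  apply Subtype.ext
  funext i
  simp only [frameMap, Submonoid.coe_mul, Matrix.mulVec_mulVec]

theorem frameMap_one {k : ℕ} (e : TIFrames F m k) : frameMap e 1 = e := by
  apply Subtype.ext
  funext i
  simp [frameMap]

/-- all fibres of the orbit map have the same size -/
theorem card_frameMap_fiber {k : ℕ} (e f : TIFrames F m k) :
    Nat.card {g : Matrix.symplecticGroup (Fin m) F // frameMap e g = f} =
      Nat.card {g : Matrix.symplecticGroup (Fin m) F // frameMap e g = e} := by
  obtain ⟨g₀, hg₀⟩ := exists_symp_map_frame e.1 f.1 e.2 f.2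
  have hg₀' : frameMap e g₀ = f := Subtype.ext (funext hg₀)
  refine Nat.card_congr ?_
  refine
    { toFun := fun g => ⟨g₀⁻¹ * g.1, ?_⟩
      invFun := fun h => ⟨g₀ * h.1, ?_⟩
      left_inv := fun g => Subtype.ext (by simp)
      right_inv := fun h => Subtype.ext (by simp) }
  · rw [frameMap_mul, g.2, ← hg₀', ← frameMap_mul, inv_mul_cancel, frameMap_one]
  · rw [frameMap_mul, h.2, hg₀']

variable [Fintype F]

/-- counting the preimage of a set of frames under the orbit map -/
theorem card_frameMap_preimage {k : ℕ} (e : TIFrames F m k) (S : Set (TIFrames F m k)) :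
    Nat.card {g : Matrix.symplecticGroup (Fin m) F // frameMap e g ∈ S} =
      Nat.card S * Nat.card {g : Matrix.symplecticGroup (Fin m) F // frameMap e g = e} := by
  have hfin : Finite (Fin k → (Fin m ⊕ Fin m → F)) := inferInstance
  have hfinSp : Finite (Matrix.symplecticGroup (Fin m) F) :=
    Finite.of_injective (fun g => g.1) Subtype.val_injective
  apply card_eq_mul_of_fibers
    (fun g : {g : Matrix.symplecticGroup (Fin m) F // frameMap e g ∈ S} =>
      (⟨frameMap e g.1, g.2⟩ : S))
  intro s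
  rw [← card_frameMap_fiber e s.1]
  refine Nat.card_congr ?_
  exact
    { toFun := fun g => ⟨g.1.1, congrArg Subtype.val g.2⟩
      invFun := fun g => ⟨⟨g.1, by rw [g.2]; exact s.2⟩, Subtype.ext g.2⟩
      left_inv := fun g => rfl
      right_inv := fun g => rfl }

theorem isTIFrame_snoc {k : ℕ} (f₀ : Fin k → (Fin m ⊕ Fin m → F)) (hf₀ : IsTIFrame m f₀)
    (v : Fin m ⊕ Fin m → F) (hv1 : v ∉ Submodule.span F (Set.range f₀))
    (hv2 : ∀ i, Cfsg.sympForm m F (f₀ i) v = 0) :
    IsTIFrame m (Fin.snoc (α := fun _ => Fin m ⊕ Fin m → F) f₀ v) := by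
  constructor
  · rw [linearIndependent_finSnoc]
    exact ⟨hf₀.1, hv1⟩
  · intro i j
    refine Fin.lastCases ?_ (fun i => ?_) i <;> refine Fin.lastCases ?_ (fun j => ?_) j
    · simp
    · rw [Fin.snoc_last, Fin.snoc_castSucc, sympForm_swap, hv2, neg_zero]
    · rw [Fin.snoc_last, Fin.snoc_castSucc, hv2]
    · rw [Fin.snoc_castSucc, Fin.snoc_castSucc]
      exact hf₀.2 i j

/-- the number of ways to extend a frame by one vector -/
theorem card_frame_extensions {k : ℕ} (f₀ : Fin k → (Fin m ⊕ Fin m → F)) (hf₀ : IsTIFrame m f₀) :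
    Nat.card {v : Fin m ⊕ Fin m → F // v ∉ Submodule.span F (Set.range f₀) ∧
      ∀ i, Cfsg.sympForm m F (f₀ i) v = 0} =
      Fintype.card F ^ (2 * m - k) - Fintype.card F ^ k := by
  set L : Submodule F (Fin m ⊕ Fin m → F) := Submodule.span F (Set.range f₀) with hL
  set H : Submodule F (Fin m ⊕ Fin m → F) := (omega m F).orthogonal L with hH
  have hmemH : ∀ w, w ∈ H ↔ ∀ i, Cfsg.sympForm m F (f₀ i) w = 0 := by
    intro w
    rw [hH, LinearMap.BilinForm.mem_orthogonal_iff]
    constructor
    · intro h i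
      have := h (f₀ i) (Submodule.subset_span (Set.mem_range_self i))
      rw [omega_apply] at this
      exact this
    · intro h x hx
      have hle : L ≤ LinearMap.ker ((omega m F).flip w) := by
        rw [hL, Submodule.span_le]
        rintro _ ⟨i, rfl⟩
        rw [SetLike.mem_coe, LinearMap.mem_ker]
        change (omega m F) (f₀ i) w = 0
        rw [omega_apply]
        exact h i
      have := hle hx
      rw [LinearMap.mem_ker] at this
      exact this
  have hLH : (L : Set (Fin m ⊕ Fin m → F)) ⊆ (H : Set (Fin m ⊕ Fin m → F)) := by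
    intro x hx
    rw [SetLike.mem_coe, hmemH]
    intro i
    exact sympForm_span_eq_zero f₀ hf₀.2 _ (Submodule.subset_span (Set.mem_range_self i)) x hx
  have hdimL : Module.finrank F L = k := by
    rw [hL, finrank_span_eq_card hf₀.1, Fintype.card_fin]
  have hdimH : Module.finrank F H = 2 * m - k := by
    rw [hH, LinearMap.BilinForm.finrank_orthogonal (omega_nondegenerate m), hdimL]
    simp only [Module.finrank_fintype_fun_eq_card, Fintype.card_sum, Fintype.card_fin]
    omega
  have h1 : Nat.card {v : Fin m ⊕ Fin m → F // v ∉ Submodule.span F (Set.range f₀) ∧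
      ∀ i, Cfsg.sympForm m F (f₀ i) v = 0} =
      ((H : Set (Fin m ⊕ Fin m → F)) \ (L : Set (Fin m ⊕ Fin m → F))).ncard := by
    rw [← Nat.card_coe_set_eq]
    refine Nat.card_congr (Equiv.subtypeEquivRight ?_)
    intro w
    rw [Set.mem_sdiff, SetLike.mem_coe, SetLike.mem_coe, hmemH]
    exact and_comm
  rw [h1, Set.ncard_sdiff hLH, ← Nat.card_coe_set_eq, ← Nat.card_coe_set_eq]
  have h2 : Nat.card (H : Set (Fin m ⊕ Fin m → F)) = Fintype.card F ^ (2 * m - k) := by
    rw [← hdimH]; exact natCard_submodule H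
  have h3 : Nat.card (L : Set (Fin m ⊕ Fin m → F)) = Fintype.card F ^ k := by
    rw [← hdimL]; exact natCard_submodule L
  rw [h2, h3]

/-- the number of totally isotropic frames -/
theorem card_TIFrames (k : ℕ) :
    Nat.card (TIFrames F m k) =
      ∏ i ∈ Finset.range k, (Fintype.card F ^ (2 * m - i) - Fintype.card F ^ i) := by
  induction k with
  | zero =>
    have : Unique (TIFrames F m 0) :=
      { default := ⟨fun i => Fin.elim0 i, linearIndependent_empty_type, fun i => Fin.elim0 i⟩
        uniq := fun f => Subtype.ext (funext fun i => Fin.elim0 i) }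
    simp [Nat.card_unique]
  | succ k ih =>
    rw [Finset.prod_range_succ, ← ih]
    have hfin : Finite (Fin (k + 1) → (Fin m ⊕ Fin m → F)) := inferInstance
    have hfin' : Finite (Fin k → (Fin m ⊕ Fin m → F)) := inferInstance
    apply card_eq_mul_of_fibers
      (fun f : TIFrames F m (k + 1) =>
        (⟨Fin.init (α := fun _ => Fin m ⊕ Fin m → F) f.1,
          ⟨f.2.1.comp _ (Fin.castSucc_injective k), fun i j => f.2.2 _ _⟩⟩ : TIFrames F m k))
    intro f₀
    rw [← card_frame_extensions f₀.1 f₀.2]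
    refine Nat.card_congr ?_
    refine
      { toFun := fun f => ⟨f.1.1 (Fin.last k), ?_, ?_⟩
        invFun := fun v => ⟨⟨Fin.snoc (α := fun _ => Fin m ⊕ Fin m → F) f₀.1 v.1,
          isTIFrame_snoc f₀.1 f₀.2 v.1 v.2.1 v.2.2⟩, ?_⟩
        left_inv := ?_
        right_inv := ?_ }
    · have h0 : Fin.init (α := fun _ => Fin m ⊕ Fin m → F) f.1.1 = f₀.1 :=
        congrArg Subtype.val f.2
      have h1 := f.1.2.1
      rw [← Fin.snoc_init_self (α := fun _ => Fin m ⊕ Fin m → F) f.1.1,
        linearIndependent_finSnoc, h0] at h1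
      exact h1.2
    · intro i
      have h0 : Fin.init (α := fun _ => Fin m ⊕ Fin m → F) f.1.1 = f₀.1 :=
        congrArg Subtype.val f.2
      rw [← h0]
      exact f.1.2.2 _ _
    · apply Subtype.ext
      exact Fin.init_snoc (α := fun _ => Fin m ⊕ Fin m → F) v.1 f₀.1
    · intro f
      apply Subtype.ext
      apply Subtype.ext
      have h0 : Fin.init (α := fun _ => Fin m ⊕ Fin m → F) f.1.1 = f₀.1 :=
        congrArg Subtype.val f.2
      show Fin.snoc (α := fun _ => Fin m ⊕ Fin m → F) f₀.1 (f.1.1 (Fin.last k)) = f.1.1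
      rw [← h0]
      exact Fin.snoc_init_self (α := fun _ => Fin m ⊕ Fin m → F) f.1.1
    · intro v
      apply Subtype.ext
      show Fin.snoc (α := fun _ => Fin m ⊕ Fin m → F) f₀.1 v.1 (Fin.last k) = v.1
      exact Fin.snoc_last (α := fun _ => Fin m ⊕ Fin m → F) v.1 f₀.1

end Cfsg.Agent.Helper13
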