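import Cfsg.Agent.Helper13.SpMax1

set_option autoImplicit false

namespace Cfsg.Agent.Helper13

open Matrix Cfsg.Agent.S0776

variable {F : Type*} [Field F] {m : ℕ}

local notation "Vec" => (Fin m ⊕ Fin m → F)
local notation "Mat" => Matrix (Fin m ⊕ Fin m) (Fin m ⊕ Fin m) F
local notation "⟪" x ", " y "⟫" => Cfsg.sympForm m F x y

/-- the orthogonal of `W` for the symplectic form -/
noncomputable def spPerp (W : Submodule F Vec) : Submodule F Vec := (omega m F).orthogonal W

theorem mem_spPerp (W : Submodule F Vec) (x : Vec) :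
    x ∈ spPerp W ↔ ∀ w ∈ W, ⟪w, x⟫ = 0 := by
  rw [spPerp, LinearMap.BilinForm.mem_orthogonal_iff]
  constructor
  · intro h w hw
    have := h w hw
    rwa [omega_apply] at this
  · intro h w hw
    rw [omega_apply]
    exact h w hw

theorem mem_spPerp' (W : Submodule F Vec) (x : Vec) :
    x ∈ spPerp W ↔ ∀ w ∈ W, ⟪x, w⟫ = 0 := by
  rw [mem_spPerp]
  constructor
  · intro h w hw
    rw [sympForm_swap, h w hw, neg_zero]
  · intro h w hw
    rw [sympForm_swap, h w hw, neg_zero]

theorem finrank_spPerp (W : Submodule F Vec) :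
    Module.finrank F (spPerp W) = 2 * m - Module.finrank F W := by
  rw [spPerp, LinearMap.BilinForm.finrank_orthogonal (omega_nondegenerate m)]
  simp only [Module.finrank_fintype_fun_eq_card, Fintype.card_sum, Fintype.card_fin]
  omega

/-- a subspace on which the form is non-degenerate is complemented by its orthogonal -/
theorem isCompl_spPerp (W : Submodule F Vec)
    (hW : Cfsg.Geo.IsNondegenerateOn (Cfsg.sympForm m F) W) : IsCompl W (spPerp W) := by
  have hAlt := omega_isAlt (F := F) m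
  have hrefl : (omega m F).IsRefl := hAlt.isRefl
  have hWL : ((omega m F).restrict W).SeparatingLeft := by
    intro x hx
    by_contra hne
    have hx0 : (x : Vec) ≠ 0 := fun h => hne (Subtype.ext h)
    obtain ⟨-, y, hy, hxy⟩ := hW x.1 x.2 hx0
    apply hxy
    have := hx ⟨y, hy⟩
    rw [← omega_apply]
    exact this
  have hWND : ((omega m F).restrict W).Nondegenerate := by
    refine ⟨hWL, ?_⟩
    intro y hy
    apply hWL
    intro x
    have h := hy x
    have hrefl' : ((omega m F).restrict W).IsRefl := fun a b hab => hrefl _ _ hab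
    exact hrefl' _ _ h
  exact LinearMap.BilinForm.isCompl_orthogonal_of_restrict_nondegenerate hrefl hWND

theorem relNondeg_of_isNondegenerateOn (W : Submodule F Vec)
    (hW : Cfsg.Geo.IsNondegenerateOn (Cfsg.sympForm m F) W) : RelNondeg W :=
  fun u hu hu0 => (hW u hu hu0).1

theorem exists_decomp (W : Submodule F Vec)
    (hW : Cfsg.Geo.IsNondegenerateOn (Cfsg.sympForm m F) W) (x : Vec) :
    ∃ w ∈ W, ∃ w' ∈ spPerp W, x = w + w' := by
  have hc := isCompl_spPerp W hW
  have hx : x ∈ W ⊔ spPerp W := by rw [hc.sup_eq_top]; exact Submodule.mem_top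
  obtain ⟨w, hw, w', hw', h⟩ := Submodule.mem_sup.mp hx
  exact ⟨w, hw, w', hw', h.symm⟩

theorem eq_zero_of_mem_of_mem_spPerp (W : Submodule F Vec)
    (hW : Cfsg.Geo.IsNondegenerateOn (Cfsg.sympForm m F) W) {x : Vec} (h1 : x ∈ W)
    (h2 : x ∈ spPerp W) : x = 0 :=
  (Submodule.disjoint_def.mp (isCompl_spPerp W hW).disjoint) x h1 h2

theorem relNondeg_spPerp (W : Submodule F Vec)
    (hW : Cfsg.Geo.IsNondegenerateOn (Cfsg.sympForm m F) W) : RelNondeg (spPerp W) := by
  intro u hu hu0
  obtain ⟨x, hx⟩ := sympForm_nondeg_left (m := m) hu0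
  obtain ⟨w, hw, w', hw', rfl⟩ := exists_decomp W hW x
  refine ⟨w', hw', ?_⟩
  rw [sympForm_add_left, (mem_spPerp W u).mp hu w hw, zero_add] at hx
  exact hx

/-- the stabiliser of a non-degenerate subspace of dimension `< m` is maximal in `Sp_{2m}` -/
theorem sp_nondeg_stab_isMaximalIn (W : Submodule F Vec) (hW0 : W ≠ ⊥)
    (hW : Cfsg.Geo.IsNondegenerateOn (Cfsg.sympForm m F) W) (hdim : Module.finrank F W < m) :
    Cfsg.Geo.IsMaximalIn (Cfsg.spGL m F) (Cfsg.Geo.subspaceStabilizer W ⊓ Cfsg.spGL m F) := by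
  have hdimp := finrank_spPerp W
  have hRW := relNondeg_of_isNondegenerateOn W hW
  have hRWp := relNondeg_spPerp W hW
  obtain ⟨w₀, hw₀, hw₀0⟩ := (Submodule.ne_bot_iff W).mp hW0
  have hWp0 : spPerp W ≠ ⊥ := by
    intro h
    rw [h, finrank_bot] at hdimp
    omega
  obtain ⟨w₀', hw₀', hw₀'0⟩ := (Submodule.ne_bot_iff _).mp hWp0
  -- key: a subgroup between `P` and `Sp` containing a "mixed" vector in `tvVecs` is `Sp`
  have key : ∀ M : Subgroup (GL (Fin m ⊕ Fin m) F),
      Cfsg.Geo.subspaceStabilizer W ⊓ Cfsg.spGL m F ≤ M → M ≤ Cfsg.spGL m F →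
      (∃ w ∈ W, ∃ w' ∈ spPerp W, w ≠ 0 ∧ w' ≠ 0 ∧ w + w' ∈ tvVecs M) → M = Cfsg.spGL m F := by
    intro M hPM hMG ⟨w, hw, w', hw', hw0, hw'0, hs⟩
    have hSW : ∀ v ∈ W, v ∈ tvVecs M := fun v hv c =>
      hPM ⟨tvGL_mem_stab_of_mem W hv c, tvGL_mem_spGL v c⟩
    have hSWp : ∀ v ∈ spPerp W, v ∈ tvVecs M := fun v hv c =>
      hPM ⟨tvGL_mem_stab_of_orth W ((mem_spPerp W v).mp hv) c, tvGL_mem_spGL v c⟩
    have h1 := relTransvectionSubgroup_le_comap M W hSW
    have h2 := relTransvectionSubgroup_le_comap M (spPerp W) hSWp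
    apply le_antisymm hMG
    apply spGL_le_of_tv
    intro x
    obtain ⟨y, hy, y', hy', rfl⟩ := exists_decomp W hW x
    by_cases hy0 : y = 0
    · rw [hy0, zero_add]; exact hSWp y' hy'
    by_cases hy'0 : y' = 0
    · rw [hy'0, add_zero]; exact hSW y hy
    obtain ⟨A, hA, hAw⟩ := exists_transvection_map_of_ne_zero_rel hRW hw hy hw0 hy0
    obtain ⟨A', hA', hA'w⟩ := exists_transvection_map_of_ne_zero_rel hRWp hw' hy' hw'0 hy'0
    have hAw' : (A : Mat) *ᵥ w' = w' :=
      relTransvectionSubgroup_fix W hA w' ((mem_spPerp' W w').mp hw')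
    have hA'y : (A' : Mat) *ᵥ y = y := by
      apply relTransvectionSubgroup_fix (spPerp W) hA' y
      intro z hz
      exact (mem_spPerp W z).mp hz y hy
    have h3 := tvVecs_map hMG (h1 hA) hs
    rw [spToGL_coe, Matrix.mulVec_add, hAw, hAw'] at h3
    have h4 := tvVecs_map hMG (h2 hA') h3
    rw [spToGL_coe, Matrix.mulVec_add, hA'y, hA'w] at h4
    exact h4
  refine ⟨lt_of_le_of_ne inf_le_right ?_, ?_⟩
  · -- properness
    intro heq
    obtain ⟨x, hx, hxw⟩ := hRW w₀ hw₀ hw₀0
    have h1 : tvGL (w₀ + w₀') 1 ∈ Cfsg.Geo.subspaceStabilizer W ⊓ Cfsg.spGL m F := by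
      rw [heq]; exact tvGL_mem_spGL _ _
    have h2 := ((mem_subspaceStabilizer_iff W _).mp h1.1 x).mp hx
    rw [tvGL_coe, sympTransvection_mulVec, one_mul, sympForm_add_right,
      (mem_spPerp W w₀').mp hw₀' x hx, add_zero] at h2
    have h3 : ⟪x, w₀⟫ • (w₀ + w₀') ∈ W := by
      have := W.sub_mem h2 hx
      rwa [add_sub_cancel_left] at this
    have h4 : w₀ + w₀' ∈ W := by
      have := W.smul_mem (⟪x, w₀⟫)⁻¹ h3
      rwa [smul_smul, inv_mul_cancel₀ hxw, one_smul] at this
    have h5 : w₀' ∈ W := by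
      have := W.sub_mem h4 hw₀
      rwa [add_sub_cancel_left] at this
    exact hw₀'0 (eq_zero_of_mem_of_mem_spPerp W hW h5 hw₀')
  · intro M hPM hMG
    by_cases hMP : M = Cfsg.Geo.subspaceStabilizer W ⊓ Cfsg.spGL m F
    · exact Or.inl hMP
    right
    -- an element of `M` not stabilising `W`
    obtain ⟨h, hhM, hhP⟩ : ∃ h ∈ M, h ∉ Cfsg.Geo.subspaceStabilizer W ⊓ Cfsg.spGL m F := by
      by_contra hcon
      push Not at hcon
      exact hMP (le_antisymm hcon hPM)
    have hhS : h ∉ Cfsg.Geo.subspaceStabilizer W := fun h1 => hhP ⟨h1, hMG hhM⟩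
    have hSW : ∀ v ∈ W, v ∈ tvVecs M := fun v hv c =>
      hPM ⟨tvGL_mem_stab_of_mem W hv c, tvGL_mem_spGL v c⟩
    have hSWp : ∀ v ∈ spPerp W, v ∈ tvVecs M := fun v hv c =>
      hPM ⟨tvGL_mem_stab_of_orth W ((mem_spPerp W v).mp hv) c, tvGL_mem_spGL v c⟩
    apply key M hPM hMG
    -- some `x ∈ W ∪ W^⊥` with `h x ∉ W ∪ W^⊥`
    obtain ⟨x, hx, hhx⟩ : ∃ x : Vec, (x ∈ W ∨ x ∈ spPerp W) ∧
        ¬ ((h : Mat) *ᵥ x ∈ W ∨ (h : Mat) *ᵥ x ∈ spPerp W) := by
      by_contra hcon
      push Not at hcon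
      have hinj : Function.Injective (Matrix.mulVecLin (h : Mat)) := by
        intro a b hab
        have := congrArg (fun z => ((h⁻¹ : GL (Fin m ⊕ Fin m) F) : Mat) *ᵥ z) hab
        simpa only [Matrix.mulVecLin_apply, gl_inv_mulVec] using this
      -- a subspace mapped into the union is mapped into one of the two
      have hunion : ∀ U : Submodule F Vec, (∀ x ∈ U, x ∈ W ∨ x ∈ spPerp W) →
          (∀ x ∈ U, (h : Mat) *ᵥ x ∈ W) ∨ (∀ x ∈ U, (h : Mat) *ᵥ x ∈ spPerp W) := by
        intro U hU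
        by_contra hc2
        push Not at hc2
        obtain ⟨⟨x₁, hx₁, h1⟩, ⟨x₂, hx₂, h2⟩⟩ := hc2
        have h1' : (h : Mat) *ᵥ x₁ ∈ spPerp W := (hcon x₁ (hU x₁ hx₁)).resolve_left h1
        have h2' : (h : Mat) *ᵥ x₂ ∈ W := (hcon x₂ (hU x₂ hx₂)).resolve_right h2
        have h3 := hcon (x₁ + x₂) (hU _ (U.add_mem hx₁ hx₂))
        rw [Matrix.mulVec_add] at h3
        rcases h3 with h3 | h3
        · apply h1
          have := W.sub_mem h3 h2'
          rwa [add_sub_cancel_right] at this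
        · apply h2
          have := (spPerp W).sub_mem h3 h1'
          rwa [add_sub_cancel_left] at this
      rcases hunion W (fun x hx => Or.inl hx) with hWW | hWWp
      · exact hhS (mem_subspaceStabilizer_of_maps_into W h hWW)
      · rcases hunion (spPerp W) (fun x hx => Or.inr hx) with hWpW | hWpWp
        · -- dimension count
          have hle : (spPerp W).map (Matrix.mulVecLin (h : Mat)) ≤ W := by
            rintro _ ⟨x, hx, rfl⟩
            exact hWpW x hx
          have hfin : Module.finrank F ((spPerp W).map (Matrix.mulVecLin (h : Mat))) =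
              Module.finrank F (spPerp W) := by
            have h3 := LinearEquiv.finrank_map_eq (LinearEquiv.ofInjectiveEndo _ hinj) (spPerp W)
            rw [← h3]
            congr 2
          have := Submodule.finrank_mono hle
          omega
        · -- everything is mapped into `W^⊥`
          have hall : ∀ x : Vec, (h : Mat) *ᵥ x ∈ spPerp W := by
            intro x
            obtain ⟨y, hy, y', hy', rfl⟩ := exists_decomp W hW x
            rw [Matrix.mulVec_add]
            exact (spPerp W).add_mem (hWWp y hy) (hWpWp y' hy')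
          have := hall (((h⁻¹ : GL (Fin m ⊕ Fin m) F) : Mat) *ᵥ w₀)
          rw [gl_mulVec_inv] at this
          exact hw₀0 (eq_zero_of_mem_of_mem_spPerp W hW hw₀ this)
    push Not at hhx
    have hs : (h : Mat) *ᵥ x ∈ tvVecs M := by
      rcases hx with hx | hx
      · exact tvVecs_map hMG hhM (hSW x hx)
      · exact tvVecs_map hMG hhM (hSWp x hx)
    obtain ⟨w, hw, w', hw', hdec⟩ := exists_decomp W hW ((h : Mat) *ᵥ x)
    refine ⟨w, hw, w', hw', ?_, ?_, by rw [← hdec]; exact hs⟩
    · rintro rfl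
      rw [zero_add] at hdec
      exact hhx.2 (by rw [hdec]; exact hw')
    · rintro rfl
      rw [add_zero] at hdec
      exact hhx.1 (by rw [hdec]; exact hw)

end Cfsg.Agent.Helper13
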