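import Cfsg.Agent.Helper13.SpMax2

set_option autoImplicit false

namespace Cfsg.Agent.Helper13

open Matrix Cfsg.Agent.S0776

variable {F : Type*} [Field F] {m : ℕ}

local notation "Vec" => (Fin m ⊕ Fin m → F)
local notation "Mat" => Matrix (Fin m ⊕ Fin m) (Fin m ⊕ Fin m) F
local notation "⟪" x ", " y "⟫" => Cfsg.sympForm m F x y

theorem spPerp_spPerp (W : Submodule F Vec) : spPerp (spPerp W) = W := by
  rw [spPerp, spPerp]
  exact LinearMap.BilinForm.orthogonal_orthogonal (omega_nondegenerate m)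
    (omega_isAlt (F := F) m).isRefl W

/-- the isometry `x ↦ x + f(x,a) b + f(x,b) a` for orthogonal `a`, `b` -/
def twoTv (a b : Vec) : GL (Fin m ⊕ Fin m) F := tvGL (a + b) 1 * tvGL a (-1) * tvGL b (-1)

theorem twoTv_mulVec {a b : Vec} (hab : ⟪a, b⟫ = 0) (x : Vec) :
    ((twoTv a b : GL (Fin m ⊕ Fin m) F) : Mat) *ᵥ x = x + ⟪x, a⟫ • b + ⟪x, b⟫ • a := by
  have hba : ⟪b, a⟫ = 0 := by rw [sympForm_swap, hab, neg_zero]
  rw [twoTv, Units.val_mul, Units.val_mul, tvGL_coe, tvGL_coe, tvGL_coe, ← Matrix.mulVec_mulVec,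
    ← Matrix.mulVec_mulVec, sympTransvection_mulVec, sympTransvection_mulVec,
    sympTransvection_mulVec]
  simp only [sympForm_add_left, sympForm_add_right, sympForm_smul_left, sympForm_self, hab, hba,
    mul_zero, add_zero, zero_add]
  module

theorem twoTv_mem_spGL (a b : Vec) : twoTv a b ∈ Cfsg.spGL m F :=
  (Cfsg.spGL m F).mul_mem ((Cfsg.spGL m F).mul_mem (tvGL_mem_spGL _ _) (tvGL_mem_spGL _ _))
    (tvGL_mem_spGL _ _)

/-- the stabiliser of a totally isotropic subspace is maximal in `Sp_{2m}` -/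
theorem sp_ti_stab_isMaximalIn (W : Submodule F Vec) (hW0 : W ≠ ⊥)
    (hW : Cfsg.Geo.IsTotallySingularFor (Cfsg.sympForm m F) W) :
    Cfsg.Geo.IsMaximalIn (Cfsg.spGL m F) (Cfsg.Geo.subspaceStabilizer W ⊓ Cfsg.spGL m F) := by
  obtain ⟨w₁, hw₁, hw₁0⟩ := (Submodule.ne_bot_iff W).mp hW0
  have hWWp : W ≤ spPerp W := by
    intro x hx
    rw [mem_spPerp]
    intro w hw
    exact hW w hw x hx
  refine ⟨lt_of_le_of_ne inf_le_right ?_, ?_⟩
  · -- properness
    intro heq
    obtain ⟨x, hx⟩ := sympForm_nondeg_left (m := m) hw₁0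
    have h1 : tvGL x 1 ∈ Cfsg.Geo.subspaceStabilizer W ⊓ Cfsg.spGL m F := by
      rw [heq]; exact tvGL_mem_spGL _ _
    have h2 := ((mem_subspaceStabilizer_iff W _).mp h1.1 w₁).mp hw₁
    rw [tvGL_coe, sympTransvection_mulVec, one_mul] at h2
    have hw₁x : ⟪w₁, x⟫ ≠ 0 := by rw [sympForm_swap]; exact neg_ne_zero.mpr hx
    have h3 : ⟪w₁, x⟫ • x ∈ W := by
      have := W.sub_mem h2 hw₁
      rwa [add_sub_cancel_left] at this
    have h4 : x ∈ W := by
      have := W.smul_mem (⟪w₁, x⟫)⁻¹ h3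
      rwa [smul_smul, inv_mul_cancel₀ hw₁x, one_smul] at this
    exact hx (hW x h4 w₁ hw₁)
  · intro M hPM hMG
    by_cases hMP : M = Cfsg.Geo.subspaceStabilizer W ⊓ Cfsg.spGL m F
    · exact Or.inl hMP
    right
    obtain ⟨h, hhM, hhP⟩ : ∃ h ∈ M, h ∉ Cfsg.Geo.subspaceStabilizer W ⊓ Cfsg.spGL m F := by
      by_contra hcon
      push Not at hcon
      exact hMP (le_antisymm hcon hPM)
    have hhS : h ∉ Cfsg.Geo.subspaceStabilizer W := fun h1 => hhP ⟨h1, hMG hhM⟩
    have hSWp : ∀ v ∈ spPerp W, v ∈ tvVecs M := fun v hv c =>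
      hPM ⟨tvGL_mem_stab_of_orth W ((mem_spPerp W v).mp hv) c, tvGL_mem_spGL v c⟩
    have hSW : ∀ v ∈ W, v ∈ tvVecs M := fun v hv => hSWp v (hWWp hv)
    -- `tvVecs M` is a union of cosets of `W^⊥`
    have hcoset : ∀ s ∈ tvVecs M, ∀ a ∈ spPerp W, s + a ∈ tvVecs M := by
      intro s hs a ha
      by_cases hsa : ⟪s, a⟫ = 0
      · by_cases hsWp : s ∈ spPerp W
        · exact hSWp _ ((spPerp W).add_mem hsWp ha)
        · rw [mem_spPerp'] at hsWp
          push Not at hsWp
          obtain ⟨w, hw, hsw⟩ := hsWp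
          have h1 : s + w ∈ tvVecs M := tvVecs_add hMG hs (hSW w hw) hsw
          have h2 : a - w ∈ tvVecs M := hSWp _ ((spPerp W).sub_mem ha (hWWp hw))
          have h3 : ⟪s + w, a - w⟫ ≠ 0 := by
            rw [sympForm_add_left, sympForm_sub_right, sympForm_sub_right, hsa, sympForm_self,
              (mem_spPerp W a).mp ha w hw]
            intro h4
            apply hsw
            linear_combination -h4
          have h5 := tvVecs_add hMG h1 h2 h3
          have h6 : s + w + (a - w) = s + a := by abel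
          rwa [h6] at h5
      · exact tvVecs_add hMG hs (hSWp a ha) hsa
    -- `tvVecs M` is closed under addition
    have hadd : ∀ s₁ ∈ tvVecs M, ∀ s₂ ∈ tvVecs M, s₁ + s₂ ∈ tvVecs M := by
      intro s₁ hs₁ s₂ hs₂
      by_cases h12 : ⟪s₁, s₂⟫ = 0
      · by_cases hsum : s₁ + s₂ ∈ W
        · exact hSW _ hsum
        · rw [← spPerp_spPerp W, mem_spPerp] at hsum
          push Not at hsum
          obtain ⟨a, ha, hax⟩ := hsum
          have h1 := hcoset s₁ hs₁ a ha
          have h2 := hcoset s₂ hs₂ (-a) ((spPerp W).neg_mem ha)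
          have h3 : ⟪s₁ + a, s₂ + -a⟫ ≠ 0 := by
            rw [sympForm_add_left, sympForm_add_right, sympForm_add_right, sympForm_neg_right,
              sympForm_neg_right, sympForm_self, h12]
            rw [sympForm_add_right] at hax
            intro h4
            apply hax
            rw [sympForm_swap a s₁]
            linear_combination h4
          have h5 := tvVecs_add hMG h1 h2 h3
          have h6 : s₁ + a + (s₂ + -a) = s₁ + s₂ := by abel
          rwa [h6] at h5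
      · exact tvVecs_add hMG hs₁ hs₂ h12
    -- some vector of `tvVecs M` lies outside `W^⊥`
    obtain ⟨x₀, hx₀S, hx₀⟩ : ∃ x₀ ∈ tvVecs M, x₀ ∉ spPerp W := by
      by_contra hcon
      push Not at hcon
      apply hhS
      have h1 : h ∈ Cfsg.Geo.subspaceStabilizer (spPerp W) :=
        mem_subspaceStabilizer_of_maps_into _ h
          (fun x hx => hcon _ (tvVecs_map hMG hhM (hSWp x hx)))
      rw [mem_subspaceStabilizer_iff] at h1 ⊢
      have hiso := (mem_spGL_iff h).mp (hMG hhM)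
      intro v
      rw [← spPerp_spPerp W, mem_spPerp, mem_spPerp]
      constructor
      · intro hv y hy
        have hy' : ((h⁻¹ : GL (Fin m ⊕ Fin m) F) : Mat) *ᵥ y ∈ spPerp W := by
          rw [h1, gl_mulVec_inv]; exact hy
        have := hv _ hy'
        rw [← hiso, gl_mulVec_inv] at this
        exact this
      · intro hv y hy
        have := hv _ ((h1 y).mp hy)
        rwa [hiso] at this
    rw [mem_spPerp] at hx₀
    push Not at hx₀
    obtain ⟨w₀, hw₀, hw₀x₀⟩ := hx₀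
    have hx₀w₀ : ⟪x₀, w₀⟫ ≠ 0 := by rw [sympForm_swap]; exact neg_ne_zero.mpr hw₀x₀
    -- `tvVecs M` contains the hyperplane `w₀^⊥`
    have hhyp : ∀ b : Vec, ⟪w₀, b⟫ = 0 → b ∈ tvVecs M := by
      intro b hb
      have hp : twoTv w₀ b ∈ M := by
        apply hPM
        refine ⟨mem_subspaceStabilizer_of_maps_into W _ ?_, twoTv_mem_spGL _ _⟩
        intro x hx
        rw [twoTv_mulVec hb, hW x hx w₀ hw₀, zero_smul, add_zero]
        exact W.add_mem hx (W.smul_mem _ hw₀)
      have h1 := tvVecs_map hMG hp hx₀S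
      rw [twoTv_mulVec hb] at h1
      have h2 : (-1 : F) • x₀ + (-⟪x₀, b⟫) • w₀ ∈ tvVecs M :=
        hadd _ (tvVecs_smul hx₀S _) _ (tvVecs_smul (hSW w₀ hw₀) _)
      have h3 := hadd _ h1 _ h2
      have h4 : x₀ + ⟪x₀, w₀⟫ • b + ⟪x₀, b⟫ • w₀ + ((-1 : F) • x₀ + (-⟪x₀, b⟫) • w₀) =
          ⟪x₀, w₀⟫ • b := by module
      rw [h4] at h3
      have h5 := tvVecs_smul h3 (⟪x₀, w₀⟫)⁻¹
      rwa [smul_smul, inv_mul_cancel₀ hx₀w₀, one_smul] at h5
    apply le_antisymm hMG
    apply spGL_le_of_tv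
    intro y
    set c := ⟪w₀, y⟫ * (⟪w₀, x₀⟫)⁻¹ with hc
    have h1 : y - c • x₀ ∈ tvVecs M := by
      apply hhyp
      rw [sympForm_sub_right, sympForm_smul_right, hc, mul_assoc, inv_mul_cancel₀ hw₀x₀, mul_one,
        sub_self]
    have h2 := hadd _ h1 _ (tvVecs_smul hx₀S c)
    rwa [sub_add_cancel] at h2

end Cfsg.Agent.Helper13
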