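import Mathlib

set_option autoImplicit false

namespace Cfsg.Agent.Helper13

open Equiv

/-- the swap of the two blocks as a permutation -/
def blockSwap (m : ℕ) : Perm (Fin m ⊕ Fin m) := Equiv.sumComm (Fin m) (Fin m)

theorem blockSwap_apply (m : ℕ) (a : Fin m ⊕ Fin m) : blockSwap m a = Sum.swap a := rfl

theorem blockSwap_sq (m : ℕ) : blockSwap m ^ 2 = 1 := by
  ext a
  simp [pow_two, blockSwap_apply]

theorem blockSwap_cycleType (m : ℕ) : (blockSwap m).cycleType = Multiset.replicate m 2 := by
  rcases Nat.eq_zero_or_pos m with rfl | hm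
  · have : blockSwap 0 = 1 := Subsingleton.elim _ _
    rw [this]
    simp
  · have hne : blockSwap m ≠ 1 := by
      intro h
      have := congrArg (fun f : Perm (Fin m ⊕ Fin m) => f (Sum.inl ⟨0, hm⟩)) h
      simp [blockSwap_apply] at this
    have hord : orderOf (blockSwap m) = 2 := orderOf_eq_prime (blockSwap_sq m) hne
    obtain ⟨n, hn⟩ := Equiv.Perm.cycleType_prime_order (σ := blockSwap m)
      (by rw [hord]; exact Nat.prime_two)
    rw [hord] at hn
    have hsum := Equiv.Perm.sum_cycleType (blockSwap m)
    have hsupp : (blockSwap m).support = Finset.univ := by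
      ext a
      simp only [Equiv.Perm.mem_support, Finset.mem_univ, iff_true, blockSwap_apply]
      cases a <;> simp
    rw [hsupp, Finset.card_univ, hn, Multiset.sum_replicate, Fintype.card_sum, Fintype.card_fin,
      smul_eq_mul] at hsum
    have : n + 1 = m := by omega
    rw [hn, this]

/-- the centraliser of the block swap has `2^m * m!` elements -/
theorem card_centralizer_blockSwap (m : ℕ) :
    Nat.card (Subgroup.centralizer {blockSwap m}) = 2 ^ m * Nat.factorial m := by
  rw [Equiv.Perm.nat_card_centralizer, blockSwap_cycleType, Multiset.sum_replicate,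
    Multiset.prod_replicate, Fintype.card_sum, Fintype.card_fin, smul_eq_mul]
  have h1 : m + m - m * 2 = 0 := by omega
  rw [h1, Nat.factorial_zero, one_mul]
  rcases Nat.eq_zero_or_pos m with rfl | hm
  · simp
  · congr 1
    rw [Multiset.toFinset_replicate, if_neg (by omega), Finset.prod_singleton,
      Multiset.count_replicate_self]

end Cfsg.Agent.Helper13
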