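import Cfsg.Agent.Helper13.SpTorus
import Cfsg.Agent.Helper13.SwapCentralizer

set_option autoImplicit false

namespace Cfsg.Agent.Helper13

open Matrix Equiv

variable {F : Type*} [Field F] {m : ℕ}

theorem entry_formula (M : Matrix (Fin m ⊕ Fin m) (Fin m ⊕ Fin m) F)
    (ρ : Fin m ⊕ Fin m → Fin m ⊕ Fin m) (hzero : ∀ a b, b ≠ ρ a → M b a = 0)
    (a b : Fin m ⊕ Fin m) :
    (Mᵀ * Matrix.J (Fin m) F * M) a b =
      M (ρ a) a * Matrix.J (Fin m) F (ρ a) (ρ b) * M (ρ b) b := by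
  rw [Matrix.mul_apply, Finset.sum_eq_single (ρ b)]
  · rw [Matrix.mul_apply, Finset.sum_eq_single (ρ a)]
    · rfl
    · intro k _ hk
      rw [Matrix.transpose_apply, hzero a k hk, zero_mul]
    · intro h
      exact absurd (Finset.mem_univ _) h
  · intro k _ hk
    rw [hzero b k hk, mul_zero]
  · intro h
    exact absurd (Finset.mem_univ _) h

/-- the row function of a monomial symplectic matrix commutes with the block swap -/
theorem rho_swap (g : Matrix.symplecticGroup (Fin m) F)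
    (ρ : Fin m ⊕ Fin m → Fin m ⊕ Fin m)
    (hzero : ∀ a b, b ≠ ρ a → (g : Matrix (Fin m ⊕ Fin m) (Fin m ⊕ Fin m) F) b a = 0)
    (a : Fin m ⊕ Fin m) :
    ρ (Sum.swap a) = Sum.swap (ρ a) ∧
      (g : Matrix (Fin m ⊕ Fin m) (Fin m ⊕ Fin m) F) (ρ a) a * sgnE m F (ρ a) *
        (g : Matrix (Fin m ⊕ Fin m) (Fin m ⊕ Fin m) F) (Sum.swap (ρ a)) (Sum.swap a) =
        sgnE m F a := by
  have h1 := SymplecticGroup.mem_iff'.mp g.2
  have h2 := congrFun (congrFun h1 a) (Sum.swap a)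
  rw [entry_formula _ ρ hzero, J_apply_eq a, if_pos rfl, J_apply_eq (ρ a)] at h2
  split_ifs at h2 with h3
  · refine ⟨h3, ?_⟩
    rw [← h3]
    exact h2
  · exfalso
    rw [mul_zero, zero_mul] at h2
    exact sgnE_ne_zero a h2.symm

/-- the weights of a monomial symplectic matrix -/
def monoW (ρ : Fin m ⊕ Fin m → Fin m ⊕ Fin m) (c : Fin m → Fˣ) : Fin m ⊕ Fin m → F :=
  Sum.elim (fun i => (c i : F)) (fun i => -sgnE m F (ρ (Sum.inl i)) * ((c i)⁻¹ : Fˣ))

theorem monoW_ne_zero (ρ : Fin m ⊕ Fin m → Fin m ⊕ Fin m) (c : Fin m → Fˣ)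
    (a : Fin m ⊕ Fin m) : monoW ρ c a ≠ 0 := by
  cases a with
  | inl i => simp [monoW]
  | inr i => simp [monoW, sgnE_ne_zero]

theorem monoW_mul (ρ : Fin m ⊕ Fin m → Fin m ⊕ Fin m)
    (hρ : ∀ a, ρ (Sum.swap a) = Sum.swap (ρ a)) (c : Fin m → Fˣ) (a : Fin m ⊕ Fin m) :
    monoW ρ c a * sgnE m F (ρ a) * monoW ρ c (Sum.swap a) = sgnE m F a := by
  cases a with
  | inl i =>
    simp only [monoW, Sum.elim_inl, Sum.swap_inl, Sum.elim_inr]
    have h1 := sgnE_mul_self (F := F) (ρ (Sum.inl i))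
    have h2 : ((c i : Fˣ) : F) * (((c i)⁻¹ : Fˣ) : F) = 1 := by simp
    have h3 : sgnE m F (Sum.inl i) = -1 := rfl
    rw [h3]
    linear_combination (-(sgnE m F (ρ (Sum.inl i)) * sgnE m F (ρ (Sum.inl i)))) * h2 - h1
  | inr i =>
    simp only [monoW, Sum.elim_inl, Sum.swap_inr, Sum.elim_inr]
    have h0 : ρ (Sum.inr i) = Sum.swap (ρ (Sum.inl i)) := hρ (Sum.inl i)
    rw [h0, sgnE_swap]
    have h1 := sgnE_mul_self (F := F) (ρ (Sum.inl i))
    have h2 : ((c i : Fˣ) : F) * (((c i)⁻¹ : Fˣ) : F) = 1 := by simp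
    have h3 : sgnE m F (Sum.inr i) = 1 := rfl
    rw [h3]
    linear_combination (sgnE m F (ρ (Sum.inl i)) * sgnE m F (ρ (Sum.inl i))) * h2 + h1

/-- the monomial matrix with row function `ρ` and weights `monoW ρ c` -/
def monoMat (ρ : Fin m ⊕ Fin m → Fin m ⊕ Fin m) (c : Fin m → Fˣ) :
    Matrix (Fin m ⊕ Fin m) (Fin m ⊕ Fin m) F :=
  Matrix.of fun b a => if b = ρ a then monoW ρ c a else 0

theorem monoMat_apply (ρ : Fin m ⊕ Fin m → Fin m ⊕ Fin m) (c : Fin m → Fˣ)
    (b a : Fin m ⊕ Fin m) : monoMat ρ c b a = if b = ρ a then monoW ρ c a else 0 := rfl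

theorem monoMat_mem (ρ : Fin m ⊕ Fin m → Fin m ⊕ Fin m) (hinj : Function.Injective ρ)
    (hρ : ∀ a, ρ (Sum.swap a) = Sum.swap (ρ a)) (c : Fin m → Fˣ) :
    monoMat ρ c ∈ Matrix.symplecticGroup (Fin m) F := by
  rw [SymplecticGroup.mem_iff']
  ext a b
  rw [entry_formula (monoMat ρ c) ρ (fun a b hb => by rw [monoMat_apply, if_neg hb]),
    J_apply_eq, J_apply_eq, monoMat_apply, monoMat_apply, if_pos rfl, if_pos rfl]
  by_cases hb : b = Sum.swap a
  · subst hb
    rw [if_pos (hρ a), if_pos rfl]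
    exact monoW_mul ρ hρ c a
  · rw [if_neg hb, if_neg (fun h => hb (hinj (by rw [h, hρ]))), mul_zero, zero_mul]

theorem monoMat_colMonomial (ρ : Fin m ⊕ Fin m → Fin m ⊕ Fin m) (c : Fin m → Fˣ) :
    ColMonomial (monoMat (F := F) ρ c) := by
  intro a b b' hb hb'
  rw [monoMat_apply] at hb hb'
  have h1 : b = ρ a := by
    by_contra h
    rw [if_neg h] at hb
    exact hb rfl
  have h2 : b' = ρ a := by
    by_contra h
    rw [if_neg h] at hb'
    exact hb' rfl
  rw [h1, h2]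

/-- the type of column-monomial symplectic matrices -/
abbrev SpMono (m : ℕ) (F : Type*) [Field F] :=
  {g : Matrix.symplecticGroup (Fin m) F //
    ColMonomial (g : Matrix (Fin m ⊕ Fin m) (Fin m ⊕ Fin m) F)}

theorem centralizer_comm (ρ : Subgroup.centralizer {blockSwap m}) (a : Fin m ⊕ Fin m) :
    (ρ : Perm (Fin m ⊕ Fin m)) (Sum.swap a) = Sum.swap ((ρ : Perm (Fin m ⊕ Fin m)) a) := by
  have h := Subgroup.mem_centralizer_iff.mp ρ.2 (blockSwap m) rfl
  have := congrArg (fun f : Perm (Fin m ⊕ Fin m) => f a) h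
  simp only [Perm.mul_apply, blockSwap_apply] at this
  exact this.symm

/-- the parametrisation of the monomial symplectic matrices -/
def monoParam (m : ℕ) (F : Type*) [Field F]
    (p : Subgroup.centralizer {blockSwap m} × (Fin m → Fˣ)) : SpMono m F :=
  ⟨⟨monoMat (p.1 : Perm (Fin m ⊕ Fin m)) p.2,
    monoMat_mem _ (p.1 : Perm (Fin m ⊕ Fin m)).injective (centralizer_comm p.1) p.2⟩,
    monoMat_colMonomial _ _⟩

theorem monoParam_injective : Function.Injective (monoParam m F) := by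
  rintro ⟨ρ, c⟩ ⟨ρ', c'⟩ h
  have hM : monoMat (F := F) (ρ : Perm (Fin m ⊕ Fin m)) c =
      monoMat (ρ' : Perm (Fin m ⊕ Fin m)) c' := by
    have := congrArg (fun x : SpMono m F =>
      ((x.1 : Matrix.symplecticGroup (Fin m) F) :
        Matrix (Fin m ⊕ Fin m) (Fin m ⊕ Fin m) F)) h
    exact this
  have hρ : ∀ a, (ρ : Perm (Fin m ⊕ Fin m)) a = (ρ' : Perm (Fin m ⊕ Fin m)) a := by
    intro a
    have h1 := congrFun (congrFun hM ((ρ : Perm (Fin m ⊕ Fin m)) a)) a
    rw [monoMat_apply, monoMat_apply, if_pos rfl] at h1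
    by_contra hne
    rw [if_neg hne] at h1
    exact monoW_ne_zero _ _ _ h1
  have hρ' : ρ = ρ' := Subtype.ext (Equiv.ext hρ)
  subst hρ'
  have hc : c = c' := by
    funext i
    have h1 := congrFun (congrFun hM ((ρ : Perm (Fin m ⊕ Fin m)) (Sum.inl i))) (Sum.inl i)
    simp only [monoMat_apply, if_true, monoW, Sum.elim_inl] at h1
    apply Units.ext
    exact h1
  rw [hc]

theorem monoParam_surjective [Finite F] : Function.Surjective (monoParam m F) := by
  rintro ⟨g, hg⟩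
  obtain ⟨ρ₀, hbij, hρ₀, hzero⟩ := exists_rho g hg
  have hswap := rho_swap g ρ₀ hzero
  set ρ : Perm (Fin m ⊕ Fin m) := Equiv.ofBijective ρ₀ hbij with hρ
  have hρapp : ∀ a, ρ a = ρ₀ a := fun a => rfl
  have hmem : ρ ∈ Subgroup.centralizer {blockSwap m} := by
    rw [Subgroup.mem_centralizer_iff]
    intro h hh
    rw [Set.mem_singleton_iff] at hh
    subst hh
    ext a
    simp only [Perm.mul_apply, blockSwap_apply, hρapp]
    rw [(hswap a).1]
  set c : Fin m → Fˣ := fun i =>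
    Units.mk0 ((g : Matrix (Fin m ⊕ Fin m) (Fin m ⊕ Fin m) F) (ρ₀ (Sum.inl i)) (Sum.inl i))
      (hρ₀ _) with hc
  refine ⟨(⟨ρ, hmem⟩, c), ?_⟩
  apply Subtype.ext
  apply Subtype.ext
  show monoMat (ρ : Fin m ⊕ Fin m → Fin m ⊕ Fin m) c =
    (g : Matrix (Fin m ⊕ Fin m) (Fin m ⊕ Fin m) F)
  ext b a
  rw [monoMat_apply]
  by_cases hb : b = ρ a
  · rw [if_pos hb, hb, hρapp]
    cases a with
    | inl i => simp [monoW, hc]
    | inr i =>
      simp only [monoW, Sum.elim_inr, hρapp]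
      have h1 := (hswap (Sum.inl i)).2
      have h2 := (hswap (Sum.inl i)).1
      rw [Sum.swap_inl] at h1 h2
      rw [← h2] at h1
      have h3 : sgnE m F (Sum.inl i) = -1 := rfl
      rw [h3] at h1
      have hx := hρ₀ (Sum.inl i)
      have hs := sgnE_mul_self (F := F) (ρ₀ (Sum.inl i))
      have hxs : (g : Matrix (Fin m ⊕ Fin m) (Fin m ⊕ Fin m) F) (ρ₀ (Sum.inl i)) (Sum.inl i) *
          sgnE m F (ρ₀ (Sum.inl i)) ≠ 0 := mul_ne_zero hx (sgnE_ne_zero _)
      apply mul_left_cancel₀ hxs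
      rw [h1, hc]
      simp only [Units.val_inv_eq_inv_val, Units.val_mk0]
      have hxx := mul_inv_cancel₀ hx
      linear_combination (-(sgnE m F (ρ₀ (Sum.inl i)) * sgnE m F (ρ₀ (Sum.inl i)))) * hxx - hs
  · rw [if_neg hb]
    rw [hρapp] at hb
    exact (hzero a b hb).symm

/-- the number of column-monomial symplectic matrices -/
theorem card_spMono [Fintype F] : Nat.card (SpMono m F) =
    2 ^ m * Nat.factorial m * (Fintype.card F - 1) ^ m := by
  rw [← Nat.card_congr (Equiv.ofBijective (monoParam m F)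
    ⟨monoParam_injective, monoParam_surjective⟩), Nat.card_prod, card_centralizer_blockSwap,
    Nat.card_fun, Nat.card_units, Nat.card_eq_fintype_card, Nat.card_eq_fintype_card,
    Fintype.card_fin]

end Cfsg.Agent.Helper13
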