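import Cfsg.Agent.Helper13.SpDec6

set_option autoImplicit false

namespace Cfsg.Agent.Helper13

open Matrix Cfsg.Agent.S0776

variable {F : Type*} [Field F] {m : ℕ}

local notation "Vec" => (Fin m ⊕ Fin m → F)
local notation "Mat" => Matrix (Fin m ⊕ Fin m) (Fin m ⊕ Fin m) F
local notation "⟪" x ", " y "⟫" => Cfsg.sympForm m F x y

/-! ### the Heisenberg family attached to a vector `u` -/

/-- `x ↦ x + ⟪x,u⟫ y + ⟪x,y⟫ u + s ⟪x,u⟫ u`, for `y` orthogonal to `u` -/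
def heisGL (u y : Vec) (s : F) : GL (Fin m ⊕ Fin m) F := tvGL u s * twoTv u y

theorem heisGL_mulVec {u y : Vec} (huy : ⟪u, y⟫ = 0) (s : F) (x : Vec) :
    ((heisGL u y s : GL (Fin m ⊕ Fin m) F) : Mat) *ᵥ x =
      x + ⟪x, u⟫ • y + ⟪x, y⟫ • u + (s * ⟪x, u⟫) • u := by
  have hyu : ⟪y, u⟫ = 0 := by rw [sympForm_swap, huy, neg_zero]
  rw [heisGL, Units.val_mul, ← Matrix.mulVec_mulVec, twoTv_mulVec huy, tvGL_coe,
    sympTransvection_mulVec]
  simp only [sympForm_add_left, sympForm_smul_left, sympForm_self, hyu, mul_zero, add_zero]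

theorem heisGL_mem_spGL (u y : Vec) (s : F) : heisGL u y s ∈ Cfsg.spGL m F :=
  (Cfsg.spGL m F).mul_mem (tvGL_mem_spGL _ _) (twoTv_mem_spGL _ _)

theorem gl_ext_mulVec {g h : GL (Fin m ⊕ Fin m) F}
    (hgh : ∀ x : Vec, (g : Mat) *ᵥ x = (h : Mat) *ᵥ x) : g = h := by
  apply Units.ext
  exact matrix_eq_of_mulVec hgh

theorem heisGL_mul {u y y' : Vec} (huy : ⟪u, y⟫ = 0) (huy' : ⟪u, y'⟫ = 0) (s s' : F) :
    heisGL u y s * heisGL u y' s' = heisGL u (y + y') (s + s' + ⟪y', y⟫) := by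
  have hyu : ⟪y, u⟫ = 0 := by rw [sympForm_swap, huy, neg_zero]
  have hy'u : ⟪y', u⟫ = 0 := by rw [sympForm_swap, huy', neg_zero]
  have h3 : ⟪u, y + y'⟫ = 0 := by rw [sympForm_add_right, huy, huy', add_zero]
  apply gl_ext_mulVec
  intro x
  rw [Units.val_mul, ← Matrix.mulVec_mulVec, heisGL_mulVec huy', heisGL_mulVec huy,
    heisGL_mulVec h3]
  simp only [sympForm_add_left, sympForm_add_right, sympForm_smul_left, sympForm_self, hy'u,
    huy, mul_zero, add_zero]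
  module

theorem heisGL_conj {g : GL (Fin m ⊕ Fin m) F} (hg : g ∈ Cfsg.spGL m F) {u y : Vec}
    (huy : ⟪u, y⟫ = 0) (s : F) :
    g * heisGL u y s * g⁻¹ = heisGL ((g : Mat) *ᵥ u) ((g : Mat) *ᵥ y) s := by
  have hpres := (mem_spGL_iff g).mp hg
  have h3 : ⟪(g : Mat) *ᵥ u, (g : Mat) *ᵥ y⟫ = 0 := by rw [hpres, huy]
  apply gl_ext_mulVec
  intro x
  have hx : x = (g : Mat) *ᵥ (((g⁻¹ : GL (Fin m ⊕ Fin m) F) : Mat) *ᵥ x) := (gl_mulVec_inv g x).symm
  rw [Units.val_mul, Units.val_mul, ← Matrix.mulVec_mulVec, ← Matrix.mulVec_mulVec,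
    heisGL_mulVec huy, heisGL_mulVec h3]
  set x' := ((g⁻¹ : GL (Fin m ⊕ Fin m) F) : Mat) *ᵥ x with hx'
  rw [hx, hpres, hpres]
  simp only [Matrix.mulVec_add, Matrix.mulVec_smul]

theorem heisGL_self (u : Vec) (b : F) : heisGL u (b • u) 0 = tvGL u (2 * b) := by
  have h3 : ⟪u, b • u⟫ = 0 := by rw [sympForm_smul_right, sympForm_self, mul_zero]
  apply gl_ext_mulVec
  intro x
  rw [heisGL_mulVec h3, tvGL_coe, sympTransvection_mulVec]
  simp only [sympForm_smul_right]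
  module

theorem heisGL_zero_zero (u : Vec) : heisGL u 0 0 = 1 := by
  have h3 : ⟪u, (0 : Vec)⟫ = 0 := by
    have := sympForm_smul_right (m := m) (0 : F) u u
    rwa [zero_smul, zero_mul] at this
  apply gl_ext_mulVec
  intro x
  rw [heisGL_mulVec h3, Units.val_one, Matrix.one_mulVec]
  have h4 : ⟪x, (0 : Vec)⟫ = 0 := by
    have := sympForm_smul_right (m := m) (0 : F) x x
    rwa [zero_smul, zero_mul] at this
  rw [h4]
  module

theorem heisGL_inv {u y : Vec} (huy : ⟪u, y⟫ = 0) (s : F) :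
    (heisGL u y s)⁻¹ = heisGL u (-y) (-s) := by
  have h3 : ⟪u, -y⟫ = 0 := by rw [sympForm_neg_right, huy, neg_zero]
  rw [inv_eq_iff_mul_eq_one, heisGL_mul huy h3, add_neg_cancel, sympForm_neg_left, sympForm_self,
    neg_zero, add_neg_cancel, zero_add, heisGL_zero_zero]

end Cfsg.Agent.Helper13
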