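import Cfsg.Agent.Helper13.SpPair1

set_option autoImplicit false

namespace Cfsg.Agent.Helper13

open Matrix Cfsg.Agent.S0776

variable {F : Type*} [Field F] {m : ℕ}

local notation "Vec" => (Fin m ⊕ Fin m → F)
local notation "Mat" => Matrix (Fin m ⊕ Fin m) (Fin m ⊕ Fin m) F
local notation "⟪" x ", " y "⟫" => Cfsg.sympForm m F x y

/-! ### pairs of complementary totally isotropic subspaces -/

theorem lag_decomp {A B : Submodule F Vec} (hsup : A ⊔ B = ⊤) (x : Vec) :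
    ∃ a ∈ A, ∃ b ∈ B, x = a + b := by
  have hx : x ∈ A ⊔ B := by rw [hsup]; exact Submodule.mem_top
  obtain ⟨a, ha, b, hb, rfl⟩ := Submodule.mem_sup.mp hx
  exact ⟨a, ha, b, hb, rfl⟩

theorem lag_dual {A B : Submodule F Vec}
    (hA : Cfsg.Geo.IsTotallySingularFor (Cfsg.sympForm m F) A) (hsup : A ⊔ B = ⊤)
    {a : Vec} (ha : a ∈ A) (ha0 : a ≠ 0) : ∃ b ∈ B, ⟪a, b⟫ ≠ 0 := by
  obtain ⟨x, hx⟩ := sympForm_nondeg_left (m := m) ha0
  obtain ⟨a', ha', b, hb, rfl⟩ := lag_decomp hsup x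
  refine ⟨b, hb, ?_⟩
  rw [sympForm_add_left, hA a' ha' a ha, zero_add] at hx
  rw [sympForm_swap]
  exact neg_ne_zero.mpr hx

theorem lag_dual_sep {A B : Submodule F Vec}
    (hA : Cfsg.Geo.IsTotallySingularFor (Cfsg.sympForm m F) A) (hsup : A ⊔ B = ⊤)
    {a a' : Vec} (ha : a ∈ A) (ha' : a' ∈ A) (h : ∀ c : F, a ≠ c • a') :
    ∃ b ∈ B, ⟪a', b⟫ = 0 ∧ ⟪a, b⟫ ≠ 0 := by
  have ha0 : a ≠ 0 := by
    have := h 0
    rwa [zero_smul] at this
  obtain ⟨b₁, hb₁, hab₁⟩ := lag_dual hA hsup ha ha0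
  by_cases h1 : ⟪a', b₁⟫ = 0
  · exact ⟨b₁, hb₁, h1, hab₁⟩
  have hp0 : ⟪a', b₁⟫ • a - ⟪a, b₁⟫ • a' ≠ 0 := by
    intro hp
    apply h (⟪a, b₁⟫ * (⟪a', b₁⟫)⁻¹)
    have h2 : ⟪a', b₁⟫ • a = ⟪a, b₁⟫ • a' := sub_eq_zero.mp hp
    have h3 := congrArg (fun z => (⟪a', b₁⟫)⁻¹ • z) h2
    simp only [smul_smul, inv_mul_cancel₀ h1, one_smul] at h3
    rw [mul_comm]
    exact h3
  have hpA : ⟪a', b₁⟫ • a - ⟪a, b₁⟫ • a' ∈ A := A.sub_mem (A.smul_mem _ ha) (A.smul_mem _ ha')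
  obtain ⟨b₂, hb₂, hpb₂⟩ := lag_dual hA hsup hpA hp0
  rw [sympForm_sub_left, sympForm_smul_left, sympForm_smul_left] at hpb₂
  by_cases h2 : ⟪a', b₂⟫ = 0
  · refine ⟨b₂, hb₂, h2, ?_⟩
    intro h3
    apply hpb₂
    rw [h2, h3, mul_zero, mul_zero, sub_zero]
  · refine ⟨b₁ - (⟪a', b₁⟫ * (⟪a', b₂⟫)⁻¹) • b₂, B.sub_mem hb₁ (B.smul_mem _ hb₂), ?_, ?_⟩
    · rw [sympForm_sub_right, sympForm_smul_right, mul_assoc, inv_mul_cancel₀ h2, mul_one,
        sub_self]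
    · rw [sympForm_sub_right, sympForm_smul_right]
      intro h3
      apply hpb₂
      have h4 : ⟪a, b₁⟫ * ⟪a', b₂⟫ = ⟪a', b₁⟫ * ⟪a, b₂⟫ := by
        have h5 : ⟪a, b₁⟫ = ⟪a', b₁⟫ * (⟪a', b₂⟫)⁻¹ * ⟪a, b₂⟫ := sub_eq_zero.mp h3
        rw [h5]
        field_simp
      linear_combination -h4

theorem submodule_le_or_le_of_mem_or {A B C : Submodule F Vec}
    (h : ∀ x ∈ C, x ∈ A ∨ x ∈ B) : C ≤ A ∨ C ≤ B := by
  by_contra hcon
  push Not at hcon
  obtain ⟨⟨x, hxC, hxA⟩, ⟨y, hyC, hyB⟩⟩ :=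
    And.intro (SetLike.not_le_iff_exists.mp hcon.1) (SetLike.not_le_iff_exists.mp hcon.2)
  have hxB : x ∈ B := (h x hxC).resolve_left hxA
  have hyA : y ∈ A := (h y hyC).resolve_right hyB
  rcases h (x + y) (C.add_mem hxC hyC) with h1 | h1
  · apply hxA
    have := A.sub_mem h1 hyA
    rwa [add_sub_cancel_right] at this
  · apply hyB
    have := B.sub_mem h1 hxB
    rwa [add_sub_cancel_left] at this

/-- a vector of `A` orthogonal to `u`, `y` and outside the span of `u₀`, `y₀` -/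
theorem lag_exists_perp_outside {A : Submodule F Vec} (hfin : Module.finrank F A = m)
    (hm : 5 ≤ m) (u y u₀ y₀ : Vec) :
    ∃ e ∈ A, ⟪e, u⟫ = 0 ∧ ⟪e, y⟫ = 0 ∧ e ∉ Submodule.span F ({u₀, y₀} : Set Vec) := by
  classical
  set K := spPerp (Submodule.span F ({u, y} : Set Vec)) with hK
  have h1 : Module.finrank F (Submodule.span F ({u, y} : Set Vec)) ≤ 2 := by
    have h5 : Module.finrank F
        (Submodule.span F ((({u, y} : Finset Vec)) : Set Vec)) ≤ _ :=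
      finrank_span_finset_le_card (R := F) ({u, y} : Finset Vec)
    have h6 : ({u, y} : Finset Vec).card ≤ 2 := Finset.card_le_two
    have h7 : ((({u, y} : Finset Vec)) : Set Vec) = ({u, y} : Set Vec) := by simp
    rw [h7] at h5
    omega
  have h2 : Module.finrank F (Submodule.span F ({u₀, y₀} : Set Vec)) ≤ 2 := by
    have h5 : Module.finrank F
        (Submodule.span F ((({u₀, y₀} : Finset Vec)) : Set Vec)) ≤ _ :=
      finrank_span_finset_le_card (R := F) ({u₀, y₀} : Finset Vec)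
    have h6 : ({u₀, y₀} : Finset Vec).card ≤ 2 := Finset.card_le_two
    have h7 : ((({u₀, y₀} : Finset Vec)) : Set Vec) = ({u₀, y₀} : Set Vec) := by simp
    rw [h7] at h5
    omega
  have h3 : Module.finrank F K = 2 * m - Module.finrank F (Submodule.span F ({u, y} : Set Vec)) :=
    finrank_spPerp _
  have h4 := Submodule.finrank_sup_add_finrank_inf_eq A K
  have h5 : Module.finrank F (A ⊔ K : Submodule F Vec) ≤ 2 * m := by
    have := Submodule.finrank_le (A ⊔ K)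
    rw [Module.finrank_fintype_fun_eq_card, Fintype.card_sum, Fintype.card_fin] at this
    omega
  have h6 : ¬ (A ⊓ K ≤ Submodule.span F ({u₀, y₀} : Set Vec)) := by
    intro hle
    have := Submodule.finrank_mono hle
    omega
  obtain ⟨e, he, hen⟩ := SetLike.not_le_iff_exists.mp h6
  refine ⟨e, he.1, ?_, ?_, hen⟩
  · exact (mem_spPerp' _ e).mp he.2 u (Submodule.subset_span (by simp))
  · exact (mem_spPerp' _ e).mp he.2 y (Submodule.subset_span (by simp))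

end Cfsg.Agent.Helper13
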