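import Cfsg.Agent.Helper13.SpPair2

set_option autoImplicit false

namespace Cfsg.Agent.Helper13

open Matrix Cfsg.Agent.S0776

variable {F : Type*} [Field F] {m : ℕ}

local notation "Vec" => (Fin m ⊕ Fin m → F)
local notation "Mat" => Matrix (Fin m ⊕ Fin m) (Fin m ⊕ Fin m) F
local notation "⟪" x ", " y "⟫" => Cfsg.sympForm m F x y

/-- the key step: a Heisenberg element of `M` with both `A`-components non-zero yields a
non-zero vector of `A` all of whose transvections lie in `M` -/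
theorem lag_engine {M : Subgroup (GL (Fin m ⊕ Fin m) F)}
    (h2 : (2 : F) ≠ 0) {A B : Submodule F Vec}
    (hA : Cfsg.Geo.IsTotallySingularFor (Cfsg.sympForm m F) A)
    (hB : Cfsg.Geo.IsTotallySingularFor (Cfsg.sympForm m F) B) (hsup : A ⊔ B = ⊤)
    (hfin : Module.finrank F A = m) (hm : 5 ≤ m)
    (hH : ∀ a ∈ A, ∀ b ∈ B, ⟪a, b⟫ = 0 → heisGL a b 0 ∈ M)
    {u y : Vec} (huy : ⟪u, y⟫ = 0) (hg : heisGL u y 0 ∈ M) (hu : u ∉ B) (hy : y ∉ B) :
    ∃ e ∈ A, e ≠ 0 ∧ e ∈ tvVecs M := by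
  obtain ⟨u₀, hu₀, u₁, hu₁, hudec⟩ := lag_decomp hsup u
  obtain ⟨y₀, hy₀, y₁, hy₁, hydec⟩ := lag_decomp hsup y
  have hu₀0 : u₀ ≠ 0 := by
    rintro rfl
    apply hu
    rw [hudec, zero_add]
    exact hu₁
  have hy₀0 : y₀ ≠ 0 := by
    rintro rfl
    apply hy
    rw [hydec, zero_add]
    exact hy₁
  obtain ⟨e, heA, heu, hey, hen⟩ := lag_exists_perp_outside hfin hm u y u₀ y₀
  have he0 : e ≠ 0 := by
    rintro rfl
    exact hen (Submodule.zero_mem _)
  have hsep : ∀ c : F, u₀ ≠ c • e := by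
    intro c hc
    by_cases hc0 : c = 0
    · rw [hc0, zero_smul] at hc
      exact hu₀0 hc
    · apply hen
      have h1 : e = c⁻¹ • u₀ := by rw [hc, smul_smul, inv_mul_cancel₀ hc0, one_smul]
      rw [h1]
      exact Submodule.smul_mem _ _ (Submodule.subset_span (by simp))
  obtain ⟨f', hf', hef', hu₀f'⟩ := lag_dual_sep hA hsup hu₀ heA hsep
  -- the coefficients
  obtain ⟨α, hα⟩ : ∃ α, α = ⟪f', u⟫ := ⟨_, rfl⟩
  obtain ⟨γ, hγ⟩ : ∃ γ, γ = ⟪f', y⟫ := ⟨_, rfl⟩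
  have hα' : α = ⟪f', u₀⟫ := by
    rw [hα, hudec, sympForm_add_right, hB f' hf' u₁ hu₁, add_zero]
  have hγ' : γ = ⟪f', y₀⟫ := by
    rw [hγ, hydec, sympForm_add_right, hB f' hf' y₁ hy₁, add_zero]
  have hα0 : α ≠ 0 := by
    rw [hα', sympForm_swap]
    exact neg_ne_zero.mpr hu₀f'
  -- the image of `f'`
  obtain ⟨z, hz⟩ : ∃ z, z = f' + α • y + γ • u := ⟨_, rfl⟩
  obtain ⟨z₀, hz₀⟩ : ∃ z₀, z₀ = α • y₀ + γ • u₀ := ⟨_, rfl⟩
  obtain ⟨z₁, hz₁⟩ : ∃ z₁, z₁ = f' + α • y₁ + γ • u₁ := ⟨_, rfl⟩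
  have hzdec : z = z₀ + z₁ := by
    rw [hz, hz₀, hz₁, hudec, hydec]
    module
  have hz₀A : z₀ ∈ A := by
    rw [hz₀]
    exact A.add_mem (A.smul_mem _ hy₀) (A.smul_mem _ hu₀)
  have hz₁B : z₁ ∈ B := by
    rw [hz₁]
    exact B.add_mem (B.add_mem hf' (B.smul_mem _ hy₁)) (B.smul_mem _ hu₁)
  have hgsp : heisGL u y 0 ∈ Cfsg.spGL m F := heisGL_mem_spGL u y 0
  have hge : ((heisGL u y 0 : GL (Fin m ⊕ Fin m) F) : Mat) *ᵥ e = e := by
    rw [heisGL_mulVec huy, heu, hey]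
    simp
  have hgf : ((heisGL u y 0 : GL (Fin m ⊕ Fin m) F) : Mat) *ᵥ f' = z := by
    rw [heisGL_mulVec huy, ← hα, ← hγ, hz]
    simp
  have hez : ⟪e, z⟫ = 0 := by
    rw [hz, sympForm_add_right, sympForm_add_right, sympForm_smul_right, sympForm_smul_right, hef',
      heu, hey]
    ring
  have hez₀ : ⟪e, z₀⟫ = 0 := hA e heA z₀ hz₀A
  have hez₁ : ⟪e, z₁⟫ = 0 := by
    have h1 := hez
    rw [hzdec, sympForm_add_right, hez₀, zero_add] at h1
    exact h1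
  have hzmem : ∀ c : F, heisGL e (c • z) 0 ∈ M := by
    intro c
    have hecf : ⟪e, c • f'⟫ = 0 := by rw [sympForm_smul_right, hef', mul_zero]
    have h1 := heisGL_conj hgsp hecf 0
    rw [hge, Matrix.mulVec_smul, hgf] at h1
    rw [← h1]
    exact M.mul_mem (M.mul_mem hg (hH e heA (c • f') (B.smul_mem c hf') hecf)) (M.inv_mem hg)
  -- splitting off the part in `B`
  have hBc : ∀ c : F, ∃ s : F, heisGL e (c • z₀) s ∈ M := by
    intro c
    have h1 : ⟪e, c • z⟫ = 0 := by rw [sympForm_smul_right, hez, mul_zero]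
    have h3 : ⟪e, -(c • z₁)⟫ = 0 := by
      rw [sympForm_neg_right, sympForm_smul_right, hez₁, mul_zero, neg_zero]
    have h4 := heisGL_mul h1 h3 0 0
    have h5 : c • z + -(c • z₁) = c • z₀ := by
      rw [hzdec]
      module
    rw [h5] at h4
    refine ⟨0 + 0 + ⟪-(c • z₁), c • z⟫, ?_⟩
    rw [← h4]
    exact M.mul_mem (hzmem c) (hH e heA _ (B.neg_mem (B.smul_mem c hz₁B)) h3)
  -- `z₀` is not a multiple of `e`
  have hsepz : ∀ c : F, z₀ ≠ c • e := by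
    intro c hc
    by_cases hc0 : c = 0
    · rw [hc0, zero_smul] at hc
      have h1 : ⟪f', z₀⟫ = 0 := by
        rw [hc]
        have := sympForm_smul_right (m := m) (0 : F) f' f'
        rwa [zero_smul, zero_mul] at this
      rw [hz₀, sympForm_add_right, sympForm_smul_right, sympForm_smul_right, ← hα', ← hγ'] at h1
      have h3 : 2 * (α * γ) = 0 := by linear_combination h1
      have hγ0 : γ = 0 := by
        rcases mul_eq_zero.mp h3 with h4 | h4
        · exact absurd h4 h2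
        · rcases mul_eq_zero.mp h4 with h5 | h5
          · exact absurd h5 hα0
          · exact h5
      rw [hz₀, hγ0, zero_smul, add_zero] at hc
      rcases smul_eq_zero.mp hc with h4 | h4
      · exact hα0 h4
      · exact hy₀0 h4
    · apply hen
      have h1 : e = c⁻¹ • z₀ := by rw [hc, smul_smul, inv_mul_cancel₀ hc0, one_smul]
      rw [h1, hz₀]
      apply Submodule.smul_mem
      apply Submodule.add_mem
      · exact Submodule.smul_mem _ _ (Submodule.subset_span (by simp))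
      · exact Submodule.smul_mem _ _ (Submodule.subset_span (by simp))
  obtain ⟨f₁, hf₁, hef₁, hz₀f₁⟩ := lag_dual_sep hA hsup hz₀A heA hsepz
  obtain ⟨β, hβ⟩ : ∃ β, β = ⟪z₀, f₁⟫ := ⟨_, rfl⟩
  rw [← hβ] at hz₀f₁
  have hρ : heisGL e f₁ 0 ∈ M := hH e heA f₁ hf₁ hef₁
  have hρsp : heisGL e f₁ 0 ∈ Cfsg.spGL m F := heisGL_mem_spGL e f₁ 0
  have hρe : ((heisGL e f₁ 0 : GL (Fin m ⊕ Fin m) F) : Mat) *ᵥ e = e := by
    rw [heisGL_mulVec hef₁, sympForm_self, hef₁]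
    simp
  have hz₀e : ⟪z₀, e⟫ = 0 := hA z₀ hz₀A e heA
  have hρz : ∀ c : F, ((heisGL e f₁ 0 : GL (Fin m ⊕ Fin m) F) : Mat) *ᵥ (c • z₀) =
      c • z₀ + (c * β) • e := by
    intro c
    rw [heisGL_mulVec hef₁, sympForm_smul_left, sympForm_smul_left, hz₀e, ← hβ]
    simp
  refine ⟨e, heA, he0, ?_⟩
  intro d
  obtain ⟨c, hc⟩ : ∃ c : F, 2 * (c * β) = d :=
    ⟨d * (2 * β)⁻¹, by field_simp⟩
  obtain ⟨s, hs⟩ := hBc c
  have hecz₀ : ⟪e, c • z₀⟫ = 0 := by rw [sympForm_smul_right, hez₀, mul_zero]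
  have h1 := heisGL_conj hρsp hecz₀ s
  rw [hρe, hρz] at h1
  have h3 : heisGL e (c • z₀ + (c * β) • e) s ∈ M := by
    rw [← h1]
    exact M.mul_mem (M.mul_mem hρ hs) (M.inv_mem hρ)
  have h4 : heisGL e (-(c • z₀)) (-s) ∈ M := by
    rw [← heisGL_inv hecz₀]
    exact M.inv_mem hs
  have h5 : ⟪e, c • z₀ + (c * β) • e⟫ = 0 := by
    rw [sympForm_add_right, hecz₀, sympForm_smul_right, sympForm_self, mul_zero, add_zero]
  have h6 : ⟪e, -(c • z₀)⟫ = 0 := by rw [sympForm_neg_right, hecz₀, neg_zero]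
  have h7 := heisGL_mul h5 h6 s (-s)
  have h8 : c • z₀ + (c * β) • e + -(c • z₀) = (c * β) • e := by module
  have h9 : s + -s + ⟪-(c • z₀), c • z₀ + (c * β) • e⟫ = 0 := by
    rw [sympForm_neg_left, sympForm_add_right, sympForm_smul_left, sympForm_smul_right,
      sympForm_smul_right, sympForm_self, sympForm_smul_left, hz₀e]
    ring
  rw [h8, h9, heisGL_self, hc] at h7
  rw [← h7]
  exact M.mul_mem h3 h4

end Cfsg.Agent.Helper13
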