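import Cfsg.Agent.Helper13.SpPair3

set_option autoImplicit false

namespace Cfsg.Agent.Helper13

open Matrix Cfsg.Agent.S0776

variable {F : Type*} [Field F] {m : ℕ}

local notation "Vec" => (Fin m ⊕ Fin m → F)
local notation "Mat" => Matrix (Fin m ⊕ Fin m) (Fin m ⊕ Fin m) F
local notation "⟪" x ", " y "⟫" => Cfsg.sympForm m F x y

/-- the Heisenberg elements `heisGL a b 0` act transitively on the non-zero vectors of `A` -/
theorem lag_tvVecs_of_one {M : Subgroup (GL (Fin m ⊕ Fin m) F)} (hM : M ≤ Cfsg.spGL m F)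
    {A B : Submodule F Vec}
    (hA : Cfsg.Geo.IsTotallySingularFor (Cfsg.sympForm m F) A) (hsup : A ⊔ B = ⊤)
    (hH : ∀ a ∈ A, ∀ b ∈ B, ⟪a, b⟫ = 0 → heisGL a b 0 ∈ M)
    {e : Vec} (heA : e ∈ A) (he0 : e ≠ 0) (heS : e ∈ tvVecs M) :
    ∀ a ∈ A, a ∈ tvVecs M := by
  intro a ha
  by_cases hmul : ∃ c : F, a = c • e
  · obtain ⟨c, rfl⟩ := hmul
    exact tvVecs_smul heS c
  push Not at hmul
  have hsep : ∀ c : F, e ≠ c • (a - e) := by
    intro c hc
    have hc0 : c ≠ 0 := by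
      rintro rfl
      rw [zero_smul] at hc
      exact he0 hc
    apply hmul ((1 + c) * c⁻¹)
    have h1 : c • a = (1 + c) • e := by
      have : c • a = e + c • e := by
        nth_rewrite 1 [hc]
        module
      rw [this]
      module
    have h3 := congrArg (fun z => c⁻¹ • z) h1
    simp only [smul_smul, inv_mul_cancel₀ hc0, one_smul] at h3
    rw [h3, mul_comm]
  obtain ⟨b, hb, hab, heb⟩ := lag_dual_sep hA hsup heA (A.sub_mem ha heA) hsep
  obtain ⟨b', hb'⟩ : ∃ b', b' = (⟪e, b⟫)⁻¹ • b := ⟨_, rfl⟩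
  have hb'B : b' ∈ B := by rw [hb']; exact B.smul_mem _ hb
  have hab' : ⟪a - e, b'⟫ = 0 := by rw [hb', sympForm_smul_right, hab, mul_zero]
  have heb' : ⟪e, b'⟫ = 1 := by rw [hb', sympForm_smul_right, inv_mul_cancel₀ heb]
  have hh : heisGL (a - e) b' 0 ∈ M := hH _ (A.sub_mem ha heA) _ hb'B hab'
  have h1 := tvVecs_map hM hh heS
  rw [heisGL_mulVec hab', hA e heA _ (A.sub_mem ha heA), heb'] at h1
  have h3 : e + (0 : F) • b' + (1 : F) • (a - e) + ((0 : F) * 0) • (a - e) = a := by module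
  rwa [h3] at h1

/-- a non-zero vector of `B` orthogonal to a given vector of `A` -/
theorem lag_exists_perp_ne_zero {A B : Submodule F Vec}
    (hA : Cfsg.Geo.IsTotallySingularFor (Cfsg.sympForm m F) A) (hsup : A ⊔ B = ⊤)
    (hfin : 2 ≤ Module.finrank F A) {a' : Vec} (ha' : a' ∈ A) :
    ∃ b ∈ B, b ≠ 0 ∧ ⟪a', b⟫ = 0 := by
  have hlt : ¬ (A ≤ Submodule.span F {a'}) := by
    intro hle
    have h1 := Submodule.finrank_mono hle
    have h3 : Module.finrank F (Submodule.span F {a'}) ≤ 1 := by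
      have := finrank_span_le_card (R := F) ({a'} : Set Vec)
      simpa using this
    omega
  obtain ⟨a, ha, han⟩ := SetLike.not_le_iff_exists.mp hlt
  have hsep : ∀ c : F, a ≠ c • a' := by
    intro c hc
    apply han
    rw [hc]
    exact Submodule.smul_mem _ _ (Submodule.mem_span_singleton_self a')
  obtain ⟨b, hb, h1, h3⟩ := lag_dual_sep hA hsup ha ha' hsep
  refine ⟨b, hb, ?_, h1⟩
  rintro rfl
  rw [sympForm_zero_right] at h3
  exact h3 rfl

/-- an element of `M` not respecting the pair `{A, B}` produces a Heisenberg element of `M`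
in general position -/
theorem lag_exists_heis {M : Subgroup (GL (Fin m ⊕ Fin m) F)} (hM : M ≤ Cfsg.spGL m F)
    {A B : Submodule F Vec}
    (hA : Cfsg.Geo.IsTotallySingularFor (Cfsg.sympForm m F) A)
    (hB : Cfsg.Geo.IsTotallySingularFor (Cfsg.sympForm m F) B) (hsup : A ⊔ B = ⊤)
    (hinf : A ⊓ B = ⊥) (hfinA : 2 ≤ Module.finrank F A) (hfinB : 2 ≤ Module.finrank F B)
    (hH : ∀ a ∈ A, ∀ b ∈ B, ⟪a, b⟫ = 0 → heisGL a b 0 ∈ M)
    {g : GL (Fin m ⊕ Fin m) F} (hg : g ∈ M)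
    (h1 : ¬ ((∀ a ∈ A, (g : Mat) *ᵥ a ∈ A) ∧ (∀ b ∈ B, (g : Mat) *ᵥ b ∈ B)))
    (h2 : ¬ ((∀ a ∈ A, (g : Mat) *ᵥ a ∈ B) ∧ (∀ b ∈ B, (g : Mat) *ᵥ b ∈ A))) :
    ∃ u y : Vec, ⟪u, y⟫ = 0 ∧ heisGL u y 0 ∈ M ∧ ((u ∉ B ∧ y ∉ B) ∨ (u ∉ A ∧ y ∉ A)) := by
  by_contra hcon
  push Not at hcon
  have hgsp := hM hg
  have hpres := (mem_spGL_iff g).mp hgsp
  have hsup' : B ⊔ A = ⊤ := by rw [sup_comm]; exact hsup
  -- the images of orthogonal pairs are split
  have hsplit : ∀ e ∈ A, ∀ f ∈ B, e ≠ 0 → f ≠ 0 → ⟪e, f⟫ = 0 →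
      ((g : Mat) *ᵥ e ∈ A ∧ (g : Mat) *ᵥ f ∈ B) ∨ ((g : Mat) *ᵥ e ∈ B ∧ (g : Mat) *ᵥ f ∈ A) := by
    intro e he f hf he0 hf0 hef
    have h3 : ⟪(g : Mat) *ᵥ e, (g : Mat) *ᵥ f⟫ = 0 := by rw [hpres, hef]
    have h4 : heisGL ((g : Mat) *ᵥ e) ((g : Mat) *ᵥ f) 0 ∈ M := by
      rw [← heisGL_conj hgsp hef]
      exact M.mul_mem (M.mul_mem hg (hH e he f hf hef)) (M.inv_mem hg)
    have h5 := hcon _ _ h3 h4
    have hge0 : (g : Mat) *ᵥ e ≠ 0 := by
      intro h0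
      apply he0
      apply gl_mulVec_injective g
      rw [h0, Matrix.mulVec_zero]
    have hgf0 : (g : Mat) *ᵥ f ≠ 0 := by
      intro h0
      apply hf0
      apply gl_mulVec_injective g
      rw [h0, Matrix.mulVec_zero]
    have hnot : ∀ x : Vec, x ≠ 0 → ¬ (x ∈ A ∧ x ∈ B) := by
      intro x hx0 hx
      apply hx0
      have : x ∈ A ⊓ B := hx
      rwa [hinf, Submodule.mem_bot] at this
    by_cases hgeA : (g : Mat) *ᵥ e ∈ A
    · left
      have hgeB : (g : Mat) *ᵥ e ∉ B := fun h => hnot _ hge0 ⟨hgeA, h⟩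
      exact ⟨hgeA, h5.1 hgeB⟩
    · right
      have hgfA : (g : Mat) *ᵥ f ∈ A := h5.2 hgeA
      refine ⟨?_, hgfA⟩
      by_contra hgeB
      exact hnot _ hgf0 ⟨hgfA, h5.1 hgeB⟩
  -- images of vectors of `A` and of `B` are pure
  have hpureA : ∀ e ∈ A, (g : Mat) *ᵥ e ∈ A ∨ (g : Mat) *ᵥ e ∈ B := by
    intro e he
    by_cases he0 : e = 0
    · left
      rw [he0, Matrix.mulVec_zero]
      exact A.zero_mem
    obtain ⟨f, hf, hf0, hef⟩ := lag_exists_perp_ne_zero hA hsup hfinA he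
    rcases hsplit e he f hf he0 hf0 hef with h | h
    · exact Or.inl h.1
    · exact Or.inr h.1
  have hpureB : ∀ f ∈ B, (g : Mat) *ᵥ f ∈ A ∨ (g : Mat) *ᵥ f ∈ B := by
    intro f hf
    by_cases hf0 : f = 0
    · left
      rw [hf0, Matrix.mulVec_zero]
      exact A.zero_mem
    obtain ⟨e, he, he0, hfe⟩ := lag_exists_perp_ne_zero hB hsup' hfinB hf
    have hef : ⟪e, f⟫ = 0 := by rw [sympForm_swap, hfe, neg_zero]
    rcases hsplit e he f hf he0 hf0 hef with h | h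
    · exact Or.inr h.2
    · exact Or.inl h.2
  have hmapA : A.map (Matrix.mulVecLin (g : Mat)) ≤ A ∨ A.map (Matrix.mulVecLin (g : Mat)) ≤ B := by
    apply submodule_le_or_le_of_mem_or
    rintro _ ⟨e, he, rfl⟩
    exact hpureA e he
  have hmapB : B.map (Matrix.mulVecLin (g : Mat)) ≤ A ∨ B.map (Matrix.mulVecLin (g : Mat)) ≤ B := by
    apply submodule_le_or_le_of_mem_or
    rintro _ ⟨f, hf, rfl⟩
    exact hpureB f hf
  have hAne : ∃ e ∈ A, e ≠ 0 := by
    by_contra hc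
    push Not at hc
    have : A = ⊥ := by
      rw [eq_bot_iff]
      intro x hx
      rw [Submodule.mem_bot]
      exact hc x hx
    rw [this, finrank_bot] at hfinA
    omega
  obtain ⟨e₀, he₀, he₀0⟩ := hAne
  have hge₀0 : (g : Mat) *ᵥ e₀ ≠ 0 := by
    intro h0
    apply he₀0
    apply gl_mulVec_injective g
    rw [h0, Matrix.mulVec_zero]
  rcases hmapA with hAA | hAB
  · -- `g A ≤ A`, hence `g B ≤ B`
    apply h1
    refine ⟨fun a ha => hAA ⟨a, ha, rfl⟩, ?_⟩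
    intro f hf
    by_cases hf0 : f = 0
    · rw [hf0, Matrix.mulVec_zero]
      exact B.zero_mem
    obtain ⟨e, he, he0, hfe⟩ := lag_exists_perp_ne_zero hB hsup' hfinB hf
    have hef : ⟪e, f⟫ = 0 := by rw [sympForm_swap, hfe, neg_zero]
    rcases hsplit e he f hf he0 hf0 hef with h | h
    · exact h.2
    · exfalso
      have hge0 : (g : Mat) *ᵥ e ≠ 0 := by
        intro h0
        apply he0
        apply gl_mulVec_injective g
        rw [h0, Matrix.mulVec_zero]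
      apply hge0
      have : (g : Mat) *ᵥ e ∈ A ⊓ B := ⟨hAA ⟨e, he, rfl⟩, h.1⟩
      rwa [hinf, Submodule.mem_bot] at this
  · -- `g A ≤ B`, hence `g B ≤ A`
    apply h2
    refine ⟨fun a ha => hAB ⟨a, ha, rfl⟩, ?_⟩
    intro f hf
    by_cases hf0 : f = 0
    · rw [hf0, Matrix.mulVec_zero]
      exact A.zero_mem
    obtain ⟨e, he, he0, hfe⟩ := lag_exists_perp_ne_zero hB hsup' hfinB hf
    have hef : ⟪e, f⟫ = 0 := by rw [sympForm_swap, hfe, neg_zero]
    rcases hsplit e he f hf he0 hf0 hef with h | h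
    · exfalso
      have hge0 : (g : Mat) *ᵥ e ≠ 0 := by
        intro h0
        apply he0
        apply gl_mulVec_injective g
        rw [h0, Matrix.mulVec_zero]
      apply hge0
      have : (g : Mat) *ᵥ e ∈ A ⊓ B := ⟨h.1, hAB ⟨e, he, rfl⟩⟩
      rwa [hinf, Submodule.mem_bot] at this
    · exact h.2

end Cfsg.Agent.Helper13
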