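import Cfsg.Agent.Helper13.SpPair4

set_option autoImplicit false

namespace Cfsg.Agent.Helper13

open Matrix Cfsg.Agent.S0776

variable {F : Type*} [Field F] {m : ℕ}

local notation "Vec" => (Fin m ⊕ Fin m → F)
local notation "Mat" => Matrix (Fin m ⊕ Fin m) (Fin m ⊕ Fin m) F
local notation "⟪" x ", " y "⟫" => Cfsg.sympForm m F x y

theorem mem_spPerp_singleton (b x : Vec) :
    x ∈ spPerp (Submodule.span F {b}) ↔ ⟪x, b⟫ = 0 := by
  rw [mem_spPerp']
  constructor
  · intro h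
    exact h b (Submodule.mem_span_singleton_self b)
  · intro h w hw
    obtain ⟨c, rfl⟩ := Submodule.mem_span_singleton.mp hw
    rw [sympForm_smul_right, h, mul_zero]

/-- an isometry interchanging two totally isotropic subspaces in duality -/
theorem exists_lag_swap : ∀ (n : ℕ) (A B : Submodule F Vec), Module.finrank F A = n →
    Cfsg.Geo.IsTotallySingularFor (Cfsg.sympForm m F) A →
    Cfsg.Geo.IsTotallySingularFor (Cfsg.sympForm m F) B →
    (∀ a ∈ A, a ≠ 0 → ∃ b ∈ B, ⟪a, b⟫ ≠ 0) → (∀ b ∈ B, b ≠ 0 → ∃ a ∈ A, ⟪a, b⟫ ≠ 0) →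
    ∃ g ∈ relTransvectionSubgroup (A ⊔ B), (∀ a ∈ A, (g : Mat) *ᵥ a ∈ B) ∧
      (∀ b ∈ B, (g : Mat) *ᵥ b ∈ A) := by
  intro n
  induction n using Nat.strong_induction_on with
  | _ n ih =>
    intro A B hAn hA hB hP1 hP2
    by_cases hA0 : A = ⊥
    · have hB0 : ∀ b ∈ B, b = 0 := by
        intro b hb
        by_contra hb0
        obtain ⟨a, ha, hab⟩ := hP2 b hb hb0
        rw [hA0, Submodule.mem_bot] at ha
        rw [ha, sympForm_zero_left] at hab
        exact hab rfl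
      refine ⟨1, Subgroup.one_mem _, ?_, ?_⟩
      · intro a ha
        rw [hA0, Submodule.mem_bot] at ha
        rw [ha, Matrix.mulVec_zero]
        exact B.zero_mem
      · intro b hb
        rw [hB0 b hb, Matrix.mulVec_zero]
        exact A.zero_mem
    obtain ⟨a, ha, ha0⟩ := (Submodule.ne_bot_iff A).mp hA0
    obtain ⟨b₀, hb₀, hab₀⟩ := hP1 a ha ha0
    obtain ⟨b, hbdef⟩ : ∃ b, b = (⟪a, b₀⟫)⁻¹ • b₀ := ⟨_, rfl⟩
    have hb : b ∈ B := by rw [hbdef]; exact B.smul_mem _ hb₀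
    have hab : ⟪a, b⟫ = 1 := by rw [hbdef, sympForm_smul_right, inv_mul_cancel₀ hab₀]
    have hba : ⟪b, a⟫ = -1 := by rw [sympForm_swap, hab]
    -- the smaller pair
    set A₁ := A ⊓ spPerp (Submodule.span F {b}) with hA₁
    set B₁ := B ⊓ spPerp (Submodule.span F {a}) with hB₁
    have hA₁lt : A₁ < A := by
      refine lt_of_le_of_ne inf_le_left ?_
      intro h
      have : a ∈ A₁ := by rw [h]; exact ha
      have h1 := (mem_spPerp_singleton b a).mp this.2
      rw [hab] at h1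
      exact one_ne_zero h1
    have hfinlt := Submodule.finrank_lt_finrank_of_lt hA₁lt
    have hA₁ti : Cfsg.Geo.IsTotallySingularFor (Cfsg.sympForm m F) A₁ :=
      fun x hx y hy => hA x hx.1 y hy.1
    have hB₁ti : Cfsg.Geo.IsTotallySingularFor (Cfsg.sympForm m F) B₁ :=
      fun x hx y hy => hB x hx.1 y hy.1
    have hP1' : ∀ a₁ ∈ A₁, a₁ ≠ 0 → ∃ b₁ ∈ B₁, ⟪a₁, b₁⟫ ≠ 0 := by
      intro a₁ ha₁ ha₁0
      obtain ⟨b', hb', hab'⟩ := hP1 a₁ ha₁.1 ha₁0
      have ha₁b : ⟪a₁, b⟫ = 0 := (mem_spPerp_singleton b a₁).mp ha₁.2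
      refine ⟨b' - ⟪a, b'⟫ • b, ⟨B.sub_mem hb' (B.smul_mem _ hb),
        (mem_spPerp_singleton _ _).mpr ?_⟩, ?_⟩
      · rw [sympForm_sub_left, sympForm_smul_left, hba, sympForm_swap b' a]
        ring
      · rw [sympForm_sub_right, sympForm_smul_right, ha₁b, mul_zero, sub_zero]
        exact hab'
    have hP2' : ∀ b₁ ∈ B₁, b₁ ≠ 0 → ∃ a₁ ∈ A₁, ⟪a₁, b₁⟫ ≠ 0 := by
      intro b₁ hb₁ hb₁0
      obtain ⟨a', ha', hab'⟩ := hP2 b₁ hb₁.1 hb₁0
      have hb₁a : ⟪b₁, a⟫ = 0 := (mem_spPerp_singleton a b₁).mp hb₁.2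
      have hab₁ : ⟪a, b₁⟫ = 0 := by rw [sympForm_swap, hb₁a, neg_zero]
      refine ⟨a' - ⟪a', b⟫ • a, ⟨A.sub_mem ha' (A.smul_mem _ ha),
        (mem_spPerp_singleton _ _).mpr ?_⟩, ?_⟩
      · rw [sympForm_sub_left, sympForm_smul_left, hab]
        ring
      · rw [sympForm_sub_left, sympForm_smul_left, hab₁, mul_zero, sub_zero]
        exact hab'
    obtain ⟨g₂, hg₂, hg₂A, hg₂B⟩ := ih _ (by omega) A₁ B₁ rfl hA₁ti hB₁ti hP1' hP2'
    -- the swap of the hyperbolic pair
    have hPnd := relNondeg_span_pair hab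
    have haP : a ∈ Submodule.span F ({a, b} : Set Vec) := Submodule.subset_span (by simp)
    have hbP : b ∈ Submodule.span F ({a, b} : Set Vec) := Submodule.subset_span (by simp)
    have hba' : ⟪b, -a⟫ = 1 := by rw [sympForm_neg_right, hba, neg_neg]
    obtain ⟨w, hw, hwa, hwb⟩ := exists_transvection_map_pair_rel hPnd haP hbP hbP
      (Submodule.neg_mem _ haP) hab hba'
    have hPle : Submodule.span F ({a, b} : Set Vec) ≤ A ⊔ B := by
      rw [Submodule.span_le]
      rintro x (rfl | rfl)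
      · exact Submodule.mem_sup_left ha
      · exact Submodule.mem_sup_right hb
    refine ⟨g₂ * w, mul_mem (relTransvectionSubgroup_mono (sup_le_sup inf_le_left inf_le_left) hg₂)
      (relTransvectionSubgroup_mono hPle hw), ?_, ?_⟩
    · -- vectors of `A`
      intro x hx
      have hx₁ : x - ⟪x, b⟫ • a ∈ A₁ := by
        refine ⟨A.sub_mem hx (A.smul_mem _ ha), (mem_spPerp_singleton _ _).mpr ?_⟩
        rw [sympForm_sub_left, sympForm_smul_left, hab]
        ring
      have hwx₁ : (w : Mat) *ᵥ (x - ⟪x, b⟫ • a) = x - ⟪x, b⟫ • a := by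
        apply relTransvectionSubgroup_fix _ hw
        intro p hp
        obtain ⟨s, t, rfl⟩ := Submodule.mem_span_pair.mp hp
        rw [sympForm_add_right, sympForm_smul_right, sympForm_smul_right,
          hA _ hx₁.1 a ha, (mem_spPerp_singleton b _).mp hx₁.2]
        ring
      have hg₂b : (g₂ : Mat) *ᵥ b = b := by
        apply relTransvectionSubgroup_fix _ hg₂
        intro p hp
        obtain ⟨a₁, ha₁, b₁, hb₁, rfl⟩ := Submodule.mem_sup.mp hp
        rw [sympForm_add_right, hB b hb b₁ hb₁.1, sympForm_swap,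
          (mem_spPerp_singleton b a₁).mp ha₁.2]
        ring
      have hxdec : x = ⟪x, b⟫ • a + (x - ⟪x, b⟫ • a) := by abel
      rw [symp_coe_mul, ← Matrix.mulVec_mulVec]
      nth_rewrite 1 [hxdec]
      rw [Matrix.mulVec_add, Matrix.mulVec_smul, hwa, hwx₁, Matrix.mulVec_add, Matrix.mulVec_smul,
        hg₂b]
      exact B.add_mem (B.smul_mem _ hb) (hg₂A _ hx₁).1
    · -- vectors of `B`
      intro y hy
      have hy₁ : y - ⟪a, y⟫ • b ∈ B₁ := by
        refine ⟨B.sub_mem hy (B.smul_mem _ hb), (mem_spPerp_singleton _ _).mpr ?_⟩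
        rw [sympForm_sub_left, sympForm_smul_left, hba, sympForm_swap y a]
        ring
      have hwy₁ : (w : Mat) *ᵥ (y - ⟪a, y⟫ • b) = y - ⟪a, y⟫ • b := by
        apply relTransvectionSubgroup_fix _ hw
        intro p hp
        obtain ⟨s, t, rfl⟩ := Submodule.mem_span_pair.mp hp
        rw [sympForm_add_right, sympForm_smul_right, sympForm_smul_right,
          hB _ hy₁.1 b hb, (mem_spPerp_singleton a _).mp hy₁.2]
        ring
      have hg₂a : (g₂ : Mat) *ᵥ a = a := by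
        apply relTransvectionSubgroup_fix _ hg₂
        intro p hp
        obtain ⟨a₁, ha₁, b₁, hb₁, rfl⟩ := Submodule.mem_sup.mp hp
        rw [sympForm_add_right, hA a ha a₁ ha₁.1, sympForm_swap,
          (mem_spPerp_singleton a b₁).mp hb₁.2]
        ring
      have hydec : y = ⟪a, y⟫ • b + (y - ⟪a, y⟫ • b) := by abel
      rw [symp_coe_mul, ← Matrix.mulVec_mulVec]
      nth_rewrite 1 [hydec]
      rw [Matrix.mulVec_add, Matrix.mulVec_smul, hwb, hwy₁, Matrix.mulVec_add, Matrix.mulVec_smul,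
        Matrix.mulVec_neg, hg₂a]
      exact A.add_mem (A.smul_mem _ (A.neg_mem ha)) (hg₂B _ hy₁).1

end Cfsg.Agent.Helper13
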