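import Cfsg.Agent.Helper13.SpPair5

set_option autoImplicit false

namespace Cfsg.Agent.Helper13

open Matrix Cfsg.Agent.S0776

variable {F : Type*} [Field F] {m : ℕ}

local notation "Vec" => (Fin m ⊕ Fin m → F)
local notation "Mat" => Matrix (Fin m ⊕ Fin m) (Fin m ⊕ Fin m) F
local notation "⟪" x ", " y "⟫" => Cfsg.sympForm m F x y

theorem heisGL_comm {a b : Vec} (hab : ⟪a, b⟫ = 0) : heisGL a b 0 = heisGL b a 0 := by
  have hba : ⟪b, a⟫ = 0 := by rw [sympForm_swap, hab, neg_zero]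
  apply gl_ext_mulVec
  intro x
  rw [heisGL_mulVec hab, heisGL_mulVec hba]
  module

theorem mem_decompStab_two {k : ℕ} {D : Fin 2 → Submodule F Vec}
    (hfin : ∀ i, Module.finrank F (D i) = k) (g : GL (Fin m ⊕ Fin m) F)
    (σ : Equiv.Perm (Fin 2)) (h : ∀ i, ∀ x ∈ D i, (g : Mat) *ᵥ x ∈ D (σ i)) :
    g ∈ Cfsg.Geo.decompositionStabilizer D := by
  change ∃ σ : Equiv.Perm (Fin 2), ∀ i, (D i).map (Matrix.toLin' (g : Mat)) = D (σ i)
  exact ⟨σ, fun i => map_toLin'_eq_of_maps_into g (by rw [hfin, hfin]) (h i)⟩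

theorem maps_of_mem_decompStab_two {D : Fin 2 → Submodule F Vec} {g : GL (Fin m ⊕ Fin m) F}
    (hg : g ∈ Cfsg.Geo.decompositionStabilizer D) :
    ∃ σ : Equiv.Perm (Fin 2), ∀ i, ∀ x ∈ D i, (g : Mat) *ᵥ x ∈ D (σ i) := by
  obtain ⟨σ, hσ⟩ := hg
  refine ⟨σ, fun i x hx => ?_⟩
  rw [← hσ i]
  exact ⟨x, hx, by rw [Matrix.toLin'_apply]⟩

/-- from the two members to all vectors -/
theorem lag_tvVecs_all {M : Subgroup (GL (Fin m ⊕ Fin m) F)} (hM : M ≤ Cfsg.spGL m F)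
    {A B : Submodule F Vec}
    (hA : Cfsg.Geo.IsTotallySingularFor (Cfsg.sympForm m F) A)
    (hB : Cfsg.Geo.IsTotallySingularFor (Cfsg.sympForm m F) B) (hsup : A ⊔ B = ⊤)
    (hAS : ∀ a ∈ A, a ∈ tvVecs M) (hBS : ∀ b ∈ B, b ∈ tvVecs M) : ∀ x : Vec, x ∈ tvVecs M := by
  intro x
  obtain ⟨a, ha, b, hb, rfl⟩ := lag_decomp hsup x
  by_cases ha0 : a = 0
  · rw [ha0, zero_add]
    exact hBS b hb
  by_cases hab : ⟪a, b⟫ = 0
  · obtain ⟨b', hb', hab'⟩ := lag_dual hA hsup ha ha0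
    have h1 : a + b' ∈ tvVecs M := tvVecs_add hM (hAS a ha) (hBS b' hb') hab'
    have h3 : b - b' ∈ tvVecs M := hBS _ (B.sub_mem hb hb')
    have h4 : ⟪a + b', b - b'⟫ ≠ 0 := by
      rw [sympForm_add_left, sympForm_sub_right, sympForm_sub_right, hab, hB b' hb' b hb,
        hB b' hb' b' hb', zero_sub, sub_zero, add_zero]
      exact neg_ne_zero.mpr hab'
    have h5 := tvVecs_add hM h1 h3 h4
    have h6 : a + b' + (b - b') = a + b := by abel
    rwa [h6] at h5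
  · exact tvVecs_add hM (hAS a ha) (hBS b hb) hab

end Cfsg.Agent.Helper13
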