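import Cfsg.Agent.Helper13.SpPair6

set_option autoImplicit false

namespace Cfsg.Agent.Helper13

open Matrix Cfsg.Agent.S0776

variable {F : Type*} [Field F] {m : ℕ}

local notation "Vec" => (Fin m ⊕ Fin m → F)
local notation "Mat" => Matrix (Fin m ⊕ Fin m) (Fin m ⊕ Fin m) F
local notation "⟪" x ", " y "⟫" => Cfsg.sympForm m F x y

/-- the stabiliser of a pair of complementary totally isotropic subspaces is maximal in
`Sp_{2m}(q)`, `q` odd -/
theorem sp_lag_pair_stab_isMaximalIn (hm : 5 ≤ m) (h2 : (2 : F) ≠ 0)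
    (D : Fin 2 → Submodule F Vec) (hD : Cfsg.Geo.IsMDecomposition m D)
    (hts : ∀ i, Cfsg.Geo.IsTotallySingularFor (Cfsg.sympForm m F) (D i)) :
    Cfsg.Geo.IsMaximalIn (Cfsg.spGL m F)
      (Cfsg.Geo.decompositionStabilizer D ⊓ Cfsg.spGL m F) := by
  have hA := hts 0
  have hB := hts 1
  have hfin := hD.finrank_eq
  have hinf : D 0 ⊓ D 1 = ⊥ := by
    have h01 : (0 : Fin 2) ≠ 1 := by decide
    exact disjoint_iff.mp (hD.indep.pairwiseDisjoint h01)
  have hsup : D 0 ⊔ D 1 = ⊤ := by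
    rw [eq_top_iff, ← hD.iSup_eq_top]
    apply iSup_le
    intro i
    fin_cases i
    · exact le_sup_left
    · exact le_sup_right
  have hsup' : D 1 ⊔ D 0 = ⊤ := by rw [sup_comm]; exact hsup
  have hinf' : D 1 ⊓ D 0 = ⊥ := by rw [inf_comm]; exact hinf
  have hfinA : Module.finrank F (D 0) = m := hfin 0
  have hfinB : Module.finrank F (D 1) = m := hfin 1
  -- the Heisenberg elements of the stabiliser
  have hHP : ∀ a ∈ D 0, ∀ b ∈ D 1, ⟪a, b⟫ = 0 → heisGL a b 0 ∈
      Cfsg.Geo.decompositionStabilizer D ⊓ Cfsg.spGL m F := by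
    intro a ha b hb hab
    refine ⟨?_, heisGL_mem_spGL a b 0⟩
    apply mem_decompStab_two hfin _ 1
    intro i
    fin_cases i
    · intro x hx
      rw [heisGL_mulVec hab, hA x hx a ha]
      simp only [zero_smul, add_zero, mul_zero, Equiv.Perm.coe_one, id_eq]
      exact (D 0).add_mem hx ((D 0).smul_mem _ ha)
    · intro x hx
      rw [heisGL_mulVec hab, hB x hx b hb]
      simp only [zero_smul, add_zero, Equiv.Perm.coe_one, id_eq, zero_mul]
      exact (D 1).add_mem hx ((D 1).smul_mem _ hb)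
  -- the swap
  have hP2 : ∀ b ∈ D 1, b ≠ 0 → ∃ a ∈ D 0, ⟪a, b⟫ ≠ 0 := by
    intro b hb hb0
    obtain ⟨a, ha, hba⟩ := lag_dual hB hsup' hb hb0
    refine ⟨a, ha, ?_⟩
    rw [sympForm_swap]
    exact neg_ne_zero.mpr hba
  obtain ⟨s₀, -, hs₀A, hs₀B⟩ := exists_lag_swap m (D 0) (D 1) hfinA hA hB
    (fun a ha ha0 => lag_dual hA hsup ha ha0) hP2
  have hsP : spToGL m F s₀ ∈ Cfsg.Geo.decompositionStabilizer D ⊓ Cfsg.spGL m F := by
    refine ⟨?_, spToGL_mem_spGL s₀⟩
    apply mem_decompStab_two hfin _ (Equiv.swap 0 1)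
    intro i
    fin_cases i
    · intro x hx
      rw [spToGL_coe]
      simpa using hs₀A x hx
    · intro x hx
      rw [spToGL_coe]
      simpa using hs₀B x hx
  obtain ⟨a₀, ha₀, ha₀0⟩ : ∃ a ∈ D 0, a ≠ 0 := by
    by_contra hc
    push Not at hc
    have : D 0 = ⊥ := by
      rw [eq_bot_iff]
      intro x hx
      rw [Submodule.mem_bot]
      exact hc x hx
    rw [this, finrank_bot] at hfinA
    omega
  refine ⟨lt_of_le_of_ne inf_le_right ?_, ?_⟩
  · -- properness
    intro heq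
    obtain ⟨b₁, hb₁, hab₁⟩ := lag_dual hA hsup ha₀ ha₀0
    obtain ⟨b, hbdef⟩ : ∃ b, b = (⟪a₀, b₁⟫)⁻¹ • b₁ := ⟨_, rfl⟩
    have hb : b ∈ D 1 := by rw [hbdef]; exact (D 1).smul_mem _ hb₁
    have hab : ⟪a₀, b⟫ = 1 := by rw [hbdef, sympForm_smul_right, inv_mul_cancel₀ hab₁]
    have hb0 : b ≠ 0 := by
      rintro rfl
      rw [sympForm_zero_right] at hab
      exact zero_ne_one hab
    have h1 : tvGL (a₀ + b) 1 ∈ Cfsg.Geo.decompositionStabilizer D ⊓ Cfsg.spGL m F := by
      rw [heq]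
      exact tvGL_mem_spGL _ _
    obtain ⟨σ, hσ⟩ := maps_of_mem_decompStab_two h1.1
    have h3 := hσ 0 a₀ ha₀
    rw [tvGL_coe, sympTransvection_mulVec, sympForm_add_right, sympForm_self, hab, zero_add,
      mul_one, one_smul] at h3
    have hcases : σ 0 = 0 ∨ σ 0 = 1 := by
      generalize σ 0 = j
      fin_cases j
      · left; rfl
      · right; rfl
    rcases hcases with h4 | h4
    · rw [h4] at h3
      have h5 : b ∈ D 0 := by
        have := (D 0).sub_mem h3 ((D 0).add_mem ha₀ ha₀)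
        have h6 : a₀ + (a₀ + b) - (a₀ + a₀) = b := by abel
        rwa [h6] at this
      have h6 : b ∈ D 0 ⊓ D 1 := ⟨h5, hb⟩
      rw [hinf, Submodule.mem_bot] at h6
      exact hb0 h6
    · rw [h4] at h3
      have h5 : (2 : F) • a₀ ∈ D 1 := by
        have := (D 1).sub_mem h3 hb
        have h6 : a₀ + (a₀ + b) - b = (2 : F) • a₀ := by module
        rwa [h6] at this
      have h6 : a₀ ∈ D 1 := by
        have := (D 1).smul_mem (2 : F)⁻¹ h5
        rwa [smul_smul, inv_mul_cancel₀ h2, one_smul] at this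
      have h7 : a₀ ∈ D 0 ⊓ D 1 := ⟨ha₀, h6⟩
      rw [hinf, Submodule.mem_bot] at h7
      exact ha₀0 h7
  · intro M hPM hMG
    by_cases hMP : M = Cfsg.Geo.decompositionStabilizer D ⊓ Cfsg.spGL m F
    · exact Or.inl hMP
    right
    obtain ⟨g, hgM, hgP⟩ : ∃ g ∈ M, g ∉ Cfsg.Geo.decompositionStabilizer D ⊓ Cfsg.spGL m F := by
      by_contra hcon
      push Not at hcon
      exact hMP (le_antisymm hcon hPM)
    have hgS : g ∉ Cfsg.Geo.decompositionStabilizer D := fun h1 => hgP ⟨h1, hMG hgM⟩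
    have hH : ∀ a ∈ D 0, ∀ b ∈ D 1, ⟪a, b⟫ = 0 → heisGL a b 0 ∈ M :=
      fun a ha b hb hab => hPM (hHP a ha b hb hab)
    have hH' : ∀ b ∈ D 1, ∀ a ∈ D 0, ⟪b, a⟫ = 0 → heisGL b a 0 ∈ M := by
      intro b hb a ha hba
      have hab : ⟪a, b⟫ = 0 := by rw [sympForm_swap, hba, neg_zero]
      rw [← heisGL_comm hab]
      exact hH a ha b hb hab
    have hsM : spToGL m F s₀ ∈ M := hPM hsP
    have h1 : ¬ ((∀ a ∈ D 0, (g : Mat) *ᵥ a ∈ D 0) ∧ (∀ b ∈ D 1, (g : Mat) *ᵥ b ∈ D 1)) := by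
      rintro ⟨h3, h4⟩
      apply hgS
      apply mem_decompStab_two hfin _ 1
      intro i
      fin_cases i
      · simpa using h3
      · simpa using h4
    have h3 : ¬ ((∀ a ∈ D 0, (g : Mat) *ᵥ a ∈ D 1) ∧ (∀ b ∈ D 1, (g : Mat) *ᵥ b ∈ D 0)) := by
      rintro ⟨h3, h4⟩
      apply hgS
      apply mem_decompStab_two hfin _ (Equiv.swap 0 1)
      intro i
      fin_cases i
      · simpa using h3
      · simpa using h4
    obtain ⟨u, y, huy, hheis, hcase⟩ := lag_exists_heis hMG hA hB hsup hinf (by omega) (by omega)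
      hH hgM h1 h3
    -- both members lie in `tvVecs M`
    have hboth : (∀ a ∈ D 0, a ∈ tvVecs M) ∧ (∀ b ∈ D 1, b ∈ tvVecs M) := by
      rcases hcase with ⟨hu, hy⟩ | ⟨hu, hy⟩
      · obtain ⟨e, heA, he0, heS⟩ := lag_engine h2 hA hB hsup hfinA hm hH huy hheis hu hy
        have hAS := lag_tvVecs_of_one hMG hA hsup hH heA he0 heS
        refine ⟨hAS, ?_⟩
        intro b hb
        obtain ⟨a, ha, hab⟩ := exists_preimage_of_maps_into (spToGL m F s₀) (W := D 0) (W' := D 1)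
          (by rw [hfinA, hfinB]) (fun x hx => by rw [spToGL_coe]; exact hs₀A x hx) hb
        rw [← hab]
        exact tvVecs_map hMG hsM (hAS a ha)
      · obtain ⟨e, heB, he0, heS⟩ := lag_engine h2 hB hA hsup' hfinB hm hH' huy hheis hu hy
        have hBS := lag_tvVecs_of_one hMG hB hsup' hH' heB he0 heS
        refine ⟨?_, hBS⟩
        intro a ha
        obtain ⟨b, hb, hba⟩ := exists_preimage_of_maps_into (spToGL m F s₀) (W := D 1) (W' := D 0)
          (by rw [hfinA, hfinB]) (fun x hx => by rw [spToGL_coe]; exact hs₀B x hx) ha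
        rw [← hba]
        exact tvVecs_map hMG hsM (hBS b hb)
    have hall := lag_tvVecs_all hMG hA hB hsup hboth.1 hboth.2
    apply le_antisymm hMG
    exact spGL_le_of_tv M (fun v c => hall v c)

end Cfsg.Agent.Helper13
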