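import Cfsg.Agent.Helper13.Symp

set_option autoImplicit false

namespace Cfsg.Agent.Helper13

open Matrix

variable {F : Type*} [Field F] {m : ℕ}

/-- the diagonal torus of the symplectic group, as the stabiliser of the coordinate lines -/
abbrev spTorus (m : ℕ) (F : Type*) [Field F] : Subgroup (Matrix.symplecticGroup (Fin m) F) :=
  ⨅ i : Fin m ⊕ Fin m, Cfsg.stabilizing (Cfsg.spToMat m F)
    ((Submodule.span F {(Pi.single i (1 : F) : Fin m ⊕ Fin m → F)} :
      Submodule F (Fin m ⊕ Fin m → F)) : Set (Fin m ⊕ Fin m → F))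

theorem sp_inv_mul_coe (g : Matrix.symplecticGroup (Fin m) F) :
    ((g⁻¹ : Matrix.symplecticGroup (Fin m) F) : Matrix (Fin m ⊕ Fin m) (Fin m ⊕ Fin m) F) *
      (g : Matrix (Fin m ⊕ Fin m) (Fin m ⊕ Fin m) F) = 1 := by
  rw [← Submonoid.coe_mul, inv_mul_cancel, Submonoid.coe_one]

theorem sp_mul_inv_coe (g : Matrix.symplecticGroup (Fin m) F) :
    (g : Matrix (Fin m ⊕ Fin m) (Fin m ⊕ Fin m) F) *
      ((g⁻¹ : Matrix.symplecticGroup (Fin m) F) : Matrix (Fin m ⊕ Fin m) (Fin m ⊕ Fin m) F) = 1 := by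
  rw [← Submonoid.coe_mul, mul_inv_cancel, Submonoid.coe_one]

theorem sp_mulVec_injective (g : Matrix.symplecticGroup (Fin m) F) :
    Function.Injective (fun v : Fin m ⊕ Fin m → F =>
      (g : Matrix (Fin m ⊕ Fin m) (Fin m ⊕ Fin m) F) *ᵥ v) := by
  intro v w hvw
  have := congrArg (fun u => ((g⁻¹ : Matrix.symplecticGroup (Fin m) F) :
      Matrix (Fin m ⊕ Fin m) (Fin m ⊕ Fin m) F) *ᵥ u) hvw
  simpa [Matrix.mulVec_mulVec, sp_inv_mul_coe] using this

theorem mem_span_single_iff (b : Fin m ⊕ Fin m) (v : Fin m ⊕ Fin m → F) :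
    v ∈ Submodule.span F {(Pi.single b (1 : F) : Fin m ⊕ Fin m → F)} ↔ ∀ a, a ≠ b → v a = 0 := by
  rw [Submodule.mem_span_singleton]
  constructor
  · rintro ⟨c, rfl⟩ a hab
    simp [hab]
  · intro h
    refine ⟨v b, ?_⟩
    funext a
    by_cases hab : a = b
    · subst hab
      simp
    · simp [hab, h a hab]

/-- the torus consists of the diagonal symplectic matrices -/
theorem mem_spTorus_iff [Finite F] (g : Matrix.symplecticGroup (Fin m) F) :
    g ∈ spTorus m F ↔ ∀ a b, a ≠ b → (g : Matrix (Fin m ⊕ Fin m) (Fin m ⊕ Fin m) F) a b = 0 := by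
  rw [Subgroup.mem_iInf]
  constructor
  · intro h a b hab
    have h1 := (h b (Pi.single b 1)).mp (Submodule.mem_span_singleton_self _)
    change (g : Matrix (Fin m ⊕ Fin m) (Fin m ⊕ Fin m) F) *ᵥ Pi.single b 1 ∈
      Submodule.span F {(Pi.single b (1 : F) : Fin m ⊕ Fin m → F)} at h1
    rw [mem_span_single_iff] at h1
    have h2 := h1 a hab
    rw [Matrix.mulVec_single_one] at h2
    exact h2
  · intro h b v
    have hmaps : ∀ v ∈ ((Submodule.span F {(Pi.single b (1 : F) : Fin m ⊕ Fin m → F)} :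
        Submodule F (Fin m ⊕ Fin m → F)) : Set (Fin m ⊕ Fin m → F)),
        (g : Matrix (Fin m ⊕ Fin m) (Fin m ⊕ Fin m) F) *ᵥ v ∈
          ((Submodule.span F {(Pi.single b (1 : F) : Fin m ⊕ Fin m → F)} :
        Submodule F (Fin m ⊕ Fin m → F)) : Set (Fin m ⊕ Fin m → F)) := by
      intro v hv
      rw [SetLike.mem_coe, mem_span_single_iff] at hv ⊢
      intro a hab
      rw [Matrix.mulVec, dotProduct]
      apply Finset.sum_eq_zero
      intro c _
      by_cases hcb : c = b
      · subst hcb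
        rw [h a c hab, zero_mul]
      · rw [hv c hcb, mul_zero]
    have hbij := (Set.Finite.injOn_iff_bijOn_of_mapsTo
      (Set.toFinite ((Submodule.span F {(Pi.single b (1 : F) : Fin m ⊕ Fin m → F)} :
        Submodule F (Fin m ⊕ Fin m → F)) : Set (Fin m ⊕ Fin m → F)))
      (f := fun v : Fin m ⊕ Fin m → F =>
        (g : Matrix (Fin m ⊕ Fin m) (Fin m ⊕ Fin m) F) *ᵥ v) hmaps).mp
        (sp_mulVec_injective g).injOn
    constructor
    · exact hmaps v
    · intro hv
      obtain ⟨w, hw, hwv⟩ := hbij.surjOn hv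
      rw [← sp_mulVec_injective g hwv]
      exact hw

/-- the sign of a coordinate: `-1` on the first block, `1` on the second -/
def sgnE (m : ℕ) (F : Type*) [Field F] : Fin m ⊕ Fin m → F := Sum.elim (fun _ => -1) (fun _ => 1)

theorem sgnE_mul_self (a : Fin m ⊕ Fin m) : sgnE m F a * sgnE m F a = 1 := by
  cases a <;> simp [sgnE]

theorem sgnE_swap (a : Fin m ⊕ Fin m) : sgnE m F (Sum.swap a) = -sgnE m F a := by
  cases a <;> simp [sgnE]

theorem sgnE_ne_zero (a : Fin m ⊕ Fin m) : sgnE m F a ≠ 0 := by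
  cases a <;> simp [sgnE]

/-- the entries of `J` -/
theorem J_apply_eq (a b : Fin m ⊕ Fin m) :
    Matrix.J (Fin m) F a b = if b = Sum.swap a then sgnE m F a else 0 := by
  cases a <;> cases b <;> simp [Matrix.J, sgnE, Matrix.one_apply, eq_comm, apply_ite]

/-- a diagonal matrix is symplectic iff the paired entries multiply to one -/
theorem diagonal_mem_sp (d : Fin m ⊕ Fin m → F) (hd : ∀ a, d a * d (Sum.swap a) = 1) :
    Matrix.diagonal d ∈ Matrix.symplecticGroup (Fin m) F := by
  rw [SymplecticGroup.mem_iff]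
  ext a b
  rw [Matrix.diagonal_transpose, Matrix.mul_diagonal, Matrix.diagonal_mul, J_apply_eq]
  split_ifs with h
  · subst h
    have := hd a
    linear_combination (sgnE m F a) * this
  · simp

/-- the basic torus elements -/
def torFun (b : Fin m ⊕ Fin m) (x : Fˣ) : Fin m ⊕ Fin m → F :=
  fun a => if a = b then (x : F) else if a = Sum.swap b then ((x⁻¹ : Fˣ) : F) else 1

theorem swap_ne_self (a : Fin m ⊕ Fin m) : Sum.swap a ≠ a := by
  cases a <;> simp

theorem torFun_mul (b : Fin m ⊕ Fin m) (x : Fˣ) (a : Fin m ⊕ Fin m) :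
    torFun b x a * torFun b x (Sum.swap a) = 1 := by
  unfold torFun
  by_cases h1 : a = b
  · subst h1
    simp [swap_ne_self]
  · by_cases h2 : a = Sum.swap b
    · subst h2
      simp [swap_ne_self]
    · have h3 : Sum.swap a ≠ b := by
        intro h
        apply h2
        rw [← h, Sum.swap_swap]
      have h4 : Sum.swap a ≠ Sum.swap b := by
        intro h
        apply h1
        have := congrArg Sum.swap h
        simpa using this
      simp [h1, h2, h3, h4]

/-- the basic torus elements as symplectic matrices -/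
def torElt (b : Fin m ⊕ Fin m) (x : Fˣ) : Matrix.symplecticGroup (Fin m) F :=
  ⟨Matrix.diagonal (torFun b x), diagonal_mem_sp _ (torFun_mul b x)⟩

theorem torElt_mem [Finite F] (b : Fin m ⊕ Fin m) (x : Fˣ) : torElt b x ∈ spTorus m F := by
  rw [mem_spTorus_iff]
  intro a c hac
  exact Matrix.diagonal_apply_ne _ hac

/-- column-monomial matrices: every column has at most one non-zero entry -/
def ColMonomial (M : Matrix (Fin m ⊕ Fin m) (Fin m ⊕ Fin m) F) : Prop :=
  ∀ a b c, M b a ≠ 0 → M c a ≠ 0 → b = c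

/-- the normaliser of the torus consists of column-monomial matrices -/
theorem colMonomial_of_mem_normalizer [Finite F] (hx : ∃ x : Fˣ, x ^ 2 ≠ 1)
    (g : Matrix.symplecticGroup (Fin m) F)
    (hg : g ∈ Subgroup.normalizer ((spTorus m F : Subgroup _) : Set _)) :
    ColMonomial (g : Matrix (Fin m ⊕ Fin m) (Fin m ⊕ Fin m) F) := by
  obtain ⟨x, hx⟩ := hx
  intro a b c hb hc
  by_contra hbc
  -- the torus element
  set t' := torElt (F := F) b x with ht'
  have ht'T : t' ∈ spTorus m F := torElt_mem b x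
  have htT : g⁻¹ * t' * g ∈ spTorus m F := (Subgroup.mem_normalizer_iff''.mp hg t').mp ht'T
  set t := g⁻¹ * t' * g with ht
  have hgt : g * t = t' * g := by
    rw [ht]
    group
  have hgt' : (g : Matrix (Fin m ⊕ Fin m) (Fin m ⊕ Fin m) F) *
      (t : Matrix (Fin m ⊕ Fin m) (Fin m ⊕ Fin m) F) =
      Matrix.diagonal (torFun b x) * (g : Matrix (Fin m ⊕ Fin m) (Fin m ⊕ Fin m) F) := by
    have := congrArg Subtype.val hgt
    rw [Submonoid.coe_mul, Submonoid.coe_mul] at this
    exact this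
  have htd := (mem_spTorus_iff t).mp htT
  have hentry : ∀ r, (g : Matrix (Fin m ⊕ Fin m) (Fin m ⊕ Fin m) F) r a *
      (t : Matrix (Fin m ⊕ Fin m) (Fin m ⊕ Fin m) F) a a =
      torFun b x r * (g : Matrix (Fin m ⊕ Fin m) (Fin m ⊕ Fin m) F) r a := by
    intro r
    have h1 := congrFun (congrFun hgt' r) a
    rw [Matrix.diagonal_mul, Matrix.mul_apply, Finset.sum_eq_single a] at h1
    · exact h1
    · intro k _ hk
      rw [htd k a hk, mul_zero]
    · intro h
      exact absurd (Finset.mem_univ a) h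
  have h1 := hentry b
  have h2 := hentry c
  have h3 : (t : Matrix (Fin m ⊕ Fin m) (Fin m ⊕ Fin m) F) a a = torFun b x b := by
    apply mul_left_cancel₀ hb
    rw [h1, mul_comm]
  have h4 : (t : Matrix (Fin m ⊕ Fin m) (Fin m ⊕ Fin m) F) a a = torFun b x c := by
    apply mul_left_cancel₀ hc
    rw [h2, mul_comm]
  have h5 : torFun b x b = torFun b x c := h3.symm.trans h4
  unfold torFun at h5
  rw [if_pos rfl, if_neg (Ne.symm hbc)] at h5
  split_ifs at h5 with h6
  · -- x = x⁻¹
    apply hx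
    have : (x : F) * (x : F) = 1 := by
      nth_rewrite 2 [h5]
      simp
    apply Units.ext
    simpa [pow_two] using this
  · -- x = 1
    apply hx
    have : x = 1 := Units.ext (by simpa using h5)
    rw [this, one_pow]

/-- the row function of a column-monomial symplectic matrix -/
theorem exists_rho [Finite F] (g : Matrix.symplecticGroup (Fin m) F)
    (hg : ColMonomial (g : Matrix (Fin m ⊕ Fin m) (Fin m ⊕ Fin m) F)) :
    ∃ ρ : Fin m ⊕ Fin m → Fin m ⊕ Fin m, Function.Bijective ρ ∧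
      (∀ a, (g : Matrix (Fin m ⊕ Fin m) (Fin m ⊕ Fin m) F) (ρ a) a ≠ 0) ∧
      ∀ a b, b ≠ ρ a → (g : Matrix (Fin m ⊕ Fin m) (Fin m ⊕ Fin m) F) b a = 0 := by
  have hcol : ∀ a, ∃ b, (g : Matrix (Fin m ⊕ Fin m) (Fin m ⊕ Fin m) F) b a ≠ 0 := by
    intro a
    by_contra hcon
    push Not at hcon
    have h1 : (g : Matrix (Fin m ⊕ Fin m) (Fin m ⊕ Fin m) F) *ᵥ Pi.single a 1 =
        (g : Matrix (Fin m ⊕ Fin m) (Fin m ⊕ Fin m) F) *ᵥ 0 := by
      rw [Matrix.mulVec_single_one, Matrix.mulVec_zero]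
      funext b
      exact hcon b
    have h2 := sp_mulVec_injective g h1
    have h3 := congrFun h2 a
    simp at h3
  choose ρ hρ using hcol
  have hzero : ∀ a b, b ≠ ρ a →
      (g : Matrix (Fin m ⊕ Fin m) (Fin m ⊕ Fin m) F) b a = 0 := by
    intro a b hb
    by_contra hne
    exact hb (hg a b (ρ a) hne (hρ a))
  have hinj : Function.Injective ρ := by
    intro a a' haa'
    by_contra hne
    set b := ρ a with hb
    set v : Fin m ⊕ Fin m → F :=
      (g : Matrix (Fin m ⊕ Fin m) (Fin m ⊕ Fin m) F) b a' • Pi.single a 1 -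
      (g : Matrix (Fin m ⊕ Fin m) (Fin m ⊕ Fin m) F) b a • Pi.single a' 1 with hv
    have h1 : (g : Matrix (Fin m ⊕ Fin m) (Fin m ⊕ Fin m) F) *ᵥ v =
        (g : Matrix (Fin m ⊕ Fin m) (Fin m ⊕ Fin m) F) *ᵥ 0 := by
      rw [hv, Matrix.mulVec_sub, Matrix.mulVec_smul, Matrix.mulVec_smul,
        Matrix.mulVec_single_one, Matrix.mulVec_single_one, Matrix.mulVec_zero]
      funext r
      simp only [Pi.sub_apply, Pi.smul_apply, Matrix.col_apply, smul_eq_mul, Pi.zero_apply]
      by_cases hr : r = b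
      · subst hr
        ring
      · rw [hzero a r hr, hzero a' r (by rw [← haa']; exact hr)]
        ring
    have h2 := sp_mulVec_injective g h1
    have h3 := congrFun h2 a
    rw [hv] at h3
    simp only [Pi.sub_apply, Pi.smul_apply, Pi.single_eq_same, smul_eq_mul, mul_one,
      Pi.single_eq_of_ne hne, mul_zero, sub_zero, Pi.zero_apply] at h3
    rw [haa'] at h3
    exact hρ a' h3
  exact ⟨ρ, hinj.bijective_of_finite, hρ, hzero⟩

/-- column-monomial symplectic matrices normalise the torus -/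
theorem mem_normalizer_of_colMonomial [Finite F] (g : Matrix.symplecticGroup (Fin m) F)
    (hg : ColMonomial (g : Matrix (Fin m ⊕ Fin m) (Fin m ⊕ Fin m) F)) :
    g ∈ Subgroup.normalizer ((spTorus m F : Subgroup _) : Set _) := by
  obtain ⟨ρ, hρbij, hρ, hzero⟩ := exists_rho g hg
  have hfin : Finite (Matrix.symplecticGroup (Fin m) F) :=
    Finite.of_injective (fun g => g.1) Subtype.val_injective
  apply Subgroup.mem_normalizer_fintype
  intro t ht
  have htd := (mem_spTorus_iff t).mp ht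
  change g * t * g⁻¹ ∈ spTorus m F
  rw [mem_spTorus_iff]
  intro r c hrc
  obtain ⟨a, rfl⟩ := hρbij.2 c
  set M : Matrix (Fin m ⊕ Fin m) (Fin m ⊕ Fin m) F :=
    ((g * t * g⁻¹ : Matrix.symplecticGroup (Fin m) F) :
      Matrix (Fin m ⊕ Fin m) (Fin m ⊕ Fin m) F) with hM
  have h1 : M * (g : Matrix (Fin m ⊕ Fin m) (Fin m ⊕ Fin m) F) =
      (g : Matrix (Fin m ⊕ Fin m) (Fin m ⊕ Fin m) F) *
        (t : Matrix (Fin m ⊕ Fin m) (Fin m ⊕ Fin m) F) := by
    rw [hM, ← Submonoid.coe_mul, ← Submonoid.coe_mul]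
    congr 1
    group
  have h2 := congrFun (congrFun h1 r) a
  rw [Matrix.mul_apply, Matrix.mul_apply, Finset.sum_eq_single (ρ a),
    Finset.sum_eq_single a, hzero a r hrc, zero_mul] at h2
  · exact (mul_eq_zero.mp h2).resolve_right (hρ a)
  · intro k _ hk
    rw [htd k a hk, mul_zero]
  · intro h
    exact absurd (Finset.mem_univ a) h
  · intro k _ hk
    rw [hzero a k hk, mul_zero]
  · intro h
    exact absurd (Finset.mem_univ _) h

end Cfsg.Agent.Helper13
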