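import Mathlib
import Cfsg.Agent.Helper5.OmBN.Defs
import Cfsg.Agent.Helper30.OmBNMEMXI
import Cfsg.Agent.Helper90.OmBNXIINV
import Cfsg.Agent.Helper48.OmBNMEMSG
import Cfsg.Agent.Helper48.OmBNSGMUL

/-!
# (OM) piece of S4625 (helper51): Sylow 2-subgroups of `PΩ⁻` in characteristic 2 — definitions
(helper13; on top of helper5's `OmBN` model `OG m α β`)

`RootSet`: the positive root elements of `Usub m α β`: the long root elements `x_{ab}(t)`
(`a`, `b` outer positions, `pos a < pos b`, `a ≠ rev b`) and the Siegel elements `sgMat α β (lo i) w1 w2`.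
-/

set_option autoImplicit false

namespace Cfsg.Agent.Helper13.SqOM

open Matrix Cfsg Cfsg.Agent.Helper5.OmBN

variable {F : Type*} [Field F] {m : ℕ} {α β : F}

/-- the root elements `xMat a b t` are in the isometry group -/
theorem hasXI : HasXI m α β := by
  intro a b ha1 ha2 hb1 hb2 hab hab' t
  exact exists_of_isO (Cfsg.Agent.Helper30.OmBN.xMat_isO a b ha1 ha2 hb1 hb2 hab hab' t)
    (Cfsg.Agent.Helper90.OmBN.xMat_neg_mul a b hab hab' t)

/-- the Siegel elements are in the isometry group -/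
theorem hasSG : HasSG m α β := by
  intro e he1 he2 w1 w2
  refine exists_of_isO (Cfsg.Agent.Helper48.OmBN.sgMat_isO e he1 he2 w1 w2)
    (M' := sgMat α β e (-w1) (-w2)) ?_
  rw [Cfsg.Agent.Helper48.OmBN.sgMat_mul e he1 he2, neg_add_cancel, neg_add_cancel,
    Cfsg.Agent.Helper48.OmBN.sgMat_zero]

/-- `g` is a long root element `x_{ab}(t)` (any sign) -/
def IsXElt (g : OG m α β) : Prop :=
  ∃ a b : Fin (2 * m + 2), ∃ t : F, a ≠ c1 ∧ a ≠ c2 ∧ b ≠ c1 ∧ b ≠ c2 ∧ a ≠ b ∧ a ≠ Fin.rev b ∧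
    mat g = xMat a b t

/-- `g` is a positive long root element `x_{ab}(t)`, `pos a < pos b` -/
def IsXPos (g : OG m α β) : Prop :=
  ∃ a b : Fin (2 * m + 2), ∃ t : F, a ≠ c1 ∧ a ≠ c2 ∧ b ≠ c1 ∧ b ≠ c2 ∧ pos a < pos b ∧
    a ≠ Fin.rev b ∧ mat g = xMat a b t

/-- `g` is a positive Siegel element `E_{e_{lo i}, w}` -/
def IsSgPos (g : OG m α β) : Prop :=
  ∃ i : Fin m, ∃ w1 w2 : F, mat g = sgMat α β (lo i) w1 w2

/-- the positive root elements -/
def RootSet (m : ℕ) {F : Type*} [Field F] (α β : F) : Set (OG m α β) :=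
  {g | IsXPos g ∨ IsSgPos g}

/-- the row `a` of `g` is the unit row -/
def RowId (g : OG m α β) (a : Fin (2 * m + 2)) : Prop :=
  ∀ s : Fin (2 * m + 2), mat g a s = if s = a then 1 else 0

/-- the column `a` of `g` is the unit column -/
def ColId (g : OG m α β) (a : Fin (2 * m + 2)) : Prop :=
  ∀ r : Fin (2 * m + 2), mat g r a = if r = a then 1 else 0

theorem IsXPos.isXElt {g : OG m α β} (h : IsXPos g) : IsXElt g := by
  obtain ⟨a, b, t, ha1, ha2, hb1, hb2, hab, hab', hg⟩ := h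
  refine ⟨a, b, t, ha1, ha2, hb1, hb2, ?_, hab', hg⟩
  intro h
  rw [h] at hab
  exact lt_irrefl _ hab

end Cfsg.Agent.Helper13.SqOM
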