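import Mathlib
import Cfsg.Agent.Helper13.SqOMDefs
import Cfsg.Agent.Helper5.OmBN.Pair
import Cfsg.Agent.Helper69.OmBNOMI
import Cfsg.Agent.Helper69.OmBNROTSG
import Cfsg.Agent.Helper70.OmBNOMV
import Cfsg.Agent.Helper70.OmBNCOMSG

/-!
# (OM) piece of S4625: the root elements of `OG m α β` lie in the commutator subgroup
(helper13; generalising helper69's (OMI) and helper70's (OMV) from the simple roots to all roots)
-/

set_option autoImplicit false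

namespace Cfsg.Agent.Helper13.SqOM

open Matrix Cfsg Cfsg.Agent.Helper5.OmBN

variable {F : Type*} [Field F] {m : ℕ} {α β : F}

theorem rev_ne_c1 (b : Fin (2 * m + 2)) (hb : b ≠ c2) : Fin.rev b ≠ c1 := by
  intro h
  apply hb
  rw [← Fin.rev_rev b, h, rev_c1]

theorem rev_ne_c2 (b : Fin (2 * m + 2)) (hb : b ≠ c1) : Fin.rev b ≠ c2 := by
  intro h
  apply hb
  rw [← Fin.rev_rev b, h, rev_c2]

/-- (AX) every long root element is a commutator of two Siegel elements -/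
theorem xElt_mem_commutator (hdisc : 4 * β - α ^ 2 ≠ 0) (g : OG m α β) (hg : IsXElt g) :
    g ∈ commutator (OG m α β) := by
  obtain ⟨a, b, t, ha1, ha2, hb1, hb2, hab, hab', ht⟩ := hg
  obtain ⟨v1, v2, hv⟩ := Cfsg.Agent.Helper69.OmBN.omi_solve (α := α) (β := β) hdisc t
  have hf1 : Fin.rev b ≠ c1 := rev_ne_c1 b hb2
  have hf2 : Fin.rev b ≠ c2 := rev_ne_c2 b hb1
  have hef' : a ≠ Fin.rev (Fin.rev b) := by rw [Fin.rev_rev]; exact hab
  have hSM : ∀ (e : Fin (2 * m + 2)), e ≠ c1 → e ≠ c2 → ∀ (w1 w2 v1 v2 : F),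
      sgMat α β e w1 w2 * sgMat α β e v1 v2 = sgMat α β e (w1 + v1) (w2 + v2) :=
    fun e he1 he2 w1 w2 v1 v2 => Cfsg.Agent.Helper48.OmBN.sgMat_mul e he1 he2 w1 w2 v1 v2
  have hS0 : ∀ (e : Fin (2 * m + 2)), sgMat α β e 0 0 = 1 :=
    fun e => Cfsg.Agent.Helper48.OmBN.sgMat_zero e
  obtain ⟨gz, hgz⟩ := hasSG (α := α) (β := β) a ha1 ha2 1 0
  obtain ⟨gv, hgv⟩ := hasSG (α := α) (β := β) (Fin.rev b) hf1 hf2 v1 v2
  have hx : g = gz * gv * gz⁻¹ * gv⁻¹ := by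
    apply mat_injective
    rw [mat_mul, mat_mul, mat_mul, hgz, hgv,
      Cfsg.Agent.Helper69.OmBN.omi_mat_inv hSM hS0 _ ha1 ha2 1 0 gz hgz,
      Cfsg.Agent.Helper69.OmBN.omi_mat_inv hSM hS0 _ hf1 hf2 v1 v2 gv hgv,
      Cfsg.Agent.Helper70.OmBN.sgMat_comm _ _ ha1 ha2 hf1 hf2 hab' hef', Fin.rev_rev, hv, ht]
  rw [hx, ← commutatorElement_def]
  exact Subgroup.commutator_mem_commutator (Subgroup.mem_top _) (Subgroup.mem_top _)

/-- (ASG) every Siegel element is a commutator `⁅h, E_{e,w₀}⁆`, `h` a rotation of the middle plane -/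
theorem sg_mem_commutator (hab : ∀ z₁ z₂ : F, Nf α β z₁ z₂ = 0 → z₁ = 0 ∧ z₂ = 0)
    (hdisc : 4 * β - α ^ 2 ≠ 0) (e : Fin (2 * m + 2)) (he1 : e ≠ c1) (he2 : e ≠ c2) (w1 w2 : F)
    (g : OG m α β) (hw : mat g = sgMat α β e w1 w2) : g ∈ commutator (OG m α β) := by
  have hβ : β ≠ 0 := Cfsg.Agent.Helper70.OmBN.omv_beta_ne_zero hab
  have hN1 := Cfsg.Agent.Helper70.OmBN.omv_norm_one (α := α) hβ
  have hd := Cfsg.Agent.Helper70.OmBN.omv_norm_ne_zero hab hdisc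
  obtain ⟨u1, u2, hu1, hu2⟩ := Cfsg.Agent.Helper70.OmBN.omv_solve (α := α) (β := β) _ _ hd w1 w2
  have hSM : ∀ (e : Fin (2 * m + 2)), e ≠ c1 → e ≠ c2 → ∀ (w1 w2 v1 v2 : F),
      sgMat α β e w1 w2 * sgMat α β e v1 v2 = sgMat α β e (w1 + v1) (w2 + v2) :=
    fun e he1 he2 w1 w2 v1 v2 => Cfsg.Agent.Helper48.OmBN.sgMat_mul e he1 he2 w1 w2 v1 v2
  obtain ⟨h, hh⟩ := Cfsg.Agent.Helper5.OmBN.Pair.hasRot (m := m) (α := α) (β := β) _ _ hN1
  obtain ⟨y, hy⟩ := hasSG (α := α) (β := β) e he1 he2 u1 u2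
  have hx : g = h * y * h⁻¹ * y⁻¹ := by
    apply mat_injective
    rw [mat_mul, mat_mul, mat_mul, hh, hy,
      Cfsg.Agent.Helper69.OmBN.rotMat_mul_sgMat _ _ hN1 _ he1 he2, ← hh,
      Matrix.mul_assoc (sgMat _ _ _ _ _), mul_inv_mat, Matrix.mul_one,
      Cfsg.Agent.Helper70.OmBN.omv_mat_inv hSM _ he1 he2 u1 u2 y hy, hSM _ he1 he2, hu1, hu2, hw]
  rw [hx, ← commutatorElement_def]
  exact Subgroup.commutator_mem_commutator (Subgroup.mem_top _) (Subgroup.mem_top _)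

/-- the positive root elements are in the commutator subgroup -/
theorem rootSet_subset_commutator (hab : ∀ z₁ z₂ : F, Nf α β z₁ z₂ = 0 → z₁ = 0 ∧ z₂ = 0)
    (hdisc : 4 * β - α ^ 2 ≠ 0) :
    RootSet m α β ⊆ ((commutator (OG m α β) : Subgroup (OG m α β)) : Set (OG m α β)) := by
  intro g hg
  rcases hg with h | ⟨i, w1, w2, hw⟩
  · exact xElt_mem_commutator hdisc g h.isXElt
  · exact sg_mem_commutator hab hdisc (lo i) (lo_ne_c1 i) (lo_ne_c2 i) w1 w2 g hw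

end Cfsg.Agent.Helper13.SqOM
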