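import Mathlib
import Cfsg.Prelude.Def_Classical
import Cfsg.Agent.Helper13.SqOMDefs
import Cfsg.Agent.Helper13.SqOMComm
import Cfsg.Agent.Helper51.SqComm
import Cfsg.Agent.Helper5.OmBN.Syl
import Cfsg.Agent.Helper33.SqOMRU
import Cfsg.Agent.Helper33.SqOMRSQ
import Cfsg.Agent.Helper29.SqOMADJ0
import Cfsg.Agent.Helper29.SqOMADJ1
import Cfsg.Agent.Helper72.SqOMSTEPX
import Cfsg.Agent.Helper34.SqOMROWSG
import Cfsg.Agent.Helper34.SqOMFIN

/-!
# (OM) piece of S4625 (helper51): the Sylow 2-subgroups of `PΩ⁻_{2m}(2^a)` are `SqComm`  (helper13)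

On top of helper5's `OmBN` model: `Usub = closure RootSet` (row reduction; pieces (RU) helper33, (ADJ0), (ADJ1)
helper29, (STEPX) helper72, (ROWSG), (FIN) helper34), the root elements are involutions in characteristic 2
((RSQ) helper33) and lie in the commutator subgroup (`SqOMComm`), and `Usub` has the order of a Sylow
2-subgroup of `G1 ⊇ commutator` (helper5's `Syl`).
-/

set_option autoImplicit false

namespace Cfsg.Agent.Helper13.SqOM.Asm

open Matrix Cfsg Cfsg.Agent.Helper5.OmBN Cfsg.Agent.Helper13.SqOM Cfsg.Agent.Helper51.SQ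

variable {F : Type*} [Field F] {m : ℕ} {α β : F}

/-! ### the pieces -/

theorem rootSet_subset_Usub : RootSet m α β ⊆ (Usub m α β : Set (OG m α β)) :=
  Cfsg.Agent.Helper33.SqOM.rootSet_subset_Usub

theorem rootSet_sq [CharP F 2] (g : OG m α β) (hg : g ∈ RootSet m α β) : g * g = 1 :=
  Cfsg.Agent.Helper33.SqOM.rootSet_sq g hg

theorem colId_rev_of_rowId (hdisc : 4 * β - α ^ 2 ≠ 0) (g : OG m α β) (a : Fin (2 * m + 2))
    (ha1 : a ≠ c1) (ha2 : a ≠ c2) (h : RowId g a) : ColId g (Fin.rev a) :=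
  Cfsg.Agent.Helper29.SqOM.colId_rev_of_rowId hdisc g a ha1 ha2 h

theorem apply_rev_eq_zero (hdisc : 4 * β - α ^ 2 ≠ 0) (g : OG m α β) (a : Fin (2 * m + 2))
    (ha1 : a ≠ c1) (ha2 : a ≠ c2)
    (h0 : ∀ s : Fin (2 * m + 2), s ≠ a → s ≠ Fin.rev a → mat g a s = 0)
    (h1 : mat g a a = 1) : mat g a (Fin.rev a) = 0 :=
  Cfsg.Agent.Helper29.SqOM.apply_rev_eq_zero hdisc g a ha1 ha2 h0 h1

theorem clear_entry
    (hadj : ∀ (g' : OG m α β) (a : Fin (2 * m + 2)), a ≠ c1 → a ≠ c2 → RowId g' a →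
      ColId g' (Fin.rev a))
    (g : OG m α β) (hg : g ∈ Usub m α β) (j : Fin m)
    (hrows : ∀ i : Fin m, i.val < j.val → RowId g (lo i))
    (s : Fin (2 * m + 2)) (hs1 : s ≠ c1) (hs2 : s ≠ c2) (hsj : s ≠ lo j) (hsj' : s ≠ hi j) :
    ∃ y ∈ Subgroup.closure (RootSet m α β),
      (∀ i : Fin m, i.val < j.val → RowId (g * y) (lo i)) ∧ mat (g * y) (lo j) s = 0 ∧
      ∀ s' : Fin (2 * m + 2), s' ≠ s → s' ≠ hi j → mat (g * y) (lo j) s' = mat g (lo j) s' :=
  Cfsg.Agent.Helper72.SqOM.clear_entry hadj g hg j hrows s hs1 hs2 hsj hsj'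

theorem clear_row_mid (hdisc : 4 * β - α ^ 2 ≠ 0) (g : OG m α β) (hg : g ∈ Usub m α β) (j : Fin m)
    (hrows : ∀ i : Fin m, i.val < j.val → RowId g (lo i))
    (hout : ∀ s : Fin (2 * m + 2), s ≠ c1 → s ≠ c2 → s ≠ lo j → s ≠ hi j → mat g (lo j) s = 0) :
    ∃ y ∈ RootSet m α β, (∀ i : Fin m, i.val < j.val → RowId (g * y) (lo i)) ∧
      ∀ s : Fin (2 * m + 2), s ≠ lo j → s ≠ hi j → mat (g * y) (lo j) s = 0 :=
  Cfsg.Agent.Helper34.SqOM.clear_row_mid hdisc g hg j hrows hout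

theorem eq_one_of_rowId
    (hadj : ∀ (g' : OG m α β) (a : Fin (2 * m + 2)), a ≠ c1 → a ≠ c2 → RowId g' a →
      ColId g' (Fin.rev a))
    (g : OG m α β) (hg : g ∈ Usub m α β) (h : ∀ i : Fin m, RowId g (lo i)) : g = 1 :=
  Cfsg.Agent.Helper34.SqOM.eq_one_of_rowId hadj g hg h

/-! ### assembly -/

theorem closure_le_Usub : Subgroup.closure (RootSet m α β) ≤ Usub m α β :=
  (Subgroup.closure_le _).2 rootSet_subset_Usub

theorem hadj' (hdisc : 4 * β - α ^ 2 ≠ 0) :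
    ∀ (g' : OG m α β) (a : Fin (2 * m + 2)), a ≠ c1 → a ≠ c2 → RowId g' a → ColId g' (Fin.rev a) :=
  fun g' a ha1 ha2 h => colId_rev_of_rowId hdisc g' a ha1 ha2 h

/-- clearing the outer entries of the row `lo j` in the columns of a finite set -/
theorem clear_row_outer_finset (hdisc : 4 * β - α ^ 2 ≠ 0) (g : OG m α β) (hg : g ∈ Usub m α β)
    (j : Fin m) (hrows : ∀ i : Fin m, i.val < j.val → RowId g (lo i))
    (S : Finset (Fin (2 * m + 2))) :
    ∃ y ∈ Subgroup.closure (RootSet m α β),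
      (∀ i : Fin m, i.val < j.val → RowId (g * y) (lo i)) ∧
      ∀ s ∈ S, s ≠ c1 → s ≠ c2 → s ≠ lo j → s ≠ hi j → mat (g * y) (lo j) s = 0 := by
  classical
  induction S using Finset.induction_on with
  | empty =>
    refine ⟨1, Subgroup.one_mem _, ?_, ?_⟩
    · rw [mul_one]; exact hrows
    · intro s hs; exact absurd hs (Finset.notMem_empty s)
  | insert s S hsS ih =>
    obtain ⟨y₁, hy₁, hr₁, hz₁⟩ := ih
    by_cases hbad : s ≠ c1 ∧ s ≠ c2 ∧ s ≠ lo j ∧ s ≠ hi j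
    · obtain ⟨hs1, hs2, hsj, hsj'⟩ := hbad
      have hg₁ : g * y₁ ∈ Usub m α β := (Usub m α β).mul_mem hg (closure_le_Usub hy₁)
      obtain ⟨y₂, hy₂, hr₂, hz₂, hsame⟩ :=
        clear_entry (hadj' hdisc) (g * y₁) hg₁ j hr₁ s hs1 hs2 hsj hsj'
      refine ⟨y₁ * y₂, (Subgroup.closure _).mul_mem hy₁ hy₂, ?_, ?_⟩
      · rw [← mul_assoc]; exact hr₂
      · rw [← mul_assoc]
        intro s' hs' h1 h2 h3 h4
        rcases Finset.mem_insert.1 hs' with rfl | hs'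
        · exact hz₂
        · have hne : s' ≠ s := fun h => hsS (h ▸ hs')
          rw [hsame s' hne h4]
          exact hz₁ s' hs' h1 h2 h3 h4
    · refine ⟨y₁, hy₁, hr₁, ?_⟩
      intro s' hs' h1 h2 h3 h4
      rcases Finset.mem_insert.1 hs' with rfl | hs'
      · exact absurd ⟨h1, h2, h3, h4⟩ hbad
      · exact hz₁ s' hs' h1 h2 h3 h4

/-- clearing the outer entries of the row `lo j` -/
theorem clear_row_outer (hdisc : 4 * β - α ^ 2 ≠ 0) (g : OG m α β) (hg : g ∈ Usub m α β) (j : Fin m)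
    (hrows : ∀ i : Fin m, i.val < j.val → RowId g (lo i)) :
    ∃ y ∈ Subgroup.closure (RootSet m α β),
      (∀ i : Fin m, i.val < j.val → RowId (g * y) (lo i)) ∧
      ∀ s : Fin (2 * m + 2), s ≠ c1 → s ≠ c2 → s ≠ lo j → s ≠ hi j → mat (g * y) (lo j) s = 0 := by
  obtain ⟨y, hy, hr, hz⟩ := clear_row_outer_finset hdisc g hg j hrows Finset.univ
  exact ⟨y, hy, hr, fun s => hz s (Finset.mem_univ s)⟩

/-- one row -/
theorem clear_row (hdisc : 4 * β - α ^ 2 ≠ 0) (g : OG m α β) (hg : g ∈ Usub m α β) (j : Fin m)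
    (hrows : ∀ i : Fin m, i.val < j.val → RowId g (lo i)) :
    ∃ y ∈ Subgroup.closure (RootSet m α β), ∀ i : Fin m, i.val ≤ j.val → RowId (g * y) (lo i) := by
  obtain ⟨y₁, hy₁, hr₁, hz₁⟩ := clear_row_outer hdisc g hg j hrows
  have hg₁ : g * y₁ ∈ Usub m α β := (Usub m α β).mul_mem hg (closure_le_Usub hy₁)
  obtain ⟨y₂, hy₂, hr₂, hz₂⟩ := clear_row_mid hdisc (g * y₁) hg₁ j hr₁ hz₁
  have hy₂' : y₂ ∈ Subgroup.closure (RootSet m α β) := Subgroup.subset_closure hy₂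
  have hg₂ : g * y₁ * y₂ ∈ Usub m α β := (Usub m α β).mul_mem hg₁ (closure_le_Usub hy₂')
  refine ⟨y₁ * y₂, (Subgroup.closure _).mul_mem hy₁ hy₂', ?_⟩
  rw [← mul_assoc]
  intro i hile
  rcases Nat.lt_or_ge i.val j.val with h | h
  · exact hr₂ i h
  · have hij : i = j := Fin.ext (by omega)
    rw [hij]
    have hdiag : mat (g * y₁ * y₂) (lo j) (lo j) = 1 := by
      rw [((mem_Usub_iff _).1 hg₂).2 (lo j) (lo j) rfl, if_pos rfl]
    have hrev : Fin.rev (lo j) = hi j := rev_lo j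
    have hz : mat (g * y₁ * y₂) (lo j) (Fin.rev (lo j)) = 0 := by
      apply apply_rev_eq_zero hdisc _ (lo j) (lo_ne_c1 j) (lo_ne_c2 j) _ hdiag
      intro s hs1 hs2
      rw [hrev] at hs2
      exact hz₂ s hs1 hs2
    intro s
    by_cases hs : s = lo j
    · rw [hs, if_pos rfl]; exact hdiag
    · rw [if_neg hs]
      by_cases hs' : s = hi j
      · rw [hs', ← hrev]; exact hz
      · exact hz₂ s hs hs'

/-- all rows -/
theorem clear_rows (hdisc : 4 * β - α ^ 2 ≠ 0) (g : OG m α β) (hg : g ∈ Usub m α β) (k : ℕ)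
    (hk : k ≤ m) :
    ∃ y ∈ Subgroup.closure (RootSet m α β), ∀ i : Fin m, i.val < k → RowId (g * y) (lo i) := by
  induction k with
  | zero => exact ⟨1, Subgroup.one_mem _, fun i hi0 => absurd hi0 (Nat.not_lt_zero _)⟩
  | succ k ih =>
    obtain ⟨y, hy, hr⟩ := ih (by omega)
    have hgy : g * y ∈ Usub m α β := (Usub m α β).mul_mem hg (closure_le_Usub hy)
    obtain ⟨y', hy', hr'⟩ := clear_row hdisc (g * y) hgy ⟨k, by omega⟩ (fun i hik => hr i hik)
    refine ⟨y * y', (Subgroup.closure _).mul_mem hy hy', ?_⟩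
    rw [← mul_assoc]
    intro i hik
    exact hr' i (by show i.val ≤ k; omega)

/-- (GENU) -/
theorem Usub_le_closure (hdisc : 4 * β - α ^ 2 ≠ 0) :
    Usub m α β ≤ Subgroup.closure (RootSet m α β) := by
  intro g hg
  obtain ⟨y, hy, hr⟩ := clear_rows hdisc g hg m le_rfl
  have hgy : g * y ∈ Usub m α β := (Usub m α β).mul_mem hg (closure_le_Usub hy)
  have h1 : g * y = 1 := eq_one_of_rowId (hadj' hdisc) (g * y) hgy (fun i => hr i i.2)
  have : g = y⁻¹ := eq_inv_of_mul_eq_one_left h1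
  rw [this]
  exact (Subgroup.closure _).inv_mem hy

theorem closure_rootSet_eq (hdisc : 4 * β - α ^ 2 ≠ 0) :
    Subgroup.closure (RootSet m α β) = Usub m α β :=
  le_antisymm closure_le_Usub (Usub_le_closure hdisc)

theorem sqComm_Usub [CharP F 2] (hdisc : 4 * β - α ^ 2 ≠ 0) : SqComm ↥(Usub m α β) :=
  sqComm_of_closure_involutions (Usub m α β) (RootSet m α β) (closure_rootSet_eq hdisc)
    (fun y hy => by rw [pow_two]; exact rootSet_sq y hy)

theorem Usub_le_commutator (hab : ∀ z₁ z₂ : F, Nf α β z₁ z₂ = 0 → z₁ = 0 ∧ z₂ = 0)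
    (hdisc : 4 * β - α ^ 2 ≠ 0) :
    Usub m α β ≤ commutator (OG m α β) := by
  rw [← closure_rootSet_eq hdisc, Subgroup.closure_le]
  exact rootSet_subset_commutator hab hdisc

section fin

variable [Fintype F] [CharP F 2]

theorem sq_commutator (hab : ∀ z₁ z₂ : F, Nf α β z₁ z₂ = 0 → z₁ = 0 ∧ z₂ = 0)
    (P : Sylow 2 ↥(commutator (OG m α β))) :
    SqComm ↥(P : Subgroup ↥(commutator (OG m α β))) := by
  classical
  have : Fact (Nat.Prime 2) := ⟨Nat.prime_two⟩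
  have hdisc : 4 * β - α ^ 2 ≠ 0 := Cfsg.Agent.Helper32.OmBN.disc_ne_zero hab
  have hUΩ : Usub m α β ≤ commutator (OG m α β) := Usub_le_commutator hab hdisc
  have hΩG : commutator (OG m α β) ≤ G1 m α β :=
    Cfsg.Agent.Helper5.OmBN.Syl.commutator_le_G1' hab
  -- the order of `Usub`
  obtain ⟨Q⟩ : Nonempty (Sylow 2 ↥(G1 m α β)) := inferInstance
  have hcardU : Nat.card (Usub m α β) = 2 ^ (Nat.card ↥(G1 m α β)).factorization 2 := by
    rw [← Cfsg.Agent.Helper5.OmBN.Syl.card_sylow_G1 hab 2 Q, Sylow.card_eq_multiplicity]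
  set U' : Subgroup ↥(commutator (OG m α β)) := (Usub m α β).subgroupOf (commutator (OG m α β))
    with hU'
  have e : ↥U' ≃* ↥(Usub m α β) := Subgroup.subgroupOfEquivOfLe hUΩ
  have hcardU' : Nat.card U' = 2 ^ (Nat.card ↥(G1 m α β)).factorization 2 := by
    rw [Nat.card_congr e.toEquiv, hcardU]
  have hdvd1 : Nat.card ↥(commutator (OG m α β)) ∣ Nat.card ↥(G1 m α β) :=
    Subgroup.card_dvd_of_le hΩG
  have hdvd2 : 2 ^ (Nat.card ↥(G1 m α β)).factorization 2 ∣ Nat.card ↥(commutator (OG m α β)) := by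
    rw [← hcardU']
    exact Subgroup.card_subgroup_dvd_card U'
  have hpos1 : Nat.card ↥(commutator (OG m α β)) ≠ 0 := Nat.card_pos.ne'
  have hpos2 : Nat.card ↥(G1 m α β) ≠ 0 := Nat.card_pos.ne'
  have hfac : (Nat.card ↥(commutator (OG m α β))).factorization 2 =
      (Nat.card ↥(G1 m α β)).factorization 2 := by
    apply le_antisymm
    · exact (Nat.factorization_le_iff_dvd hpos1 hpos2).2 hdvd1 2
    · exact (Nat.Prime.pow_dvd_iff_le_factorization Nat.prime_two hpos1).1 hdvd2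
  have hSq : SqComm ↥U' := (sqComm_Usub hdisc).of_mulEquiv e.symm
  exact sylow_all_of_card U' (by rw [hcardU', hfac]) hSq P

end fin

end Cfsg.Agent.Helper13.SqOM.Asm

namespace Cfsg.Agent.Helper13.SqOM

open Cfsg Cfsg.Agent.Helper5.OmBN Cfsg.Agent.Helper51.SQ

/-- (OM) -/
theorem sq_POmegaMinus {F : Type*} [Field F] [Fintype F] [CharP F 2] (m : ℕ) (hm : 4 ≤ m)
    (a b : F) (hab : ∀ z₁ z₂ : F, z₁ ^ 2 + a * z₁ * z₂ + b * z₂ ^ 2 = 0 → z₁ = 0 ∧ z₂ = 0)
    (P : Sylow 2 (POmega F (quadFormMinus (m - 1) F a b))) :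
    SqComm (P : Subgroup (POmega F (quadFormMinus (m - 1) F a b))) := by
  classical
  have _ := hm
  have : Fact (Nat.Prime 2) := ⟨Nat.prime_two⟩
  obtain ⟨e₀⟩ := Cfsg.Agent.Helper32.OmBN.nonempty_mulEquiv_isometry (F := F) (m - 1) a b
  have hab' : ∀ z₁ z₂ : F, Nf a b z₁ z₂ = 0 → z₁ = 0 ∧ z₂ = 0 := hab
  have h1 : ∀ P' : Sylow 2 ↥(Omega F (quadFormMinus (m - 1) F a b)),
      SqComm (P' : Subgroup ↥(Omega F (quadFormMinus (m - 1) F a b))) :=
    fun P' => sylow_all_of_mulEquiv (Cfsg.Agent.Helper12.GF.commCongr e₀)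
      (fun P'' => Asm.sq_commutator (m := m - 1) hab' P'') P'
  exact sylow_all_of_surjective
    (QuotientGroup.mk' (Subgroup.center (Omega F (quadFormMinus (m - 1) F a b))))
    (QuotientGroup.mk'_surjective _) h1 P

end Cfsg.Agent.Helper13.SqOM
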