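import Mathlib
import Cfsg.Agent.Helper43.InvConj
import Cfsg.Agent.Helper13.SubInvC

/-!
# Involutions of `PSL_n(q)`, `q` odd, with square scalar (S5964)
-/

set_option autoImplicit false

namespace Cfsg.Agent.Helper13.SubInv

open Matrix Cfsg Cfsg.Geo

variable {F : Type*} [Field F] {n : ℕ}

/-- `diag(-1,…,-1,1,…,1)` with `t` entries `-1` -/
def dmat (n t : ℕ) (F : Type*) [Field F] : Matrix (Fin n) (Fin n) F :=
  Matrix.diagonal (fun i : Fin n => if (i : ℕ) < t then (-1 : F) else 1)

theorem dmat_mul_self (t : ℕ) : dmat n t F * dmat n t F = 1 := by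
  unfold dmat
  rw [Matrix.diagonal_mul_diagonal, ← Matrix.diagonal_one]
  congr 1
  ext i
  split_ifs <;> simp

theorem rank_dmat_sub_one (h2 : (2 : F) ≠ 0) (t : ℕ) (ht : t ≤ n) : (dmat n t F - 1).rank = t := by
  classical
  have h1 : dmat n t F - 1 =
      Matrix.diagonal (fun i : Fin n => if (i : ℕ) < t then (-2 : F) else 0) := by
    unfold dmat
    rw [← Matrix.diagonal_one, Matrix.diagonal_sub]
    congr 1
    ext i
    split_ifs <;> norm_num
  rw [h1, Matrix.rank_diagonal, Fintype.card_subtype]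
  have h3 : (Finset.univ.filter (fun i : Fin n => (if (i : ℕ) < t then (-2 : F) else 0) ≠ 0))
      = Finset.univ.filter (fun i : Fin n => (i : ℕ) < t) := by
    apply Finset.filter_congr
    intro i _
    split_ifs with h <;> simp [h, h2]
  rw [h3, Fin.card_filter_val_lt, min_eq_right ht]

/-- every involution of `GL_n(F)` (`2 ≠ 0`) is conjugate to some `dmat` by a matrix of
determinant one -/
theorem exists_conj_dmat (h2 : (2 : F) ≠ 0) (hn : 0 < n) (Y : Matrix (Fin n) (Fin n) F)
    (hY : Y * Y = 1) :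
    ∃ (t : ℕ) (P : GL (Fin n) F), P.val.det = 1 ∧
      (P⁻¹ : GL (Fin n) F).val * Y * P.val = dmat n t F := by
  classical
  set y : GL (Fin n) F := ⟨Y, Y, hY, hY⟩ with hy
  set t := (Y - 1).rank with ht
  have htn : t ≤ n := by
    have := Matrix.rank_le_width (Y - 1)
    simpa using this
  set D : GL (Fin n) F := ⟨dmat n t F, dmat n t F, dmat_mul_self t, dmat_mul_self t⟩ with hD
  have hconj : IsConj y D := by
    apply Cfsg.Agent.Helper43.Inv.isConj_of_invol h2 y D hY (dmat_mul_self t)
    show (Y - 1).rank = (dmat n t F - 1).rank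
    rw [rank_dmat_sub_one h2 t htn]
  rw [isConj_iff] at hconj
  obtain ⟨c, hc⟩ := hconj
  -- a diagonal matrix of determinant `det c`
  set δ : F := c.val.det with hδ
  have hδ0 : δ ≠ 0 := by
    have := (Matrix.GeneralLinearGroup.det c).ne_zero
    simpa using this
  set i₀ : Fin n := ⟨0, hn⟩
  set ev : Fin n → F := Function.update (fun _ => (1 : F)) i₀ δ with hev
  set ev' : Fin n → F := Function.update (fun _ => (1 : F)) i₀ δ⁻¹ with hev'
  have hee' : ∀ i, ev i * ev' i = 1 := by
    intro i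
    by_cases hi : i = i₀
    · rw [hi, hev, hev', Function.update_self, Function.update_self, mul_inv_cancel₀ hδ0]
    · rw [hev, hev', Function.update_of_ne hi, Function.update_of_ne hi, mul_one]
  have he1 : Matrix.diagonal ev * Matrix.diagonal ev' = 1 := by
    rw [Matrix.diagonal_mul_diagonal, ← Matrix.diagonal_one]
    congr 1
    ext i
    exact hee' i
  have he2 : Matrix.diagonal ev' * Matrix.diagonal ev = 1 := by
    rw [Matrix.diagonal_mul_diagonal, ← Matrix.diagonal_one]
    congr 1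
    ext i
    rw [mul_comm]; exact hee' i
  set e : GL (Fin n) F := ⟨Matrix.diagonal ev, Matrix.diagonal ev', he1, he2⟩ with he
  have hedet : e.val.det = δ := by
    show (Matrix.diagonal ev).det = δ
    rw [Matrix.det_diagonal, hev, Finset.prod_update_of_mem (Finset.mem_univ _)]
    simp
  have hecomm : e * D = D * e := by
    apply Units.ext
    show Matrix.diagonal ev * dmat n t F = dmat n t F * Matrix.diagonal ev
    unfold dmat
    rw [Matrix.diagonal_mul_diagonal, Matrix.diagonal_mul_diagonal]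
    congr 1
    ext i
    rw [mul_comm]
  refine ⟨t, c⁻¹ * e, ?_, ?_⟩
  · rw [Units.val_mul, Matrix.det_mul, hedet]
    have h1 : (c⁻¹ : GL (Fin n) F).val.det * c.val.det = 1 := by
      rw [← Matrix.det_mul, ← Units.val_mul, inv_mul_cancel]; simp
    rw [← hδ] at h1
    exact h1
  · have h1 : (c⁻¹ * e)⁻¹ * y * (c⁻¹ * e) = D := by
      have : (c⁻¹ * e)⁻¹ * y * (c⁻¹ * e) = e⁻¹ * (c * y * c⁻¹) * e := by group
      rw [this, hc, mul_assoc, ← hecomm, ← mul_assoc, inv_mul_cancel, one_mul]
    have h2' := congrArg Units.val h1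
    rw [Units.val_mul, Units.val_mul] at h2'
    exact h2'

/-- In odd characteristic an element of `SL_n(F)` whose square is the scalar `w²` is conjugate
into the subfield subgroup. -/
theorem conj_square_odd (h2 : (2 : F) ≠ 0) (F₀ : Subfield F) (hn : 0 < n)
    (x : Matrix.SpecialLinearGroup (Fin n) F) (w : F)
    (hx : ((x ^ 2 : Matrix.SpecialLinearGroup (Fin n) F) : Matrix (Fin n) (Fin n) F) =
      (w * w) • (1 : Matrix (Fin n) (Fin n) F)) :
    ∃ P : Matrix.SpecialLinearGroup (Fin n) F, P⁻¹ * x * P ∈ subH n F₀ := by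
  classical
  have hz0 : w * w ≠ 0 := scalar_ne_zero hn x 2 _ hx
  have hw0 : w ≠ 0 := fun h => hz0 (by rw [h, mul_zero])
  set X : Matrix (Fin n) (Fin n) F := (x : Matrix (Fin n) (Fin n) F) with hX
  have hXX : X * X = (w * w) • (1 : Matrix (Fin n) (Fin n) F) := by
    rw [← hx, pow_two, Matrix.SpecialLinearGroup.coe_mul]
  have hYY : (w⁻¹ • X) * (w⁻¹ • X) = 1 := by
    rw [Matrix.smul_mul, Matrix.mul_smul, smul_smul, hXX, smul_smul]
    have : w⁻¹ * w⁻¹ * (w * w) = 1 := by field_simp
    rw [this, one_smul]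
  obtain ⟨t, P, hPdet, hP⟩ := exists_conj_dmat h2 hn (w⁻¹ • X) hYY
  obtain ⟨P', hP'⟩ := exists_sl_of_det_one P hPdet
  refine ⟨P', ?_⟩
  apply mem_subH_of_entries F₀ _ w hw0
  intro i j
  rw [hP' x]
  have e3 : (P⁻¹ : GL (Fin n) F).val * X * P.val = w • dmat n t F := by
    rw [← hP, Matrix.mul_smul, Matrix.smul_mul, smul_smul, mul_inv_cancel₀ hw0, one_smul]
  rw [e3, Matrix.smul_apply, smul_eq_mul, mul_div_cancel_left₀ _ hw0]
  unfold dmat
  by_cases hij : i = j
  · rw [hij, Matrix.diagonal_apply_eq]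
    split_ifs
    · exact F₀.neg_mem F₀.one_mem
    · exact F₀.one_mem
  · rw [Matrix.diagonal_apply_ne _ hij]
    exact F₀.zero_mem

end Cfsg.Agent.Helper13.SubInv
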