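import Mathlib
import Cfsg.Agent.Helper59.ElusiveDet
import Cfsg.Agent.Helper13.SubInvD

/-!
# Involutions of `PSL_n(q)`, `q` odd, with non-square scalar (S5964)
-/

set_option autoImplicit false

namespace Cfsg.Agent.Helper13.SubInv

open Matrix Polynomial Cfsg Cfsg.Geo

variable {F : Type*} [Field F] {n : ℕ}

theorem irreducible_sq_sub (z : F) (hz : ∀ b : F, b * b ≠ z) :
    Irreducible (X ^ 2 - C z : F[X]) := by
  have hmonic : (X ^ 2 - C z : F[X]).Monic := monic_X_pow_sub_C z (by norm_num)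
  have hdeg : (X ^ 2 - C z : F[X]).natDegree = 2 := natDegree_X_pow_sub_C
  rw [Polynomial.Monic.irreducible_iff_roots_eq_zero_of_degree_le_three hmonic (by rw [hdeg])
    (by rw [hdeg]; norm_num)]
  rw [Multiset.eq_zero_iff_forall_notMem]
  intro b hb
  rw [mem_roots hmonic.ne_zero, IsRoot.def, eval_sub, eval_pow, eval_X, eval_C, sub_eq_zero] at hb
  exact hz b (by rw [← hb]; ring)

/-- the determinant of a matrix with non-square scalar square -/
theorem det_of_nonsquare (x : Matrix.SpecialLinearGroup (Fin n) F) (z : F)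
    (hz : ∀ b : F, b * b ≠ z)
    (hx : ((x ^ 2 : Matrix.SpecialLinearGroup (Fin n) F) : Matrix (Fin n) (Fin n) F) =
      z • (1 : Matrix (Fin n) (Fin n) F)) :
    ∃ d : ℕ, n = d * 2 ∧ (-z) ^ d = 1 := by
  set X' : Matrix (Fin n) (Fin n) F := (x : Matrix (Fin n) (Fin n) F) with hX'
  have hXX : X' * X' = z • (1 : Matrix (Fin n) (Fin n) F) := by
    rw [← hx, pow_two, Matrix.SpecialLinearGroup.coe_mul]
  set f : (Fin n → F) →ₗ[F] (Fin n → F) := Matrix.toLin' X' with hf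
  have hf2 : f ^ 2 = z • (1 : (Fin n → F) →ₗ[F] (Fin n → F)) := by
    rw [pow_two, hf, Module.End.mul_eq_comp, ← Matrix.toLin'_mul, hXX, map_smul, Matrix.toLin'_one]
    rfl
  obtain ⟨d, hd, hdet⟩ := Cfsg.Agent.Helper59.Elusive.det_of_pow_eq 2 (by norm_num) z
    (irreducible_sq_sub z hz) f hf2
  rw [Module.finrank_fin_fun] at hd
  refine ⟨d, hd, ?_⟩
  have h1 : LinearMap.det f = 1 := by
    rw [hf, LinearMap.det_toLin']
    exact x.2
  rw [h1] at hdet
  rw [hdet]
  congr 1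
  ring

theorem padicValNat_two_pow_mul_odd (k m : ℕ) (hm : Odd m) : padicValNat 2 (2 ^ k * m) = k := by
  have hm2 : ¬ 2 ∣ m := by
    rw [← even_iff_two_dvd, Nat.not_even_iff_odd]; exact hm
  rw [padicValNat.mul (pow_ne_zero _ (by norm_num)) hm.pos.ne', padicValNat.prime_pow,
    padicValNat.eq_zero_of_not_dvd hm2, add_zero]

theorem exists_odd_dvd (N d : ℕ) (hd : 0 < d) (hN : 0 < N)
    (hv : padicValNat 2 (2 * d) ≤ padicValNat 2 N) :
    ∃ d' : ℕ, Odd d' ∧ d ∣ (N / 2) * d' := by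
  obtain ⟨v, d', hd', rfl⟩ := Nat.exists_eq_two_pow_mul_odd hd.ne'
  obtain ⟨a, c, hc, rfl⟩ := Nat.exists_eq_two_pow_mul_odd hN.ne'
  have h1 : padicValNat 2 (2 * (2 ^ v * d')) = v + 1 := by
    have : 2 * (2 ^ v * d') = 2 ^ (v + 1) * d' := by ring
    rw [this, padicValNat_two_pow_mul_odd _ _ hd']
  rw [h1, padicValNat_two_pow_mul_odd _ _ hc] at hv
  refine ⟨d', hd', ?_⟩
  obtain ⟨a', rfl⟩ : ∃ a', a = a' + 1 := ⟨a - 1, by omega⟩
  have h2 : 2 ^ (a' + 1) * c / 2 = 2 ^ a' * c := by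
    have : 2 ^ (a' + 1) * c = 2 * (2 ^ a' * c) := by ring
    rw [this, Nat.mul_div_cancel_left _ (by norm_num)]
  rw [h2]
  obtain ⟨e, rfl⟩ : ∃ e, a' = v + e := ⟨a' - v, by omega⟩
  exact ⟨2 ^ e * c, by ring⟩

/-- In a field with `4 ∣ q - 1`, a non-square `z` with `(-z)^d = 1` forces
`v₂(2d) > v₂(q - 1)`. -/
theorem nonsquare_contra [Fintype F] (h2 : (2 : F) ≠ 0) (h4 : 4 ∣ Fintype.card F - 1) (d : ℕ)
    (hd : 0 < d) (hv : padicValNat 2 (2 * d) ≤ padicValNat 2 (Fintype.card F - 1)) (z : F)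
    (hz : ∀ b : F, b * b ≠ z) (hzd : (-z) ^ d = 1) : False := by
  have hz0 : z ≠ 0 := by
    intro h; exact hz 0 (by rw [h, mul_zero])
  have hcard : 1 < Fintype.card F := Fintype.one_lt_card
  obtain ⟨h', hh'⟩ := h4
  have hN : 0 < Fintype.card F - 1 := by omega
  have hhalf : (Fintype.card F - 1) / 2 = 2 * h' := by omega
  have hcard2 : Fintype.card F / 2 = 2 * h' := by omega
  have hrc : ringChar F ≠ 2 := by
    intro h
    have : CharP F 2 := by rw [← h]; exact ringChar.charP F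
    exact h2 (CharTwo.two_eq_zero)
  have hzh : z ^ (2 * h') ≠ 1 := by
    intro h
    have := (FiniteField.isSquare_iff hrc hz0).mpr (by rw [hcard2]; exact h)
    obtain ⟨r, hr⟩ := this
    exact hz r hr.symm
  have hzh2 : z ^ (2 * h') = -1 := by
    have h1 : (z ^ (2 * h')) ^ 2 = 1 := by
      rw [← pow_mul]
      have : 2 * h' * 2 = Fintype.card F - 1 := by omega
      rw [this]
      exact FiniteField.pow_card_sub_one_eq_one z hz0
    have h3 : (z ^ (2 * h') - 1) * (z ^ (2 * h') + 1) = 0 := by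
      have : (z ^ (2 * h') - 1) * (z ^ (2 * h') + 1) = (z ^ (2 * h')) ^ 2 - 1 := by ring
      rw [this, h1, sub_self]
    rcases mul_eq_zero.mp h3 with h | h
    · exact absurd (sub_eq_zero.mp h) hzh
    · exact eq_neg_of_add_eq_zero_left h
  obtain ⟨d', hd', hdvd⟩ := exists_odd_dvd _ d hd hN hv
  rw [hhalf] at hdvd
  obtain ⟨e, he⟩ := hdvd
  have h5 : (-z) ^ (2 * h' * d') = 1 := by
    rw [he, pow_mul, hzd, one_pow]
  have h6 : (-z) ^ (2 * h' * d') = -1 := by
    rw [pow_mul, neg_pow, hzh2, pow_mul, neg_one_sq, one_pow, one_mul, hd'.neg_one_pow]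
  rw [h5] at h6
  have : (2 : F) = 0 := by
    have h7 : (1 : F) + 1 = 0 := by
      nth_rewrite 1 [h6]; ring
    rw [← h7]; norm_num
  exact h2 this

end Cfsg.Agent.Helper13.SubInv
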