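import Mathlib
import Cfsg.Agent.Helper13.SubInvE

/-!
# Involutions with non-square scalar that are not conjugate into the subfield subgroup (S5964)
-/

set_option autoImplicit false

namespace Cfsg.Agent.Helper13.SubInv

open Matrix Cfsg Cfsg.Geo

variable {F : Type*} [Field F] {n : ℕ}

/-- the `2 × 2` block `[[0, z], [1, 0]]` -/
def qblk (z : F) : Matrix (Fin 2) (Fin 2) F := !![0, z; 1, 0]

theorem qblk_mul_self (z : F) : qblk z * qblk z = z • (1 : Matrix (Fin 2) (Fin 2) F) := by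
  unfold qblk
  ext i j
  fin_cases i <;> fin_cases j <;> simp [Matrix.mul_apply, Fin.sum_univ_two]

theorem det_qblk (z : F) : (qblk z).det = -z := by
  unfold qblk
  rw [Matrix.det_fin_two_of]
  ring

/-- the block-diagonal matrix with `d` blocks `qblk z` -/
noncomputable def qmat (d : ℕ) (z : F) : Matrix (Fin (2 * d)) (Fin (2 * d)) F :=
  Matrix.reindex finProdFinEquiv finProdFinEquiv (Matrix.blockDiagonal (fun _ : Fin d => qblk z))

theorem qmat_mul_self (d : ℕ) (z : F) :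
    qmat d z * qmat d z = z • (1 : Matrix (Fin (2 * d)) (Fin (2 * d)) F) := by
  unfold qmat
  rw [Matrix.reindex_apply, Matrix.submatrix_mul_equiv, ← Matrix.blockDiagonal_mul]
  have h1 : (fun k : Fin d => qblk z * qblk z) =
      fun _ : Fin d => z • (1 : Matrix (Fin 2) (Fin 2) F) := by
    funext k; exact qblk_mul_self z
  rw [h1]
  have h2 : Matrix.blockDiagonal (fun _ : Fin d => z • (1 : Matrix (Fin 2) (Fin 2) F)) =
      z • (1 : Matrix (Fin 2 × Fin d) (Fin 2 × Fin d) F) := by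
    have : (fun _ : Fin d => z • (1 : Matrix (Fin 2) (Fin 2) F)) =
        z • (1 : Fin d → Matrix (Fin 2) (Fin 2) F) := by
      funext k; rfl
    rw [this, Matrix.blockDiagonal_smul, Matrix.blockDiagonal_one]
  rw [h2]
  ext i j
  rw [Matrix.submatrix_apply, Matrix.smul_apply, Matrix.smul_apply, Matrix.one_apply,
    Matrix.one_apply]
  simp only [EmbeddingLike.apply_eq_iff_eq]

theorem det_qmat (d : ℕ) (z : F) : (qmat d z).det = (-z) ^ d := by
  unfold qmat
  rw [Matrix.det_reindex_self, Matrix.det_blockDiagonal]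
  simp [det_qblk]

/-- an element of `SL_{2d}(F)` with square `z` when `(-z)^d = 1` -/
theorem exists_quad_sl (d : ℕ) (z : F) (hzd : (-z) ^ d = 1) :
    ∃ x : Matrix.SpecialLinearGroup (Fin (2 * d)) F,
      ((x ^ 2 : Matrix.SpecialLinearGroup (Fin (2 * d)) F) :
        Matrix (Fin (2 * d)) (Fin (2 * d)) F) = z • (1 : Matrix (Fin (2 * d)) (Fin (2 * d)) F) := by
  set x : Matrix.SpecialLinearGroup (Fin (2 * d)) F := ⟨qmat d z, by rw [det_qmat, hzd]⟩ with hx
  refine ⟨x, ?_⟩
  rw [pow_two, Matrix.SpecialLinearGroup.coe_mul]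
  exact qmat_mul_self d z

/-- a non-square `z` with `(-z)^d = 1`, when `v₂(2d) > v₂(q - 1)` -/
theorem exists_nonsquare_pow [Fintype F] (h2 : (2 : F) ≠ 0) (d : ℕ) (hd : 0 < d)
    (hv : ¬ padicValNat 2 (2 * d) ≤ padicValNat 2 (Fintype.card F - 1)) :
    ∃ z : F, (∀ b : F, b * b ≠ z) ∧ (-z) ^ d = 1 := by
  classical
  have hcard : 1 < Fintype.card F := Fintype.one_lt_card
  have hN : 0 < Fintype.card F - 1 := by omega
  have hrc : ringChar F ≠ 2 := by
    intro h
    have : CharP F 2 := by rw [← h]; exact ringChar.charP F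
    exact h2 (CharTwo.two_eq_zero)
  have hodd : Fintype.card F % 2 = 1 := FiniteField.odd_card_of_char_ne_two hrc
  obtain ⟨a, c, hc, hac⟩ := Nat.exists_eq_two_pow_mul_odd hN.ne'
  have ha1 : 1 ≤ a := by
    by_contra h
    have : a = 0 := by omega
    rw [this, pow_zero, one_mul] at hac
    obtain ⟨t, ht⟩ := hc
    omega
  obtain ⟨v, d', hd', rfl⟩ := Nat.exists_eq_two_pow_mul_odd hd.ne'
  have h1 : padicValNat 2 (2 * (2 ^ v * d')) = v + 1 := by
    have : 2 * (2 ^ v * d') = 2 ^ (v + 1) * d' := by ring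
    rw [this, padicValNat_two_pow_mul_odd _ _ hd']
  rw [h1, hac, padicValNat_two_pow_mul_odd _ _ hc] at hv
  have hva : a ≤ v := by omega
  -- an element of order `2^a`
  obtain ⟨g, hg⟩ := IsCyclic.exists_ofOrder_eq_natCard (α := Fˣ)
  have hg' : orderOf g = 2 ^ a * c := by
    rw [hg, Nat.card_units, Nat.card_eq_fintype_card, hac]
  have hu : orderOf (g ^ c) = 2 ^ a := by
    rw [orderOf_pow_of_dvd hc.pos.ne' (by rw [hg']; exact Dvd.intro_left _ rfl), hg',
      Nat.mul_div_cancel _ hc.pos]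
  set z : F := ((g ^ c : Fˣ) : F) with hz
  have hzo : orderOf z = 2 ^ a := by rw [hz, orderOf_units, hu]
  have hz0 : z ≠ 0 := (g ^ c).ne_zero
  refine ⟨z, ?_, ?_⟩
  · intro b hb
    have hb0 : b ≠ 0 := by
      intro h; rw [h, mul_zero] at hb; exact hz0 hb.symm
    have h3 : z ^ (2 ^ (a - 1) * c) = 1 := by
      rw [← hb, ← pow_two, ← pow_mul]
      have : 2 * (2 ^ (a - 1) * c) = Fintype.card F - 1 := by
        rw [hac]
        obtain ⟨a', rfl⟩ : ∃ a', a = a' + 1 := ⟨a - 1, by omega⟩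
        rw [Nat.add_sub_cancel]; ring
      rw [this]
      exact FiniteField.pow_card_sub_one_eq_one b hb0
    have h4 := orderOf_dvd_of_pow_eq_one h3
    rw [hzo] at h4
    obtain ⟨a', rfl⟩ : ∃ a', a = a' + 1 := ⟨a - 1, by omega⟩
    rw [Nat.add_sub_cancel, pow_succ] at h4
    have h5 : 2 ∣ c := by
      have := (Nat.mul_dvd_mul_iff_left (pow_pos (by norm_num : 0 < 2) a')).mp h4
      exact this
    obtain ⟨t, ht⟩ := hc
    omega
  · have h3 : (-z) ^ (2 ^ a) = 1 := by
      rw [neg_pow, ← hzo, pow_orderOf_eq_one, mul_one, hzo]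
      apply Even.neg_one_pow
      exact (Nat.even_pow.mpr ⟨even_two, by omega⟩)
    obtain ⟨e, rfl⟩ : ∃ e, v = a + e := ⟨v - a, by omega⟩
    rw [pow_add, mul_assoc, pow_mul, h3, one_pow]

/-- for `|F| = q₀²` odd, every element of the subfield with `q₀` elements is a square in `F` -/
theorem isSquare_of_mem_sub [Fintype F] (h2 : (2 : F) ≠ 0) (F₀ : Subfield F) (q₀ : ℕ)
    (hF₀ : Nat.card ↥F₀ = q₀) (hq : Fintype.card F = q₀ ^ 2) (a : F) (ha : a ∈ F₀) :
    ∃ b : F, b * b = a := by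
  classical
  by_cases ha0 : a = 0
  · exact ⟨0, by rw [ha0, mul_zero]⟩
  have hrc : ringChar F ≠ 2 := by
    intro h
    have : CharP F 2 := by rw [← h]; exact ringChar.charP F
    exact h2 (CharTwo.two_eq_zero)
  have hodd : Fintype.card F % 2 = 1 := FiniteField.odd_card_of_char_ne_two hrc
  have hq₀odd : Odd q₀ := by
    rw [hq] at hodd
    have : Odd (q₀ ^ 2) := Nat.odd_iff.mpr hodd
    exact Nat.Odd.of_mul_right (by rw [← pow_two]; exact this)
  have : Fintype ↥F₀ := Fintype.ofFinite _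
  have hcF₀ : Fintype.card ↥F₀ = q₀ := by rw [← Nat.card_eq_fintype_card, hF₀]
  have h1 : a ^ (q₀ - 1) = 1 := by
    have h := FiniteField.pow_card_sub_one_eq_one (⟨a, ha⟩ : ↥F₀)
      (by intro h; exact ha0 (congrArg Subtype.val h))
    rw [hcF₀] at h
    have := congrArg (Subtype.val : ↥F₀ → F) h
    simpa using this
  obtain ⟨t, rfl⟩ := hq₀odd
  have hhalf : Fintype.card F / 2 = (2 * t + 1 - 1) * (t + 1) := by
    rw [hq]
    have : (2 * t + 1) ^ 2 = 2 * (2 * t * (t + 1)) + 1 := by ring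
    rw [this]
    have h3 : 2 * t + 1 - 1 = 2 * t := by omega
    rw [h3]
    generalize 2 * t * (t + 1) = m
    omega
  have h3 : IsSquare a := by
    rw [FiniteField.isSquare_iff hrc ha0, hhalf, pow_mul, h1, one_pow]
  obtain ⟨r, hr⟩ := h3
  exact ⟨r, hr.symm⟩

/-- An element with non-square scalar square is not conjugate into the subfield subgroup when
`|F| = q₀²`. -/
theorem not_conj_of_nonsquare [Fintype F] (h2 : (2 : F) ≠ 0) (F₀ : Subfield F) (q₀ : ℕ)
    (hF₀ : Nat.card ↥F₀ = q₀) (hq : Fintype.card F = q₀ ^ 2) (hn : 0 < n)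
    (x : Matrix.SpecialLinearGroup (Fin n) F) (z : F) (hz : ∀ b : F, b * b ≠ z)
    (hx : ((x ^ 2 : Matrix.SpecialLinearGroup (Fin n) F) : Matrix (Fin n) (Fin n) F) =
      z • (1 : Matrix (Fin n) (Fin n) F))
    (P : Matrix.SpecialLinearGroup (Fin n) F) (hP : P⁻¹ * x * P ∈ subH n F₀) : False := by
  classical
  obtain ⟨lam, hlam, hent⟩ := entries_of_mem_subH F₀ _ hP
  set Y : Matrix (Fin n) (Fin n) F :=
    ((P⁻¹ * x * P : Matrix.SpecialLinearGroup (Fin n) F) : Matrix (Fin n) (Fin n) F) with hY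
  have hYY : Y * Y = z • (1 : Matrix (Fin n) (Fin n) F) := by
    have e1 : (P⁻¹ * x * P) * (P⁻¹ * x * P) = P⁻¹ * x ^ 2 * P := by
      rw [pow_two]; group
    have e2 : Y * Y = ((P⁻¹ * x ^ 2 * P : Matrix.SpecialLinearGroup (Fin n) F) :
        Matrix (Fin n) (Fin n) F) := by
      rw [← e1, Matrix.SpecialLinearGroup.coe_mul]
    rw [e2, Matrix.SpecialLinearGroup.coe_mul, Matrix.SpecialLinearGroup.coe_mul, hx,
      Matrix.mul_smul, Matrix.smul_mul, mul_one]
    have : ((P⁻¹ : Matrix.SpecialLinearGroup (Fin n) F) : Matrix (Fin n) (Fin n) F) *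
        (P : Matrix (Fin n) (Fin n) F) = 1 := by
      rw [← Matrix.SpecialLinearGroup.coe_mul, inv_mul_cancel]; rfl
    rw [this]
  set i₀ : Fin n := ⟨0, hn⟩
  have h1 : ∑ j, Y i₀ j * Y j i₀ = z := by
    have := congrFun (congrFun hYY i₀) i₀
    rw [Matrix.mul_apply, Matrix.smul_apply, Matrix.one_apply_eq, smul_eq_mul, mul_one] at this
    exact this
  have h3 : z / (lam * lam) ∈ F₀ := by
    have : z / (lam * lam) = ∑ j, (Y i₀ j / lam) * (Y j i₀ / lam) := by
      rw [← h1, Finset.sum_div]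
      apply Finset.sum_congr rfl
      intro j _
      field_simp
    rw [this]
    exact F₀.sum_mem (fun j _ => F₀.mul_mem (hent i₀ j) (hent j i₀))
  obtain ⟨b, hb⟩ := isSquare_of_mem_sub h2 F₀ q₀ hF₀ hq _ h3
  apply hz (lam * b)
  have : lam * b * (lam * b) = lam * lam * (b * b) := by ring
  rw [this, hb]
  field_simp

end Cfsg.Agent.Helper13.SubInv
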