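import Mathlib
import Cfsg.Agent.Helper13.SubOddDefs
import Cfsg.Agent.Helper43.SSPrime

/-!
# (B1b) for S5965: the non-split block element is not conjugate into the subfield subgroup
-/

set_option autoImplicit false

namespace Cfsg.Agent.Helper13.SubOdd

open Matrix Polynomial Cfsg Cfsg.Geo
open Cfsg.Agent.Helper13.SubInv (subH)

/-- an irreducible `g` dividing the image of `f` divides the image of a monic irreducible factor -/
theorem exists_irreducible_factor_map_dvd {K L : Type*} [Field K] [Field L] (φ : K →+* L)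
    (g : L[X]) (hg : Irreducible g) :
    ∀ f : K[X], f ≠ 0 → g ∣ f.map φ →
      ∃ h₀ : K[X], h₀.Monic ∧ Irreducible h₀ ∧ h₀ ∣ f ∧ g ∣ h₀.map φ := by
  intro f
  induction f using UniqueFactorizationMonoid.induction_on_prime with
  | h₁ => intro h; exact absurd rfl h
  | h₂ u hu =>
    intro _ hdvd
    exfalso
    have : IsUnit (u.map φ) := hu.map (mapRingHom φ)
    exact hg.not_isUnit (isUnit_of_dvd_unit hdvd this)
  | h₃ a P ha hP ih =>
    intro _ hdvd
    rw [Polynomial.map_mul] at hdvd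
    rcases hg.prime.dvd_or_dvd hdvd with h | h
    · have hPi : Irreducible P := hP.irreducible
      refine ⟨P * C P.leadingCoeff⁻¹, monic_mul_leadingCoeff_inv hPi.ne_zero,
        irreducible_mul_leadingCoeff_inv.mpr hPi, ?_, ?_⟩
      · have hu : IsUnit (C P.leadingCoeff⁻¹ : K[X]) :=
          isUnit_C.mpr (isUnit_iff_ne_zero.mpr (inv_ne_zero (leadingCoeff_ne_zero.mpr hPi.ne_zero)))
        exact (hu.mul_right_dvd.mpr (dvd_refl P)).trans (dvd_mul_right P a)
      · rw [Polynomial.map_mul]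
        exact dvd_mul_of_dvd_left h _
    · obtain ⟨h₀, h1, h2, h3, h4⟩ := ih ha h
      exact ⟨h₀, h1, h2, h3.trans (dvd_mul_left a P), h4⟩

/-- in a finite field, an element with `t ^ r = 1` is trivial when `r ∤ q - 1` (`r` prime) -/
theorem eq_one_of_pow_prime_eq_one {K : Type*} [Field K] [Fintype K] (r : ℕ) (hr : r.Prime)
    (h1 : ¬ r ∣ Fintype.card K - 1) (t : K) (ht : t ^ r = 1) : t = 1 := by
  have ht0 : t ≠ 0 := by
    rintro rfl
    rw [zero_pow hr.ne_zero] at ht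
    exact zero_ne_one ht
  have h2 : t ^ (Fintype.card K - 1) = 1 := FiniteField.pow_card_sub_one_eq_one t ht0
  have hcop : Nat.Coprime r (Fintype.card K - 1) := (Nat.Prime.coprime_iff_not_dvd hr).mpr h1
  have h3 : orderOf t ∣ 1 := by
    have := Nat.dvd_gcd (orderOf_dvd_of_pow_eq_one ht) (orderOf_dvd_of_pow_eq_one h2)
    rwa [hcop] at this
  exact orderOf_eq_one_iff.mp (Nat.dvd_one.mp h3)

/-- in a finite field with `r ∤ q - 1` every non-zero element is an `r`-th power -/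
theorem exists_pow_prime_eq {K : Type*} [Field K] [Fintype K] (r : ℕ) (hr : r.Prime)
    (h1 : ¬ r ∣ Fintype.card K - 1) (u : K) (hu : u ≠ 0) : ∃ c : K, c ≠ 0 ∧ c ^ r = u := by
  classical
  have hcop : Nat.Coprime (Nat.card Kˣ) r := by
    rw [Nat.card_units, Nat.card_eq_fintype_card]
    exact ((Nat.Prime.coprime_iff_not_dvd hr).mpr h1).symm
  obtain ⟨w, hw⟩ := (powCoprime hcop).surjective (Units.mk0 u hu)
  rw [powCoprime_apply] at hw
  refine ⟨(w : K), Units.ne_zero _, ?_⟩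
  have h3 := congrArg (fun w : Kˣ => (w : K)) hw
  simp only [Units.val_pow_eq_pow_val, Units.val_mk0] at h3
  exact h3


variable {F : Type*} [Field F] {n : ℕ}

/-- if `lam⁻¹ • Y` is `F₀`-rational, `Y ^ r = 1` and `r ∤ q - 1`, then `Y` is `F₀`-rational -/
theorem entries_mem_of_smul [Fintype F] (F₀ : Subfield F) (r : ℕ) (hr : r.Prime) (hn : 0 < n)
    (h1 : ¬ r ∣ Fintype.card F - 1) (h1₀ : ¬ r ∣ Nat.card ↥F₀ - 1)
    (Y : Matrix (Fin n) (Fin n) F) (hY : Y ^ r = 1) (lam : F) (hlam : lam ≠ 0)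
    (h : ∀ i j, Y i j / lam ∈ F₀) : ∀ i j, Y i j ∈ F₀ := by
  classical
  haveI : Fintype ↥F₀ := Fintype.ofFinite _
  rw [Nat.card_eq_fintype_card] at h1₀
  set M₀ : Matrix (Fin n) (Fin n) ↥F₀ := Matrix.of fun i j => ⟨Y i j / lam, h i j⟩ with hM₀
  have hmap : (F₀.subtype).mapMatrix M₀ = lam⁻¹ • Y := by
    ext i j
    simp [hM₀, div_eq_inv_mul]
  have hpow : (F₀.subtype).mapMatrix (M₀ ^ r) = (lam⁻¹ ^ r) • (1 : Matrix (Fin n) (Fin n) F) := by
    rw [map_pow, hmap, _root_.smul_pow, hY]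
  have hμ : lam⁻¹ ^ r ∈ F₀ := by
    have h2 := congrFun (congrFun hpow ⟨0, hn⟩) ⟨0, hn⟩
    rw [Matrix.smul_apply, Matrix.one_apply_eq, smul_eq_mul, mul_one] at h2
    rw [← h2]
    exact ((M₀ ^ r) ⟨0, hn⟩ ⟨0, hn⟩).2
  have hμ0 : lam⁻¹ ^ r ≠ 0 := pow_ne_zero _ (inv_ne_zero hlam)
  obtain ⟨c, hc0, hc⟩ := exists_pow_prime_eq (K := ↥F₀) r hr h1₀ ⟨lam⁻¹ ^ r, hμ⟩
    (fun h0 => hμ0 (congrArg Subtype.val h0))
  have hcF : (c : F) ^ r = lam⁻¹ ^ r := by
    have := congrArg Subtype.val hc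
    simpa using this
  have hcF0 : (c : F) ≠ 0 := fun h0 => hc0 (Subtype.ext h0)
  have ht : ((c : F)⁻¹ * lam⁻¹) ^ r = 1 := by
    rw [mul_pow, inv_pow, hcF, inv_mul_cancel₀ hμ0]
  have ht1 := eq_one_of_pow_prime_eq_one r hr h1 _ ht
  have hlamc : lam⁻¹ = (c : F) := by
    have := congrArg (fun w => (c : F) * w) ht1
    simp only [mul_one] at this
    rwa [← mul_assoc, mul_inv_cancel₀ hcF0, one_mul] at this
  intro i j
  have : Y i j = (Y i j / lam) * ((c : F))⁻¹ := by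
    rw [← hlamc, inv_inv, div_mul_cancel₀ _ hlam]
  rw [this]
  exact F₀.mul_mem (h i j) (F₀.inv_mem c.2)


/-- the degree comparison: an `F₀`-rational matrix of order `r` whose characteristic polynomial is
`g * (X - 1) ^ s` over `F` yields an irreducible factor of `cyclotomic r F₀` of the degree of `g` -/
theorem exists_cyclotomic_factor_natDegree_eq (F₀ : Subfield F) (r : ℕ) [Fact r.Prime]
    (hrF : (r : F) ≠ 0) (M : Matrix (Fin n) (Fin n) ↥F₀) (hM : M ^ r = 1) (g : F[X]) (s : ℕ)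
    (hgi : Irreducible g) (hgc : g ∣ cyclotomic r F)
    (hch : (M.charpoly).map F₀.subtype = g * (X - 1) ^ s) :
    ∃ h₀ : (↥F₀)[X], Irreducible h₀ ∧ h₀ ∣ cyclotomic r ↥F₀ ∧ h₀.natDegree = g.natDegree := by
  have hrF₀ : (r : ↥F₀) ≠ 0 := by
    intro h
    apply hrF
    have := congrArg F₀.subtype h
    simpa using this
  have hsepF : (X ^ r - 1 : F[X]).Separable := X_pow_sub_one_separable_iff.mpr hrF
  have hsepF₀ : (X ^ r - 1 : (↥F₀)[X]).Separable := X_pow_sub_one_separable_iff.mpr hrF₀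
  have hcopF : IsCoprime (cyclotomic r F) (X - 1 : F[X]) := by
    apply Separable.isCoprime
    rw [cyclotomic_prime_mul_X_sub_one]
    exact hsepF
  have hgdvd : g ∣ (M.charpoly).map F₀.subtype := by rw [hch]; exact dvd_mul_right _ _
  obtain ⟨h₀, hh₀m, hh₀i, hh₀f, hgh₀⟩ :=
    exists_irreducible_factor_map_dvd F₀.subtype g hgi M.charpoly (Matrix.charpoly_monic M).ne_zero
      hgdvd
  have hMaeval : aeval M (X ^ r - 1 : (↥F₀)[X]) = 0 := by
    rw [map_sub, map_pow, aeval_X, map_one, hM, sub_self]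
  have hh₀X : h₀ ∣ (X ^ r - 1 : (↥F₀)[X]) :=
    Cfsg.Agent.Helper43.SS.dvd_of_dvd_charpoly M _ hsepF₀.squarefree hMaeval h₀ hh₀m hh₀i hh₀f
  rw [← cyclotomic_prime_mul_X_sub_one] at hh₀X
  have hmapX : (X - 1 : (↥F₀)[X]).map F₀.subtype = (X - 1 : F[X]) := by
    simp
  have hh₀c : h₀ ∣ cyclotomic r ↥F₀ := by
    rcases hh₀i.prime.dvd_or_dvd hh₀X with h | h
    · exact h
    · exfalso
      have h1 : h₀.map F₀.subtype ∣ (X - 1 : F[X]) := by
        rw [← hmapX]
        exact Polynomial.map_dvd _ h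
      have h2 : g ∣ (X - 1 : F[X]) := hgh₀.trans h1
      have h3 : g * g ∣ (X ^ r - 1 : F[X]) := by
        rw [← cyclotomic_prime_mul_X_sub_one]
        exact mul_dvd_mul hgc h2
      exact hgi.not_isUnit (hsepF.squarefree g h3)
  refine ⟨h₀, hh₀i, hh₀c, ?_⟩
  have hdeg : (h₀.map F₀.subtype).natDegree = h₀.natDegree := natDegree_map _
  have hne : h₀.map F₀.subtype ≠ 0 := by
    rw [Ne, Polynomial.map_eq_zero]
    exact hh₀i.ne_zero
  apply le_antisymm
  · -- `h₀.map ∣ g`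
    have h1 : h₀.map F₀.subtype ∣ g * (X - 1) ^ s := by
      rw [← hch]
      exact Polynomial.map_dvd _ hh₀f
    have h2 : h₀.map F₀.subtype ∣ cyclotomic r F := by
      rw [← map_cyclotomic r F₀.subtype]
      exact Polynomial.map_dvd _ hh₀c
    have h3 : IsCoprime (h₀.map F₀.subtype) ((X - 1 : F[X]) ^ s) :=
      (IsCoprime.of_isCoprime_of_dvd_left hcopF h2).pow_right
    have h4 : h₀.map F₀.subtype ∣ g := h3.dvd_of_dvd_mul_right h1
    rw [← hdeg]
    exact natDegree_le_of_dvd h4 hgi.ne_zero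
  · rw [← hdeg]
    exact natDegree_le_of_dvd hgh₀ hne


/-- degrees of irreducible factors of `cyclotomic r K` and divisibility of `q ^ j - 1` -/
theorem dvd_pow_card_sub_one_iff {K : Type*} [Field K] [Fintype K] (r : ℕ) [Fact r.Prime]
    (hrK : (r : K) ≠ 0) (P : K[X]) (hPi : Irreducible P) (hPc : P ∣ cyclotomic r K) (j : ℕ) :
    r ∣ Fintype.card K ^ j - 1 ↔ P.natDegree ∣ j := by
  have hrpr : r.Prime := Fact.out
  obtain ⟨p, hp⟩ := CharP.exists K
  haveI : Fact p.Prime := ⟨CharP.char_is_prime K p⟩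
  obtain ⟨f, _, hf⟩ := FiniteField.card K p
  have hpr : p ≠ r := by
    rintro rfl
    exact hrK (CharP.cast_eq_zero K p)
  have hcop : p.Coprime r := (Nat.coprime_primes Fact.out hrpr).mpr hpr
  have hdeg := Polynomial.natDegree_of_dvd_cyclotomic_of_irreducible hf hcop hPc hPi
  rw [hdeg, orderOf_dvd_iff_pow_eq_one]
  have hpos : 1 ≤ Fintype.card K ^ j := Nat.one_le_pow _ _ Fintype.card_pos
  rw [← Nat.modEq_iff_dvd' hpos, Nat.ModEq.comm, ← ZMod.natCast_eq_natCast_iff]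
  constructor
  · intro h
    apply Units.ext
    rw [Units.val_pow_eq_pow_val, ZMod.coe_unitOfCoprime, Units.val_one]
    rw [hf] at h
    push_cast at h ⊢
    exact h
  · intro h
    have h2 := congrArg (fun u : (ZMod r)ˣ => (u : ZMod r)) h
    simp only [Units.val_pow_eq_pow_val, ZMod.coe_unitOfCoprime, Units.val_one] at h2
    rw [hf]
    push_cast at h2 ⊢
    exact h2

/-- (B1b) -/
theorem not_conj_of_block [Fintype F] (p : ℕ) [Fact p.Prime] [CharP F p] (F₀ : Subfield F)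
    (q₀ k : ℕ) (hF₀ : Nat.card ↥F₀ = q₀) (hq : Fintype.card F = q₀ ^ k) (r : ℕ) [Fact r.Prime]
    (hrp : r ≠ p) (h1 : ¬ r ∣ Fintype.card F - 1)
    (hB : ∃ j, 0 < j ∧ r ∣ Fintype.card F ^ j - 1 ∧ ¬ r ∣ q₀ ^ j - 1)
    (x : Matrix.SpecialLinearGroup (Fin n) F) (g : F[X]) (s : ℕ)
    (hxr : (x : Matrix (Fin n) (Fin n) F) ^ r = 1) (hg : g.Monic) (hgi : Irreducible g)
    (hgc : g ∣ cyclotomic r F)
    (hch : (x : Matrix (Fin n) (Fin n) F).charpoly = g * (X - 1) ^ s)
    (P : Matrix.SpecialLinearGroup (Fin n) F) : P⁻¹ * x * P ∉ subH n F₀ := by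
  classical
  intro hP
  have hrpr : r.Prime := Fact.out
  have hrF : (r : F) ≠ 0 := by
    intro h
    rw [CharP.cast_eq_zero_iff F p] at h
    exact hrp ((Nat.prime_dvd_prime_iff_eq Fact.out hrpr).mp h).symm
  haveI : Fintype ↥F₀ := Fintype.ofFinite _
  have hcF₀ : Fintype.card ↥F₀ = q₀ := by rw [← Nat.card_eq_fintype_card, hF₀]
  -- `n > 0`
  have hn : 0 < n := by
    have h2 := congrArg natDegree hch
    have hne : ((X - 1 : F[X]) ^ s) ≠ 0 := by
      apply pow_ne_zero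
      have := X_sub_C_ne_zero (1 : F)
      simpa using this
    rw [Matrix.charpoly_natDegree_eq_dim, Fintype.card_fin, natDegree_mul hgi.ne_zero hne] at h2
    have := hgi.natDegree_pos
    omega
  set Y : Matrix (Fin n) (Fin n) F :=
    ((P⁻¹ * x * P : Matrix.SpecialLinearGroup (Fin n) F) : Matrix (Fin n) (Fin n) F) with hYdef
  have hxr' : x ^ r = 1 := by
    apply Subtype.ext
    rw [Matrix.SpecialLinearGroup.coe_pow, hxr]
    rfl
  have hYr : Y ^ r = 1 := by
    rw [hYdef, ← Matrix.SpecialLinearGroup.coe_pow]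
    have : (P⁻¹ * x * P) ^ r = 1 := by
      have h2 := conj_pow (a := P⁻¹) (b := x) (i := r)
      rw [inv_inv] at h2
      rw [h2, hxr', mul_one, inv_mul_cancel]
    rw [this]
    rfl
  have hYch : Y.charpoly = g * (X - 1) ^ s := by
    rw [← hch, hYdef]
    have h2 := Matrix.charpoly_units_conj' (Matrix.SpecialLinearGroup.toGL P)
      (x : Matrix (Fin n) (Fin n) F)
    rw [← h2, Matrix.SpecialLinearGroup.coe_mul, Matrix.SpecialLinearGroup.coe_mul]
    congr 2
    rw [← Matrix.coe_units_inv, ← map_inv]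
    rfl
  obtain ⟨lam, hlam, hent⟩ := Cfsg.Agent.Helper13.SubInv.entries_of_mem_subH F₀ _ hP
  have h1₀ : ¬ r ∣ Nat.card ↥F₀ - 1 := by
    intro h
    apply h1
    rw [hF₀] at h
    rw [hq]
    exact h.trans (Nat.sub_one_dvd_pow_sub_one q₀ k)
  have hYent := entries_mem_of_smul F₀ r hrpr hn h1 h1₀ Y hYr lam hlam hent
  set M : Matrix (Fin n) (Fin n) ↥F₀ := Matrix.of fun i j => ⟨Y i j, hYent i j⟩ with hMdef
  have hMmap : (F₀.subtype).mapMatrix M = Y := by
    ext i j
    simp [hMdef]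
  have hMr : M ^ r = 1 := by
    have hinj : Function.Injective
        ((F₀.subtype).mapMatrix : Matrix (Fin n) (Fin n) ↥F₀ → Matrix (Fin n) (Fin n) F) := by
      intro A B hAB
      ext i j
      have := congrFun (congrFun hAB i) j
      simpa using this
    apply hinj
    rw [map_pow, hMmap, hYr, map_one]
  have hMch : (M.charpoly).map F₀.subtype = g * (X - 1) ^ s := by
    rw [← hYch, ← hMmap, RingHom.mapMatrix_apply, Matrix.charpoly_map]
  obtain ⟨h₀, hh₀i, hh₀c, hh₀d⟩ :=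
    exists_cyclotomic_factor_natDegree_eq F₀ r hrF M hMr g s hgi hgc hMch
  have hrF₀ : (r : ↥F₀) ≠ 0 := by
    intro h
    apply hrF
    have := congrArg F₀.subtype h
    simpa using this
  obtain ⟨j, _, hj1, hj2⟩ := hB
  apply hj2
  rw [← hcF₀, dvd_pow_card_sub_one_iff r hrF₀ h₀ hh₀i hh₀c j, hh₀d,
    ← dvd_pow_card_sub_one_iff r hrF g hgi hgc j]
  exact hj1

end Cfsg.Agent.Helper13.SubOdd
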