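import Mathlib
import Cfsg.Agent.Helper13.SubOddDefs
import Cfsg.Agent.Helper43.SSConj
import Cfsg.Agent.Helper43.SSExist
import Cfsg.Agent.Helper43.Semisimple

/-!
# (K1) for S5965: rational characteristic polynomial ⟹ conjugate into the subfield subgroup
-/

set_option autoImplicit false

namespace Cfsg.Agent.Helper13.SubOdd

open Matrix Polynomial Cfsg Cfsg.Geo
open Cfsg.Agent.Helper13.SubInv (subH)

variable {F : Type*} [Field F] {n : ℕ}

/-- a matrix of finite order as an element of `GL` -/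
theorem exists_gl_of_pow_eq_one (A : Matrix (Fin n) (Fin n) F) (m : ℕ) (hm : m ≠ 0)
    (hA : A ^ m = 1) : ∃ g : GL (Fin n) F, g.val = A ∧ g ^ m = 1 := by
  obtain ⟨t, rfl⟩ : ∃ t, m = t + 1 := ⟨m - 1, by omega⟩
  refine ⟨⟨A, A ^ t, by rw [← pow_succ', hA], by rw [← pow_succ, hA]⟩, rfl, ?_⟩
  apply Units.ext
  rw [Units.val_pow_eq_pow_val]
  exact hA

/-- (K1) -/
theorem conj_of_charpoly [Fintype F] (p : ℕ) [Fact p.Prime] [CharP F p] (hn : 0 < n)
    (F₀ : Subfield F) (x : Matrix.SpecialLinearGroup (Fin n) F) (lam : F) (hlam : lam ≠ 0)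
    (m : ℕ) (hm : (m : F) ≠ 0)
    (hpow : (lam⁻¹ • (x : Matrix (Fin n) (Fin n) F)) ^ m = 1)
    (hrat : ∀ i, (lam⁻¹ • (x : Matrix (Fin n) (Fin n) F)).charpoly.coeff i ∈ F₀) :
    ∃ P : Matrix.SpecialLinearGroup (Fin n) F, P⁻¹ * x * P ∈ subH n F₀ := by
  classical
  have hm0 : m ≠ 0 := by
    rintro rfl
    exact hm Nat.cast_zero
  set A : Matrix (Fin n) (Fin n) F := lam⁻¹ • (x : Matrix (Fin n) (Fin n) F) with hAdef
  haveI : CharP ↥F₀ p := by
    have : CharP F p := inferInstance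
    exact (RingHom.charP_iff (F₀.subtype) F₀.subtype.injective p).mpr this
  -- the polynomial over `F₀`
  have hl : A.charpoly ∈ Polynomial.lifts (F₀.subtype) := by
    rw [Polynomial.lifts_iff_coeff_lifts]
    intro i
    exact ⟨⟨_, hrat i⟩, rfl⟩
  obtain ⟨f₀, hf₀map, hf₀deg, hf₀monic⟩ :=
    Polynomial.lifts_and_natDegree_eq_and_monic hl (Matrix.charpoly_monic A)
  have hf₀n : f₀.natDegree = n := by
    rw [hf₀deg, Matrix.charpoly_natDegree_eq_dim, Fintype.card_fin]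
  obtain ⟨gA, hgA, hgAm⟩ := exists_gl_of_pow_eq_one A m hm0 hpow
  have hdetA : A.det ≠ 0 := by
    rw [← hgA]
    exact Matrix.GeneralLinearGroup.det_ne_zero gA
  have hf₀0 : f₀.coeff 0 ≠ 0 := by
    intro h
    have h1 : A.charpoly.coeff 0 = 0 := by
      rw [← hf₀map, Polynomial.coeff_map, h, map_zero]
    apply hdetA
    rw [Matrix.det_eq_sign_charpoly_coeff, h1, mul_zero]
  obtain ⟨A₀, hA₀, k', hk'0, hk'p, hA₀k⟩ :=
    Cfsg.Agent.Helper43.SS.exists_matrix_charpoly (F := ↥F₀) p n f₀ hf₀monic hf₀n hf₀0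
  set B : Matrix (Fin n) (Fin n) F := (F₀.subtype).mapMatrix A₀ with hBdef
  have hBch : B.charpoly = A.charpoly := by
    rw [hBdef, RingHom.mapMatrix_apply, Matrix.charpoly_map, hA₀, hf₀map]
  have hBk : B ^ k' = 1 := by
    rw [hBdef, ← map_pow, hA₀k, map_one]
  obtain ⟨gB, hgB, hgBk⟩ := exists_gl_of_pow_eq_one B k' hk'0.ne' hBk
  have hk'F : (k' : F) ≠ 0 := by
    intro h
    rw [CharP.cast_eq_zero_iff F p] at h
    have := Nat.Coprime.eq_one_of_dvd hk'p.symm h
    exact (Fact.out : p.Prime).one_lt.ne' this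
  have hconj : IsConj gA gB := by
    apply Cfsg.Agent.Helper43.SS.isConj_GL_of_charpoly_eq gA gB m k' hm hk'F hgAm hgBk
    rw [hgA, hgB, hBch]
  obtain ⟨c, hc⟩ := isConj_iff.mp hconj
  -- a commuting element with the determinant of `c`
  haveI : Nonempty (Fin n) := ⟨⟨0, hn⟩⟩
  have hφ : (Matrix.toLin' A) ^ m = 1 := by
    rw [← Matrix.toLin'_pow, hpow, Matrix.toLin'_one]
    rfl
  obtain ⟨z, hzcomm, hzdet⟩ := Cfsg.Agent.Helper43.exists_commuting_det
    (V := Fin n → F) (Matrix.toLin' A) m hm hφ (c.val.det)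
  set Z : Matrix (Fin n) (Fin n) F := LinearMap.toMatrix' z with hZdef
  have hZdet : Z.det = c.val.det := by
    rw [hZdef, LinearMap.det_toMatrix', hzdet]
  have hZA : Z * A = A * Z := by
    have h1 := congrArg LinearMap.toMatrix' hzcomm
    rw [Module.End.mul_eq_comp, Module.End.mul_eq_comp, LinearMap.toMatrix'_comp,
      LinearMap.toMatrix'_comp, LinearMap.toMatrix'_toLin'] at h1
    exact h1
  have hcdet : c.val.det ≠ 0 := Matrix.GeneralLinearGroup.det_ne_zero c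
  set gZ : GL (Fin n) F := Matrix.GeneralLinearGroup.mkOfDetNeZero Z (by rw [hZdet]; exact hcdet)
    with hgZ
  have hgZval : gZ.val = Z := rfl
  set P : GL (Fin n) F := gZ * c⁻¹ with hPdef
  have hPdet : P.val.det = 1 := by
    have h1 : (c.val.det) * ((c⁻¹ : GL (Fin n) F).val.det) = 1 := by
      rw [← Matrix.det_mul, ← Units.val_mul, mul_inv_cancel, Units.val_one, Matrix.det_one]
    rw [hPdef, Units.val_mul, Matrix.det_mul, hgZval, hZdet, h1]
  obtain ⟨P', hP'⟩ := Cfsg.Agent.Helper13.SubInv.exists_sl_of_det_one P hPdet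
  refine ⟨P', ?_⟩
  -- `gZ` commutes with `gA`
  have hgZA : gZ * gA = gA * gZ := by
    apply Units.ext
    rw [Units.val_mul, Units.val_mul, hgZval, hgA, hZA]
  have hconjP : P⁻¹ * gA * P = gB := by
    rw [hPdef, _root_.mul_inv_rev, inv_inv, ← hc]
    have : gZ⁻¹ * gA * gZ = gA := by
      rw [mul_assoc, ← hgZA, ← mul_assoc, inv_mul_cancel, one_mul]
    calc c * gZ⁻¹ * gA * (gZ * c⁻¹) = c * (gZ⁻¹ * gA * gZ) * c⁻¹ := by group
      _ = c * gA * c⁻¹ := by rw [this]
  have hval : ((P'⁻¹ * x * P' : Matrix.SpecialLinearGroup (Fin n) F) :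
      Matrix (Fin n) (Fin n) F) = lam • B := by
    rw [hP' x]
    have hx : (x : Matrix (Fin n) (Fin n) F) = lam • A := by
      rw [hAdef, smul_smul, mul_inv_cancel₀ hlam, one_smul]
    rw [hx, Matrix.mul_smul, Matrix.smul_mul]
    congr 1
    have := congrArg (fun g : GL (Fin n) F => (g : Matrix (Fin n) (Fin n) F)) hconjP
    simp only [Units.val_mul] at this
    rw [hgA, hgB] at this
    exact this
  apply Cfsg.Agent.Helper13.SubInv.mem_subH_of_entries F₀ _ lam hlam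
  intro i j
  rw [hval, Matrix.smul_apply, smul_eq_mul, mul_div_cancel_left₀ _ hlam, hBdef]
  exact (A₀ i j).2

end Cfsg.Agent.Helper13.SubOdd
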