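import Mathlib
import Cfsg.Agent.Helper13.SubOddDefs
import Cfsg.Agent.Helper13.SubOddK1
import Cfsg.Agent.Helper13.SubOddB1b
import Cfsg.Agent.Helper48.SubOddLTE
import Cfsg.Agent.Helper48.SubOddFLD
import Cfsg.Agent.Helper48.SubOddROOT
import Cfsg.Agent.Helper48.SubOddT2
import Cfsg.Agent.Helper48.SubOddK3
import Cfsg.Agent.Helper87.SubOddFROB
import Cfsg.Agent.Helper87.SubOddK2
import Cfsg.Agent.Helper41.SubOddDETM
import Cfsg.Agent.Helper41.SubOddK3p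
import Cfsg.Agent.Helper41.SubOddB1a
import Cfsg.Agent.Helper63.SubOddSYM
import Cfsg.Agent.Helper63.SubOddORD
import Cfsg.Agent.Helper63.SubOddIDX
import Cfsg.Agent.Helper14.SubOddDIAG
import Cfsg.Agent.Helper14.SubOddB1c
import Cfsg.Agent.Helper51.SubOddD1
import Cfsg.Agent.Helper51.SubOddD2a
import Cfsg.Agent.Helper51.SubOddD2b
import Cfsg.Agent.Helper51.SubOddD2c

/-!
# Assembly lemmas for S5965
-/

set_option autoImplicit false

namespace Cfsg.Agent.Helper13.SubOdd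

open Matrix Polynomial Cfsg Cfsg.Geo
open Cfsg.Agent.Helper43.PGLPrime (zp mult)
open Cfsg.Agent.Helper13.SubInv (subH)
open Cfsg.Agent.Helper48.SubOdd (padicValNat_pow_sub_one_eq padicValNat_sq_sub_one_eq mem_iff_pow_eq
  card_subfield_eq_pow exists_orderOf_eq exists_pow_mul_eq_one eq_one_of_pow_of_val_one)
open Cfsg.Agent.Helper48.SubOddT2 (exists_pow_eq_of_val_le)
open Cfsg.Agent.Helper48.SubOddK3 (mult_affine_of_rational)
open Cfsg.Agent.Helper87.SubOddFROB (charpoly_coeff_pow_eq)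
open Cfsg.Agent.Helper87.SubOddK2 (charpoly_of_conj)
open Cfsg.Agent.Helper41.SubOddDETM (det_eq_zp_moment)
open Cfsg.Agent.Helper41.SubOddK3p (rational_of_mult_invariant)
open Cfsg.Agent.Helper41.SubOddB1a (exists_block_matrix)
open Cfsg.Agent.Helper63.SubOddSYM (exists_center_of_moment_zero)
open Cfsg.Agent.Helper63.SubOddORD (exists_dvd_pow_sub_one_of_dvd_index)
open Cfsg.Agent.Helper63.SubOddIDX (not_dvd_index)
open Cfsg.Agent.Helper14.SubOddDIAG (mult_dg dg_pow det_dg dg_ne_smul)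
open Cfsg.Agent.Helper14.SubOddB1c (not_scalar_of_block)
open Cfsg.Agent.Helper51.SubOddD1 (cnt_vec3_D1)
open Cfsg.Agent.Helper51.SubOddD2a (cnt_vec3_D2a sum_vec3 sum_vec3_two)
open Cfsg.Agent.Helper51.SubOddD2b (cnt_vec3_D2b)
open Cfsg.Agent.Helper51.SubOddD2c (cnt_vec3_D2c)

variable {F : Type*} [Field F] {n : ℕ}

/-- Fermat: `m ^ r ≡ m [MOD r]`. -/
theorem pow_prime_modEq (r : ℕ) [Fact r.Prime] (m : ℕ) : m ^ r ≡ m [MOD r] := by
  rw [← ZMod.natCast_eq_natCast_iff]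
  push_cast
  exact ZMod.pow_card _

/-- `r ∣ m - 1 ↔ m ≡ 1 [MOD r]` for `m ≥ 1` -/
theorem dvd_sub_one_iff (r m : ℕ) (hm : 1 ≤ m) : r ∣ m - 1 ↔ (m : ZMod r) = 1 := by
  rw [← Nat.cast_one (R := ZMod r), ZMod.natCast_eq_natCast_iff, Nat.ModEq.comm,
    Nat.modEq_iff_dvd' hm]

/-- the `r`-th power of the coerced matrix -/
theorem coe_pow_sl (x : Matrix.SpecialLinearGroup (Fin n) F) (m : ℕ) :
    ((x ^ m : Matrix.SpecialLinearGroup (Fin n) F) : Matrix (Fin n) (Fin n) F) =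
      (x : Matrix (Fin n) (Fin n) F) ^ m := by
  simp

/-- scaling: `(lam⁻¹ • x) ^ r = 1` when `x ^ r = lam ^ r • 1` -/
theorem smul_inv_pow_eq_one (X' : Matrix (Fin n) (Fin n) F) (r : ℕ) (lam : F) (hlam : lam ≠ 0)
    (hx : X' ^ r = (lam ^ r) • (1 : Matrix (Fin n) (Fin n) F)) : (lam⁻¹ • X') ^ r = 1 := by
  rw [_root_.smul_pow, hx, smul_smul, inv_pow, inv_mul_cancel₀ (pow_ne_zero _ hlam), one_smul]

/-- (⇐), case `r = k`. -/
theorem conj_of_eq_k [Fintype F] (p : ℕ) [Fact p.Prime] [CharP F p] (hn : 0 < n) (F₀ : Subfield F)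
    (q₀ r : ℕ) [Fact r.Prime] (hr2 : r ≠ 2) (hrp : r ≠ p) (hF₀ : Nat.card ↥F₀ = q₀)
    (hq : Fintype.card F = q₀ ^ r)
    (hgapk : r ∣ q₀ - 1 → padicValNat r n ≤ padicValNat r (Fintype.card F - 1))
    (x : Matrix.SpecialLinearGroup (Fin n) F) (z : F)
    (hx : ((x ^ r : Matrix.SpecialLinearGroup (Fin n) F) : Matrix (Fin n) (Fin n) F) =
      z • (1 : Matrix (Fin n) (Fin n) F)) :
    ∃ P : Matrix.SpecialLinearGroup (Fin n) F, P⁻¹ * x * P ∈ subH n F₀ := by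
  have hrpr : r.Prime := Fact.out
  have hq₀1 : 1 ≤ q₀ := by
    rcases Nat.eq_zero_or_pos q₀ with h | h
    · rw [h, zero_pow hrpr.ne_zero] at hq
      exact absurd hq Fintype.card_ne_zero
    · exact h
  have hrF : (r : F) ≠ 0 := by
    intro h
    rw [CharP.cast_eq_zero_iff F p] at h
    exact hrp ((Nat.prime_dvd_prime_iff_eq Fact.out hrpr).mp h).symm
  -- Type II exclusion
  have hv : r ∣ Fintype.card F - 1 → padicValNat r n ≤ padicValNat r (Fintype.card F - 1) := by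
    intro h
    apply hgapk
    rw [hq, dvd_sub_one_iff r _ (Nat.one_le_pow _ _ hq₀1)] at h
    rw [dvd_sub_one_iff r _ hq₀1]
    rw [← h]
    push_cast
    exact (ZMod.pow_card _).symm
  obtain ⟨lam, hlam, hlamz⟩ := exists_pow_eq_of_val_le hn r hr2 hv x z hx
  have hA : (lam⁻¹ • (x : Matrix (Fin n) (Fin n) F)) ^ r = 1 := by
    apply smul_inv_pow_eq_one _ r lam hlam
    rw [← coe_pow_sl, hx, hlamz]
  obtain ⟨f₀, hf₀, hcard⟩ := card_subfield_eq_pow p F₀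
  rw [hF₀] at hcard
  have hrat : ∀ i, (lam⁻¹ • (x : Matrix (Fin n) (Fin n) F)).charpoly.coeff i ∈ F₀ := by
    intro i
    rw [mem_iff_pow_eq F₀ q₀ hF₀]
    have h1 := charpoly_coeff_pow_eq p (lam⁻¹ • (x : Matrix (Fin n) (Fin n) F)) r hA f₀ (f₀ * r)
      (by rw [pow_mul]; exact (pow_prime_modEq r (p ^ f₀)).symm) i
    rw [hcard, h1, pow_mul, ← hcard, ← hq]
    exact FiniteField.pow_card _
  exact conj_of_charpoly p hn F₀ x lam hlam r hrF hA hrat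


/-- generic split derangement from an exponent vector -/
theorem derangement_of_cnt [Fintype F] (F₀ : Subfield F) (q₀ : ℕ) (hF₀ : Nat.card ↥F₀ = q₀)
    (hn : 0 < n) (r : ℕ) [Fact r.Prime] (hrF : (r : F) ≠ 0) (ζ : F) (hζ : orderOf ζ = r)
    (a : Fin n → ZMod r) (lam : F) (hlam : lam ≠ 0)
    (hdet : lam ^ n * zp ζ r (∑ i, a i) = 1) (i i' : Fin n) (hne : a i ≠ a i')
    (hcnt : ¬ ∃ c : ZMod r, ∀ j, cnt a ((q₀ : ZMod r) * j + c) = cnt a j) :
    ∃ x : Matrix.SpecialLinearGroup (Fin n) F,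
      (∃ z : F, ((x ^ r : Matrix.SpecialLinearGroup (Fin n) F) : Matrix (Fin n) (Fin n) F) =
        z • (1 : Matrix (Fin n) (Fin n) F)) ∧
      (∀ z : F, (x : Matrix (Fin n) (Fin n) F) ≠ z • (1 : Matrix (Fin n) (Fin n) F)) ∧
      ∀ P : Matrix.SpecialLinearGroup (Fin n) F, P⁻¹ * x * P ∉ subH n F₀ := by
  have hζr : ζ ^ r = 1 := by rw [← hζ]; exact pow_orderOf_eq_one ζ
  have hdetx : (lam • dg ζ a).det = 1 := by
    rw [Matrix.det_smul, Fintype.card_fin, det_dg r ζ hζr a, hdet]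
  obtain ⟨x, hxval⟩ : ∃ x : Matrix.SpecialLinearGroup (Fin n) F,
      (x : Matrix (Fin n) (Fin n) F) = lam • dg ζ a := ⟨⟨lam • dg ζ a, hdetx⟩, rfl⟩
  refine ⟨x, ⟨lam ^ r, ?_⟩, ?_, ?_⟩
  · rw [coe_pow_sl, hxval, _root_.smul_pow, dg_pow r ζ hζr a]
  · intro z
    rw [hxval]
    exact dg_ne_smul r ζ hζ a i i' hne lam z hlam
  · intro P hP
    obtain ⟨lam', hlam', hrat⟩ := charpoly_of_conj F₀ _ P hP
    rw [hxval] at hrat
    apply hcnt
    have hrat' : ∀ i, ((lam' * lam⁻¹)⁻¹ • dg ζ a).charpoly.coeff i ∈ F₀ := by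
      intro i
      have h1 : (lam' * lam⁻¹)⁻¹ • dg ζ a = lam'⁻¹ • (lam • dg ζ a) := by
        rw [smul_smul, mul_inv, inv_inv]
      rw [h1]
      exact hrat i
    obtain ⟨c, hc⟩ := mult_affine_of_rational F₀ q₀ hF₀ hn r hrF ζ hζ (dg ζ a) (dg_pow r ζ hζr a)
      (lam' * lam⁻¹) (mul_ne_zero hlam' (inv_ne_zero hlam)) hrat'
    refine ⟨c, fun j => ?_⟩
    rw [← mult_dg r ζ hζ a, ← mult_dg r ζ hζ a]
    exact hc j


/-- `(q₀ - 1) * (q₀ + 1) = q₀ ^ 2 - 1` -/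
theorem sq_sub_one_nat (q₀ : ℕ) (h : 1 ≤ q₀) : q₀ ^ 2 - 1 = (q₀ - 1) * (q₀ + 1) := by
  obtain ⟨t, rfl⟩ : ∃ t, q₀ = t + 1 := ⟨q₀ - 1, by omega⟩
  have : (t + 1) ^ 2 = t * (t + 1 + 1) + 1 := by ring
  rw [this]
  simp

/-- arithmetic of case (b): `r ∣ q₀ + 1` odd gives `v_r(q₀² - 1) = v_r(q₀ + 1)` -/
theorem padicValNat_sq_sub_one (r q₀ : ℕ) [Fact r.Prime] (hr2 : r ≠ 2) (hq₀ : 2 ≤ q₀)
    (hdvd : r ∣ q₀ + 1) : padicValNat r (q₀ ^ 2 - 1) = padicValNat r (q₀ + 1) := by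
  have hrpr : r.Prime := Fact.out
  have hnd : ¬ r ∣ q₀ - 1 := by
    intro h
    have h2 : r ∣ (q₀ + 1) - (q₀ - 1) := Nat.dvd_sub hdvd h
    have h3 : (q₀ + 1) - (q₀ - 1) = 2 := by omega
    rw [h3] at h2
    have := Nat.le_of_dvd (by norm_num) h2
    have := hrpr.two_le
    omega
  rw [sq_sub_one_nat q₀ (by omega), padicValNat.mul (by omega) (by omega),
    padicValNat.eq_zero_of_not_dvd hnd, zero_add]

/-- (⇐), case (b): `k = 2`, `n = r ∈ {3, 5}`, `(q₀ + 1)_r = r`. -/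
theorem conj_of_case_b [Fintype F] (p : ℕ) [Fact p.Prime] [CharP F p] (F₀ : Subfield F)
    (q₀ r : ℕ) [Fact r.Prime] (hr : r = 3 ∨ r = 5) (hrp : r ≠ p) (hF₀ : Nat.card ↥F₀ = q₀)
    (hq : Fintype.card F = q₀ ^ 2) (hv : padicValNat r (q₀ + 1) = 1)
    (x : Matrix.SpecialLinearGroup (Fin r) F) (z : F)
    (hx : ((x ^ r : Matrix.SpecialLinearGroup (Fin r) F) : Matrix (Fin r) (Fin r) F) =
      z • (1 : Matrix (Fin r) (Fin r) F)) :
    ∃ P : Matrix.SpecialLinearGroup (Fin r) F, P⁻¹ * x * P ∈ subH r F₀ := by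
  have hrpr : r.Prime := Fact.out
  haveI : NeZero r := ⟨hrpr.ne_zero⟩
  have hr2 : r ≠ 2 := by rcases hr with h | h <;> omega
  have hr0 : 0 < r := hrpr.pos
  have hq₀2 : 2 ≤ q₀ := by
    rw [← hF₀]
    exact Finite.one_lt_card
  have hrF : (r : F) ≠ 0 := by
    intro h
    rw [CharP.cast_eq_zero_iff F p] at h
    exact hrp ((Nat.prime_dvd_prime_iff_eq Fact.out hrpr).mp h).symm
  have hdvd : r ∣ q₀ + 1 := dvd_of_one_le_padicValNat (by omega)
  have hval : padicValNat r (Fintype.card F - 1) = 1 := by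
    rw [hq, padicValNat_sq_sub_one r q₀ hr2 hq₀2 hdvd, hv]
  have hrq : r ∣ Fintype.card F - 1 := dvd_of_one_le_padicValNat (by omega)
  have hv' : r ∣ Fintype.card F - 1 → padicValNat r r ≤ padicValNat r (Fintype.card F - 1) := by
    intro _
    rw [hval, padicValNat_self]
  obtain ⟨lam, hlam, hlamz⟩ := exists_pow_eq_of_val_le hr0 r hr2 hv' x z hx
  obtain ⟨ζ, hζ⟩ := exists_orderOf_eq (F := F) r hrq
  have hζr : ζ ^ r = 1 := by rw [← hζ]; exact pow_orderOf_eq_one ζ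
  set A : Matrix (Fin r) (Fin r) F := lam⁻¹ • (x : Matrix (Fin r) (Fin r) F) with hAdef
  have hA : A ^ r = 1 := by
    apply smul_inv_pow_eq_one _ r lam hlam
    rw [← coe_pow_sl, hx, hlamz]
  have hdetA : A.det = lam⁻¹ ^ r := by
    rw [hAdef, Matrix.det_smul, Fintype.card_fin, x.det_coe, mul_one]
  -- the first moment vanishes
  have hM : (∑ j : ZMod r, (mult ζ r A j : ZMod r) * j) = 0 := by
    have h1 := det_eq_zp_moment r hrF ζ hζ A hA
    have h2 : zp ζ r (∑ j : ZMod r, (mult ζ r A j : ZMod r) * j) = 1 := by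
      apply eq_one_of_pow_of_val_one r hval _ lam⁻¹
        (Cfsg.Agent.Helper43.PGLPrime.zp_pow hζr _) (inv_ne_zero hlam)
      rw [← h1, hdetA]
    apply Cfsg.Agent.Helper43.PGLPrime.zp_injective hζ
    rw [h2, Cfsg.Agent.Helper43.PGLPrime.zp_zero]
  have hsum : ∑ j : ZMod r, mult ζ r A j = r :=
    (Cfsg.Agent.Helper43.PGLPrime.charpoly_eq_prod hrpr hζ hrF A hA).2
  obtain ⟨c, hc⟩ := exists_center_of_moment_zero r hr (mult ζ r A) hsum hM
  -- half of the centre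
  have h2ne : (2 : ZMod r) ≠ 0 := by
    intro h
    have h' : ((2 : ℕ) : ZMod r) = 0 := by exact_mod_cast h
    rw [ZMod.natCast_eq_zero_iff] at h'
    have := Nat.le_of_dvd (by norm_num) h'
    have := hrpr.two_le
    omega
  set c' : ZMod r := c / 2 with hc'
  have hcc : c = 2 * c' := by rw [hc', mul_div_cancel₀ _ h2ne]
  set A' : Matrix (Fin r) (Fin r) F := zp ζ r (-c') • A with hA'def
  have hA' : A' ^ r = 1 := Cfsg.Agent.Helper43.PGLPrime.smul_pow_eq_one hζr (-c') A hA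
  have he : (q₀ : ZMod r) = -1 := by
    have : ((q₀ + 1 : ℕ) : ZMod r) = 0 := (ZMod.natCast_eq_zero_iff _ _).mpr hdvd
    push_cast at this
    exact eq_neg_of_add_eq_zero_left this
  have hinv : ∀ j : ZMod r, mult ζ r A' ((q₀ : ZMod r) * j) = mult ζ r A' j := by
    intro j
    rw [he, hA'def, Cfsg.Agent.Helper43.PGLPrime.mult_smul hζr,
      Cfsg.Agent.Helper43.PGLPrime.mult_smul hζr, ← hc (j - -c')]
    congr 1
    rw [hcc]
    ring
  have hrat := rational_of_mult_invariant F₀ q₀ hF₀ r hrF ζ hζ A' hA' hinv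
  -- back to `x`
  have hzz : zp ζ r c' * zp ζ r (-c') = 1 := by
    rw [← Cfsg.Agent.Helper43.PGLPrime.zp_add hζr, add_neg_cancel,
      Cfsg.Agent.Helper43.PGLPrime.zp_zero]
  have hzne : zp ζ r c' ≠ 0 := left_ne_zero_of_mul_eq_one hzz
  have hAx : (lam * zp ζ r c')⁻¹ • (x : Matrix (Fin r) (Fin r) F) = A' := by
    have hinvz : zp ζ r (-c') = (zp ζ r c')⁻¹ := eq_inv_of_mul_eq_one_right hzz
    rw [hA'def, hAdef, smul_smul, mul_inv, mul_comm, hinvz]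
  refine conj_of_charpoly p hr0 F₀ x (lam * zp ζ r c') (mul_ne_zero hlam hzne) r hrF ?_ ?_
  · rw [hAx]; exact hA'
  · rw [hAx]; exact hrat


theorem vec3_zero (n r : ℕ) (hn : 0 < n) (v₀ v₁ v₂ : ZMod r) : vec3 n r v₀ v₁ v₂ ⟨0, hn⟩ = v₀ := by
  simp [vec3]

theorem vec3_one (n r : ℕ) (hn : 1 < n) (v₀ v₁ v₂ : ZMod r) : vec3 n r v₀ v₁ v₂ ⟨1, hn⟩ = v₁ := by
  simp [vec3]

theorem vec3_three (n r : ℕ) (hn : 3 < n) (v₀ v₁ v₂ : ZMod r) :
    vec3 n r v₀ v₁ v₂ ⟨3, hn⟩ = 0 := by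
  simp [vec3]

theorem z3_sum : (1 : ZMod 3) + 1 + 1 = 0 := by decide

theorem z5_sum : (1 : ZMod 5) + 2 + -3 = 0 := by decide

theorem z5_ne : (1 : ZMod 5) ≠ 2 := by decide

/-- (⇒): if all elements of order `r` are conjugate into `H`, `r ≠ k`, then case (b) holds. -/
theorem case_b_of_all_conj [Fintype F] (p : ℕ) [Fact p.Prime] [CharP F p] (hn : 2 ≤ n)
    (F₀ : Subfield F) (k q₀ : ℕ) (hk : k.Prime) (hF₀ : Nat.card ↥F₀ = q₀)
    (hq : Fintype.card F = q₀ ^ k) (r : ℕ) [Fact r.Prime] (hr2 : r ≠ 2) (hrp : r ≠ p)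
    (hgap : ¬ (n = 6 ∧ r = 3)) (hΩ : r ∣ (subH n F₀).index) (hrk : r ≠ k)
    (hall : ∀ x : Matrix.SpecialLinearGroup (Fin n) F,
      (∃ z : F, ((x ^ r : Matrix.SpecialLinearGroup (Fin n) F) : Matrix (Fin n) (Fin n) F) =
        z • (1 : Matrix (Fin n) (Fin n) F)) →
      (∀ z : F, (x : Matrix (Fin n) (Fin n) F) ≠ z • (1 : Matrix (Fin n) (Fin n) F)) →
      ∃ P : Matrix.SpecialLinearGroup (Fin n) F, P⁻¹ * x * P ∈ subH n F₀) :
    k = 2 ∧ r = n ∧ (n = 3 ∨ n = 5) ∧ padicValNat r (q₀ + 1) = 1 := by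
  have hrpr : r.Prime := Fact.out
  haveI : NeZero r := ⟨hrpr.ne_zero⟩
  have hn0 : 0 < n := by omega
  have hq₀2 : 2 ≤ q₀ := by
    rw [← hF₀]
    exact Finite.one_lt_card
  have hrF : (r : F) ≠ 0 := by
    intro h
    rw [CharP.cast_eq_zero_iff F p] at h
    exact hrp ((Nat.prime_dvd_prime_iff_eq Fact.out hrpr).mp h).symm
  by_cases hA : ∀ j, 0 < j → r ∣ (q₀ ^ k) ^ j - 1 → r ∣ q₀ ^ j - 1
  · exfalso
    refine not_dvd_index p hn0 F₀ q₀ hF₀ r hrp ?_ hΩ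
    intro j hj2 _
    rw [hq]
    exact padicValNat_pow_sub_one_eq r k q₀ hr2 hk hrk (by omega) hA j (by omega)
  push Not at hA
  obtain ⟨j₀, hj₀, hdq, hndq₀⟩ := hA
  have hB : ∃ j, 0 < j ∧ r ∣ Fintype.card F ^ j - 1 ∧ ¬ r ∣ q₀ ^ j - 1 :=
    ⟨j₀, hj₀, by rwa [hq], hndq₀⟩
  by_cases h1 : r ∣ Fintype.card F - 1
  swap
  · -- the non-split case
    exfalso
    have hjn := exists_dvd_pow_sub_one_of_dvd_index p hn0 F₀ r hrp hΩ
    obtain ⟨x, g, s, hxr, hg, hgi, hgc, hch⟩ := exists_block_matrix (n := n) p r hrp h1 hjn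
    obtain ⟨P, hP⟩ := hall x ⟨1, by rw [coe_pow_sl, hxr, one_smul]⟩
      (not_scalar_of_block r h1 hrF hn0 _ g s hg hgi hgc hch)
    exact not_conj_of_block p F₀ q₀ k hF₀ hq r hrp h1 hB x g s hxr hg hgi hgc hch P hP
  -- the split case
  have hnd₀ : ¬ r ∣ q₀ - 1 := by
    intro h
    apply hndq₀
    exact h.trans (Nat.sub_one_dvd_pow_sub_one q₀ j₀)
  obtain ⟨ζ, hζ⟩ := exists_orderOf_eq (F := F) r h1
  have hζr : ζ ^ r = 1 := by rw [← hζ]; exact pow_orderOf_eq_one ζ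
  have he1 : (q₀ : ZMod r) ≠ 1 := fun h =>
    hnd₀ ((dvd_sub_one_iff r q₀ (by omega)).mpr h)
  have hek : (q₀ : ZMod r) ^ k = 1 := by
    have := (dvd_sub_one_iff r (Fintype.card F) Fintype.card_pos).mp h1
    rw [hq] at this
    push_cast at this
    exact this
  have hz0 : zp ζ r 0 = 1 := Cfsg.Agent.Helper43.PGLPrime.zp_zero ζ r
  -- derangements contradict `hall`
  have hder : ∀ (a : Fin n → ZMod r) (lam : F), lam ≠ 0 → lam ^ n * zp ζ r (∑ i, a i) = 1 →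
      ∀ i i' : Fin n, a i ≠ a i' →
      (¬ ∃ c : ZMod r, ∀ j, cnt a ((q₀ : ZMod r) * j + c) = cnt a j) → False := by
    intro a lam hlam hdet i i' hne hcnt
    obtain ⟨x, hx1, hx2, hx3⟩ := derangement_of_cnt F₀ q₀ hF₀ hn0 r hrF ζ hζ a lam hlam hdet i i'
      hne hcnt
    obtain ⟨P, hP⟩ := hall x hx1 hx2
    exact hx3 P hP
  have h12 : (1 : ZMod r) ≠ -1 := by
    intro h
    have h' : ((2 : ℕ) : ZMod r) = 0 := by
      have : (1 : ZMod r) + 1 = 0 := by nth_rewrite 2 [h]; exact add_neg_cancel 1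
      push_cast
      rw [← this]; norm_num
    rw [ZMod.natCast_eq_zero_iff] at h'
    have := Nat.le_of_dvd (by norm_num) h'
    have := hrpr.two_le
    omega
  by_cases hk2 : k = 2
  swap
  · -- `k` odd
    exfalso
    have hkodd : Odd k := hk.odd_of_ne_two hk2
    refine hder (vec3 n r 1 (-1) 0) 1 one_ne_zero ?_ ⟨0, hn0⟩ ⟨1, by omega⟩ ?_
      (cnt_vec3_D1 hn r k hkodd _ he1 hek)
    · rw [one_pow, one_mul, sum_vec3_two hn, add_neg_cancel, hz0]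
    · rw [vec3_zero, vec3_one]; exact h12
  subst hk2
  have he : (q₀ : ZMod r) = -1 := by
    have hmm : (q₀ : ZMod r) * (q₀ : ZMod r) = 1 := by rw [← pow_two]; exact hek
    rcases mul_self_eq_one_iff.mp hmm with h | h
    · exact absurd h he1
    · exact h
  have hdvd1 : r ∣ q₀ + 1 := by
    rw [← ZMod.natCast_eq_zero_iff]
    push_cast
    rw [he]; exact neg_add_cancel 1
  by_cases hn2 : n = 2
  · exfalso
    refine not_dvd_index p hn0 F₀ q₀ hF₀ r hrp ?_ hΩ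
    intro j hj2 hjn
    have hj : j = 2 := by omega
    rw [hj, hq]
    exact padicValNat_sq_sub_one_eq r q₀ hr2 (by omega) hdvd1
  have hn3 : 3 ≤ n := by omega
  have hcardne : Fintype.card F - 1 ≠ 0 := by
    have := Fintype.one_lt_card (α := F)
    omega
  have ha1 : 1 ≤ padicValNat r (Fintype.card F - 1) :=
    one_le_padicValNat_of_dvd hcardne h1
  have hvalq : padicValNat r (q₀ + 1) = padicValNat r (Fintype.card F - 1) := by
    rw [hq, padicValNat_sq_sub_one r q₀ hr2 hq₀2 hdvd1]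
  by_cases hba : padicValNat r n < padicValNat r (Fintype.card F - 1)
  · exfalso
    obtain ⟨lam, hlam, hlamz⟩ := exists_pow_mul_eq_one hn0 r ζ hζ hba
    refine hder (vec3 n r 1 0 0) lam hlam ?_ ⟨0, hn0⟩ ⟨1, by omega⟩ ?_ ?_
    · rw [sum_vec3 hn3, add_zero, add_zero]
      have : zp ζ r 1 = ζ := by
        unfold Cfsg.Agent.Helper43.PGLPrime.zp
        haveI : Fact (1 < r) := ⟨hrpr.one_lt⟩
        rw [ZMod.val_one, pow_one]
      rw [this]; exact hlamz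
    · rw [vec3_zero, vec3_one]; exact one_ne_zero
    · rw [he]; exact cnt_vec3_D2a hn3 r hr2
  push Not at hba
  have hrn : r ∣ n := dvd_of_one_le_padicValNat (by omega)
  have hrlen : r ≤ n := Nat.le_of_dvd hn0 hrn
  have hsum0 : ∀ v₀ v₁ v₂ : ZMod r, v₀ + v₁ + v₂ = 0 →
      (1 : F) ^ n * zp ζ r (∑ i, vec3 n r v₀ v₁ v₂ i) = 1 := by
    intro v₀ v₁ v₂ h
    rw [one_pow, one_mul, sum_vec3 hn3, h, hz0]
  have hfin : n = r → (n = 3 ∨ n = 5) →
      (2 = 2 ∧ r = n ∧ (n = 3 ∨ n = 5) ∧ padicValNat r (q₀ + 1) = 1) := by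
    intro hnr h35
    refine ⟨rfl, hnr.symm, h35, ?_⟩
    rw [hvalq]
    have : padicValNat r n = 1 := by rw [hnr, padicValNat_self]
    omega
  have hr3 : 3 ≤ r := by
    have := hrpr.two_le
    omega
  by_cases hr3' : r = 3
  · subst hr3'
    by_cases hn3' : n = 3
    · exact hfin hn3' (Or.inl hn3')
    exfalso
    have hn7 : 7 ≤ n := by
      obtain ⟨t, ht⟩ := hrn
      have : n ≠ 6 := fun h => hgap ⟨h, rfl⟩
      omega
    refine hder (vec3 n 3 1 1 1) 1 one_ne_zero (hsum0 1 1 1 z3_sum) ⟨0, hn0⟩ ⟨3, by omega⟩ ?_ ?_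
    · rw [vec3_zero, vec3_three]; exact one_ne_zero
    · rw [he]; exact cnt_vec3_D2c hn7
  by_cases hr5' : r = 5
  · subst hr5'
    by_cases hn5' : n = 5
    · exact hfin hn5' (Or.inr hn5')
    exfalso
    have hn7 : 7 ≤ n := by
      obtain ⟨t, ht⟩ := hrn
      omega
    refine hder (vec3 n 5 1 2 (-3)) 1 one_ne_zero (hsum0 1 2 (-3) z5_sum) ⟨0, hn0⟩
      ⟨1, by omega⟩ ?_ ?_
    · rw [vec3_zero, vec3_one]; exact z5_ne
    · rw [he]; exact cnt_vec3_D2b hn7 5 (le_refl 5)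
  exfalso
  have hr7 : 7 ≤ r := by
    have h4 : r ≠ 4 := fun h => by rw [h] at hrpr; exact absurd hrpr (by decide)
    have h6 : r ≠ 6 := fun h => by rw [h] at hrpr; exact absurd hrpr (by decide)
    omega
  have hn7 : 7 ≤ n := by omega
  refine hder (vec3 n r 1 2 (-3)) 1 one_ne_zero (hsum0 1 2 (-3) (by ring)) ⟨0, hn0⟩
    ⟨1, by omega⟩ ?_ ?_
  · rw [vec3_zero, vec3_one]
    intro h
    have : (1 : ZMod r) = 0 := by
      have h' : (2 : ZMod r) - 1 = 0 := by rw [← h]; ring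
      rw [← h']; ring
    exact one_ne_zero this
  · rw [he]; exact cnt_vec3_D2b hn7 r (by omega)

end Cfsg.Agent.Helper13.SubOdd
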