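import Mathlib
import Cfsg.Prelude.Def_ClassicalGeometry
import Cfsg.Agent.Helper13.Symp
import Cfsg.Agent.Helper13.SympTrans

set_option autoImplicit false

namespace Cfsg.Agent.Helper13

open Matrix

variable {F : Type*} [Field F] {m : ℕ}

local notation "Vec" => (Fin m ⊕ Fin m → F)
local notation "Mat" => Matrix (Fin m ⊕ Fin m) (Fin m ⊕ Fin m) F

/-- T1: the stabiliser of `u` is transitive on the points not orthogonal to `u` -/
theorem exists_symp_fix_map_nonorth {u v v' : Vec} (h : Cfsg.sympForm m F u v ≠ 0)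
    (h' : Cfsg.sympForm m F u v' ≠ 0) :
    ∃ A : Matrix.symplecticGroup (Fin m) F, (A : Mat) *ᵥ u = u ∧
      ∃ c : F, c ≠ 0 ∧ (A : Mat) *ᵥ v = c • v' := by
  have h1 : Cfsg.sympForm m F u ((Cfsg.sympForm m F u v)⁻¹ • v) = 1 := by
    rw [sympForm_smul_right, inv_mul_cancel₀ h]
  have h1' : Cfsg.sympForm m F u ((Cfsg.sympForm m F u v')⁻¹ • v') = 1 := by
    rw [sympForm_smul_right, inv_mul_cancel₀ h']
  obtain ⟨A, -, hAu, hAv⟩ := exists_transvection_fix_map h1 h1'
  refine ⟨A, hAu, Cfsg.sympForm m F u v * (Cfsg.sympForm m F u v')⁻¹,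
    mul_ne_zero h (inv_ne_zero h'), ?_⟩
  rw [Matrix.mulVec_smul] at hAv
  have : (A : Mat) *ᵥ v = Cfsg.sympForm m F u v • ((Cfsg.sympForm m F u v')⁻¹ • v') := by
    rw [← hAv, smul_smul, mul_inv_cancel₀ h, one_smul]
  rw [this, smul_smul]

/-- if `w` is not a multiple of `u` there is `x ⊥ u` with `f(x,w) ≠ 0` -/
theorem exists_orth_not_orth {u w : Vec} (hu : u ≠ 0) (hw : ∀ c : F, w ≠ c • u) :
    ∃ x : Vec, Cfsg.sympForm m F x u = 0 ∧ Cfsg.sympForm m F x w ≠ 0 := by
  obtain ⟨y0, hy0⟩ := sympForm_nondeg_left hu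
  set y : Vec := (Cfsg.sympForm m F y0 u)⁻¹ • y0 with hy
  have hyu : Cfsg.sympForm m F y u = 1 := by
    rw [hy, sympForm_smul_left, inv_mul_cancel₀ hy0]
  by_contra hcon
  push Not at hcon
  -- then `f(x, w) = f(x,u) f(y,w)` for all `x`
  have hall : ∀ x : Vec, Cfsg.sympForm m F x (w - Cfsg.sympForm m F y w • u) = 0 := by
    intro x
    have h1 := hcon (x - Cfsg.sympForm m F x u • y) (by
      rw [sympForm_sub_left, sympForm_smul_left, hyu, mul_one, sub_self])
    rw [sympForm_sub_left, sympForm_smul_left] at h1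
    rw [sympForm_sub_right, sympForm_smul_right]
    linear_combination h1
  have : w - Cfsg.sympForm m F y w • u = 0 := by
    by_contra hne
    obtain ⟨x, hx⟩ := sympForm_nondeg_left hne
    exact hx (hall x)
  exact hw _ (sub_eq_zero.mp this)

/-- T2: the stabiliser of `u` is transitive on the vectors orthogonal to `u` outside `⟨u⟩` -/
theorem exists_symp_fix_map_orth {u w w' : Vec} (hu : u ≠ 0)
    (h : Cfsg.sympForm m F u w = 0) (h' : Cfsg.sympForm m F u w' = 0)
    (hw : ∀ c : F, w ≠ c • u) (hw' : ∀ c : F, w' ≠ c • u) :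
    ∃ A : Matrix.symplecticGroup (Fin m) F, (A : Mat) *ᵥ u = u ∧ (A : Mat) *ᵥ w = w' := by
  by_cases hww : Cfsg.sympForm m F w w' = 0
  · -- find `x ⊥ u` with `f(x,w) ≠ 0`, `f(x,w') ≠ 0`
    obtain ⟨x1, hx1u, hx1w⟩ := exists_orth_not_orth hu hw
    obtain ⟨x2, hx2u, hx2w'⟩ := exists_orth_not_orth hu hw'
    obtain ⟨x, hxu, hxw, hxw'⟩ : ∃ x : Vec, Cfsg.sympForm m F x u = 0 ∧
        Cfsg.sympForm m F x w ≠ 0 ∧ Cfsg.sympForm m F x w' ≠ 0 := by
      by_cases h3 : Cfsg.sympForm m F x1 w' = 0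
      · by_cases h4 : Cfsg.sympForm m F x2 w = 0
        · refine ⟨x1 + x2, ?_, ?_, ?_⟩
          · rw [sympForm_add_left, hx1u, hx2u, add_zero]
          · rw [sympForm_add_left, h4, add_zero]; exact hx1w
          · rw [sympForm_add_left, h3, zero_add]; exact hx2w'
        · exact ⟨x2, hx2u, h4, hx2w'⟩
      · exact ⟨x1, hx1u, hx1w, h3⟩
    have hwx : Cfsg.sympForm m F w x ≠ 0 := by
      rw [sympForm_swap]; exact neg_ne_zero.mpr hxw
    have hux : Cfsg.sympForm m F u x = 0 := by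
      rw [sympForm_swap, hxu, neg_zero]
    obtain ⟨A, -, hAw, hAfix⟩ := exists_transvection_map hwx
    obtain ⟨B, -, hBx, hBfix⟩ := exists_transvection_map hxw'
    have hAu : (A : Mat) *ᵥ u = u := hAfix u (by rw [sympForm_sub_right, h, hux, sub_self])
    have hBu : (B : Mat) *ᵥ u = u := hBfix u (by rw [sympForm_sub_right, h', hux, sub_self])
    refine ⟨B * A, ?_, ?_⟩
    · change ((B : Mat) * (A : Mat)) *ᵥ u = u
      rw [← Matrix.mulVec_mulVec, hAu, hBu]
    · change ((B : Mat) * (A : Mat)) *ᵥ w = w'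
      rw [← Matrix.mulVec_mulVec, hAw, hBx]
  · obtain ⟨A, -, hAw, hAfix⟩ := exists_transvection_map hww
    exact ⟨A, hAfix u (by rw [sympForm_sub_right, h, h', sub_self]), hAw⟩

end Cfsg.Agent.Helper13
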