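import Mathlib
import Cfsg.Prelude.Def_Solvable
import Cfsg.Agent.Lib.Cores

/-!
Thompson–Wielandt setup for primitive groups (helper13).
`XK G a b` : pointwise stabiliser of `a` and of the `G_a`-orbit of `b`.
`PK G a b` : intersection of the `XK G β a`, `β` in the `G_a`-orbit of `b`.
-/

set_option autoImplicit false
open MulAction

namespace Cfsg.Agent.Helper13.TW

section Defs

variable (G : Type*) {Ω : Type*} [Group G] [MulAction G Ω]

/-- pointwise stabiliser of `a` and of the `G_a`-orbit of `b`. -/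
def XK (a b : Ω) : Subgroup G :=
  stabilizer G a ⊓ ⨅ h : stabilizer G a, stabilizer G ((h : G) • b)

/-- the elements fixing `a`, every `β = h • b` (`h ∈ G_a`) and the `G_β`-orbit of `a`. -/
def PK (a b : Ω) : Subgroup G :=
  ⨅ h : stabilizer G a, XK G ((h : G) • b) a

variable {G}

theorem mem_XK {a b : Ω} {g : G} :
    g ∈ XK G a b ↔ g • a = a ∧ ∀ h : G, h • a = a → g • h • b = h • b := by
  unfold XK
  rw [Subgroup.mem_inf, Subgroup.mem_iInf]
  constructor
  · rintro ⟨h1, h2⟩
    exact ⟨h1, fun h hh => h2 ⟨h, hh⟩⟩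
  · rintro ⟨h1, h2⟩
    exact ⟨h1, fun h => h2 h.1 h.2⟩

theorem mem_PK {a b : Ω} {g : G} :
    g ∈ PK G a b ↔ ∀ h : G, h • a = a → g ∈ XK G (h • b) a := by
  unfold PK
  rw [Subgroup.mem_iInf]
  constructor
  · intro h2 h hh
    exact h2 ⟨h, hh⟩
  · intro h2 h
    exact h2 h.1 h.2

theorem XK_le_left (a b : Ω) : XK G a b ≤ stabilizer G a := fun _ hg => (mem_XK.1 hg).1

theorem XK_le_right (a b : Ω) : XK G a b ≤ stabilizer G b := fun g hg => by
  have := (mem_XK.1 hg).2 1 (one_smul _ _)
  simpa using this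

theorem XK_le_smul {a b : Ω} {h : G} (hh : h • a = a) : XK G a b ≤ stabilizer G (h • b) :=
  fun _ hg => (mem_XK.1 hg).2 h hh

theorem conj_mem_XK {a b : Ω} {g : G} (c : G) (hg : g ∈ XK G a b) :
    c * g * c⁻¹ ∈ XK G (c • a) (c • b) := by
  rw [mem_XK] at hg ⊢
  refine ⟨?_, ?_⟩
  · rw [mul_smul, mul_smul, inv_smul_smul, hg.1]
  · intro h hh
    have h1 : (c⁻¹ * h * c) • a = a := by
      rw [mul_smul, mul_smul, hh, inv_smul_smul]
    have h2 := hg.2 _ h1
    have h3 : h • c • b = c • (c⁻¹ * h * c) • b := by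
      simp only [mul_smul, smul_inv_smul]
    rw [h3, mul_smul, mul_smul, inv_smul_smul, h2]

theorem XK_smul_right {a b : Ω} {h : G} (hh : h • a = a) : XK G a (h • b) = XK G a b := by
  ext g
  rw [mem_XK, mem_XK]
  constructor
  · rintro ⟨h1, h2⟩
    refine ⟨h1, fun k hk => ?_⟩
    have h3 : (k * h⁻¹) • a = a := by
      rw [mul_smul]
      have : h⁻¹ • a = a := by
        conv_lhs => rw [← hh]
        rw [inv_smul_smul]
      rw [this, hk]
    have := h2 _ h3
    simpa [mul_smul] using this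
  · rintro ⟨h1, h2⟩
    refine ⟨h1, fun k hk => ?_⟩
    have h3 : (k * h) • a = a := by rw [mul_smul, hh, hk]
    have := h2 _ h3
    simpa [mul_smul] using this

theorem conj_mem_XK_of_fix {a b : Ω} {g h : G} (hh : h • a = a) (hg : g ∈ XK G a b) :
    h * g * h⁻¹ ∈ XK G a b := by
  have := conj_mem_XK h hg
  rwa [hh, XK_smul_right hh] at this

theorem conj_mem_PK {a b : Ω} {g : G} (c : G) (hg : g ∈ PK G a b) :
    c * g * c⁻¹ ∈ PK G (c • a) (c • b) := by
  rw [mem_PK] at hg ⊢
  intro h hh
  have h1 : (c⁻¹ * h * c) • a = a := by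
    rw [mul_smul, mul_smul, hh, inv_smul_smul]
  have h2 := conj_mem_XK c (hg _ h1)
  have h3 : c • (c⁻¹ * h * c) • b = h • c • b := by
    simp only [mul_smul, smul_inv_smul]
  rwa [h3] at h2

theorem PK_smul_right {a b : Ω} {h : G} (hh : h • a = a) : PK G a (h • b) = PK G a b := by
  ext g
  rw [mem_PK, mem_PK]
  constructor
  · intro h2 k hk
    have h3 : (k * h⁻¹) • a = a := by
      rw [mul_smul]
      have : h⁻¹ • a = a := by
        conv_lhs => rw [← hh]
        rw [inv_smul_smul]
      rw [this, hk]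
    have := h2 _ h3
    simpa [mul_smul] using this
  · intro h2 k hk
    have h3 : (k * h) • a = a := by rw [mul_smul, hh, hk]
    have := h2 _ h3
    simpa [mul_smul] using this

theorem conj_mem_PK_of_fix {a b : Ω} {g h : G} (hh : h • a = a) (hg : g ∈ PK G a b) :
    h * g * h⁻¹ ∈ PK G a b := by
  have := conj_mem_PK h hg
  rwa [hh, PK_smul_right hh] at this

theorem PK_le_XK_swap (a b : Ω) : PK G a b ≤ XK G b a := fun g hg => by
  have := mem_PK.1 hg 1 (one_smul _ _)
  simpa using this

theorem PK_le_XK (a b : Ω) : PK G a b ≤ XK G a b := fun g hg => by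
  rw [mem_XK]
  refine ⟨?_, fun h hh => ?_⟩
  · exact XK_le_right _ _ (PK_le_XK_swap a b hg)
  · exact XK_le_left _ _ (mem_PK.1 hg h hh)

theorem PK_le_left (a b : Ω) : PK G a b ≤ stabilizer G a :=
  (PK_le_XK a b).trans (XK_le_left a b)

theorem PK_le_right (a b : Ω) : PK G a b ≤ stabilizer G b :=
  (PK_le_XK a b).trans (XK_le_right a b)

/-- conjugating `PK a b` by an element fixing `b` stays inside `XK b a`. -/
theorem conj_mem_XK_swap_of_mem_PK {a b : Ω} {g k : G} (hk : k • b = b) (hg : g ∈ PK G a b) :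
    k * g * k⁻¹ ∈ XK G b a := by
  have h1 := conj_mem_PK k hg
  rw [hk] at h1
  have h2 := PK_le_XK_swap _ _ h1
  rwa [XK_smul_right hk] at h2

theorem stabilizer_le_normalizer_XK (a b : Ω) :
    stabilizer G a ≤ Subgroup.normalizer (XK G a b : Set G) := by
  intro h hh
  rw [Subgroup.mem_normalizer_iff]
  intro g
  constructor
  · intro hg
    exact conj_mem_XK_of_fix hh hg
  · intro hg
    have hh' : h⁻¹ • a = a := by
      conv_lhs => rw [← (show h • a = a from hh)]
      rw [inv_smul_smul]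
    have := conj_mem_XK_of_fix hh' hg
    simpa [mul_assoc] using this

theorem stabilizer_le_normalizer_PK (a b : Ω) :
    stabilizer G a ≤ Subgroup.normalizer (PK G a b : Set G) := by
  intro h hh
  rw [Subgroup.mem_normalizer_iff]
  intro g
  constructor
  · intro hg
    exact conj_mem_PK_of_fix hh hg
  · intro hg
    have hh' : h⁻¹ • a = a := by
      conv_lhs => rw [← (show h • a = a from hh)]
      rw [inv_smul_smul]
    have := conj_mem_PK_of_fix hh' hg
    simpa [mul_assoc] using this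

end Defs

end Cfsg.Agent.Helper13.TW
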