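import Mathlib
import Cfsg.Prelude.Def_Solvable
import Cfsg.Agent.Lib.Cores
import Cfsg.Agent.Helper13.TWA

/-!
Thompson–Wielandt (helper13), part B: consequences of primitivity (maximal, core-free stabilisers),
the "moving trick", and the `p`-core `Op p H` of a subgroup as a subgroup of the ambient group.
-/

set_option autoImplicit false
open MulAction

namespace Cfsg.Agent.Helper13.TW

section Prim

variable {G : Type*} {Ω : Type*} [Group G] [MulAction G Ω]

theorem inv_smul_eq_of_smul_eq {a : Ω} {h : G} (hh : h • a = a) : h⁻¹ • a = a := by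
  conv_lhs => rw [← hh]
  rw [inv_smul_smul]

/-- a normal subgroup inside a point stabiliser of a faithful transitive action is trivial. -/
theorem eq_bot_of_normal_of_le_stabilizer [IsPretransitive G Ω] [FaithfulSMul G Ω]
    {N : Subgroup G} (hN : N.Normal) {a : Ω} (h : N ≤ stabilizer G a) : N = ⊥ := by
  rw [eq_bot_iff]
  intro n hn
  rw [Subgroup.mem_bot]
  apply FaithfulSMul.eq_of_smul_eq_smul (α := Ω)
  intro x
  obtain ⟨g, rfl⟩ := exists_smul_eq G a x
  have h1 : g⁻¹ * n * g ∈ N := by
    have := hN.conj_mem n hn g⁻¹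
    simpa using this
  have h2 : (g⁻¹ * n * g) • a = a := h h1
  rw [one_smul]
  have h3 : n • g • a = g • (g⁻¹ * n * g) • a := by
    simp only [mul_smul, smul_inv_smul]
  rw [h3, h2]

/-- a subgroup of a point stabiliser whose normaliser is everything is trivial. -/
theorem eq_bot_of_normalizer_eq_top [IsPretransitive G Ω] [FaithfulSMul G Ω]
    {A : Subgroup G} {a : Ω} (h : A ≤ stabilizer G a)
    (hn : Subgroup.normalizer (A : Set G) = ⊤) : A = ⊥ :=
  eq_bot_of_normal_of_le_stabilizer (Subgroup.normalizer_eq_top_iff.1 hn) h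

variable [IsPreprimitive G Ω] [Nontrivial Ω] [FaithfulSMul G Ω]

theorem isCoatom_stab (a : Ω) : IsCoatom (stabilizer G a) :=
  IsPreprimitive.isCoatom_stabilizer_of_isPreprimitive G a

/-- **(a)** the normaliser of a nontrivial normal subgroup of `G_a` is `G_a`. -/
theorem normalizer_eq_stabilizer {A : Subgroup G} {a : Ω} (hA : A ≠ ⊥)
    (hle : A ≤ stabilizer G a) (hn : stabilizer G a ≤ Subgroup.normalizer (A : Set G)) :
    Subgroup.normalizer (A : Set G) = stabilizer G a := by
  rcases (isCoatom_stab (G := G) a).le_iff.1 hn with h | h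
  · exact absurd (eq_bot_of_normalizer_eq_top hle h) hA
  · exact h

/-- a subgroup containing `G_a` and something outside is everything. -/
theorem eq_top_of_stabilizer_le {N : Subgroup G} {a : Ω} (hle : stabilizer G a ≤ N)
    {t : G} (ht : t ∈ N) (hta : t • a ≠ a) : N = ⊤ := by
  rcases (isCoatom_stab (G := G) a).le_iff.1 hle with h | h
  · exact h
  · exfalso
    rw [h] at ht
    exact hta ht

/-- **The moving trick.** A set `S` of elements fixing `a`, stable under conjugation by `G_a` and by a
subgroup `T` not fixing `a`, consists of the identity only. -/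
theorem eq_one_of_moved {a : Ω} (S : Set G) (hS : ∀ x ∈ S, x • a = a)
    (hH : ∀ h : G, h • a = a → ∀ x ∈ S, h * x * h⁻¹ ∈ S)
    (T : Subgroup G) (hT : ¬ T ≤ stabilizer G a)
    (hTS : ∀ t ∈ T, ∀ x ∈ S, t * x * t⁻¹ ∈ S) : ∀ x ∈ S, x = 1 := by
  -- the subgroup of all elements conjugating `S` into itself, in both directions
  let N : Subgroup G :=
    { carrier := {g | ∀ x ∈ S, g * x * g⁻¹ ∈ S ∧ g⁻¹ * x * g ∈ S}
      one_mem' := by
        intro x hx
        simpa using hx
      mul_mem' := by
        intro g k hg hk x hx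
        refine ⟨?_, ?_⟩
        · have := (hg _ (hk x hx).1).1
          simpa [mul_assoc] using this
        · have := (hk _ (hg x hx).2).2
          simpa [mul_assoc] using this
      inv_mem' := by
        intro g hg x hx
        refine ⟨?_, ?_⟩
        · simpa using (hg x hx).2
        · simpa using (hg x hx).1 }
  have hN : ∀ g, g ∈ N ↔ ∀ x ∈ S, g * x * g⁻¹ ∈ S ∧ g⁻¹ * x * g ∈ S := fun g => Iff.rfl
  have hHN : stabilizer G a ≤ N := by
    intro h hh
    rw [hN]
    intro x hx
    refine ⟨hH h hh x hx, ?_⟩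
    have := hH h⁻¹ (inv_smul_eq_of_smul_eq hh) x hx
    simpa using this
  have hTN : T ≤ N := by
    intro t ht
    rw [hN]
    intro x hx
    refine ⟨hTS t ht x hx, ?_⟩
    have := hTS t⁻¹ (T.inv_mem ht) x hx
    simpa using this
  obtain ⟨t, ht, hta⟩ : ∃ t ∈ T, t • a ≠ a := by
    by_contra hcon
    apply hT
    intro t ht
    by_contra h2
    exact hcon ⟨t, ht, h2⟩
  have hNtop : N = ⊤ := eq_top_of_stabilizer_le hHN (hTN ht) hta
  -- the closure of `S` is normal in `G` and fixes `a`
  have hcl : Subgroup.closure S ≤ stabilizer G a := by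
    rw [Subgroup.closure_le]
    intro x hx
    exact hS x hx
  have hnorm : (Subgroup.closure S).Normal := by
    refine ⟨fun n hn g => ?_⟩
    have hg : g ∈ N := by rw [hNtop]; trivial
    induction hn using Subgroup.closure_induction with
    | mem x hx => exact Subgroup.subset_closure ((hN g).1 hg x hx).1
    | one => simp
    | mul x y _ _ hx hy =>
      have : g * (x * y) * g⁻¹ = (g * x * g⁻¹) * (g * y * g⁻¹) := by group
      rw [this]
      exact Subgroup.mul_mem _ hx hy
    | inv x _ hx =>
      have : g * x⁻¹ * g⁻¹ = (g * x * g⁻¹)⁻¹ := by group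
      rw [this]
      exact Subgroup.inv_mem _ hx
  have hbot := eq_bot_of_normal_of_le_stabilizer hnorm hcl
  intro x hx
  have : x ∈ Subgroup.closure S := Subgroup.subset_closure hx
  rw [hbot, Subgroup.mem_bot] at this
  exact this

end Prim

section OpSec

variable {G : Type*} [Group G]

/-- `O_p(H)` as a subgroup of the ambient group. -/
def Op (p : ℕ) (H : Subgroup G) : Subgroup G := (Cfsg.pCore p ↥H).map H.subtype

theorem Op_le (p : ℕ) (H : Subgroup G) : Op p H ≤ H := by
  rintro _ ⟨x, _, rfl⟩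
  exact x.2

theorem Op_isPGroup (p : ℕ) (H : Subgroup G) : IsPGroup p (Op p H) :=
  (Cfsg.Agent.Lib.isPGroup_pCore p).map H.subtype

theorem le_normalizer_Op (p : ℕ) (H : Subgroup G) :
    H ≤ Subgroup.normalizer (Op p H : Set G) := by
  have hchar := Cfsg.Agent.Lib.pCore_characteristic (G := ↥H) p
  have hnorm : (Cfsg.pCore p ↥H).Normal := inferInstance
  have key : ∀ h ∈ H, ∀ x ∈ Op p H, h * x * h⁻¹ ∈ Op p H := by
    rintro h hh _ ⟨x, hx, rfl⟩
    refine ⟨⟨h, hh⟩ * x * ⟨h, hh⟩⁻¹, hnorm.conj_mem x hx ⟨h, hh⟩, ?_⟩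
    simp
  intro h hh
  rw [Subgroup.mem_normalizer_iff]
  intro x
  constructor
  · exact key h hh x
  · intro hx
    have := key h⁻¹ (H.inv_mem hh) _ hx
    simpa [mul_assoc] using this

theorem le_Op {p : ℕ} {H A : Subgroup G} (hAH : A ≤ H)
    (hn : H ≤ Subgroup.normalizer (A : Set G)) (hA : IsPGroup p A) : A ≤ Op p H := by
  have h1 : (A.subgroupOf H).Normal := by
    rw [Subgroup.normal_subgroupOf_iff_le_normalizer hAH]
    exact hn
  have h2 : IsPGroup p (A.subgroupOf H) := hA.comap_subtype
  have h3 := Cfsg.Agent.Lib.le_pCore h1 h2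
  intro x hx
  exact ⟨⟨x, hAH hx⟩, h3 (Subgroup.mem_subgroupOf.2 hx), rfl⟩

/-- `O_p` of a normal subgroup lies in `O_p` of the group. -/
theorem Op_le_Op_of_normal {p : ℕ} {Y K : Subgroup G} (hYK : Y ≤ K)
    (hn : K ≤ Subgroup.normalizer (Y : Set G)) : Op p Y ≤ Op p K := by
  apply le_Op ((Op_le p Y).trans hYK) _ (Op_isPGroup p Y)
  -- `K` normalises `Op p Y`
  have key : ∀ k ∈ K, ∀ x ∈ Op p Y, k * x * k⁻¹ ∈ Op p Y := by
    intro k hk x hx
    -- conjugate of `Op p Y` by `k` is a normal `p`-subgroup of `Y`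
    let B : Subgroup G := (Op p Y).map (MulAut.conj k).toMonoidHom
    have hBY : B ≤ Y := by
      rintro _ ⟨y, hy, rfl⟩
      have := (Subgroup.mem_normalizer_iff.1 (hn hk) y).1 (Op_le p Y hy)
      simpa using this
    have hBp : IsPGroup p B := (Op_isPGroup p Y).map _
    have hBn : Y ≤ Subgroup.normalizer (B : Set G) := by
      have key2 : ∀ y ∈ Y, ∀ z ∈ B, y * z * y⁻¹ ∈ B := by
        rintro y hy _ ⟨z, hz, rfl⟩
        have hy' : k⁻¹ * y * k ∈ Y := by
          have := (Subgroup.mem_normalizer_iff.1 (Subgroup.inv_mem _ (hn hk)) y).1 hy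
          simpa using this
        have hz' := (Subgroup.mem_normalizer_iff.1 (le_normalizer_Op p Y hy') z).1 hz
        refine ⟨_, hz', ?_⟩
        simp only [MulEquiv.coe_toMonoidHom, MulAut.conj_apply]
        group
      intro y hy
      rw [Subgroup.mem_normalizer_iff]
      intro z
      constructor
      · exact key2 y hy z
      · intro hz
        have := key2 y⁻¹ (Y.inv_mem hy) _ hz
        simpa [mul_assoc] using this
    have hB := le_Op hBY hBn hBp
    apply hB
    exact ⟨x, hx, by simp⟩
  intro k hk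
  rw [Subgroup.mem_normalizer_iff]
  intro x
  constructor
  · exact key k hk x
  · intro hx
    have := key k⁻¹ (K.inv_mem hk) _ hx
    simpa [mul_assoc] using this

/-- `Op` commutes with conjugation. -/
theorem Op_map_conj (p : ℕ) (H : Subgroup G) (c : G) :
    Op p (H.map (MulAut.conj c).toMonoidHom) = (Op p H).map (MulAut.conj c).toMonoidHom := by
  have half : ∀ (H : Subgroup G) (c : G),
      (Op p H).map (MulAut.conj c).toMonoidHom ≤ Op p (H.map (MulAut.conj c).toMonoidHom) := by
    intro H c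
    apply le_Op
    · exact Subgroup.map_mono (Op_le p H)
    · rintro _ ⟨h, hh, rfl⟩
      rw [Subgroup.mem_normalizer_iff]
      intro x
      have hnh := le_normalizer_Op p H hh
      constructor
      · rintro ⟨y, hy, rfl⟩
        refine ⟨h * y * h⁻¹, (Subgroup.mem_normalizer_iff.1 hnh y).1 hy, ?_⟩
        simp only [MulEquiv.coe_toMonoidHom, MulAut.conj_apply]
        group
      · rintro ⟨y, hy, hyx⟩
        have hy' : h⁻¹ * y * h ∈ Op p H := by
          have := (Subgroup.mem_normalizer_iff.1 (Subgroup.inv_mem _ hnh) y).1 hy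
          simpa using this
        refine ⟨h⁻¹ * y * h, hy', ?_⟩
        simp only [MulEquiv.coe_toMonoidHom, MulAut.conj_apply] at hyx ⊢
        have : x = (c * h * c⁻¹)⁻¹ * (c * y * c⁻¹) * (c * h * c⁻¹) := by
          rw [hyx]; group
        rw [this]; group
    · exact (Op_isPGroup p H).map _
  apply le_antisymm _ (half H c)
  have h1 := half (H.map (MulAut.conj c).toMonoidHom) c⁻¹
  have h2 : (H.map (MulAut.conj c).toMonoidHom).map (MulAut.conj c⁻¹).toMonoidHom = H := by
    ext x
    constructor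
    · rintro ⟨_, ⟨y, hy, rfl⟩, rfl⟩
      simp only [MulEquiv.coe_toMonoidHom, MulAut.conj_apply]
      have : c⁻¹ * (c * y * c⁻¹) * c⁻¹⁻¹ = y := by group
      rw [this]
      exact hy
    · intro hx
      exact ⟨c * x * c⁻¹, ⟨x, hx, by simp⟩, by simp [mul_assoc]⟩
  rw [h2] at h1
  intro x hx
  have h3 : c⁻¹ * x * c ∈ Op p H := by
    apply h1
    exact ⟨x, hx, by simp⟩
  exact ⟨c⁻¹ * x * c, h3, by simp [mul_assoc]⟩

end OpSec

end Cfsg.Agent.Helper13.TW
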