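import Mathlib
import Cfsg.Agent.Helper13.TWA

/-!
Thompson–Wielandt (helper13), part C: the index bound
`|G_a : PK a b|` divides `d! * ((d-1)!)^d`.
-/

set_option autoImplicit false
open MulAction

namespace Cfsg.Agent.Helper13.TW

theorem index_ker_toPermHom_dvd {X S : Type*} [Group X] [MulAction X S] [Finite S] :
    (MulAction.toPermHom X S).ker.index ∣ (Nat.card S).factorial := by
  rw [Subgroup.index_ker]
  have h := Subgroup.card_subgroup_dvd_card (MulAction.toPermHom X S).range
  rwa [Nat.card_perm] at h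

variable {G : Type*} {Ω : Type*} [Group G] [MulAction G Ω]

theorem mem_orbit_stabilizer_iff {a b β : Ω} :
    β ∈ orbit (stabilizer G a) b ↔ ∃ h : G, h • a = a ∧ h • b = β := by
  constructor
  · rintro ⟨h, rfl⟩
    exact ⟨h.1, h.2, rfl⟩
  · rintro ⟨h, hh, rfl⟩
    exact ⟨⟨h, hh⟩, rfl⟩

/-- Step 1: `G_a / XK a b` embeds in the symmetric group on the orbit. -/
theorem relIndex_XK_dvd [Finite Ω] (a b : Ω) :
    (XK G a b).relIndex (stabilizer G a) ∣ (Nat.card (orbit (stabilizer G a) b)).factorial := by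
  have hker : (XK G a b).subgroupOf (stabilizer G a) =
      (MulAction.toPermHom (stabilizer G a) (orbit (stabilizer G a) b)).ker := by
    ext h
    rw [Subgroup.mem_subgroupOf, MonoidHom.mem_ker, mem_XK]
    constructor
    · rintro ⟨_, h2⟩
      ext x
      obtain ⟨x, hx⟩ := x
      obtain ⟨k, hk, rfl⟩ := mem_orbit_stabilizer_iff.1 hx
      simp only [MulAction.toPermHom_apply, MulAction.toPerm_apply, Equiv.Perm.coe_one, id_eq,
        MulAction.orbit.coe_smul]
      exact h2 k hk
    · intro h1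
      refine ⟨h.2, fun k hk => ?_⟩
      have hx : k • b ∈ orbit (stabilizer G a) b := mem_orbit_stabilizer_iff.2 ⟨k, hk, rfl⟩
      have h2 := congrArg (fun f : Equiv.Perm (orbit (stabilizer G a) b) => ((f ⟨k • b, hx⟩ : orbit (stabilizer G a) b) : Ω)) h1
      simpa [Subgroup.smul_def] using h2
  unfold Subgroup.relIndex
  rw [hker]
  exact index_ker_toPermHom_dvd

theorem stabilizer_subgroup_eq (H : Subgroup G) (x : Ω) :
    stabilizer H x = (stabilizer G x).subgroupOf H := by
  ext h
  rw [mem_stabilizer_iff, Subgroup.mem_subgroupOf, mem_stabilizer_iff]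
  rfl

theorem card_orbit_subgroup (H : Subgroup G) (x : Ω) :
    Nat.card (orbit H x) = (stabilizer G x).relIndex H := by
  rw [Nat.card_coe_set_eq, ← MulAction.index_stabilizer, stabilizer_subgroup_eq]
  rfl

theorem card_inf_mul_relIndex (A B : Subgroup G) :
    Nat.card (A ⊓ B : Subgroup G) * A.relIndex B = Nat.card B := by
  have h1 := Subgroup.card_mul_index (A.subgroupOf B)
  have h2 : Nat.card (A.subgroupOf B) = Nat.card (A ⊓ B : Subgroup G) := by
    rw [← Subgroup.inf_subgroupOf_right]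
    exact Nat.card_congr (Subgroup.subgroupOfEquivOfLe inf_le_right).toEquiv
  rw [h2] at h1
  exact h1

theorem card_orbit_swap [Finite G] {a β : Ω}
    (hc : Nat.card (stabilizer G β) = Nat.card (stabilizer G a)) :
    Nat.card (orbit (stabilizer G β) a) = Nat.card (orbit (stabilizer G a) β) := by
  rw [card_orbit_subgroup, card_orbit_subgroup]
  have h1 := card_inf_mul_relIndex (stabilizer G a) (stabilizer G β)
  have h2 := card_inf_mul_relIndex (stabilizer G β) (stabilizer G a)
  rw [inf_comm] at h2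
  have hpos : 0 < Nat.card (stabilizer G a ⊓ stabilizer G β : Subgroup G) := Nat.card_pos
  have : Nat.card (stabilizer G a ⊓ stabilizer G β : Subgroup G) * (stabilizer G a).relIndex (stabilizer G β)
      = Nat.card (stabilizer G a ⊓ stabilizer G β : Subgroup G) * (stabilizer G β).relIndex (stabilizer G a) := by
    rw [h1, h2, hc]
  exact Nat.eq_of_mul_eq_mul_left hpos this

theorem orbit_stabilizer_eq_of_mem {a b β : Ω} (hβ : β ∈ orbit (stabilizer G a) b) :
    orbit (stabilizer G a) β = orbit (stabilizer G a) b :=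
  MulAction.orbit_eq_iff.2 hβ

/-- the `XK a b`-invariant set `(G_β • a) \ {a}` for `β` in the `G_a`-orbit of `b`. -/
def SK (a b : Ω) (β : orbit (stabilizer G a) b) : SubMulAction (XK G a b) Ω where
  carrier := {γ | γ ∈ orbit (stabilizer G (β : Ω)) a ∧ γ ≠ a}
  smul_mem' := by
    rintro x γ ⟨hγ, hγa⟩
    obtain ⟨β, hβ⟩ := β
    obtain ⟨h, hh, rfl⟩ := mem_orbit_stabilizer_iff.1 hβ
    obtain ⟨k, hk, rfl⟩ := mem_orbit_stabilizer_iff.1 hγ
    have hxa : (x : G) • a = a := XK_le_left a b x.2
    have hxβ : (x : G) • h • b = h • b := XK_le_smul hh x.2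
    refine ⟨?_, ?_⟩
    · apply mem_orbit_stabilizer_iff.2
      refine ⟨(x : G) * k, ?_, ?_⟩
      · rw [mul_smul, hk, hxβ]
      · rw [mul_smul]; rfl
    · intro hcon
      apply hγa
      have h1 : (x : G) • k • a = a := hcon
      have h2 : k • a = (x : G)⁻¹ • a := eq_inv_smul_iff.2 h1
      rw [h2]
      exact inv_smul_eq_iff.2 hxa.symm

theorem mem_SK {a b : Ω} {β : orbit (stabilizer G a) b} {γ : Ω} :
    γ ∈ SK a b β ↔ γ ∈ orbit (stabilizer G (β : Ω)) a ∧ γ ≠ a := Iff.rfl

theorem card_SK [Finite G] [Finite Ω] {a b : Ω} (β : orbit (stabilizer G a) b)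
    (hc : Nat.card (stabilizer G (β : Ω)) = Nat.card (stabilizer G a)) :
    Nat.card (SK a b β) = Nat.card (orbit (stabilizer G a) b) - 1 := by
  have h1 : Nat.card (SK a b β) = (orbit (stabilizer G (β : Ω)) a \ {a}).ncard := by
    rw [← Nat.card_coe_set_eq]
    rfl
  rw [h1, Set.ncard_sdiff_singleton_of_mem (MulAction.mem_orbit_self a), ← Nat.card_coe_set_eq,
    card_orbit_swap hc, orbit_stabilizer_eq_of_mem β.2]

/-- Step 2: `XK a b / PK a b` embeds in a product of `d` symmetric groups of degree `d - 1`. -/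
theorem relIndex_PK_dvd [Finite G] [Finite Ω] (a b : Ω)
    (hc : ∀ β ∈ orbit (stabilizer G a) b, Nat.card (stabilizer G β) = Nat.card (stabilizer G a)) :
    (PK G a b).relIndex (XK G a b) ∣
      ((Nat.card (orbit (stabilizer G a) b) - 1).factorial) ^ Nat.card (orbit (stabilizer G a) b) := by
  classical
  let _ : Fintype (orbit (stabilizer G a) b) := Fintype.ofFinite _
  let ψ : ∀ β : orbit (stabilizer G a) b, (XK G a b) →* Equiv.Perm (SK a b β) :=
    fun β => MulAction.toPermHom (XK G a b) (SK a b β)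
  let Ψ : (XK G a b) →* (∀ β : orbit (stabilizer G a) b, Equiv.Perm (SK a b β)) := MonoidHom.pi ψ
  have hker : (PK G a b).subgroupOf (XK G a b) = Ψ.ker := by
    ext x
    rw [Subgroup.mem_subgroupOf, MonoidHom.mem_ker, mem_PK]
    have hxa : (x : G) • a = a := XK_le_left a b x.2
    constructor
    · intro h1
      funext β
      ext s
      obtain ⟨s, hs⟩ := s
      obtain ⟨β, hβ⟩ := β
      obtain ⟨h, hh, rfl⟩ := mem_orbit_stabilizer_iff.1 hβ
      obtain ⟨k, hk, rfl⟩ := mem_orbit_stabilizer_iff.1 hs.1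
      have h2 := (mem_XK.1 (h1 h hh)).2 k hk
      show (((ψ ⟨h • b, hβ⟩ x) ⟨k • a, hs⟩ : SK a b ⟨h • b, hβ⟩) : Ω) = k • a
      exact h2
    · intro h1 h hh
      rw [mem_XK]
      refine ⟨XK_le_smul hh x.2, fun k hk => ?_⟩
      by_cases hka : k • a = a
      · rw [hka, hxa]
      · have hβ : h • b ∈ orbit (stabilizer G a) b := mem_orbit_stabilizer_iff.2 ⟨h, hh, rfl⟩
        have hs : k • a ∈ SK a b ⟨h • b, hβ⟩ :=
          ⟨mem_orbit_stabilizer_iff.2 ⟨k, hk, rfl⟩, hka⟩
        have h2 := congrFun h1 ⟨h • b, hβ⟩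
        have h3 := congrArg (fun f : Equiv.Perm (SK a b ⟨h • b, hβ⟩) =>
          ((f ⟨k • a, hs⟩ : SK a b ⟨h • b, hβ⟩) : Ω)) h2
        exact h3
  unfold Subgroup.relIndex
  rw [hker, Subgroup.index_ker]
  have h := Subgroup.card_subgroup_dvd_card Ψ.range
  rw [Nat.card_pi] at h
  have h2 : ∀ β : orbit (stabilizer G a) b, Nat.card (Equiv.Perm (SK a b β)) =
      (Nat.card (orbit (stabilizer G a) b) - 1).factorial := by
    intro β
    rw [Nat.card_perm, card_SK β (hc β β.2)]
  simp only [h2, Finset.prod_const, Finset.card_univ] at h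
  rwa [← Nat.card_eq_fintype_card] at h

/-- **The index bound.** -/
theorem relIndex_PK_stabilizer_dvd [Finite G] [Finite Ω] (a b : Ω) (d : ℕ)
    (hd : Nat.card (orbit (stabilizer G a) b) = d)
    (hc : ∀ β ∈ orbit (stabilizer G a) b, Nat.card (stabilizer G β) = Nat.card (stabilizer G a)) :
    (PK G a b).relIndex (stabilizer G a) ∣ d.factorial * ((d - 1).factorial) ^ d := by
  rw [← Subgroup.relIndex_mul_relIndex _ _ _ (PK_le_XK a b) (XK_le_left a b), mul_comm]
  have h1 := relIndex_XK_dvd (G := G) a b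
  have h2 := relIndex_PK_dvd a b hc
  rw [hd] at h1 h2
  exact Nat.mul_dvd_mul h1 h2

/-- stabilisers in a transitive action have the same order. -/
theorem card_stabilizer_eq [IsPretransitive G Ω] (x y : Ω) :
    Nat.card (stabilizer G x) = Nat.card (stabilizer G y) := by
  obtain ⟨g, rfl⟩ := exists_smul_eq G y x
  rw [MulAction.stabilizer_smul_eq_stabilizer_map_conj]
  exact Subgroup.card_map_of_injective (MulAut.conj g).injective

end Cfsg.Agent.Helper13.TW
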