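import Mathlib
import Cfsg.Agent.Helper13.TWA
import Cfsg.Agent.Helper13.TWB
import Cfsg.Agent.Helper13.TWC
import Cfsg.Agent.S0022

/-!
Thompson–Wielandt (helper13), part D: if `O_p(G_a) ≠ 1` then `PK a b` is a `p`-group.
-/

set_option autoImplicit false
open MulAction

namespace Cfsg.Agent.Helper13.TW

section General

variable {G : Type*} [Group G]

theorem orderOf_conj' (c x : G) : orderOf (c * x * c⁻¹) = orderOf x := by
  have := orderOf_injective (MulAut.conj c).toMonoidHom (MulAut.conj c).injective x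
  simpa using this

theorem conj_mem_of_mem_normalizer' {A : Subgroup G} {g x : G}
    (hg : g ∈ Subgroup.normalizer (A : Set G)) (hx : x ∈ A) : g * x * g⁻¹ ∈ A :=
  (Subgroup.mem_normalizer_iff.1 hg x).1 hx

theorem conj_inv_mem_of_mem_normalizer' {A : Subgroup G} {g x : G}
    (hg : g ∈ Subgroup.normalizer (A : Set G)) (hx : x ∈ A) : g⁻¹ * x * g ∈ A := by
  have := (Subgroup.mem_normalizer_iff.1 (Subgroup.inv_mem _ hg) x).1 hx
  simpa using this

theorem mem_normalizer_of_conj_mem {A : Subgroup G} {B : Subgroup G}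
    (h : ∀ g ∈ B, ∀ x ∈ A, g * x * g⁻¹ ∈ A) : B ≤ Subgroup.normalizer (A : Set G) := by
  intro g hg
  rw [Subgroup.mem_normalizer_iff]
  intro x
  constructor
  · exact h g hg x
  · intro hx
    have := h g⁻¹ (B.inv_mem hg) _ hx
    simpa [mul_assoc] using this

theorem le_normalizer_inf {A B C : Subgroup G} (hA : C ≤ Subgroup.normalizer (A : Set G))
    (hB : C ≤ Subgroup.normalizer (B : Set G)) : C ≤ Subgroup.normalizer ((A ⊓ B : Subgroup G) : Set G) := by
  apply mem_normalizer_of_conj_mem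
  intro g hg x hx
  exact ⟨conj_mem_of_mem_normalizer' (hA hg) hx.1, conj_mem_of_mem_normalizer' (hB hg) hx.2⟩

/-- if `B` normalises `A` then `A ⊔ B = A B`. -/
theorem mem_sup_of_le_normalizer {A B : Subgroup G} (h : B ≤ Subgroup.normalizer (A : Set G))
    {x : G} (hx : x ∈ A ⊔ B) : ∃ u ∈ A, ∃ v ∈ B, x = u * v := by
  let M : Subgroup G :=
    { carrier := {x | ∃ u ∈ A, ∃ v ∈ B, x = u * v}
      one_mem' := ⟨1, A.one_mem, 1, B.one_mem, by simp⟩
      mul_mem' := by
        rintro _ _ ⟨u, hu, v, hv, rfl⟩ ⟨u', hu', v', hv', rfl⟩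
        refine ⟨u * (v * u' * v⁻¹), A.mul_mem hu (conj_mem_of_mem_normalizer' (h hv) hu'), v * v',
          B.mul_mem hv hv', ?_⟩
        group
      inv_mem' := by
        rintro _ ⟨u, hu, v, hv, rfl⟩
        refine ⟨v⁻¹ * u⁻¹ * v, conj_inv_mem_of_mem_normalizer' (h hv) (A.inv_mem hu), v⁻¹,
          B.inv_mem hv, ?_⟩
        group }
  have hle : A ⊔ B ≤ M := by
    apply sup_le
    · intro u hu
      exact ⟨u, hu, 1, B.one_mem, by simp⟩
    · intro v hv
      exact ⟨1, A.one_mem, v, hv, by simp⟩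
  exact hle hx

/-- **Coprime decomposition.** -/
theorem coprime_decomp [Finite G] {p : ℕ} [Fact p.Prime] {K Y T : Subgroup G}
    (hKY : K ≤ Subgroup.normalizer (Y : Set G)) (hTK : T ≤ K) (hT : IsPGroup p T)
    {x : G} (hxY : x ∈ Y) (hx : (orderOf x).Coprime p)
    (hxT : x ∈ Subgroup.normalizer (T : Set G)) {t : G} (ht : t ∈ T) :
    ∃ c w : G, t = c * w ∧ c * x = x * c ∧ w ∈ Y := by
  have hAT : Subgroup.zpowers x ≤ Subgroup.normalizer (T : Set G) := by
    rw [Subgroup.zpowers_le]; exact hxT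
  have hAY : Subgroup.zpowers x ≤ Y := by
    rw [Subgroup.zpowers_le]; exact hxY
  have hcop : (Nat.card (Subgroup.zpowers x)).Coprime (Nat.card T) := by
    rw [Nat.card_zpowers]
    obtain ⟨n, hn⟩ := hT.exists_card_eq
    rw [hn]
    exact Nat.Coprime.pow_right n hx
  have hN1 : T ≤ Subgroup.normalizer ((T ⊓ Y : Subgroup G) : Set G) :=
    le_normalizer_inf Subgroup.le_normalizer (hTK.trans hKY)
  have hN2 : Subgroup.zpowers x ≤ Subgroup.normalizer ((T ⊓ Y : Subgroup G) : Set G) :=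
    le_normalizer_inf hAT (hAY.trans Subgroup.le_normalizer)
  have hfix : ∀ a ∈ Subgroup.zpowers x, a * t * a⁻¹ * t⁻¹ ∈ (T ⊓ Y : Subgroup G) := by
    intro a ha
    refine ⟨?_, ?_⟩
    · exact T.mul_mem (conj_mem_of_mem_normalizer' (hAT ha) ht) (T.inv_mem ht)
    · have h1 : t * a⁻¹ * t⁻¹ ∈ Y :=
        conj_mem_of_mem_normalizer' (hKY (hTK ht)) (Y.inv_mem (hAY ha))
      have : a * t * a⁻¹ * t⁻¹ = a * (t * a⁻¹ * t⁻¹) := by group
      rw [this]
      exact Y.mul_mem (hAY ha) h1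
  obtain ⟨c, hc, hcN⟩ := Cfsg.Agent.S0022.result (Subgroup.zpowers x) T hAT hcop
    (Or.inl inferInstance) (T ⊓ Y) inf_le_left hN1 hN2 t ht hfix
  refine ⟨c, c⁻¹ * t, by group, ?_, ?_⟩
  · have := Subgroup.mem_centralizer_iff.1 hc.2 x (Subgroup.mem_zpowers x)
    exact this.symm
  · have h1 : (t⁻¹ * c)⁻¹ ∈ Y := Y.inv_mem hcN.2
    have : (t⁻¹ * c)⁻¹ = c⁻¹ * t := by group
    rwa [this] at h1

end General

section Moves

variable {G : Type*} {Ω : Type*} [Group G] [MulAction G Ω]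

/-- `PK a b` contains a nontrivial element of order prime to `p`. -/
def Bad (G : Type*) {Ω : Type*} [Group G] [MulAction G Ω] (p : ℕ) (a b : Ω) : Prop :=
  ∃ x ∈ PK G a b, x ≠ 1 ∧ (orderOf x).Coprime p

theorem Bad.conj {p : ℕ} {a b : Ω} (h : Bad G p a b) (c : G) : Bad G p (c • a) (c • b) := by
  obtain ⟨x, hx, hx1, hxo⟩ := h
  refine ⟨c * x * c⁻¹, conj_mem_PK c hx, ?_, ?_⟩
  · intro hcon
    apply hx1
    have : x = c⁻¹ * (c * x * c⁻¹) * c := by group
    rw [this, hcon]; group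
  · rwa [orderOf_conj']

variable [Finite G] [IsPreprimitive G Ω] [Nontrivial Ω] [FaithfulSMul G Ω]

/-- **The move.** -/
theorem move {p : ℕ} [Fact p.Prime] {a b : Ω} (hbad : Bad G p a b) (T : Subgroup G)
    (hTp : IsPGroup p T) (hTK : T ≤ stabilizer G b)
    (hnorm : XK G b a ≤ Subgroup.normalizer (T : Set G)) : T ≤ stabilizer G a := by
  by_contra hT
  obtain ⟨x₀, hx₀, hx₀1, hx₀o⟩ := hbad
  let S : Set G := {x | x ∈ PK G a b ∧ (orderOf x).Coprime p}
  have hS : ∀ x ∈ S, x • a = a := fun x hx => PK_le_left a b hx.1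
  have hH : ∀ h : G, h • a = a → ∀ x ∈ S, h * x * h⁻¹ ∈ S := by
    intro h hh x hx
    refine ⟨conj_mem_PK_of_fix hh hx.1, ?_⟩
    rw [orderOf_conj']
    exact hx.2
  have hTS : ∀ t ∈ T, ∀ x ∈ S, t * x * t⁻¹ ∈ S := by
    intro t ht x hx
    obtain ⟨c, w, htcw, hcx, hw⟩ := coprime_decomp (stabilizer_le_normalizer_XK b a) hTK hTp
      (PK_le_XK_swap a b hx.1) hx.2 (hnorm (PK_le_XK_swap a b hx.1)) (T.inv_mem ht)
    have hwa : w⁻¹ • a = a := inv_smul_eq_of_smul_eq (XK_le_right b a hw)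
    have h1 : t * x * t⁻¹ = w⁻¹ * x * w⁻¹⁻¹ := by
      have ht' : t = w⁻¹ * c⁻¹ := by
        have := congrArg (fun z => z⁻¹) htcw
        simpa using this
      calc t * x * t⁻¹ = w⁻¹ * c⁻¹ * x * (c * w) := by rw [htcw, ht']
        _ = w⁻¹ * (c⁻¹ * (x * c)) * w := by group
        _ = w⁻¹ * (c⁻¹ * (c * x)) * w := by rw [hcx]
        _ = w⁻¹ * x * w⁻¹⁻¹ := by group
    rw [h1]
    refine ⟨conj_mem_PK_of_fix hwa hx.1, ?_⟩
    rw [orderOf_conj']
    exact hx.2
  have := eq_one_of_moved S hS hH T hT hTS x₀ ⟨hx₀, hx₀o⟩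
  exact hx₀1 this

/-- Move 1: `O_p(G_b)` fixes `a`. -/
theorem Op_stab_le_of_bad {p : ℕ} [Fact p.Prime] {a b : Ω} (hbad : Bad G p a b) :
    Op p (stabilizer G b) ≤ stabilizer G a :=
  move hbad _ (Op_isPGroup p _) (Op_le p _)
    ((XK_le_left b a).trans (le_normalizer_Op p _))

/-- Move 1': `O_p(G_b) ≤ XK b a`. -/
theorem Op_stab_le_XK_of_bad {p : ℕ} [Fact p.Prime] {a b : Ω} (hbad : Bad G p a b) :
    Op p (stabilizer G b) ≤ XK G b a := by
  intro g hg
  rw [mem_XK]
  refine ⟨Op_le p _ hg, fun k hk => ?_⟩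
  have h1 := hbad.conj k
  rw [hk] at h1
  exact Op_stab_le_of_bad h1 hg

/-- Move 2. -/
theorem Op_inf_stab_le_of_bad {p : ℕ} [Fact p.Prime] {a b : Ω} (hbad : Bad G p a b)
    {k : G} (hk : k • b = b) :
    Op p (stabilizer G (k • a)) ⊓ stabilizer G b ≤ stabilizer G a := by
  apply move hbad _ ((Op_isPGroup p _).to_le inf_le_left) inf_le_right
  apply le_normalizer_inf
  · exact (XK_le_smul hk).trans (le_normalizer_Op p _)
  · exact (XK_le_left b a).trans Subgroup.le_normalizer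

/-- Move 2': `O_p(G_a) ∩ G_b ≤ XK b a`. -/
theorem Op_inf_stab_le_XK_of_bad {p : ℕ} [Fact p.Prime] {a b : Ω} (hbad : Bad G p a b) :
    Op p (stabilizer G a) ⊓ stabilizer G b ≤ XK G b a := by
  intro g hg
  rw [mem_XK]
  refine ⟨hg.2, fun k hk => ?_⟩
  have h1 := hbad.conj k
  rw [hk] at h1
  have hk' : k⁻¹ • b = b := inv_smul_eq_of_smul_eq hk
  have h2 := Op_inf_stab_le_of_bad h1 hk'
  rw [inv_smul_smul] at h2
  exact h2 hg

/-- **Move 3**: the configuration is impossible. -/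
theorem not_bad {p : ℕ} [Fact p.Prime] {a b : Ω} (hOp : Op p (stabilizer G a) ≠ ⊥)
    (hmove : ∃ h : G, h • a = a ∧ h • b ≠ b) : ¬ Bad G p a b := by
  intro hbad
  set H := stabilizer G a with hH
  set K := stabilizer G b with hK
  set QH := Op p H with hQH
  set QK := Op p K with hQK
  set Y := XK G b a with hY
  have hYH : Y ≤ H := XK_le_right b a
  have hYK : Y ≤ K := XK_le_left b a
  have h1 : QK ≤ Y := Op_stab_le_XK_of_bad hbad
  have h2 : QH ⊓ K ≤ Y := Op_inf_stab_le_XK_of_bad hbad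
  have h3 : QH ⊓ Y ≤ QK := by
    have h31 : QH ⊓ Y ≤ Op p Y := by
      apply le_Op inf_le_right _ ((Op_isPGroup p H).to_le inf_le_left)
      exact le_normalizer_inf (hYH.trans (le_normalizer_Op p H)) Subgroup.le_normalizer
    exact h31.trans (Op_le_Op_of_normal hYK (stabilizer_le_normalizer_XK b a))
  -- `K` is a conjugate of `H`
  obtain ⟨g₀, hg₀⟩ := exists_smul_eq G a b
  have hKconj : K = H.map (MulAut.conj g₀).toMonoidHom := by
    rw [hK, ← hg₀, MulAction.stabilizer_smul_eq_stabilizer_map_conj]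
  have hQKconj : QK = QH.map (MulAut.conj g₀).toMonoidHom := by
    rw [hQK, hKconj, Op_map_conj]
  have hcard : Nat.card QK = Nat.card QH := by
    rw [hQKconj]
    exact Subgroup.card_map_of_injective (MulAut.conj g₀).injective
  have hQKne : QK ≠ ⊥ := by
    intro hcon
    apply hOp
    rw [hcon] at hcard
    rw [Subgroup.card_bot] at hcard
    exact (Subgroup.card_eq_one).1 hcard.symm
  have hNK : Subgroup.normalizer (QK : Set G) = K :=
    normalizer_eq_stabilizer hQKne (Op_le p K) (le_normalizer_Op p K)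
  have hNH : Subgroup.normalizer (QH : Set G) = H :=
    normalizer_eq_stabilizer hOp (Op_le p H) (le_normalizer_Op p H)
  -- the `p`-group `J = QH QK`
  have hQKnQH : QK ≤ Subgroup.normalizer (QH : Set G) := by
    rw [hNH]; exact h1.trans hYH
  set J := QH ⊔ QK with hJ
  have hJp : IsPGroup p J := IsPGroup.to_sup_of_normal_left' (Op_isPGroup p H) (Op_isPGroup p K) hQKnQH
  have hQKJ : QK ≤ J := le_sup_right
  have : Group.IsNilpotent J := hJp.isNilpotent
  have hnc : NormalizerCondition J := Group.normalizerCondition_of_isNilpotent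
  rw [normalizerCondition_iff_only_full_group_self_normalizing] at hnc
  have hself : Subgroup.normalizer ((QK.subgroupOf J : Subgroup J) : Set J) = QK.subgroupOf J := by
    rw [← Subgroup.subgroupOf_normalizer_eq hQKJ, hNK]
    apply le_antisymm
    · intro j hj
      rw [Subgroup.mem_subgroupOf] at hj ⊢
      obtain ⟨u, hu, v, hv, huv⟩ := mem_sup_of_le_normalizer hQKnQH j.2
      have huK : u ∈ K := by
        have : u = (j : G) * v⁻¹ := by rw [huv]; group
        rw [this]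
        exact K.mul_mem hj (K.inv_mem (Op_le p K hv))
      have huY : u ∈ Y := h2 ⟨hu, huK⟩
      have huQK : u ∈ QK := h3 ⟨hu, huY⟩
      rw [huv]
      exact QK.mul_mem huQK hv
    · intro j hj
      rw [Subgroup.mem_subgroupOf] at hj ⊢
      exact Op_le p K hj
  have htop := hnc _ hself
  have hJle : J ≤ QK := by
    intro j hj
    have : (⟨j, hj⟩ : J) ∈ QK.subgroupOf J := by rw [htop]; trivial
    exact this
  have hQHQK : QH = QK := by
    apply Subgroup.eq_of_le_of_card_ge (le_sup_left.trans hJle)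
    rw [hcard]
  have hHK : H = K := by rw [← hNH, ← hNK, hQHQK]
  obtain ⟨h, hha, hhb⟩ := hmove
  apply hhb
  have : h ∈ K := by rw [← hHK]; exact hha
  exact this

/-- **R2**: if `O_p(G_a) ≠ 1` (and `G_a` moves `b`) then `PK a b` is a `p`-group. -/
theorem PK_isPGroup {p : ℕ} [Fact p.Prime] {a b : Ω} (hOp : Op p (stabilizer G a) ≠ ⊥)
    (hmove : ∃ h : G, h • a = a ∧ h • b ≠ b) : IsPGroup p (PK G a b) := by
  have hnb := not_bad hOp hmove
  intro g
  have hp : p ≠ 1 := (Fact.out : p.Prime).ne_one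
  have hn0 : orderOf g ≠ 0 := (orderOf_pos g).ne'
  obtain ⟨e, m, hm, hem⟩ := Nat.exists_eq_pow_mul_and_not_dvd hn0 p hp
  refine ⟨e, ?_⟩
  by_contra hne
  apply hnb
  refine ⟨((g ^ p ^ e : PK G a b) : G), (g ^ p ^ e).2, ?_, ?_⟩
  · intro hcon
    apply hne
    exact Subtype.ext hcon
  · have h1 : orderOf ((g ^ p ^ e : PK G a b) : G) = orderOf (g ^ p ^ e) := Subgroup.orderOf_coe _
    rw [h1, orderOf_pow, hem]
    have h2 : (p ^ e * m).gcd (p ^ e) = p ^ e := Nat.gcd_eq_right (Dvd.intro _ rfl)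
    rw [h2, Nat.mul_div_cancel_left _ (pow_pos (Fact.out : p.Prime).pos e)]
    exact (Nat.Coprime.symm ((Nat.Prime.coprime_iff_not_dvd (Fact.out : p.Prime)).2 hm))

end Moves

end Cfsg.Agent.Helper13.TW
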