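import Mathlib
import Cfsg.Prelude.Def_Local
import Cfsg.Agent.Helper21.Quasisimple
import Cfsg.Agent.Helper21.Components
import Cfsg.Agent.Helper22.Layer
import Cfsg.Agent.Helper22.SubLayer

/-!
Thompson–Wielandt (helper13), part E: an abstract lemma on components.
If `X ⊴ H`, `Y ⊴ K`, `X, Y ≤ H ⊓ K` and `C_G(X) ≤ X`, `C_G(Y) ≤ Y`, then `H` and `K` have the same layer.
-/

set_option autoImplicit false

namespace Cfsg.Agent.Helper13.TW

open Cfsg
open scoped commutatorElement

variable {G : Type*} [Group G]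

/-- a component of `Y ⊴ K` is a component of `K`. -/
theorem isComponent_subgroupOf_of_normal {Y K L : Subgroup G} (hLY : L ≤ Y) (hYK : Y ≤ K)
    (hKY : K ≤ Subgroup.normalizer (Y : Set G)) (hL : IsComponent (L.subgroupOf Y)) :
    IsComponent (L.subgroupOf K) := by
  obtain ⟨hsn, hq⟩ := hL
  refine ⟨?_, ?_⟩
  · have hYn : (Y.subgroupOf K).Normal :=
      (Subgroup.normal_subgroupOf_iff_le_normalizer hYK).2 hKY
    have hle : L.subgroupOf K ≤ Y.subgroupOf K := fun z hz =>
      Subgroup.mem_subgroupOf.2 (hLY (Subgroup.mem_subgroupOf.1 hz))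
    apply Subgroup.IsSubnormal.trans hle _ hYn.isSubnormal
    have hcomap := hsn.comap (Subgroup.subgroupOfEquivOfLe hYK).toMonoidHom
    have heq : (L.subgroupOf Y).comap (Subgroup.subgroupOfEquivOfLe hYK).toMonoidHom =
        (L.subgroupOf K).subgroupOf (Y.subgroupOf K) := by
      ext z
      rw [Subgroup.mem_comap, Subgroup.mem_subgroupOf, Subgroup.mem_subgroupOf,
        Subgroup.mem_subgroupOf]
      rfl
    rwa [heq] at hcomap
  · exact Cfsg.Agent.Helper21.IsQuasisimple.of_mulEquiv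
      ((Subgroup.subgroupOfEquivOfLe hLY).trans (Subgroup.subgroupOfEquivOfLe (hLY.trans hYK)).symm) hq

/-- a component of `H` contained in `Y ≤ H` is a component of `Y`. -/
theorem isComponent_subgroupOf_of_le' {Y H L : Subgroup G} (hLY : L ≤ Y) (hYH : Y ≤ H)
    (hL : IsComponent (L.subgroupOf H)) : IsComponent (L.subgroupOf Y) := by
  obtain ⟨hsn, hq⟩ := hL
  refine ⟨?_, ?_⟩
  · have h1 : ((L.subgroupOf H).subgroupOf (Y.subgroupOf H)).IsSubnormal := hsn.subgroupOf
    have hcomap := h1.comap (Subgroup.subgroupOfEquivOfLe hYH).symm.toMonoidHom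
    have heq : ((L.subgroupOf H).subgroupOf (Y.subgroupOf H)).comap
        (Subgroup.subgroupOfEquivOfLe hYH).symm.toMonoidHom = L.subgroupOf Y := by
      ext z
      rw [Subgroup.mem_comap, Subgroup.mem_subgroupOf, Subgroup.mem_subgroupOf,
        Subgroup.mem_subgroupOf]
      rfl
    rwa [heq] at hcomap
  · exact Cfsg.Agent.Helper21.IsQuasisimple.of_mulEquiv
      ((Subgroup.subgroupOfEquivOfLe (hLY.trans hYH)).trans (Subgroup.subgroupOfEquivOfLe hLY).symm) hq

/-- A component `L` of `H` normalising `Y ≤ H` with `C_G(Y) ≤ Y` lies in `Y`. -/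
theorem component_le_of_centralizer_le {H Y L : Subgroup G} (hLH : L ≤ H) (hYH : Y ≤ H)
    (hL : IsComponent (L.subgroupOf H)) (hLY : L ≤ Subgroup.normalizer (Y : Set G))
    (hCY : Subgroup.centralizer (Y : Set G) ≤ Y) : L ≤ Y := by
  have hnorm : L.subgroupOf H ≤ Subgroup.normalizer ((Y.subgroupOf H : Subgroup H) : Set H) := by
    intro z hz
    rw [Subgroup.mem_subgroupOf] at hz
    have hz' := hLY hz
    rw [Subgroup.mem_normalizer_iff] at hz' ⊢
    intro y
    rw [Subgroup.mem_subgroupOf, Subgroup.mem_subgroupOf]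
    exact hz' y
  rcases Cfsg.Agent.Helper21.IsComponent.le_or_commutator_eq_bot hL (Y.subgroupOf H) hnorm with h | h
  · intro l hl
    have : (⟨l, hLH hl⟩ : H) ∈ Y.subgroupOf H := h (Subgroup.mem_subgroupOf.2 hl)
    exact Subgroup.mem_subgroupOf.1 this
  · apply le_trans _ hCY
    intro l hl
    rw [Subgroup.mem_centralizer_iff]
    intro y hy
    have h1 : ⁅(⟨l, hLH hl⟩ : H), (⟨y, hYH hy⟩ : H)⁆ ∈ ⁅L.subgroupOf H, Y.subgroupOf H⁆ :=
      Subgroup.commutator_mem_commutator (Subgroup.mem_subgroupOf.2 hl) (Subgroup.mem_subgroupOf.2 hy)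
    rw [h, Subgroup.mem_bot] at h1
    have h2 : ⁅l, y⁆ = 1 := by
      have := congrArg (fun z : H => (z : G)) h1
      simpa [commutatorElement_def] using this
    rw [commutatorElement_def] at h2
    have : l * y = y * l := by
      have h3 : l * y * l⁻¹ * y⁻¹ * (y * l) = 1 * (y * l) := by rw [h2]
      simpa [mul_assoc] using h3
    exact this.symm

/-- **Abstract component lemma.** -/
theorem component_transfer {H K X Y : Subgroup G} (hXH : X ≤ H) (hXK : X ≤ K) (hYH : Y ≤ H)
    (hYK : Y ≤ K) (hHX : H ≤ Subgroup.normalizer (X : Set G))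
    (hKY : K ≤ Subgroup.normalizer (Y : Set G))
    (hCX : Subgroup.centralizer (X : Set G) ≤ X) (hCY : Subgroup.centralizer (Y : Set G) ≤ Y)
    {L : Subgroup G} (hLH : L ≤ H) (hL : IsComponent (L.subgroupOf H)) :
    L ≤ K ∧ IsComponent (L.subgroupOf K) := by
  have h1 : L ≤ X := component_le_of_centralizer_le hLH hXH hL (hLH.trans hHX) hCX
  have h2 : L ≤ Y := component_le_of_centralizer_le hLH hYH hL ((h1.trans hXK).trans hKY) hCY
  refine ⟨h2.trans hYK, ?_⟩
  exact isComponent_subgroupOf_of_normal h2 hYK hKY (isComponent_subgroupOf_of_le' h2 hYH hL)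

theorem map_layer_le_of_transfer {H K : Subgroup G}
    (h : ∀ L : Subgroup G, L ≤ H → IsComponent (L.subgroupOf H) → L ≤ K ∧ IsComponent (L.subgroupOf K)) :
    (layer ↥H).map H.subtype ≤ (layer ↥K).map K.subtype := by
  rw [Subgroup.map_le_iff_le_comap, Cfsg.Agent.Helper22.layer_le_iff]
  intro L₀ hL₀
  have hLH : L₀.map H.subtype ≤ H := Subgroup.map_subtype_le L₀
  have hL' : IsComponent ((L₀.map H.subtype).subgroupOf H) := by
    have : (L₀.map H.subtype).subgroupOf H = L₀ := by
      ext z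
      rw [Subgroup.mem_subgroupOf]
      constructor
      · rintro ⟨y, hy, hyz⟩
        have : y = z := Subtype.ext hyz
        rwa [← this]
      · intro hz
        exact ⟨z, hz, rfl⟩
    rwa [this]
  obtain ⟨hLK, hLc⟩ := h _ hLH hL'
  rw [← Subgroup.map_le_iff_le_comap]
  calc L₀.map H.subtype = ((L₀.map H.subtype).subgroupOf K).map K.subtype :=
        (Subgroup.map_subgroupOf_eq_of_le hLK).symm
    _ ≤ (layer ↥K).map K.subtype :=
        Subgroup.map_mono (Cfsg.Agent.Helper22.IsComponent.le_layer hLc)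

end Cfsg.Agent.Helper13.TW
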