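import Mathlib
import Cfsg.Prelude.Def_Local
import Cfsg.Agent.Helper13.TWA
import Cfsg.Agent.Helper13.TWB
import Cfsg.Agent.Helper13.TWC
import Cfsg.Agent.Helper13.TWD
import Cfsg.Agent.Helper13.TWE
import Cfsg.Agent.Helper21.Radical
import Cfsg.Agent.Helper21.FStarComm

/-!
Thompson–Wielandt (helper13), part F: if `PK a b` and `PK b a` are both nontrivial then
`O_p(G_a) ≠ 1` for some prime `p`.
-/

set_option autoImplicit false
open MulAction

namespace Cfsg.Agent.Helper13.TW

open Cfsg

variable {G : Type*} {Ω : Type*} [Group G] [MulAction G Ω]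

theorem PK_conj_ne_bot {a b : Ω} (hP : PK G a b ≠ ⊥) (c : G) : PK G (c • a) (c • b) ≠ ⊥ := by
  intro hcon
  apply hP
  rw [eq_bot_iff]
  intro x hx
  have h1 := conj_mem_PK c hx
  rw [hcon, Subgroup.mem_bot] at h1
  rw [Subgroup.mem_bot]
  have : x = c⁻¹ * (c * x * c⁻¹) * c := by group
  rw [this, h1]; group

variable [Finite G] [IsPreprimitive G Ω] [Nontrivial Ω] [FaithfulSMul G Ω]

/-- **(f)** if `PK a b ≠ 1` then `C_G(XK b a) ≤ XK b a`. -/
theorem centralizer_XK_le {a b : Ω} (hP : PK G a b ≠ ⊥) :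
    Subgroup.centralizer (XK G b a : Set G) ≤ XK G b a := by
  have hYne : XK G b a ≠ ⊥ := by
    intro hcon
    apply hP
    rw [eq_bot_iff, ← hcon]
    exact PK_le_XK_swap a b
  have hNY : Subgroup.normalizer (XK G b a : Set G) = stabilizer G b :=
    normalizer_eq_stabilizer hYne (XK_le_left b a) (stabilizer_le_normalizer_XK b a)
  intro g hg
  rw [mem_XK]
  refine ⟨?_, fun k hk => ?_⟩
  · have : g ∈ Subgroup.normalizer (XK G b a : Set G) := Subgroup.centralizer_le_normalizer _ hg
    rw [hNY] at this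
    exact this
  · -- `PK (k • a) b` is a nontrivial normal subgroup of `G_{k • a}` inside `XK b a`
    have h1 : PK G (k • a) b ≠ ⊥ := by
      have := PK_conj_ne_bot hP k
      rwa [hk] at this
    have h2 : PK G (k • a) b ≤ XK G b a := by
      have := PK_le_XK_swap (G := G) (k • a) b
      rwa [XK_smul_right hk] at this
    have h3 : Subgroup.normalizer (PK G (k • a) b : Set G) = stabilizer G (k • a) :=
      normalizer_eq_stabilizer h1 (PK_le_left _ _) (stabilizer_le_normalizer_PK _ _)
    have h4 : g ∈ Subgroup.centralizer (PK G (k • a) b : Set G) :=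
      Subgroup.centralizer_le (by exact_mod_cast h2) hg
    have h5 : g ∈ Subgroup.normalizer (PK G (k • a) b : Set G) := Subgroup.centralizer_le_normalizer _ h4
    rw [h3] at h5
    exact h5

omit [Finite G] in
theorem sup_stabilizer_eq_top {a b : Ω} (hmove : ∃ h : G, h • a = a ∧ h • b ≠ b) :
    stabilizer G a ⊔ stabilizer G b = ⊤ := by
  obtain ⟨h, hha, hhb⟩ := hmove
  rcases (isCoatom_stab (G := G) b).le_iff.1 (le_sup_right : stabilizer G b ≤ stabilizer G a ⊔ stabilizer G b) with h1 | h1
  · exact h1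
  · exfalso
    apply hhb
    have : h ∈ stabilizer G a ⊔ stabilizer G b := Subgroup.mem_sup_left hha
    rw [h1] at this
    exact this

/-- if `PK a b` and `PK b a` are nontrivial then the layer of `G_a` is trivial. -/
theorem layer_stabilizer_eq_bot {a b : Ω} (hP : PK G a b ≠ ⊥) (hP' : PK G b a ≠ ⊥)
    (hmove : ∃ h : G, h • a = a ∧ h • b ≠ b) : layer ↥(stabilizer G a) = ⊥ := by
  set H := stabilizer G a with hH
  set K := stabilizer G b with hK
  have hCY := centralizer_XK_le hP
  have hCX := centralizer_XK_le hP'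
  have t1 := fun (L : Subgroup G) (hLH : L ≤ H) (hL : IsComponent (L.subgroupOf H)) =>
    component_transfer (XK_le_left a b) (XK_le_right a b) (XK_le_right b a) (XK_le_left b a)
      (stabilizer_le_normalizer_XK a b) (stabilizer_le_normalizer_XK b a) hCX hCY hLH hL
  have t2 := fun (L : Subgroup G) (hLK : L ≤ K) (hL : IsComponent (L.subgroupOf K)) =>
    component_transfer (XK_le_left b a) (XK_le_right b a) (XK_le_right a b) (XK_le_left a b)
      (stabilizer_le_normalizer_XK b a) (stabilizer_le_normalizer_XK a b) hCY hCX hLK hL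
  have hE : (layer ↥H).map H.subtype = (layer ↥K).map K.subtype :=
    le_antisymm (map_layer_le_of_transfer t1) (map_layer_le_of_transfer t2)
  set E := (layer ↥H).map H.subtype with hEdef
  have hEH : E ≤ H := Subgroup.map_subtype_le _
  have hnH : H ≤ Subgroup.normalizer (E : Set G) := by
    apply mem_normalizer_of_conj_mem
    rintro h hh _ ⟨x, hx, rfl⟩
    have hn : (layer ↥H).Normal := Cfsg.Agent.Helper21.layer_normal
    exact ⟨⟨h, hh⟩ * x * ⟨h, hh⟩⁻¹, hn.conj_mem x hx ⟨h, hh⟩, by simp⟩
  have hnK : K ≤ Subgroup.normalizer (E : Set G) := by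
    rw [hE]
    apply mem_normalizer_of_conj_mem
    rintro k hk _ ⟨x, hx, rfl⟩
    have hn : (layer ↥K).Normal := Cfsg.Agent.Helper21.layer_normal
    exact ⟨⟨k, hk⟩ * x * ⟨k, hk⟩⁻¹, hn.conj_mem x hx ⟨k, hk⟩, by simp⟩
  have htop : Subgroup.normalizer (E : Set G) = ⊤ := by
    rw [eq_top_iff, ← sup_stabilizer_eq_top hmove]
    exact sup_le hnH hnK
  have hEbot : E = ⊥ := eq_bot_of_normalizer_eq_top hEH htop
  rw [hEdef] at hEbot
  exact (Subgroup.map_eq_bot_iff_of_injective _ H.subtype_injective).1 hEbot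

/-- **R3**: if `PK a b` and `PK b a` are both nontrivial, some `O_p(G_a)` is nontrivial. -/
theorem exists_prime_Op_ne_bot {a b : Ω} (hP : PK G a b ≠ ⊥) (hP' : PK G b a ≠ ⊥)
    (hmove : ∃ h : G, h • a = a ∧ h • b ≠ b) :
    ∃ p : ℕ, p.Prime ∧ Op p (stabilizer G a) ≠ ⊥ := by
  by_contra hcon
  push Not at hcon
  set H := stabilizer G a with hH
  have hlayer := layer_stabilizer_eq_bot hP hP' hmove
  have hcore : ∀ p : ℕ, p.Prime → pCore p ↥H = ⊥ := by
    intro p hp
    have := hcon p hp
    unfold Op at this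
    exact (Subgroup.map_eq_bot_iff_of_injective _ H.subtype_injective).1 this
  have hfit : fittingSubgroup ↥H = ⊥ := by
    have hcard : Nat.card (fittingSubgroup ↥H) = 1 := by
      rw [Nat.eq_one_iff_not_exists_prime_dvd]
      intro p hp hdvd
      have : Fact p.Prime := ⟨hp⟩
      have hcop := Cfsg.Agent.Helper21.card_fittingSubgroup_coprime (G := ↥H) (hcore p hp)
      exact hp.one_lt.ne' (Nat.Coprime.eq_one_of_dvd hcop.symm hdvd)
    exact Subgroup.card_eq_one.1 hcard
  have hF : generalizedFittingSubgroup ↥H = ⊥ := by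
    unfold generalizedFittingSubgroup
    rw [hlayer, hfit, sup_bot_eq]
  have hB := Cfsg.Agent.Helper21.centralizer_generalizedFittingSubgroup_le (G := ↥H)
  rw [hF] at hB
  have hHbot : H = ⊥ := by
    rw [eq_bot_iff]
    intro h hh
    have : (⟨h, hh⟩ : H) ∈ Subgroup.centralizer (((⊥ : Subgroup H) : Set H)) := by
      rw [Subgroup.mem_centralizer_iff]
      intro x hx
      rw [SetLike.mem_coe, Subgroup.mem_bot] at hx
      rw [hx]; simp
    have := hB this
    rw [Subgroup.mem_bot] at this
    rw [Subgroup.mem_bot]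
    exact congrArg Subtype.val this
  apply hP
  rw [eq_bot_iff, ← hHbot]
  exact PK_le_left a b

end Cfsg.Agent.Helper13.TW
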