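import Mathlib
import Cfsg.Agent.Helper13.TWA
import Cfsg.Agent.Helper13.TWB
import Cfsg.Agent.Helper13.TWC
import Cfsg.Agent.Helper13.TWD
import Cfsg.Agent.Helper13.TWF

/-!
Thompson–Wielandt (helper13), part G: assembling the bound.
-/

set_option autoImplicit false
open MulAction

namespace Cfsg.Agent.Helper13.TW

variable {G : Type*} {Ω : Type*} [Group G] [MulAction G Ω]

theorem exists_move_of_two_le {a b : Ω} (h2 : 2 ≤ Nat.card (orbit (stabilizer G a) b)) :
    ∃ h : G, h • a = a ∧ h • b ≠ b := by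
  by_contra hcon
  push Not at hcon
  have hsub : Subsingleton (orbit (stabilizer G a) b) := by
    constructor
    rintro ⟨x, hx⟩ ⟨y, hy⟩
    obtain ⟨h, hh, rfl⟩ := mem_orbit_stabilizer_iff.1 hx
    obtain ⟨k, hk, rfl⟩ := mem_orbit_stabilizer_iff.1 hy
    apply Subtype.ext
    show h • b = k • b
    rw [hcon h hh, hcon k hk]
  have : Nat.card (orbit (stabilizer G a) b) ≤ 1 := Finite.card_le_one_iff_subsingleton.2 hsub
  omega

theorem nontrivial_of_move {a b : Ω} (hmove : ∃ h : G, h • a = a ∧ h • b ≠ b) : Nontrivial Ω := by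
  obtain ⟨h, _, hb⟩ := hmove
  exact ⟨⟨h • b, b, hb⟩⟩

/-- Either `|G_a|` divides the bound, or both `PK a b` and `PK b a` are nontrivial. -/
theorem card_dvd_or_ne_bot [Finite G] [Finite Ω] [IsPretransitive G Ω] (a b : Ω) (d : ℕ)
    (hd : Nat.card (orbit (stabilizer G a) b) = d) :
    Nat.card (stabilizer G a) ∣ d.factorial * ((d - 1).factorial) ^ d ∨
      (PK G a b ≠ ⊥ ∧ PK G b a ≠ ⊥) := by
  have hc : ∀ x y : Ω, Nat.card (stabilizer G x) = Nat.card (stabilizer G y) :=
    fun x y => card_stabilizer_eq x y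
  have hd' : Nat.card (orbit (stabilizer G b) a) = d := by
    rw [card_orbit_swap (hc b a), hd]
  have b1 := relIndex_PK_stabilizer_dvd a b d hd (fun β _ => hc β a)
  have b2 := relIndex_PK_stabilizer_dvd b a d hd' (fun β _ => hc β b)
  by_cases hP : PK G a b = ⊥
  · left
    rwa [hP, Subgroup.relIndex_bot_left] at b1
  · by_cases hP' : PK G b a = ⊥
    · left
      rw [hP', Subgroup.relIndex_bot_left, hc b a] at b2
      exact b2
    · right
      exact ⟨hP, hP'⟩

end Cfsg.Agent.Helper13.TW
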