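import Mathlib
import Cfsg.Prelude.Def_Local
import Cfsg.Agent.Helper13.TWA
import Cfsg.Agent.Helper13.TWB
import Cfsg.Agent.Helper13.TWC
import Cfsg.Agent.Helper13.TWD
import Cfsg.Agent.Helper13.TWF
import Cfsg.Agent.Helper24.Coprime

/-!
Thompson–Wielandt (helper13), part H: if `PK a b` is a nontrivial `p`-group then
`C_{G_a}(O_p(G_a)) ≤ O_p(G_a)`.
-/

set_option autoImplicit false
open MulAction

namespace Cfsg.Agent.Helper13.TW

open Cfsg

section General

variable {G : Type*} [Group G]

theorem le_normalizer_Op_of_le_normalizer {p : ℕ} {Y K : Subgroup G}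
    (hn : K ≤ Subgroup.normalizer (Y : Set G)) : K ≤ Subgroup.normalizer (Op p Y : Set G) := by
  apply mem_normalizer_of_conj_mem
  intro k hk x hx
  have h1 : Y.map (MulAut.conj k).toMonoidHom = Y := by
    ext y
    constructor
    · rintro ⟨z, hz, rfl⟩
      simp only [MulEquiv.coe_toMonoidHom, MulAut.conj_apply]
      exact conj_mem_of_mem_normalizer' (hn hk) hz
    · intro hy
      exact ⟨k⁻¹ * y * k, conj_inv_mem_of_mem_normalizer' (hn hk) hy, by simp [mul_assoc]⟩
  have h2 := Op_map_conj p Y k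
  rw [h1] at h2
  rw [h2]
  exact ⟨x, hx, by simp⟩

/-- in a finite group, a set closed under right multiplication by `T` is closed under right
multiplication by the subgroup generated by `T`. -/
theorem mul_mem_of_mem_closure [Finite G] {S T : Set G} (h : ∀ g ∈ S, ∀ t ∈ T, g * t ∈ S) :
    ∀ t ∈ Subgroup.closure T, ∀ g ∈ S, g * t ∈ S := by
  intro t ht
  induction ht using Subgroup.closure_induction with
  | mem x hx => exact fun g hg => h g hg x hx
  | one => intro g hg; simpa using hg
  | mul x y _ _ hx hy => intro g hg; rw [← mul_assoc]; exact hy _ (hx g hg)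
  | inv x _ hx =>
    have hpow : ∀ n : ℕ, ∀ g ∈ S, g * x ^ n ∈ S := by
      intro n
      induction n with
      | zero => intro g hg; simpa using hg
      | succ n ih => intro g hg; rw [pow_succ, ← mul_assoc]; exact hx _ (ih g hg)
    have : x⁻¹ = x ^ (orderOf x - 1) := by
      apply inv_eq_of_mul_eq_one_right
      rw [← pow_succ', Nat.sub_add_cancel (orderOf_pos x), pow_orderOf_eq_one]
    rw [this]; exact hpow _

end General

variable {G : Type*} {Ω : Type*} [Group G] [MulAction G Ω]

theorem PK_conj_eq_map {a b : Ω} (c : G) :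
    PK G (c • a) (c • b) = (PK G a b).map (MulAut.conj c).toMonoidHom := by
  ext y
  constructor
  · intro hy
    have h1 := conj_mem_PK c⁻¹ hy
    rw [inv_smul_smul, inv_smul_smul] at h1
    exact ⟨_, h1, by simp [mul_assoc]⟩
  · rintro ⟨x, hx, rfl⟩
    simp only [MulEquiv.coe_toMonoidHom, MulAut.conj_apply]
    exact conj_mem_PK c hx

theorem PK_conj_isPGroup {p : ℕ} {a b : Ω} (h : IsPGroup p (PK G a b)) (c : G) :
    IsPGroup p (PK G (c • a) (c • b)) := by
  rw [PK_conj_eq_map]
  exact h.map _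

/-- conjugates of `PK a b` by `G_b` lie in `O_p(XK b a)`. -/
theorem PK_smul_le_Op_XK {p : ℕ} {a b : Ω} (hPp : IsPGroup p (PK G a b)) {k : G} (hk : k • b = b) :
    PK G (k • a) b ≤ Op p (XK G b a) := by
  have h2 : PK G (k • a) b ≤ XK G b a := by
    have := PK_le_XK_swap (G := G) (k • a) b
    rwa [XK_smul_right hk] at this
  have hp : IsPGroup p (PK G (k • a) b) := by
    have := PK_conj_isPGroup hPp k
    rwa [hk] at this
  exact le_Op h2 ((XK_le_smul hk).trans (stabilizer_le_normalizer_PK _ _)) hp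

variable [Finite G] [IsPreprimitive G Ω] [Nontrivial Ω] [FaithfulSMul G Ω]

/-- **(d)** if `PK a b` is a nontrivial `p`-group then `C_G(O_p(XK b a)) ≤ XK b a`. -/
theorem centralizer_Op_XK_le {p : ℕ} {a b : Ω} (hP : PK G a b ≠ ⊥) (hPp : IsPGroup p (PK G a b)) :
    Subgroup.centralizer (Op p (XK G b a) : Set G) ≤ XK G b a := by
  have hle : PK G a b ≤ Op p (XK G b a) := by
    have := PK_smul_le_Op_XK hPp (one_smul G b)
    rwa [one_smul] at this
  have hOne : Op p (XK G b a) ≠ ⊥ := by
    intro hcon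
    apply hP
    rw [eq_bot_iff, ← hcon]
    exact hle
  have hN : Subgroup.normalizer (Op p (XK G b a) : Set G) = stabilizer G b :=
    normalizer_eq_stabilizer hOne ((Op_le p _).trans (XK_le_left b a))
      (le_normalizer_Op_of_le_normalizer (stabilizer_le_normalizer_XK b a))
  intro g hg
  rw [mem_XK]
  refine ⟨?_, fun k hk => ?_⟩
  · have : g ∈ Subgroup.normalizer (Op p (XK G b a) : Set G) :=
      Subgroup.centralizer_le_normalizer _ hg
    rw [hN] at this
    exact this
  · have h1 : PK G (k • a) b ≠ ⊥ := by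
      have := PK_conj_ne_bot hP k
      rwa [hk] at this
    have h2 : PK G (k • a) b ≤ Op p (XK G b a) := PK_smul_le_Op_XK hPp hk
    have h3 : Subgroup.normalizer (PK G (k • a) b : Set G) = stabilizer G (k • a) :=
      normalizer_eq_stabilizer h1 (PK_le_left _ _) (stabilizer_le_normalizer_PK _ _)
    have h4 : g ∈ Subgroup.centralizer (PK G (k • a) b : Set G) :=
      Subgroup.centralizer_le (by exact_mod_cast h2) hg
    have h5 : g ∈ Subgroup.normalizer (PK G (k • a) b : Set G) :=
      Subgroup.centralizer_le_normalizer _ h4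
    rw [h3] at h5
    exact h5

/-- **Base lemma.** A `p'`-element centralising `O_p(G_b)` centralises `O_p(G_a)`. -/
theorem base_lemma {p : ℕ} [Fact p.Prime] {a b : Ω} (hP : PK G a b ≠ ⊥)
    (hPp : IsPGroup p (PK G a b)) {c : G} (hc : (orderOf c).Coprime p)
    (hcK : ∀ x ∈ Op p (stabilizer G b), c * x = x * c) :
    ∀ x ∈ Op p (stabilizer G a), c * x = x * c := by
  set H := stabilizer G a with hH
  set K := stabilizer G b with hK
  set Y := XK G b a with hY
  have hYH : Y ≤ H := XK_le_right b a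
  have hYK : Y ≤ K := XK_le_left b a
  have hd := centralizer_Op_XK_le hP hPp
  have hOYK : Op p Y ≤ Op p K := Op_le_Op_of_normal hYK (stabilizer_le_normalizer_XK b a)
  have hcY : c ∈ Y := by
    apply hd
    rw [Subgroup.mem_centralizer_iff]
    intro x hx
    exact (hcK x (hOYK hx)).symm
  have hcH : c ∈ H := hYH hcY
  have h31 : Op p H ⊓ Y ≤ Op p Y := by
    apply le_Op inf_le_right _ ((Op_isPGroup p H).to_le inf_le_left)
    exact le_normalizer_inf (hYH.trans (le_normalizer_Op p H)) Subgroup.le_normalizer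
  apply Cfsg.Agent.Helper24.thompson_PxQ (Op_isPGroup p H) (Op_isPGroup p Y)
    (((Op_le p Y).trans hYH).trans (le_normalizer_Op p H)) (le_normalizer_Op p H hcH) hc
  · intro x hx
    exact hcK x (hOYK hx)
  · intro u hu hub
    have huY : u ∈ Y := by
      apply hd
      rw [Subgroup.mem_centralizer_iff]
      intro x hx
      exact hub x hx
    exact hcK u (hOYK (h31 ⟨hu, huY⟩))

/-- a `p'`-element centralising `O_p(G_a)` centralises all its conjugates. -/
theorem centralizes_conj {p : ℕ} [Fact p.Prime] {a b : Ω} (hP : PK G a b ≠ ⊥)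
    (hPp : IsPGroup p (PK G a b)) (hab : a ≠ b) {c : G} (hc : (orderOf c).Coprime p)
    (hcH : ∀ x ∈ Op p (stabilizer G a), c * x = x * c) :
    ∀ g : G, ∀ x ∈ Op p (stabilizer G a), c * (g * x * g⁻¹) = (g * x * g⁻¹) * c := by
  set H := stabilizer G a with hH
  set K := stabilizer G b with hK
  obtain ⟨g₀, hg₀⟩ := exists_smul_eq G a b
  have hKconj : K = H.map (MulAut.conj g₀).toMonoidHom := by
    rw [hK, ← hg₀, MulAction.stabilizer_smul_eq_stabilizer_map_conj]
  have hQKconj : Op p K = (Op p H).map (MulAut.conj g₀).toMonoidHom := by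
    rw [hKconj, Op_map_conj]
  let S : Set G := {g | ∀ x ∈ Op p H, c * (g * x * g⁻¹) = (g * x * g⁻¹) * c}
  let T : Set G := (H : Set G) ∪ {g₀⁻¹}
  have hST : ∀ g ∈ S, ∀ t ∈ T, g * t ∈ S := by
    intro g hg t ht
    rcases ht with ht | ht
    · intro x hx
      have hx' : t * x * t⁻¹ ∈ Op p H := conj_mem_of_mem_normalizer' (le_normalizer_Op p H ht) hx
      have := hg _ hx'
      have e : g * t * x * (g * t)⁻¹ = g * (t * x * t⁻¹) * g⁻¹ := by group
      rw [e]
      exact this
    · rw [Set.mem_singleton_iff] at ht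
      subst ht
      -- `c' = (g g₀⁻¹)⁻¹ c (g g₀⁻¹)` centralises `O_p(K)`
      set c' := (g * g₀⁻¹)⁻¹ * c * (g * g₀⁻¹) with hc'
      have hc'o : (orderOf c').Coprime p := by
        have : c' = (g * g₀⁻¹)⁻¹ * c * ((g * g₀⁻¹)⁻¹)⁻¹ := by rw [hc', inv_inv]
        rw [this, orderOf_conj']
        exact hc
      have hc'K : ∀ y ∈ Op p K, c' * y = y * c' := by
        intro y hy
        rw [hQKconj] at hy
        obtain ⟨x, hx, rfl⟩ := hy
        simp only [MulEquiv.coe_toMonoidHom, MulAut.conj_apply]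
        have h1 := hg x hx
        have h2 : g⁻¹ * c * g * x = x * (g⁻¹ * c * g) := by
          calc g⁻¹ * c * g * x = g⁻¹ * (c * (g * x * g⁻¹)) * g := by group
            _ = g⁻¹ * ((g * x * g⁻¹) * c) * g := by rw [h1]
            _ = x * (g⁻¹ * c * g) := by group
        calc c' * (g₀ * x * g₀⁻¹) = g₀ * (g⁻¹ * c * g * x) * g₀⁻¹ := by rw [hc']; group
          _ = g₀ * (x * (g⁻¹ * c * g)) * g₀⁻¹ := by rw [h2]
          _ = g₀ * x * g₀⁻¹ * c' := by rw [hc']; group
      have hc'H := base_lemma hP hPp hc'o hc'K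
      intro x hx
      have h3 := hc'H x hx
      calc c * (g * g₀⁻¹ * x * (g * g₀⁻¹)⁻¹)
          = (g * g₀⁻¹) * (c' * x) * (g * g₀⁻¹)⁻¹ := by rw [hc']; group
        _ = (g * g₀⁻¹) * (x * c') * (g * g₀⁻¹)⁻¹ := by rw [h3]
        _ = g * g₀⁻¹ * x * (g * g₀⁻¹)⁻¹ * c := by rw [hc']; group
  have h1S : (1 : G) ∈ S := by
    intro x hx
    simpa using hcH x hx
  have hcl : Subgroup.closure T = ⊤ := by
    apply eq_top_of_stabilizer_le (a := a) (t := g₀⁻¹)
    · intro h hh
      exact Subgroup.subset_closure (Or.inl hh)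
    · exact Subgroup.subset_closure (Or.inr rfl)
    · intro hcon
      apply hab
      have h5 : g₀ • a = a := by
        conv_lhs => rw [← hcon]
        rw [smul_inv_smul]
      rw [← hg₀, h5]
  intro g
  have hg : g ∈ Subgroup.closure T := by rw [hcl]; trivial
  have := mul_mem_of_mem_closure hST g hg 1 h1S
  rw [one_mul] at this
  exact this

/-- a `p'`-element centralising `O_p(G_a)` is trivial. -/
theorem eq_one_of_centralizes {p : ℕ} [Fact p.Prime] {a b : Ω} (hP : PK G a b ≠ ⊥)
    (hPp : IsPGroup p (PK G a b)) (hab : a ≠ b) {c : G} (hc : (orderOf c).Coprime p)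
    (hcH : ∀ x ∈ Op p (stabilizer G a), c * x = x * c) : c = 1 := by
  have hall := centralizes_conj hP hPp hab hc hcH
  have hOp : Op p (stabilizer G a) ≠ ⊥ := by
    intro hcon
    apply hP
    rw [eq_bot_iff, ← hcon]
    exact le_Op (PK_le_left a b) (stabilizer_le_normalizer_PK a b) hPp
  have hN : Subgroup.normalizer (Op p (stabilizer G a) : Set G) = stabilizer G a :=
    normalizer_eq_stabilizer hOp (Op_le p _) (le_normalizer_Op p _)
  apply FaithfulSMul.eq_of_smul_eq_smul (α := Ω)
  intro x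
  obtain ⟨g, rfl⟩ := exists_smul_eq G a x
  rw [one_smul]
  have h1 : g⁻¹ * c * g ∈ Subgroup.centralizer (Op p (stabilizer G a) : Set G) := by
    rw [Subgroup.mem_centralizer_iff]
    intro y hy
    have := hall g y hy
    calc y * (g⁻¹ * c * g) = g⁻¹ * ((g * y * g⁻¹) * c) * g := by group
      _ = g⁻¹ * (c * (g * y * g⁻¹)) * g := by rw [this]
      _ = g⁻¹ * c * g * y := by group
  have h2 : g⁻¹ * c * g ∈ Subgroup.normalizer (Op p (stabilizer G a) : Set G) :=
    Subgroup.centralizer_le_normalizer _ h1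
  rw [hN] at h2
  have h3 : (g⁻¹ * c * g) • a = a := h2
  have h4 : c • g • a = g • (g⁻¹ * c * g) • a := by
    simp only [mul_smul, smul_inv_smul]
  rw [h4, h3]

/-- **R4**: if `PK a b` is a nontrivial `p`-group, `C_{G_a}(O_p(G_a)) ≤ O_p(G_a)`. -/
theorem inf_centralizer_Op_le {p : ℕ} [Fact p.Prime] {a b : Ω} (hP : PK G a b ≠ ⊥)
    (hPp : IsPGroup p (PK G a b)) (hab : a ≠ b) :
    stabilizer G a ⊓ Subgroup.centralizer (Op p (stabilizer G a) : Set G) ≤ Op p (stabilizer G a) := by
  set H := stabilizer G a with hH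
  have hCp : IsPGroup p ↥(H ⊓ Subgroup.centralizer (Op p H : Set G)) := by
    intro g
    have hp : p ≠ 1 := (Fact.out : p.Prime).ne_one
    have hn0 : orderOf g ≠ 0 := (orderOf_pos g).ne'
    obtain ⟨e, m, hm, hem⟩ := Nat.exists_eq_pow_mul_and_not_dvd hn0 p hp
    refine ⟨e, ?_⟩
    have ho : (orderOf (((g ^ p ^ e : ↥(H ⊓ Subgroup.centralizer (Op p H : Set G))) : G))).Coprime p := by
      have h1 : orderOf (((g ^ p ^ e : ↥(H ⊓ Subgroup.centralizer (Op p H : Set G))) : G)) =
          orderOf (g ^ p ^ e) := Subgroup.orderOf_coe _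
      rw [h1, orderOf_pow, hem]
      have h2 : (p ^ e * m).gcd (p ^ e) = p ^ e := Nat.gcd_eq_right (Dvd.intro _ rfl)
      rw [h2, Nat.mul_div_cancel_left _ (pow_pos (Fact.out : p.Prime).pos e)]
      exact (Nat.Coprime.symm ((Nat.Prime.coprime_iff_not_dvd (Fact.out : p.Prime)).2 hm))
    have hcent : ∀ x ∈ Op p H,
        ((g ^ p ^ e : ↥(H ⊓ Subgroup.centralizer (Op p H : Set G))) : G) * x =
          x * ((g ^ p ^ e : ↥(H ⊓ Subgroup.centralizer (Op p H : Set G))) : G) := by
      intro x hx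
      have : ((g ^ p ^ e : ↥(H ⊓ Subgroup.centralizer (Op p H : Set G))) : G) ∈
          Subgroup.centralizer (Op p H : Set G) := (Subgroup.mem_inf.1 (g ^ p ^ e).2).2
      rw [Subgroup.mem_centralizer_iff] at this
      exact (this x hx).symm
    have := eq_one_of_centralizes hP hPp hab ho hcent
    exact Subtype.ext this
  apply le_Op inf_le_left _ hCp
  apply le_normalizer_inf Subgroup.le_normalizer
  -- `H` normalises `C_G(O_p(H))`
  apply mem_normalizer_of_conj_mem
  intro h hh x hx
  rw [Subgroup.mem_centralizer_iff] at hx ⊢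
  intro y hy
  have hy' : h⁻¹ * y * h ∈ Op p H := conj_inv_mem_of_mem_normalizer' (le_normalizer_Op p H hh) hy
  have := hx _ hy'
  calc y * (h * x * h⁻¹) = h * ((h⁻¹ * y * h) * x) * h⁻¹ := by group
    _ = h * (x * (h⁻¹ * y * h)) * h⁻¹ := by rw [this]
    _ = h * x * h⁻¹ * y := by group

end Cfsg.Agent.Helper13.TW
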