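import Mathlib
import Cfsg.Prelude.Def_Local
import Cfsg.Agent.Helper13.TWH
import Cfsg.Agent.Helper13.TWG
import Cfsg.Agent.Helper22.Layer
import Cfsg.Agent.Helper21.FStarComm

/-!
Thompson–Wielandt (helper13), part I: `C_X(O_p(X)) ≤ O_p(X)` implies `F*(X) = O_p(X)`; the
stabiliser in the Thompson–Wielandt configuration is strongly `p`-constrained.
-/

set_option autoImplicit false
open MulAction

namespace Cfsg.Agent.Helper13.TW

open Cfsg

section General

variable {X : Type*} [Group X] [Finite X]

/-- if `C_X(O_p(X)) ≤ O_p(X)` then `O_q(X) = 1` for all primes `q ≠ p`. -/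
theorem pCore_eq_bot_of_centralizer_le {p q : ℕ} [Fact p.Prime] [Fact q.Prime] (hpq : q ≠ p)
    (h : Subgroup.centralizer (pCore p X : Set X) ≤ pCore p X) : pCore q X = ⊥ := by
  have hnp : (pCore p X).Normal := inferInstance
  have hnq : (pCore q X).Normal := inferInstance
  have hdisj : Disjoint (pCore q X) (pCore p X) :=
    IsPGroup.disjoint_of_ne q p hpq _ _ (Cfsg.Agent.Lib.isPGroup_pCore q) (Cfsg.Agent.Lib.isPGroup_pCore p)
  have h1 : ⁅pCore q X, pCore p X⁆ = ⊥ := by
    rw [eq_bot_iff, ← hdisj.eq_bot]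
    exact Subgroup.commutator_le_inf _ _
  have h2 : pCore q X ≤ pCore p X :=
    (Subgroup.commutator_eq_bot_iff_le_centralizer.1 h1).trans h
  rw [eq_bot_iff, ← hdisj.eq_bot]
  exact le_inf le_rfl h2

/-- if `C_X(O_p(X)) ≤ O_p(X)` then `F*(X) = O_p(X)`. -/
theorem generalizedFittingSubgroup_eq_pCore_of_centralizer_le {p : ℕ} [Fact p.Prime]
    (h : Subgroup.centralizer (pCore p X : Set X) ≤ pCore p X) :
    generalizedFittingSubgroup X = pCore p X := by
  have hp : p.Prime := Fact.out
  -- `F(X)` is a `p`-group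
  have hFp : IsPGroup p (fittingSubgroup X) := by
    have hcard : Nat.card (fittingSubgroup X) = p ^ (Nat.card (fittingSubgroup X)).primeFactorsList.length := by
      apply Nat.eq_prime_pow_of_unique_prime_dvd Nat.card_pos.ne'
      intro q hq hdvd
      by_contra hqp
      have : Fact q.Prime := ⟨hq⟩
      have hcop := Cfsg.Agent.Helper21.card_fittingSubgroup_coprime (G := X)
        (pCore_eq_bot_of_centralizer_le hqp h)
      exact hq.one_lt.ne' (Nat.Coprime.eq_one_of_dvd hcop.symm hdvd)
    exact IsPGroup.of_card hcard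
  have hF : fittingSubgroup X = pCore p X :=
    le_antisymm (Cfsg.Agent.Lib.le_pCore inferInstance hFp) (Cfsg.Agent.Lib.pCore_le_fittingSubgroup p)
  have hL : layer X ≤ pCore p X := by
    have := Cfsg.Agent.Helper21.layer_le_centralizer_fittingSubgroup (G := X)
    rw [hF] at this
    exact this.trans h
  have hLbot : layer X = ⊥ := by
    apply Cfsg.Agent.Helper22.layer_eq_bot_of_isSolvable
    have hLp : IsPGroup p (layer X) := (Cfsg.Agent.Lib.isPGroup_pCore p).to_le hL
    have : Group.IsNilpotent (layer X) := hLp.isNilpotent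
    infer_instance
  unfold generalizedFittingSubgroup
  rw [hLbot, bot_sup_eq, hF]

end General

variable {G : Type*} {Ω : Type*} [Group G] [MulAction G Ω]
variable [Finite G] [IsPreprimitive G Ω] [Nontrivial Ω] [FaithfulSMul G Ω]

/-- **Thompson–Wielandt.** If `PK a b` is a nontrivial `p`-group then `F*(G_a) = O_p(G_a)`. -/
theorem generalizedFittingSubgroup_stabilizer_eq {p : ℕ} [Fact p.Prime] {a b : Ω}
    (hP : PK G a b ≠ ⊥) (hPp : IsPGroup p (PK G a b)) (hab : a ≠ b) :
    generalizedFittingSubgroup ↥(stabilizer G a) = pCore p ↥(stabilizer G a) := by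
  apply generalizedFittingSubgroup_eq_pCore_of_centralizer_le
  have h4 := inf_centralizer_Op_le hP hPp hab
  intro x hx
  have hx' : (x : G) ∈ Subgroup.centralizer (Op p (stabilizer G a) : Set G) := by
    rw [Subgroup.mem_centralizer_iff]
    rintro _ ⟨y, hy, rfl⟩
    rw [Subgroup.mem_centralizer_iff] at hx
    have := hx y hy
    exact congrArg Subtype.val this
  obtain ⟨y, hy, hyx⟩ := h4 ⟨x.2, hx'⟩
  have : y = x := Subtype.ext hyx
  rw [← this]
  exact hy

/-- S3688's core: if `G_a` is not strongly `p`-constrained for any `p`, its order divides the bound. -/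
theorem card_dvd_of_not_constrained [Finite Ω] (a b : Ω) (d : ℕ)
    (hd : Nat.card (orbit (stabilizer G a) b) = d) (h2 : 2 ≤ d)
    (hnc : ∀ p : ℕ, p.Prime →
      generalizedFittingSubgroup ↥(stabilizer G a) ≠ pCore p ↥(stabilizer G a)) :
    Nat.card (stabilizer G a) ∣ d.factorial * ((d - 1).factorial) ^ d := by
  have h2' : 2 ≤ Nat.card (orbit (stabilizer G a) b) := by rw [hd]; exact h2
  have hmove := exists_move_of_two_le h2'
  have hab : a ≠ b := by
    rintro rfl
    obtain ⟨h, hh, hne⟩ := hmove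
    exact hne hh
  rcases card_dvd_or_ne_bot (G := G) a b d hd with hdvd | ⟨hP, hP'⟩
  · exact hdvd
  · exfalso
    obtain ⟨p, hp, hOp⟩ := exists_prime_Op_ne_bot hP hP' hmove
    have : Fact p.Prime := ⟨hp⟩
    have hpg := PK_isPGroup hOp hmove
    exact hnc p hp (generalizedFittingSubgroup_stabilizer_eq hP hpg hab)

end Cfsg.Agent.Helper13.TW
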