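import Mathlib
import Cfsg.Prelude.Def_Local
import Cfsg.Agent.Helper13.TWH
import Cfsg.Agent.Helper13.TWG
import Cfsg.Agent.Helper21.FStarComm

/-!
Thompson–Wielandt (helper13), part J: Fitting-free two-point subconstituent.
-/

set_option autoImplicit false
open MulAction

namespace Cfsg.Agent.Helper13.TW

open Cfsg

section General

variable {X : Type*} [Group X] [Finite X]

/-- a finite group all of whose `p`-cores are trivial has trivial Fitting subgroup. -/
theorem fittingSubgroup_eq_bot_of_pCore_eq_bot (h : ∀ p : ℕ, p.Prime → pCore p X = ⊥) :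
    fittingSubgroup X = ⊥ := by
  have hcard : Nat.card (fittingSubgroup X) = 1 := by
    rw [Nat.eq_one_iff_not_exists_prime_dvd]
    intro p hp hdvd
    have : Fact p.Prime := ⟨hp⟩
    have hcop := Cfsg.Agent.Helper21.card_fittingSubgroup_coprime (G := X) (h p hp)
    exact hp.one_lt.ne' (Nat.Coprime.eq_one_of_dvd hcop.symm hdvd)
  exact Subgroup.card_eq_one.1 hcard

end General

variable {G : Type*} {Ω : Type*} [Group G] [MulAction G Ω]

/-- a normal `p`-subgroup of `G_a ∩ G_b` acts trivially on the `G_a`-orbit of `b` when the group induced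
there by `G_a ∩ G_b` has trivial Fitting subgroup. -/
theorem le_XK_of_fitting_eq_bot [Finite Ω] {p : ℕ} [Fact p.Prime] {a b : Ω}
    (hF : fittingSubgroup ↥(((stabilizer G b).subgroupOf (stabilizer G a)).map
      (toPermHom (stabilizer G a) (orbit (stabilizer G a) b))) = ⊥)
    {A : Subgroup G} (hAD : A ≤ stabilizer G a ⊓ stabilizer G b)
    (hn : stabilizer G a ⊓ stabilizer G b ≤ Subgroup.normalizer (A : Set G)) (hA : IsPGroup p A) :
    A ≤ XK G a b := by
  set H := stabilizer G a with hH
  set K := stabilizer G b with hK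
  set φ := toPermHom H (orbit H b) with hφ
  set Dbar := (K.subgroupOf H).map φ with hDbar
  set A' := (A.subgroupOf H).map φ with hA'
  have hA'le : A' ≤ Dbar := by
    apply Subgroup.map_mono
    intro x hx
    rw [Subgroup.mem_subgroupOf] at hx ⊢
    exact (hAD hx).2
  have hA'p : IsPGroup p A' := (hA.comap_subtype).map φ
  have hNp : IsPGroup p (A'.subgroupOf Dbar) := hA'p.comap_subtype
  have hNn : (A'.subgroupOf Dbar).Normal := by
    refine ⟨?_⟩
    rintro ⟨x, hx⟩ hxA ⟨y, hy⟩
    rw [Subgroup.mem_subgroupOf] at hxA ⊢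
    obtain ⟨u, hu, rfl⟩ := hxA
    obtain ⟨k, hk, rfl⟩ := hy
    have hu' : (u : G) ∈ A := Subgroup.mem_subgroupOf.1 hu
    have hk' : (k : G) ∈ K := Subgroup.mem_subgroupOf.1 hk
    refine ⟨k * u * k⁻¹, ?_, by simp⟩
    show k * u * k⁻¹ ∈ A.subgroupOf H
    rw [Subgroup.mem_subgroupOf]
    have hkD : (k : G) ∈ H ⊓ K := ⟨k.2, hk'⟩
    have := (Subgroup.mem_normalizer_iff.1 (hn hkD) (u : G)).1 hu'
    simpa using this
  have : Finite ↥Dbar := inferInstance
  have hnil : Group.IsNilpotent ↥(A'.subgroupOf Dbar) := hNp.isNilpotent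
  have hle := Cfsg.Agent.Lib.le_fittingSubgroup hNn hnil
  rw [hF, le_bot_iff] at hle
  have hA'bot : A' = ⊥ := by
    rw [Subgroup.subgroupOf_eq_bot] at hle
    exact (disjoint_of_le_iff_left_eq_bot hA'le).1 hle
  intro u hu
  have huH : u ∈ H := (hAD hu).1
  have h1 : φ ⟨u, huH⟩ ∈ A' := ⟨⟨u, huH⟩, Subgroup.mem_subgroupOf.2 hu, rfl⟩
  rw [hA'bot, Subgroup.mem_bot] at h1
  rw [mem_XK]
  refine ⟨huH, fun h hh => ?_⟩
  have hmem : h • b ∈ orbit H b := ⟨⟨h, hh⟩, rfl⟩
  have h2 := congrArg (fun σ => σ ⟨h • b, hmem⟩) h1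
  simp only [Equiv.Perm.coe_one, id_eq] at h2
  have h3 := congrArg Subtype.val h2
  exact h3

variable [Finite G] [IsPreprimitive G Ω] [Nontrivial Ω] [FaithfulSMul G Ω]

/-- if `O_p(G_a ∩ G_b)` acts trivially on the `G_a`-orbit of `b` then it is trivial. -/
theorem Op_inf_eq_bot {p : ℕ} [Fact p.Prime] {a b : Ω}
    (hmove : ∃ h : G, h • a = a ∧ h • b ≠ b)
    (hAX : Op p (stabilizer G a ⊓ stabilizer G b) ≤ XK G a b) :
    Op p (stabilizer G a ⊓ stabilizer G b) = ⊥ := by
  by_contra hA
  set H := stabilizer G a with hH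
  set K := stabilizer G b with hK
  set D := H ⊓ K with hD
  set A := Op p D with hAdef
  set X := XK G a b with hX
  set QH := Op p H with hQH
  set QK := Op p K with hQK
  have hXD : X ≤ D := le_inf (XK_le_left a b) (XK_le_right a b)
  have hDH : D ≤ H := inf_le_left
  have hDK : D ≤ K := inf_le_right
  have hAD : A ≤ D := Op_le p D
  have hAp : IsPGroup p A := Op_isPGroup p D
  have hHX : H ≤ Subgroup.normalizer (X : Set G) := stabilizer_le_normalizer_XK a b
  have hAeq : A = Op p X := by
    apply le_antisymm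
    · exact le_Op hAX (hXD.trans (le_normalizer_Op p D)) hAp
    · exact Op_le_Op_of_normal hXD (hDH.trans hHX)
  have hHA : H ≤ Subgroup.normalizer (A : Set G) := by
    rw [hAeq]
    exact le_normalizer_Op_of_le_normalizer hHX
  have hNA : Subgroup.normalizer (A : Set G) = H :=
    normalizer_eq_stabilizer hA (hAD.trans hDH) hHA
  have hQKH : QK ⊓ H ≤ A := by
    apply le_Op (le_inf inf_le_right (inf_le_left.trans (Op_le p K))) _
      ((Op_isPGroup p K).to_le inf_le_left)
    exact le_normalizer_inf (hDK.trans (le_normalizer_Op p K)) (hDH.trans Subgroup.le_normalizer)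
  have hAnQK : A ≤ Subgroup.normalizer (QK : Set G) := (hAD.trans hDK).trans (le_normalizer_Op p K)
  set J := QK ⊔ A with hJ
  have hJp : IsPGroup p J := IsPGroup.to_sup_of_normal_left' (Op_isPGroup p K) hAp hAnQK
  have hAJ : A ≤ J := le_sup_right
  have : Group.IsNilpotent J := hJp.isNilpotent
  have hnc : NormalizerCondition J := Group.normalizerCondition_of_isNilpotent
  rw [normalizerCondition_iff_only_full_group_self_normalizing] at hnc
  have hself : Subgroup.normalizer ((A.subgroupOf J : Subgroup J) : Set J) = A.subgroupOf J := by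
    rw [← Subgroup.subgroupOf_normalizer_eq hAJ, hNA]
    apply le_antisymm
    · intro j hj
      rw [Subgroup.mem_subgroupOf] at hj ⊢
      obtain ⟨u, hu, v, hv, huv⟩ := mem_sup_of_le_normalizer hAnQK j.2
      have huH : u ∈ H := by
        have : u = (j : G) * v⁻¹ := by rw [huv]; group
        rw [this]
        exact H.mul_mem hj (H.inv_mem (hDH (hAD hv)))
      have huA : u ∈ A := hQKH ⟨hu, huH⟩
      rw [huv]
      exact A.mul_mem huA hv
    · intro j hj
      rw [Subgroup.mem_subgroupOf] at hj ⊢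
      exact hDH (hAD hj)
  have htop := hnc _ hself
  have hJle : J ≤ A := by
    intro j hj
    have : (⟨j, hj⟩ : J) ∈ A.subgroupOf J := by rw [htop]; trivial
    exact this
  have hQKA : QK ≤ A := le_sup_left.trans hJle
  have hAQH : A ≤ QH := le_Op (hAD.trans hDH) hHA hAp
  -- `K` is a conjugate of `H`
  obtain ⟨g₀, hg₀⟩ := exists_smul_eq G a b
  have hKconj : K = H.map (MulAut.conj g₀).toMonoidHom := by
    rw [hK, ← hg₀, MulAction.stabilizer_smul_eq_stabilizer_map_conj]
  have hQKconj : QK = QH.map (MulAut.conj g₀).toMonoidHom := by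
    rw [hQK, hKconj, Op_map_conj]
  have hcard : Nat.card QK = Nat.card QH := by
    rw [hQKconj]
    exact Subgroup.card_map_of_injective (MulAut.conj g₀).injective
  have hQeq : QK = QH := by
    apply Subgroup.eq_of_le_of_card_ge (hQKA.trans hAQH)
    rw [hcard]
  have hQHne : QH ≠ ⊥ := by
    intro hcon
    apply hA
    rw [eq_bot_iff, ← hcon]
    exact hAQH
  have hNH : Subgroup.normalizer (QH : Set G) = H :=
    normalizer_eq_stabilizer hQHne (Op_le p H) (le_normalizer_Op p H)
  have hNK : Subgroup.normalizer (QK : Set G) = K :=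
    normalizer_eq_stabilizer (by rw [hQeq]; exact hQHne) (Op_le p K) (le_normalizer_Op p K)
  have hHK : H = K := by rw [← hNH, ← hNK, hQeq]
  obtain ⟨h, hha, hhb⟩ := hmove
  apply hhb
  have : h ∈ K := by rw [← hHK]; exact hha
  exact this

/-- S3693's core. -/
theorem fitting_free_subconstituent [Finite Ω] (a b : Ω) (d : ℕ)
    (hd : Nat.card (orbit (stabilizer G a) b) = d) (h2 : 2 ≤ d)
    (hF : fittingSubgroup ↥(((stabilizer G b).subgroupOf (stabilizer G a)).map
      (toPermHom (stabilizer G a) (orbit (stabilizer G a) b))) = ⊥) :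
    fittingSubgroup ↥(stabilizer G a ⊓ stabilizer G b) = ⊥ ∧
      Nat.card (stabilizer G a) ∣ d.factorial * ((d - 1).factorial) ^ d := by
  have h2' : 2 ≤ Nat.card (orbit (stabilizer G a) b) := by rw [hd]; exact h2
  have hmove := exists_move_of_two_le h2'
  have hOp : ∀ p : ℕ, p.Prime → Op p (stabilizer G a ⊓ stabilizer G b) = ⊥ := by
    intro p hp
    have : Fact p.Prime := ⟨hp⟩
    apply Op_inf_eq_bot hmove
    exact le_XK_of_fitting_eq_bot hF (Op_le p _) (le_normalizer_Op p _) (Op_isPGroup p _)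
  refine ⟨?_, ?_⟩
  · apply fittingSubgroup_eq_bot_of_pCore_eq_bot
    intro p hp
    have := hOp p hp
    unfold Op at this
    exact (Subgroup.map_eq_bot_iff_of_injective _ (Subgroup.subtype_injective _)).1 this
  · rcases card_dvd_or_ne_bot (G := G) a b d hd with hdvd | ⟨hP, hP'⟩
    · exact hdvd
    · exfalso
      obtain ⟨p, hp, hOpH⟩ := exists_prime_Op_ne_bot hP hP' hmove
      have : Fact p.Prime := ⟨hp⟩
      have hpg := PK_isPGroup hOpH hmove
      have hle : PK G a b ≤ Op p (stabilizer G a ⊓ stabilizer G b) :=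
        le_Op (le_inf (PK_le_left a b) (PK_le_right a b))
          (inf_le_left.trans (stabilizer_le_normalizer_PK a b)) hpg
      apply hP
      rw [eq_bot_iff, ← hOp p hp]
      exact hle

end Cfsg.Agent.Helper13.TW
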