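import Mathlib
import Cfsg.Agent.S2587
import Cfsg.Agent.Helper45.GUCard
import Cfsg.Agent.Helper13.Herm
import Cfsg.Agent.S0837

/-!
# Isometries of prime order of nondegenerate (skew-)Hermitian spaces over `F_{q^2}`

An isometry of prime order `r ∤ q` of a nondegenerate `ε`-Hermitian space of dimension `j` forces
`r ∣ q^(i+1) - (-1)^(i+1)` for some `i < j` (Lagrange in `GU_j(q)`, after conjugating the Gram matrix
to the identity with `Cfsg.Agent.S2587.herm_factor`).
-/

set_option autoImplicit false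

namespace Cfsg.Agent.Helper13

open Matrix Module Cfsg.Agent.S2587 Cfsg.Agent.S0837

section
variable {F : Type*} [Field F] [Fintype F] {q : ℕ}

theorem st_inv_of_mul_eq_one (bar : F →+* F) {j : ℕ} {C D : Matrix (Fin j) (Fin j) F}
    (h : C * D = 1) : st bar D * st bar C = 1 := by
  rw [← st_mul, h, st_one]

/-- matrix version: an `r`-torsion matrix preserving a nonsingular Hermitian Gram matrix. -/
theorem dvd_of_st_mul_mul (hF : Fintype.card F = q ^ 2) {j : ℕ} (h M : Matrix (Fin j) (Fin j) F)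
    (hh : st (frobHom hF) h = h) (hdet : h.det ≠ 0)
    (hM : st (frobHom hF) M * h * M = h) (r : ℕ) (hr : r.Prime) (hMr : M ^ r = 1) (hM1 : M ≠ 1)
    (hrq : ¬ r ∣ q) :
    ∃ i < j, r ∣ (if Even i then q ^ (i + 1) + 1 else q ^ (i + 1) - 1) := by
  classical
  set bar := frobHom hF with hbar
  have hbar2 : ∀ x, bar (bar x) = x := frobHom_frobHom hF
  have hbarne : ∃ x, bar x ≠ x := by
    by_contra hall
    push Not at hall
    exact frobHom_ne_id hF (RingHom.ext hall)
  obtain ⟨p, hp⟩ := herm_factor bar hbar2 hbarne h hh hdet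
  set C : Matrix (Fin j) (Fin j) F := Polynomial.aeval h p with hC
  have hdetC : C.det ≠ 0 := by
    intro h0
    apply hdet
    rw [← hp, Matrix.det_mul, h0, mul_zero]
  have hCu : IsUnit C.det := isUnit_iff_ne_zero.mpr hdetC
  have hCC : C * C⁻¹ = 1 := Matrix.mul_nonsing_inv C hCu
  have hCC' : C⁻¹ * C = 1 := Matrix.nonsing_inv_mul C hCu
  set U : Matrix (Fin j) (Fin j) F := C * M * C⁻¹ with hU
  have hstU : st bar U * U = 1 := by
    have h1 : st bar U = st bar C⁻¹ * st bar M * st bar C := by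
      rw [hU, st_mul, st_mul, mul_assoc]
    have h2 : st bar C⁻¹ * st bar C = 1 := st_inv_of_mul_eq_one bar hCC
    calc st bar U * U = st bar C⁻¹ * st bar M * (st bar C * C) * M * C⁻¹ := by
          rw [h1, hU]; simp only [mul_assoc]
      _ = st bar C⁻¹ * (st bar M * h * M) * C⁻¹ := by rw [hp]; simp only [mul_assoc]
      _ = st bar C⁻¹ * (st bar C * C) * C⁻¹ := by rw [hM, hp]
      _ = (st bar C⁻¹ * st bar C) * (C * C⁻¹) := by simp only [mul_assoc]
      _ = 1 := by rw [h2, hCC, mul_one]
  have hU' : Uᵀ * U.map bar = 1 := by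
    have := congrArg Matrix.transpose hstU
    unfold st at this
    rwa [Matrix.transpose_mul, Matrix.transpose_transpose, Matrix.transpose_one] at this
  have hUr : U ^ r = 1 := by
    have : ∀ k : ℕ, U ^ k = C * M ^ k * C⁻¹ := by
      intro k
      induction k with
      | zero => rw [pow_zero, pow_zero, mul_one, hCC]
      | succ k ih =>
        rw [pow_succ, ih, hU, pow_succ]
        calc C * M ^ k * C⁻¹ * (C * M * C⁻¹) = C * M ^ k * (C⁻¹ * C) * M * C⁻¹ := by
              simp only [mul_assoc]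
          _ = C * (M ^ k * M) * C⁻¹ := by rw [hCC', mul_one]; simp only [mul_assoc]
    rw [this, hMr, mul_one, hCC]
  have hU1 : U ≠ 1 := by
    intro h1
    apply hM1
    have : M = C⁻¹ * U * C := by
      rw [hU]
      calc M = (C⁻¹ * C) * M * (C⁻¹ * C) := by rw [hCC', one_mul, mul_one]
        _ = C⁻¹ * (C * M * C⁻¹) * C := by simp only [mul_assoc]
    rw [this, h1, mul_one, hCC']
  -- the element of `GU`
  let g : Cfsg.GU j F q := ⟨unitOf hF U hU', (mem_GU_iff hF j _).2 hU'⟩
  have hgr : g ^ r = 1 := by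
    apply Subtype.ext
    apply Units.ext
    rw [Subgroup.coe_pow, Units.val_pow_eq_pow_val]
    exact hUr
  have hg1 : g ≠ 1 := by
    intro h1
    apply hU1
    have := congrArg (fun x : Cfsg.GU j F q => ((x : GL (Fin j) F) : Matrix (Fin j) (Fin j) F)) h1
    exact this
  have hord : orderOf g = r := by
    have h1 : orderOf g ∣ r := orderOf_dvd_of_pow_eq_one hgr
    rcases (Nat.dvd_prime hr).mp h1 with h2 | h2
    · exact absurd (orderOf_eq_one_iff.mp h2) hg1
    · exact h2
  have hdvd : r ∣ Nat.card (Cfsg.GU j F q) := by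
    rw [← hord]
    exact orderOf_dvd_natCard g
  rw [Cfsg.Agent.Helper45.GU.card_GU hF j] at hdvd
  rcases (Nat.Prime.dvd_mul hr).mp hdvd with h1 | h1
  · exact absurd (hr.dvd_of_dvd_pow h1) hrq
  · obtain ⟨i, hi, hir⟩ := (Prime.dvd_finset_prod_iff hr.prime _).mp h1
    exact ⟨i, Finset.mem_range.mp hi, hir⟩

end

end Cfsg.Agent.Helper13
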