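import Cfsg.Agent.Helper13.UComm1

/-!
# Abstract version of `dvd_of_st_mul_mul`: isometries of prime order of an abstract
nondegenerate `ε`-Hermitian space.
-/

set_option autoImplicit false

namespace Cfsg.Agent.Helper13

open Matrix Module Cfsg.Agent.S2587 Cfsg.Agent.S0837

section
variable {F : Type*} [Field F] [Fintype F] {q : ℕ}

/-- an element `c ≠ 0` with `c^q = ε c` for `ε = ±1` -/
theorem exists_frob_eq_eps_mul (hF : Fintype.card F = q ^ 2) (ε : F) (hε : ε = 1 ∨ ε = -1) :
    ∃ c : F, c ≠ 0 ∧ c ^ q = ε * c := by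
  rcases hε with rfl | rfl
  · exact ⟨1, one_ne_zero, by rw [one_pow, mul_one]⟩
  · obtain ⟨t, ht⟩ : ∃ t : F, t ^ q ≠ t := by
      by_contra hall
      push Not at hall
      exact frobHom_ne_id hF (RingHom.ext hall)
    refine ⟨t - t ^ q, sub_ne_zero.mpr (Ne.symm ht), ?_⟩
    have h1 : (t - t ^ q) ^ q = t ^ q - (t ^ q) ^ q := by
      have := map_sub (frobHom hF) t (t ^ q)
      simpa only [frobHom_apply] using this
    rw [h1, frob_frob hF]
    ring

variable {W : Type*} [AddCommGroup W] [Module F W]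

omit [Fintype F] in
theorem sesq_sum_left (φ : W → W → F)
    (hal : ∀ x x' y, φ (x + x') y = φ x y + φ x' y) (hsl : ∀ (c : F) x y, φ (c • x) y = c * φ x y)
    {ι : Type*} (s : Finset ι) (f : ι → W) (y : W) :
    φ (∑ a ∈ s, f a) y = ∑ a ∈ s, φ (f a) y := by
  classical
  induction s using Finset.induction_on with
  | empty =>
    rw [Finset.sum_empty, Finset.sum_empty]
    have := hsl 0 0 y
    rwa [zero_smul, zero_mul] at this
  | insert a s ha ih =>
    rw [Finset.sum_insert ha, Finset.sum_insert ha, hal, ih]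

omit [Fintype F] in
theorem sesq_sum_right (hq : q ≠ 0) (φ : W → W → F)
    (har : ∀ x y y', φ x (y + y') = φ x y + φ x y')
    (hsr : ∀ (c : F) x y, φ x (c • y) = c ^ q * φ x y)
    {ι : Type*} (s : Finset ι) (f : ι → W) (x : W) :
    φ x (∑ a ∈ s, f a) = ∑ a ∈ s, φ x (f a) := by
  classical
  induction s using Finset.induction_on with
  | empty =>
    rw [Finset.sum_empty, Finset.sum_empty]
    have := hsr 0 x 0
    rwa [zero_smul, zero_pow hq, zero_mul] at this
  | insert a s ha ih =>
    rw [Finset.sum_insert ha, Finset.sum_insert ha, har, ih]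

/-- An isometry of prime order `r ∤ q` of a nondegenerate `ε`-Hermitian space of dimension `j` over
`F_{q^2}`: `r` divides `q^(i+1) - (-1)^(i+1)` for some `i < j`. -/
theorem dvd_of_isometry (hF : Fintype.card F = q ^ 2) [FiniteDimensional F W]
    (φ : W → W → F)
    (hal : ∀ x x' y, φ (x + x') y = φ x y + φ x' y) (hsl : ∀ (c : F) x y, φ (c • x) y = c * φ x y)
    (har : ∀ x y y', φ x (y + y') = φ x y + φ x y')
    (hsr : ∀ (c : F) x y, φ x (c • y) = c ^ q * φ x y)
    (ε : F) (hε : ε = 1 ∨ ε = -1) (hherm : ∀ x y, φ y x = ε * (φ x y) ^ q)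
    (hnd : ∀ x, (∀ y, φ x y = 0) → x = 0)
    (T : W →ₗ[F] W) (hT : ∀ x y, φ (T x) (T y) = φ x y) (r : ℕ) (hr : r.Prime)
    (hTr : T ^ r = 1) (hT1 : T ≠ 1) (hrq : ¬ r ∣ q) :
    ∃ i < finrank F W, r ∣ (if Even i then q ^ (i + 1) + 1 else q ^ (i + 1) - 1) := by
  classical
  have hq2 := two_le_of_card_eq_sq hF
  have hq0 : q ≠ 0 := by omega
  set j := finrank F W with hj
  let b : Basis (Fin j) F W := Module.finBasis F W
  obtain ⟨c, hc0, hcq⟩ := exists_frob_eq_eps_mul hF ε hε
  set bar := frobHom hF with hbar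
  let h : Matrix (Fin j) (Fin j) F := Matrix.of fun i k => c * φ (b k) (b i)
  let M : Matrix (Fin j) (Fin j) F := LinearMap.toMatrixAlgEquiv b T
  have hTb : ∀ k, T (b k) = ∑ l, M l k • b l := by
    intro k
    conv_lhs => rw [← b.sum_repr (T (b k))]
    apply Finset.sum_congr rfl
    intro l _
    change _ = (LinearMap.toMatrixAlgEquiv b T) l k • b l
    rw [LinearMap.toMatrixAlgEquiv_apply]
  -- expansion of φ on two sums
  have hexp : ∀ (x y : Fin j → F), φ (∑ l, x l • b l) (∑ m, y m • b m) =
      ∑ l, ∑ m, x l * (y m) ^ q * φ (b l) (b m) := by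
    intro x y
    rw [sesq_sum_left φ hal hsl]
    apply Finset.sum_congr rfl
    intro l _
    rw [sesq_sum_right hq0 φ har hsr]
    apply Finset.sum_congr rfl
    intro m _
    rw [hsl, hsr]
    ring
  have hh : st bar h = h := by
    ext i k
    rw [st_apply]
    change bar (c * φ (b i) (b k)) = c * φ (b k) (b i)
    rw [hherm (b i) (b k), map_mul, hbar, frobHom_apply, frobHom_apply, hcq]
    ring
  have hM : st bar M * h * M = h := by
    ext i k
    rw [Matrix.mul_apply]
    simp only [Matrix.mul_apply, st_apply]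
    change ∑ l, (∑ m, bar (M m i) * (c * φ (b l) (b m))) * M l k = c * φ (b k) (b i)
    rw [← hT (b k) (b i), hTb k, hTb i, hexp, Finset.mul_sum]
    apply Finset.sum_congr rfl
    intro l _
    rw [Finset.sum_mul, Finset.mul_sum]
    apply Finset.sum_congr rfl
    intro m _
    rw [hbar, frobHom_apply]
    ring
  have hdet : h.det ≠ 0 := by
    intro h0
    obtain ⟨v, hv0, hv⟩ := Matrix.exists_mulVec_eq_zero_iff.mpr h0
    apply hv0
    have hx : ∀ i, φ (∑ k, v k • b k) (b i) = 0 := by
      intro i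
      have h1 := congrFun hv i
      rw [Matrix.mulVec, dotProduct] at h1
      change ∑ k, (c * φ (b k) (b i)) * v k = 0 at h1
      rw [sesq_sum_left φ hal hsl]
      have h2 : ∑ k, (c * φ (b k) (b i)) * v k = c * ∑ k, φ (v k • b k) (b i) := by
        rw [Finset.mul_sum]
        apply Finset.sum_congr rfl
        intro k _
        rw [hsl]
        ring
      rw [h2] at h1
      exact (mul_eq_zero.mp h1).resolve_left hc0
    have hx0 : (∑ k, v k • b k) = 0 := by
      apply hnd
      intro y
      rw [← b.sum_repr y, sesq_sum_right hq0 φ har hsr]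
      apply Finset.sum_eq_zero
      intro i _
      rw [hsr, hx i, mul_zero]
    funext k
    have h3 := congrArg (fun w => b.repr w k) hx0
    simp only [map_zero, Finsupp.coe_zero, Pi.zero_apply] at h3
    rw [b.repr_sum_self] at h3
    exact h3
  have hMr : M ^ r = 1 := by
    change (LinearMap.toMatrixAlgEquiv b T) ^ r = 1
    rw [← map_pow, hTr, map_one]
  have hM1 : M ≠ 1 := by
    intro h1
    apply hT1
    apply (LinearMap.toMatrixAlgEquiv b).injective
    rw [map_one]
    exact h1
  exact dvd_of_st_mul_mul hF h M hh hdet hM r hr hMr hM1 hrq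

end

end Cfsg.Agent.Helper13
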