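import Cfsg.Agent.Helper13.UFrames

set_option autoImplicit false

namespace Cfsg.Agent.Helper13

open Matrix Cfsg.Agent.S0837 Cfsg.Agent.Helper5

variable {F : Type*} [Field F] [Fintype F] {q n : ℕ}

/-- the orthogonal of the span of a family -/
noncomputable def uPerp (hF : Fintype.card F = q ^ 2) {k : ℕ} (f : Fin k → (Fin n → F)) :
    Submodule F (Fin n → F) :=
  (Submodule.span F (Set.range f)).orthogonalBilin (hB hF n)

theorem mem_uPerp (hF : Fintype.card F = q ^ 2) {k : ℕ} (f : Fin k → (Fin n → F))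
    (x : Fin n → F) : x ∈ uPerp hF f ↔ ∀ i, Cfsg.hermForm n F q x (f i) = 0 := by
  rw [uPerp, Submodule.mem_orthogonalBilin_iff]
  constructor
  · intro h i
    have := h (f i) (Submodule.subset_span (Set.mem_range_self i))
    rw [hB_apply] at this
    exact this
  · intro h y hy
    rw [hB_apply]
    exact hermForm_span_right hF f x h y hy

theorem finrank_uPerp (hF : Fintype.card F = q ^ 2) {k : ℕ} (f : Fin k → (Fin n → F))
    (hf : LinearIndependent F f) : Module.finrank F (uPerp hF f) = n - k := by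
  have h1 := Cfsg.Agent.S0751.finrank_orth (hB hF n) (hB_isSymm hF n) (hB_nondegenerate hF n).1
    (Submodule.span F (Set.range f))
  rw [finrank_span_eq_card hf, Fintype.card_fin, Module.finrank_fintype_fun_eq_card,
    Fintype.card_fin] at h1
  rw [uPerp]
  omega

theorem card_uPerp (hF : Fintype.card F = q ^ 2) {k : ℕ} (f : Fin k → (Fin n → F))
    (hf : LinearIndependent F f) :
    Nat.card (uPerp hF f) = Fintype.card F ^ (n - k) := by
  rw [natCard_submodule, finrank_uPerp hF f hf]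

theorem span_le_uPerp (hF : Fintype.card F = q ^ 2) {k : ℕ} (f : Fin k → (Fin n → F))
    (hf : IsUFrame n q f) : Submodule.span F (Set.range f) ≤ uPerp hF f := by
  intro x hx
  rw [mem_uPerp]
  intro i
  exact hermForm_span_eq_zero hF f hf.2 x hx _ (Submodule.subset_span (Set.mem_range_self i))

theorem two_mul_le_of_isUFrame (hF : Fintype.card F = q ^ 2) {k : ℕ} (f : Fin k → (Fin n → F))
    (hf : IsUFrame n q f) : 2 * k ≤ n := by
  have h1 := Submodule.finrank_mono (span_le_uPerp hF f hf)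
  rw [finrank_span_eq_card hf.1, Fintype.card_fin, finrank_uPerp hF f hf.1] at h1
  omega

/-- the key counting identity for isotropic vectors in a subspace -/
theorem card_isotropic_step (hF : Fintype.card F = q ^ 2) (U : Submodule F (Fin n → F))
    (v : Fin n → F) (hvU : v ∈ U) (hvv : Cfsg.hermForm n F q v v = 0) :
    Fintype.card F * Nat.card {w : Fin n → F // w ∈ U ∧ Cfsg.hermForm n F q w w = 0} =
      Nat.card {w : Fin n → F // w ∈ U ∧ Cfsg.hermForm n F q w v = 0 ∧
        Cfsg.hermForm n F q w w = 0} * Fintype.card F +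
      Nat.card {w : Fin n → F // w ∈ U ∧ ¬ Cfsg.hermForm n F q w v = 0} * q := by
  classical
  have hq := two_le_of_card_eq_sq hF
  -- the incidence set
  set S := {p : (Fin n → F) × F // p.1 ∈ U ∧
    Cfsg.hermForm n F q (p.1 + p.2 • v) (p.1 + p.2 • v) = 0} with hS
  -- first count
  have h1 : Nat.card S = Fintype.card F *
      Nat.card {w : Fin n → F // w ∈ U ∧ Cfsg.hermForm n F q w w = 0} := by
    rw [← Nat.card_eq_fintype_card]
    apply card_eq_mul_of_fibers (fun p : S => p.1.2)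
    intro t
    refine Nat.card_congr ?_
    refine
      { toFun := fun p => ⟨p.1.1.1 + t • v, ?_, ?_⟩
        invFun := fun w => ⟨⟨(w.1 - t • v, t), ?_, ?_⟩, rfl⟩
        left_inv := ?_
        right_inv := ?_ }
    · exact U.add_mem p.1.2.1 (U.smul_mem t hvU)
    · have h := p.1.2.2
      have ht : p.1.1.2 = t := p.2
      rw [ht] at h
      exact h
    · exact U.sub_mem w.2.1 (U.smul_mem t hvU)
    · simp only [sub_add_cancel]
      exact w.2.2
    · rintro ⟨⟨⟨w, t'⟩, hp⟩, ht⟩
      simp only at ht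
      subst ht
      simp
    · intro w
      simp
  -- second count
  have h2 : Nat.card S =
      Nat.card {p : S // Cfsg.hermForm n F q p.1.1 v = 0} +
      Nat.card {p : S // ¬ Cfsg.hermForm n F q p.1.1 v = 0} := by
    rw [← Nat.card_sum]
    exact Nat.card_congr (Equiv.sumCompl _).symm
  have h3 : Nat.card {p : S // Cfsg.hermForm n F q p.1.1 v = 0} =
      Nat.card {w : Fin n → F // w ∈ U ∧ Cfsg.hermForm n F q w v = 0 ∧
        Cfsg.hermForm n F q w w = 0} * Fintype.card F := by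
    rw [← Nat.card_eq_fintype_card (α := F), ← Nat.card_prod]
    refine Nat.card_congr ?_
    refine
      { toFun := fun p => (⟨p.1.1.1, p.1.2.1, p.2, ?_⟩, p.1.1.2)
        invFun := fun x => ⟨⟨(x.1.1, x.2), x.1.2.1, ?_⟩, x.1.2.2.1⟩
        left_inv := fun p => rfl
        right_inv := fun x => rfl }
    · have h := p.1.2.2
      rw [hermForm_add_smul_self hF v _ hvv, p.2] at h
      simpa [zero_pow (by omega : q ≠ 0)] using h
    · rw [hermForm_add_smul_self hF v _ hvv, x.1.2.2.1, x.1.2.2.2]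
      simp [zero_pow (by omega : q ≠ 0)]
  have h4 : Nat.card {p : S // ¬ Cfsg.hermForm n F q p.1.1 v = 0} =
      Nat.card {w : Fin n → F // w ∈ U ∧ ¬ Cfsg.hermForm n F q w v = 0} * q := by
    apply card_eq_mul_of_fibers
      (fun p : {p : S // ¬ Cfsg.hermForm n F q p.1.1 v = 0} =>
        (⟨p.1.1.1, p.1.2.1, p.2⟩ :
          {w : Fin n → F // w ∈ U ∧ ¬ Cfsg.hermForm n F q w v = 0}))
    intro w
    have hfix : (-Cfsg.hermForm n F q w.1 w.1) ^ q = -Cfsg.hermForm n F q w.1 w.1 := by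
      rw [frob_neg' hF, hermForm_self_fixed hF]
    refine (Nat.card_congr ?_).trans (card_trace_fiber hF w.2.2 hfix)
    refine
      { toFun := fun p => ⟨p.1.1.1.2, ?_⟩
        invFun := fun t => ⟨⟨⟨(w.1, t.1), w.2.1, ?_⟩, w.2.2⟩, rfl⟩
        left_inv := ?_
        right_inv := fun t => rfl }
    · have h := p.1.1.2.2
      have hw : p.1.1.1.1 = w.1 := congrArg Subtype.val p.2
      rw [hermForm_add_smul_self hF v _ hvv, hw] at h
      exact eq_neg_of_add_eq_zero_right h
    · rw [hermForm_add_smul_self hF v _ hvv, t.2]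
      ring
    · rintro ⟨⟨⟨⟨w', t⟩, hp⟩, hA⟩, hw⟩
      have hw' : w' = w.1 := congrArg Subtype.val hw
      subst hw'
      rfl
  rw [← h1, h2, h3, h4]

/-- arithmetic of the recursion step -/
theorem arith_iso_step (q n k A B C : ℕ) (hq : 1 ≤ q) (hnk : 2 * k + 2 ≤ n)
    (h1 : q ^ 2 * A = B * q ^ 2 + ((q ^ 2) ^ (n - k) - (q ^ 2) ^ (n - (k + 1))) * q)
    (h2 : A + q ^ (2 * n - 1) = C + q ^ (2 * n - 2 * k - 1)) :
    B + q ^ (2 * n - 1) = C + q ^ (2 * n - 2 * (k + 1) - 1) := by
  obtain ⟨m, rfl⟩ : ∃ m, n = m + k + 2 := ⟨n - k - 2, by omega⟩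
  have e1 : m + k + 2 - k = m + 2 := by omega
  have e2 : m + k + 2 - (k + 1) = m + 1 := by omega
  have e3 : 2 * (m + k + 2) - 2 * k - 1 = 2 * m + 3 := by omega
  have e4 : 2 * (m + k + 2) - 2 * (k + 1) - 1 = 2 * m + 1 := by omega
  rw [e1, e2] at h1
  rw [e3] at h2
  rw [e4]
  have h3 : (q ^ 2) ^ (m + 2) - (q ^ 2) ^ (m + 1) + (q ^ 2) ^ (m + 1) = (q ^ 2) ^ (m + 2) :=
    Nat.sub_add_cancel (Nat.pow_le_pow_right (by positivity) (by omega))
  have h4 : q ^ 2 * (A + q ^ (2 * m + 1)) = q ^ 2 * (B + q ^ (2 * m + 3)) := by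
    have h5 : ((q ^ 2) ^ (m + 2) - (q ^ 2) ^ (m + 1)) * q + q ^ 2 * q ^ (2 * m + 1) =
        q ^ 2 * q ^ (2 * m + 3) := by
      have h6 : q ^ 2 * q ^ (2 * m + 1) = (q ^ 2) ^ (m + 1) * q := by ring
      rw [h6, ← add_mul, h3]
      ring
    rw [mul_add, h1, mul_add]
    linarith
  have h5 := Nat.eq_of_mul_eq_mul_left (by positivity) h4
  linarith

/-- the number of isotropic vectors orthogonal to a totally isotropic frame -/
theorem card_isotropic_perp (hF : Fintype.card F = q ^ 2) :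
    ∀ (k : ℕ) (f : Fin k → (Fin n → F)), IsUFrame n q f →
      Nat.card {x : Fin n → F // (∀ i, Cfsg.hermForm n F q x (f i) = 0) ∧
        Cfsg.hermForm n F q x x = 0} + q ^ (2 * n - 1) =
      Nat.card {x : Fin n → F // Cfsg.hermForm n F q x x = 0} + q ^ (2 * n - 2 * k - 1) := by
  have hq := two_le_of_card_eq_sq hF
  intro k
  induction k with
  | zero =>
    intro f _
    have h1 : Nat.card {x : Fin n → F // (∀ i, Cfsg.hermForm n F q x (f i) = 0) ∧
        Cfsg.hermForm n F q x x = 0} =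
        Nat.card {x : Fin n → F // Cfsg.hermForm n F q x x = 0} :=
      Nat.card_congr (Equiv.subtypeEquivRight fun x => by
        simp only [IsEmpty.forall_iff, true_and])
    rw [h1]
    simp
  | succ k ih =>
    intro f hf
    set f₀ : Fin k → (Fin n → F) := fun i => f i.castSucc with hf₀def
    set v := f (Fin.last k) with hv
    have hf₀ : IsUFrame n q f₀ :=
      ⟨hf.1.comp _ (Fin.castSucc_injective k), fun i j => hf.2 _ _⟩
    have hnk : 2 * (k + 1) ≤ n := two_mul_le_of_isUFrame hF f hf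
    have hvU : v ∈ uPerp hF f₀ := by
      rw [mem_uPerp]
      intro i
      exact hf.2 _ _
    have hvv : Cfsg.hermForm n F q v v = 0 := hf.2 _ _
    have h1 := card_isotropic_step hF (uPerp hF f₀) v hvU hvv
    have ih' := ih f₀ hf₀
    have hA : Nat.card {w : Fin n → F // w ∈ uPerp hF f₀ ∧ Cfsg.hermForm n F q w w = 0} =
        Nat.card {x : Fin n → F // (∀ i, Cfsg.hermForm n F q x (f₀ i) = 0) ∧
          Cfsg.hermForm n F q x x = 0} :=
      Nat.card_congr (Equiv.subtypeEquivRight fun x => by rw [mem_uPerp])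
    have hB' : Nat.card {w : Fin n → F // w ∈ uPerp hF f₀ ∧ Cfsg.hermForm n F q w v = 0 ∧
        Cfsg.hermForm n F q w w = 0} =
        Nat.card {x : Fin n → F // (∀ i, Cfsg.hermForm n F q x (f i) = 0) ∧
          Cfsg.hermForm n F q x x = 0} :=
      Nat.card_congr (Equiv.subtypeEquivRight fun x => by
        rw [mem_uPerp, Fin.forall_fin_succ', and_assoc])
    have hsub : ((uPerp hF f : Submodule F (Fin n → F)) : Set (Fin n → F)) ⊆
        ((uPerp hF f₀ : Submodule F (Fin n → F)) : Set (Fin n → F)) := by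
      intro x hx
      rw [SetLike.mem_coe, mem_uPerp] at hx ⊢
      intro i
      exact hx _
    have hC : Nat.card {w : Fin n → F // w ∈ uPerp hF f₀ ∧ ¬ Cfsg.hermForm n F q w v = 0} =
        Fintype.card F ^ (n - k) - Fintype.card F ^ (n - (k + 1)) := by
      have h2 : Nat.card {w : Fin n → F // w ∈ uPerp hF f₀ ∧
          ¬ Cfsg.hermForm n F q w v = 0} =
          (((uPerp hF f₀ : Submodule F (Fin n → F)) : Set (Fin n → F)) \
            ((uPerp hF f : Submodule F (Fin n → F)) : Set (Fin n → F))).ncard := by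
        rw [← Nat.card_coe_set_eq]
        refine Nat.card_congr (Equiv.subtypeEquivRight ?_)
        intro w
        rw [Set.mem_sdiff, SetLike.mem_coe, SetLike.mem_coe, mem_uPerp hF f, mem_uPerp hF f₀,
          Fin.forall_fin_succ']
        constructor
        · rintro ⟨h3, h4⟩
          exact ⟨h3, fun h5 => h4 h5.2⟩
        · rintro ⟨h3, h4⟩
          exact ⟨h3, fun h5 => h4 ⟨h3, h5⟩⟩
      rw [h2, Set.ncard_sdiff hsub, ← Nat.card_coe_set_eq, ← Nat.card_coe_set_eq]
      have h3 := card_uPerp hF f₀ hf₀.1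
      have h4 := card_uPerp hF f hf.1
      rw [← h3, ← h4]
      rfl
    rw [hA, hB', hC, hF] at h1
    exact arith_iso_step q n k _ _ _ (by omega) (by omega) h1 ih'

/-- the factors of the order of the unitary group -/
def uFac (q i : ℕ) : ℕ := if Even i then q ^ (i + 1) + 1 else q ^ (i + 1) - 1

theorem uFac_cast (q i : ℕ) (hq : 1 ≤ q) :
    ((uFac q i : ℕ) : ℤ) = (q : ℤ) ^ (i + 1) + (-1) ^ i := by
  unfold uFac
  split_ifs with h
  · rw [h.neg_one_pow]
    push_cast
    ring
  · rw [Nat.not_even_iff_odd] at h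
    rw [h.neg_one_pow]
    have h1 : 1 ≤ q ^ (i + 1) := Nat.one_le_pow _ _ hq
    push_cast [h1]
    ring

/-- the number of one-vector extensions of a totally isotropic `k`-frame -/
def uExt (q n k : ℕ) : ℕ := q ^ (2 * k) * uFac q (n - 2 * k - 1) * uFac q (n - 2 * k - 2)

theorem arith_ext (q n k NV Nf E : ℕ) (hq : 1 ≤ q) (hnk : 2 * k + 2 ≤ n)
    (hNV : (NV : ℤ) * q = (q : ℤ) ^ (2 * n) + (-1) ^ n * ((q : ℤ) ^ (n + 1) - (q : ℤ) ^ n))
    (hNf : Nf + q ^ (2 * n - 1) = NV + q ^ (2 * n - 2 * k - 1))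
    (hE : E + (q ^ 2) ^ k = Nf) : E = uExt q n k := by
  obtain ⟨m, rfl⟩ : ∃ m, n = m + 2 * k + 2 := ⟨n - 2 * k - 2, by omega⟩
  have e1 : 2 * (m + 2 * k + 2) - 1 = 2 * m + 4 * k + 3 := by omega
  have e2 : 2 * (m + 2 * k + 2) - 2 * k - 1 = 2 * m + 2 * k + 3 := by omega
  have e3 : m + 2 * k + 2 - 2 * k - 1 = m + 1 := by omega
  have e4 : m + 2 * k + 2 - 2 * k - 2 = m := by omega
  have e5 : (-1 : ℤ) ^ (m + 2 * k + 2) = (-1) ^ m := by
    have : m + 2 * k + 2 = m + 2 * (k + 1) := by ring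
    rw [this, pow_add, pow_mul]
    norm_num
  rw [e1, e2] at hNf
  rw [e5] at hNV
  unfold uExt
  rw [e3, e4]
  have hq0 : (q : ℤ) ≠ 0 := by
    have : (1 : ℤ) ≤ (q : ℤ) := by exact_mod_cast hq
    omega
  have hNf' : (Nf : ℤ) + (q : ℤ) ^ (2 * m + 4 * k + 3) =
      (NV : ℤ) + (q : ℤ) ^ (2 * m + 2 * k + 3) := by exact_mod_cast hNf
  have hE' : (E : ℤ) + ((q : ℤ) ^ 2) ^ k = (Nf : ℤ) := by exact_mod_cast hE
  have he : ((-1 : ℤ) ^ m) * ((-1 : ℤ) ^ m) = 1 := by
    rw [← mul_pow]
    norm_num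
  have hgoal : ((E : ℕ) : ℤ) =
      ((q ^ (2 * k) * uFac q (m + 1) * uFac q m : ℕ) : ℤ) := by
    push_cast
    rw [uFac_cast q (m + 1) hq, uFac_cast q m hq]
    apply mul_right_cancel₀ hq0
    have e6 : (-1 : ℤ) ^ (m + 1) = -((-1 : ℤ) ^ m) := by rw [pow_succ]; ring
    rw [e6]
    generalize (-1 : ℤ) ^ m = e at he hNV ⊢
    linear_combination (q : ℤ) * hE' + (q : ℤ) * hNf' + hNV + ((q : ℤ) ^ (2 * k + 1)) * he
  exact_mod_cast hgoal

theorem card_span_frame {k : ℕ} (f : Fin k → (Fin n → F)) (hf : LinearIndependent F f) :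
    Nat.card (Submodule.span F (Set.range f)) = Fintype.card F ^ k := by
  rw [natCard_submodule, finrank_span_eq_card hf, Fintype.card_fin]

/-- the number of ways to extend a totally isotropic frame by one vector -/
theorem card_uFrame_extensions (hF : Fintype.card F = q ^ 2) {k : ℕ}
    (f₀ : Fin k → (Fin n → F)) (hf₀ : IsUFrame n q f₀) (hnk : 2 * k + 2 ≤ n) :
    Nat.card {v : Fin n → F // v ∉ Submodule.span F (Set.range f₀) ∧
      (∀ i, Cfsg.hermForm n F q v (f₀ i) = 0) ∧ Cfsg.hermForm n F q v v = 0} =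
      uExt q n k := by
  classical
  have hq := two_le_of_card_eq_sq hF
  set L : Submodule F (Fin n → F) := Submodule.span F (Set.range f₀) with hL
  set T : Set (Fin n → F) := {x | (∀ i, Cfsg.hermForm n F q x (f₀ i) = 0) ∧
    Cfsg.hermForm n F q x x = 0} with hT
  have hLT : (L : Set (Fin n → F)) ⊆ T := by
    intro x hx
    refine ⟨fun i => ?_, ?_⟩
    · exact hermForm_span_eq_zero hF f₀ hf₀.2 x hx _
        (Submodule.subset_span (Set.mem_range_self i))
    · exact hermForm_span_eq_zero hF f₀ hf₀.2 x hx x hx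
  have h1 : Nat.card {v : Fin n → F // v ∉ Submodule.span F (Set.range f₀) ∧
      (∀ i, Cfsg.hermForm n F q v (f₀ i) = 0) ∧ Cfsg.hermForm n F q v v = 0} =
      (T \ (L : Set (Fin n → F))).ncard := by
    rw [← Nat.card_coe_set_eq]
    refine Nat.card_congr (Equiv.subtypeEquivRight ?_)
    intro w
    rw [Set.mem_sdiff, SetLike.mem_coe]
    exact and_comm
  have h2 := Set.ncard_sdiff_add_ncard_of_subset hLT
  have h3 : (L : Set (Fin n → F)).ncard = (q ^ 2) ^ k := by
    rw [← Nat.card_coe_set_eq, ← hF]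
    exact card_span_frame f₀ hf₀.1
  have h4 : T.ncard = Nat.card {x : Fin n → F // (∀ i, Cfsg.hermForm n F q x (f₀ i) = 0) ∧
      Cfsg.hermForm n F q x x = 0} := by
    rw [← Nat.card_coe_set_eq]
    rfl
  have h5 := card_isotropic_perp hF k f₀ hf₀
  have h6 := hermCnt_zero_int (F := F) hF n
  rw [← card_hermForm_eq] at h6
  rw [h1]
  rw [h3] at h2
  rw [← h4] at h5
  exact arith_ext q n k _ _ _ (by omega) hnk h6 h5 h2

theorem isUFrame_snoc (hF : Fintype.card F = q ^ 2) {k : ℕ} (f₀ : Fin k → (Fin n → F))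
    (hf₀ : IsUFrame n q f₀) (v : Fin n → F) (hv1 : v ∉ Submodule.span F (Set.range f₀))
    (hv2 : ∀ i, Cfsg.hermForm n F q v (f₀ i) = 0) (hv3 : Cfsg.hermForm n F q v v = 0) :
    IsUFrame n q (Fin.snoc (α := fun _ => Fin n → F) f₀ v) := by
  constructor
  · rw [linearIndependent_finSnoc]
    exact ⟨hf₀.1, hv1⟩
  · intro i j
    refine Fin.lastCases ?_ (fun i => ?_) i <;> refine Fin.lastCases ?_ (fun j => ?_) j
    · rw [Fin.snoc_last]
      exact hv3
    · rw [Fin.snoc_last, Fin.snoc_castSucc]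
      exact hv2 j
    · rw [Fin.snoc_last, Fin.snoc_castSucc]
      exact hermForm_zero_of_conj hF (hv2 i)
    · rw [Fin.snoc_castSucc, Fin.snoc_castSucc]
      exact hf₀.2 i j

/-- the number of totally isotropic frames -/
theorem card_UFrames (hF : Fintype.card F = q ^ 2) (k : ℕ) (hk : 2 * k ≤ n) :
    Nat.card (UFrames F n q k) = ∏ i ∈ Finset.range k, uExt q n i := by
  induction k with
  | zero =>
    have : Unique (UFrames F n q 0) :=
      { default := ⟨fun i => Fin.elim0 i, linearIndependent_empty_type, fun i => Fin.elim0 i⟩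
        uniq := fun f => Subtype.ext (funext fun i => Fin.elim0 i) }
    simp [Nat.card_unique]
  | succ k ih =>
    rw [Finset.prod_range_succ, ← ih (by omega)]
    have hfin : Finite (Fin (k + 1) → (Fin n → F)) := inferInstance
    have hfin' : Finite (Fin k → (Fin n → F)) := inferInstance
    apply card_eq_mul_of_fibers
      (fun f : UFrames F n q (k + 1) =>
        (⟨Fin.init (α := fun _ => Fin n → F) f.1,
          ⟨f.2.1.comp _ (Fin.castSucc_injective k), fun i j => f.2.2 _ _⟩⟩ : UFrames F n q k))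
    intro f₀
    rw [← card_uFrame_extensions hF f₀.1 f₀.2 (by omega)]
    refine Nat.card_congr ?_
    refine
      { toFun := fun f => ⟨f.1.1 (Fin.last k), ?_, ?_, ?_⟩
        invFun := fun v => ⟨⟨Fin.snoc (α := fun _ => Fin n → F) f₀.1 v.1,
          isUFrame_snoc hF f₀.1 f₀.2 v.1 v.2.1 v.2.2.1 v.2.2.2⟩, ?_⟩
        left_inv := ?_
        right_inv := ?_ }
    · have h0 : Fin.init (α := fun _ => Fin n → F) f.1.1 = f₀.1 :=
        congrArg Subtype.val f.2
      have h1 := f.1.2.1
      rw [← Fin.snoc_init_self (α := fun _ => Fin n → F) f.1.1,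
        linearIndependent_finSnoc, h0] at h1
      exact h1.2
    · intro i
      have h0 : Fin.init (α := fun _ => Fin n → F) f.1.1 = f₀.1 :=
        congrArg Subtype.val f.2
      rw [← h0]
      exact f.1.2.2 _ _
    · exact f.1.2.2 _ _
    · apply Subtype.ext
      exact Fin.init_snoc (α := fun _ => Fin n → F) v.1 f₀.1
    · intro f
      apply Subtype.ext
      apply Subtype.ext
      have h0 : Fin.init (α := fun _ => Fin n → F) f.1.1 = f₀.1 :=
        congrArg Subtype.val f.2
      show Fin.snoc (α := fun _ => Fin n → F) f₀.1 (f.1.1 (Fin.last k)) = f.1.1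
      rw [← h0]
      exact Fin.snoc_init_self (α := fun _ => Fin n → F) f.1.1
    · intro v
      apply Subtype.ext
      show Fin.snoc (α := fun _ => Fin n → F) f₀.1 v.1 (Fin.last k) = v.1
      exact Fin.snoc_last (α := fun _ => Fin n → F) v.1 f₀.1

end Cfsg.Agent.Helper13
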