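import Cfsg.Agent.Helper13.UIwa4
import Cfsg.Agent.Helper13.UFramesCount
import Cfsg.Prelude.Def_GeometricClasses

set_option autoImplicit false

namespace Cfsg.Agent.Helper13

open Matrix Cfsg.Agent.S0837

variable {F : Type*} [Field F] [Fintype F] {q n : ℕ}

local notation "⟪" x ", " y "⟫" => Cfsg.hermForm n F q x y
local notation "Matn" => Matrix (Fin n) (Fin n) F

/-! ### `GU ⊓ SL` inside `GL` -/

omit [Fintype F] in
theorem mem_GU_iff (g : GL (Fin n) F) : g ∈ Cfsg.GU n F q ↔ IsU q (g : Matn) := Iff.rfl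

omit [Fintype F] in
theorem mem_specialLinear_iff (g : GL (Fin n) F) :
    g ∈ Cfsg.Geo.specialLinear (Fin n) F ↔ (g : Matn).det = 1 := by
  rw [Cfsg.Geo.specialLinear, MonoidHom.mem_ker]
  constructor
  · intro h
    have := congrArg Units.val h
    simpa using this
  · intro h
    apply Units.ext
    simpa using h

omit [Fintype F] in
theorem mem_subspaceStabilizer_iff' (W : Submodule F (Fin n → F)) (g : GL (Fin n) F) :
    g ∈ Cfsg.Geo.subspaceStabilizer W ↔ ∀ v : Fin n → F, v ∈ W ↔ (g : Matn) *ᵥ v ∈ W := Iff.rfl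

/-- an element of `GL` with prescribed matrix of determinant one -/
noncomputable def glOfDetOne (M : Matn) (h : M.det = 1) : GL (Fin n) F :=
  Matrix.GeneralLinearGroup.mk'' M (by rw [h]; exact isUnit_one)

omit [Fintype F] in
theorem glOfDetOne_coe (M : Matn) (h : M.det = 1) : ((glOfDetOne M h : GL (Fin n) F) : Matn) = M :=
  rfl

omit [Fintype F] in
theorem glU_inv_mulVec (g : GL (Fin n) F) (x : Fin n → F) :
    ((g⁻¹ : GL (Fin n) F) : Matn) *ᵥ ((g : Matn) *ᵥ x) = x := by
  rw [Matrix.mulVec_mulVec, ← Units.val_mul, inv_mul_cancel, Units.val_one, Matrix.one_mulVec]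

omit [Fintype F] in
theorem glU_mulVec_inv (g : GL (Fin n) F) (x : Fin n → F) :
    (g : Matn) *ᵥ (((g⁻¹ : GL (Fin n) F) : Matn) *ᵥ x) = x := by
  rw [Matrix.mulVec_mulVec, ← Units.val_mul, mul_inv_cancel, Units.val_one, Matrix.one_mulVec]

omit [Fintype F] in
theorem glU_mulVec_injective (g : GL (Fin n) F) {x y : Fin n → F}
    (h : (g : Matn) *ᵥ x = (g : Matn) *ᵥ y) : x = y := by
  have := congrArg (fun z => ((g⁻¹ : GL (Fin n) F) : Matn) *ᵥ z) h
  simpa only [glU_inv_mulVec] using this

omit [Fintype F] in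
/-- an invertible matrix mapping `W` into `W` stabilises `W` -/
theorem mem_subspaceStabilizer_of_maps_into' (W : Submodule F (Fin n → F)) (g : GL (Fin n) F)
    (h1 : ∀ x ∈ W, (g : Matn) *ᵥ x ∈ W) : g ∈ Cfsg.Geo.subspaceStabilizer W := by
  have hinj : Function.Injective (Matrix.mulVecLin (g : Matn)) := by
    intro x y hxy
    rw [Matrix.mulVecLin_apply, Matrix.mulVecLin_apply] at hxy
    exact glU_mulVec_injective g hxy
  have hle : W.map (Matrix.mulVecLin (g : Matn)) ≤ W := by
    rintro _ ⟨x, hx, rfl⟩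
    exact h1 x hx
  have hfin : Module.finrank F (W.map (Matrix.mulVecLin (g : Matn))) = Module.finrank F W := by
    have h3 := LinearEquiv.finrank_map_eq (LinearEquiv.ofInjectiveEndo _ hinj) W
    rw [← h3]
    congr 2
  have heq : W.map (Matrix.mulVecLin (g : Matn)) = W :=
    Submodule.eq_of_le_of_finrank_eq hle hfin
  rw [mem_subspaceStabilizer_iff']
  intro v
  refine ⟨h1 v, fun h => ?_⟩
  rw [← heq] at h
  obtain ⟨y, hy, hyv⟩ := h
  rw [Matrix.mulVecLin_apply] at hyv
  rw [← glU_mulVec_injective g hyv]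
  exact hy

/-! ### orthogonal complements -/

theorem perpSub_eq_orthogonalBilin (hF : Fintype.card F = q ^ 2) (W : Submodule F (Fin n → F)) :
    perpSub q W = W.orthogonalBilin (hB hF n) := by
  ext x
  rw [mem_perpSub, Submodule.mem_orthogonalBilin_iff]
  constructor
  · intro h y hy
    change hB hF n y x = 0
    rw [hB_apply]
    exact h y hy
  · intro h y hy
    have := h y hy
    change hB hF n y x = 0 at this
    rwa [hB_apply] at this

theorem finrank_perpSub (hF : Fintype.card F = q ^ 2) (W : Submodule F (Fin n → F)) :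
    Module.finrank F (perpSub q W) + Module.finrank F W = n := by
  have h1 := Cfsg.Agent.S0751.finrank_orth (hB hF n) (hB_isSymm hF n) (hB_nondegenerate hF n).1 W
  rw [Module.finrank_fintype_fun_eq_card, Fintype.card_fin] at h1
  rw [perpSub_eq_orthogonalBilin hF]
  exact h1

theorem le_perpSub_perpSub (hF : Fintype.card F = q ^ 2) (W : Submodule F (Fin n → F)) :
    W ≤ perpSub q (perpSub q W) := by
  intro w hw x hx
  exact hermForm_eq_zero_symm hF (hx w hw)

theorem perpSub_perpSub (hF : Fintype.card F = q ^ 2) (W : Submodule F (Fin n → F)) :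
    perpSub q (perpSub q W) = W := by
  symm
  apply Submodule.eq_of_le_of_finrank_eq (le_perpSub_perpSub hF W)
  have h1 := finrank_perpSub hF W
  have h2 := finrank_perpSub hF (perpSub q W)
  omega

/-! ### isotropic vectors whose transvections lie in a subgroup -/

/-- isotropic vectors all of whose unitary transvections lie in `M` -/
def utvVecs (q : ℕ) (M : Subgroup (GL (Fin n) F)) : Set (Fin n → F) :=
  {v | Cfsg.hermForm n F q v v = 0 ∧ ∀ c : F, c + c ^ q = 0 → ∀ g : GL (Fin n) F,
    (g : Matn) = Cfsg.unitaryTransvection n q v c → g ∈ M}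

omit [Fintype F] in
theorem utvVecs_map {M : Subgroup (GL (Fin n) F)} (hM : M ≤ Cfsg.GU n F q)
    {g : GL (Fin n) F} (hg : g ∈ M) {v : Fin n → F} (hv : v ∈ utvVecs q M) :
    (g : Matn) *ᵥ v ∈ utvVecs q M := by
  have hgU : IsU q (g : Matn) := (mem_GU_iff g).mp (hM hg)
  refine ⟨by rw [hgU]; exact hv.1, ?_⟩
  intro c hc g' hg'
  have ht : glOfDetOne (Cfsg.unitaryTransvection n q v c) (det_unitaryTransvection v c hv.1) ∈ M :=
    hv.2 c hc _ rfl
  have h1 : g' = g * glOfDetOne (Cfsg.unitaryTransvection n q v c)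
      (det_unitaryTransvection v c hv.1) * g⁻¹ := by
    apply Units.ext
    rw [Units.val_mul, Units.val_mul, glOfDetOne_coe, hg',
      conj_unitaryTransvection hgU (by rw [← Units.val_mul, mul_inv_cancel, Units.val_one])]
  rw [h1]
  exact M.mul_mem (M.mul_mem hg ht) (M.inv_mem hg)

theorem utvVecs_smul (hF : Fintype.card F = q ^ 2) {M : Subgroup (GL (Fin n) F)}
    {v : Fin n → F} (hv : v ∈ utvVecs q M) (a : F) : a • v ∈ utvVecs q M := by
  refine ⟨by rw [hermForm_smul_left, hermForm_smul_right, hv.1, mul_zero, mul_zero], ?_⟩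
  intro c hc g hg
  rw [unitaryTransvection_smul] at hg
  apply hv.2 _ _ g hg
  rw [mul_pow, mul_pow, frob_frob hF]
  linear_combination (a * a ^ q) * hc

/-- the image of `v` under a transvection of `M` -/
theorem utvVecs_tv {M : Subgroup (GL (Fin n) F)} (hM : M ≤ Cfsg.GU n F q)
    {u v : Fin n → F} (hu : u ∈ utvVecs q M) (hv : v ∈ utvVecs q M) {c : F} (hc : c + c ^ q = 0) :
    v + (c * ⟪v, u⟫) • u ∈ utvVecs q M := by
  have ht : glOfDetOne (Cfsg.unitaryTransvection n q u c) (det_unitaryTransvection u c hu.1) ∈ M :=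
    hu.2 c hc _ rfl
  have := utvVecs_map hM ht hv
  rwa [glOfDetOne_coe, unitaryTransvection_mulVec] at this

end Cfsg.Agent.Helper13
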