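import Cfsg.Agent.Helper13.UComm2
import Cfsg.Agent.Helper13.UMax1

/-!
# A unitary matrix of prime order commuting with a square-zero (skew-)selfadjoint matrix
-/

set_option autoImplicit false

namespace Cfsg.Agent.Helper13

open Matrix Module Cfsg.Agent.S0837

section
variable {F : Type*} [Field F] [Fintype F] {q m : ℕ}

local notation "⟪" x ", " y "⟫" => Cfsg.hermForm m F q x y

omit [Fintype F] in
theorem restrict_pow_coe {V : Type*} [AddCommGroup V] [Module F V] (f : V →ₗ[F] V)
    (p : Submodule F V) (h : ∀ x ∈ p, f x ∈ p) (k : ℕ) (x : p) :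
    (((f.restrict h) ^ k) x : V) = (f ^ k) x := by
  rw [Module.End.pow_restrict k h, LinearMap.restrict_apply]

theorem hermForm_eq_zero_of_forall (hF : Fintype.card F = q ^ 2) (u : Fin m → F)
    (h : ∀ x, ⟪u, x⟫ = 0) : u = 0 := by
  funext i
  rw [← hermForm_single_right hF i u, h]
  rfl

/-- `B` unitary of prime order `r ∤ q`, commuting with `N ≠ 0`, `N^2 = 0`, `N* = ε N`:
then `r ∣ q^(i+1) - (-1)^(i+1)` for some `i < m - 2`. -/
theorem dvd_of_commute_sq_zero_unitary (hF : Fintype.card F = q ^ 2) (hm : 4 ≤ m)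
    (B N : Matrix (Fin m) (Fin m) F)
    (hB : ∀ u v, ⟪B *ᵥ u, B *ᵥ v⟫ = ⟪u, v⟫)
    (ε : F) (hε : ε = 1 ∨ ε = -1)
    (hN : ∀ u v, ⟪N *ᵥ u, v⟫ = ε * ⟪u, N *ᵥ v⟫)
    (hN2 : N * N = 0) (hN0 : N ≠ 0) (hBN : B * N = N * B)
    (r : ℕ) (hr : r.Prime) (hBr : B ^ r = 1) (hB1 : B ≠ 1) (hrq : ¬ r ∣ q) :
    ∃ i < m - 2, r ∣ (if Even i then q ^ (i + 1) + 1 else q ^ (i + 1) - 1) := by
  classical
  have hq2 := two_le_of_card_eq_sq hF
  by_contra hcon
  push Not at hcon
  set b : (Fin m → F) →ₗ[F] (Fin m → F) := Matrix.toLinAlgEquiv' B with hb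
  set n : (Fin m → F) →ₗ[F] (Fin m → F) := Matrix.toLinAlgEquiv' N with hn
  have hbv : ∀ v, b v = B *ᵥ v := fun v => Matrix.toLinAlgEquiv'_apply B v
  have hnv : ∀ v, n v = N *ᵥ v := fun v => Matrix.toLinAlgEquiv'_apply N v
  have hnn : ∀ v, n (n v) = 0 := by
    intro v
    rw [hnv, hnv, Matrix.mulVec_mulVec, hN2, Matrix.zero_mulVec]
  have hbn : ∀ v, b (n v) = n (b v) := by
    intro v
    rw [hbv, hnv, hnv, hbv, Matrix.mulVec_mulVec, Matrix.mulVec_mulVec, hBN]
  have hbb : ∀ u v, ⟪b u, b v⟫ = ⟪u, v⟫ := by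
    intro u v
    rw [hbv, hbv, hB]
  have hNn : ∀ u v, ⟪n u, v⟫ = ε * ⟪u, n v⟫ := by
    intro u v
    rw [hnv, hnv, hN]
  have hbr : b ^ r = 1 := by
    rw [hb, ← map_pow, hBr, map_one]
  set I := LinearMap.range n with hI
  set K := LinearMap.ker n with hK
  have hIK : I ≤ K := by
    rintro _ ⟨v, rfl⟩
    exact LinearMap.mem_ker.mpr (hnn v)
  have hrank : finrank F I + finrank F K = m := by
    have := LinearMap.finrank_range_add_finrank_ker n
    rwa [Module.finrank_fin_fun] at this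
  have hI1 : 1 ≤ finrank F I := by
    rw [Nat.one_le_iff_ne_zero, Ne, Submodule.finrank_eq_zero, hI, LinearMap.range_eq_bot]
    intro h0
    apply hN0
    apply (Matrix.toLinAlgEquiv' (R := F) (n := Fin m)).injective
    rw [map_zero]
    exact h0
  have hIle : finrank F I ≤ finrank F K := Submodule.finrank_mono hIK
  -- `I ⊥ K`
  have hperp : ∀ u ∈ I, ∀ k ∈ K, ⟪u, k⟫ = 0 := by
    rintro _ ⟨x, rfl⟩ k hk
    rw [hNn, LinearMap.mem_ker.mp hk, hermForm_zero_right hF, mul_zero]
  have hperp' : ∀ k ∈ K, ∀ u ∈ I, ⟪k, u⟫ = 0 := fun k hk u hu =>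
    hermForm_eq_zero_symm hF (hperp u hu k hk)
  have hbI : ∀ u ∈ I, b u ∈ I := by
    rintro _ ⟨x, rfl⟩
    exact ⟨b x, (hbn x).symm⟩
  have hbK : ∀ k ∈ K, b k ∈ K := by
    intro k hk
    rw [hK, LinearMap.mem_ker, ← hbn, LinearMap.mem_ker.mp hk, map_zero]
  -- ### Part 1: `b` is trivial on `I`
  have hfixI : ∀ u ∈ I, b u = u := by
    obtain ⟨s, hs⟩ := LinearMap.exists_rightInverse_of_surjective n.rangeRestrict
      (LinearMap.range_rangeRestrict n)
    have hns : ∀ u : I, n (s u) = (u : Fin m → F) := by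
      intro u
      have := congrArg (fun f : I →ₗ[F] I => ((f u : I) : Fin m → F)) hs
      simpa using this
    let φ : I → I → F := fun u u' => ⟪(u : Fin m → F), s u'⟫
    let T : I →ₗ[F] I := b.restrict hbI
    by_contra hne
    have hT1 : T ≠ 1 := by
      intro h1
      apply hne
      intro u hu
      have := congrArg (fun f : I →ₗ[F] I => ((f ⟨u, hu⟩ : I) : Fin m → F)) h1
      simpa [T] using this
    have hTr : T ^ r = 1 := by
      apply LinearMap.ext
      intro u
      apply Subtype.ext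
      rw [restrict_pow_coe, hbr]
      rfl
    have hnd : ∀ u : I, (∀ u', φ u u' = 0) → u = 0 := by
      intro u hu
      apply Subtype.ext
      apply hermForm_eq_zero_of_forall hF
      intro x
      have hxk : x - s ⟨n x, ⟨x, rfl⟩⟩ ∈ K := by
        rw [hK, LinearMap.mem_ker, map_sub, hns]
        exact sub_self _
      have h1 : x = s ⟨n x, ⟨x, rfl⟩⟩ + (x - s ⟨n x, ⟨x, rfl⟩⟩) := by abel
      rw [h1, hermForm_add_right hF, hperp u u.2 _ hxk, add_zero]
      exact hu _
    have hherm : ∀ u u' : I, φ u' u = ε * (φ u u') ^ q := by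
      intro u u'
      change ⟪(u' : Fin m → F), s u⟫ = ε * ⟪(u : Fin m → F), s u'⟫ ^ q
      rw [hermForm_conj hF]
      conv_lhs => rw [← hns u', hNn, hns]
    have hT : ∀ u u' : I, φ (T u) (T u') = φ u u' := by
      intro u u'
      change ⟪b (u : Fin m → F), s (T u')⟫ = ⟪(u : Fin m → F), s u'⟫
      have hd : s (T u') - b (s u') ∈ K := by
        rw [hK, LinearMap.mem_ker, map_sub, hns, ← hbn, hns]
        exact sub_self _
      have h1 : s (T u') = b (s u') + (s (T u') - b (s u')) := (add_sub_cancel _ _).symm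
      rw [h1, hermForm_add_right hF, hperp _ (hbI _ u.2) _ hd, add_zero, hbb]
    obtain ⟨i, hi, hir⟩ := dvd_of_isometry hF φ
      (fun x x' y => by
        change ⟪((x + x' : I) : Fin m → F), s y⟫ = _
        rw [Submodule.coe_add, hermForm_add_left])
      (fun c x y => by
        change ⟪((c • x : I) : Fin m → F), s y⟫ = _
        rw [Submodule.coe_smul, hermForm_smul_left])
      (fun x y y' => by
        change ⟪(x : Fin m → F), s (y + y')⟫ = _
        rw [map_add, hermForm_add_right hF])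
      (fun c x y => by
        change ⟪(x : Fin m → F), s (c • y)⟫ = _
        rw [map_smul, hermForm_smul_right])
      ε hε hherm hnd T hT r hr hTr hT1 hrq
    exact hcon i (by omega) hir
  -- ### Part 2: a complement `Y` of `I` in `K`
  obtain ⟨Y0, hY0⟩ := Submodule.exists_isCompl I
  set ρ : (Fin m → F) →ₗ[F] (Fin m → F) := Y0.projection I hY0.symm with hρ
  have hρY0 : ∀ x, ρ x ∈ Y0 := fun x => Submodule.projection_apply_mem hY0.symm x
  have hρI : ∀ x, x - ρ x ∈ I := by
    intro x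
    have h1 := Submodule.projection_add_projection_eq_self hY0 x
    have h2 : x - ρ x = I.projection Y0 hY0 x := sub_eq_iff_eq_add.mpr h1.symm
    rw [h2]
    exact Submodule.projection_apply_mem hY0 x
  have hρfix : ∀ y ∈ Y0, ρ y = y := fun y hy => Submodule.projection_apply_of_mem_left hY0.symm hy
  have hρzero : ∀ u ∈ I, ρ u = 0 := fun u hu => Submodule.projection_apply_of_mem_right hY0.symm hu
  have hρK : ∀ k ∈ K, ρ k ∈ K := by
    intro k hk
    have h1 : ρ k = k - (k - ρ k) := by abel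
    rw [h1]
    exact K.sub_mem hk (hIK (hρI k))
  set Y := Y0 ⊓ K with hY
  have hρform : ∀ k ∈ K, ∀ k' ∈ K, ⟪ρ k, ρ k'⟫ = ⟪k, k'⟫ := by
    intro k hk k' hk'
    have h1 : k = ρ k + (k - ρ k) := by abel
    have h2 : k' = ρ k' + (k' - ρ k') := by abel
    conv_rhs => rw [h1, h2]
    rw [hermForm_add_left, hermForm_add_right hF, hermForm_add_right hF,
      hperp' _ (hρK k hk) _ (hρI k'), hperp _ (hρI k) _ (hρK k' hk'),
      hperp _ (hρI k) _ (hIK (hρI k')), add_zero, add_zero, add_zero]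
  have hperpK : perpSub q K = I := by
    symm
    apply Submodule.eq_of_le_of_finrank_eq
    · intro u hu k hk
      exact hperp u hu k hk
    · have := finrank_perpSub hF K
      omega
  have hfixY : ∀ y ∈ Y, ρ (b y) = y := by
    have hTmem : ∀ y ∈ Y, (ρ ∘ₗ b) y ∈ Y := by
      intro y hy
      exact ⟨hρY0 _, hρK _ (hbK _ hy.2)⟩
    let φ : Y → Y → F := fun y y' => ⟪(y : Fin m → F), (y' : Fin m → F)⟫
    let T : Y →ₗ[F] Y := (ρ ∘ₗ b).restrict hTmem
    by_contra hne
    have hT1 : T ≠ 1 := by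
      intro h1
      apply hne
      intro y hy
      have := congrArg (fun f : Y →ₗ[F] Y => ((f ⟨y, hy⟩ : Y) : Fin m → F)) h1
      simpa [T] using this
    have hpow : ∀ k : ℕ, ∀ y ∈ Y, ((ρ ∘ₗ b) ^ k) y = ρ ((b ^ k) y) ∧ (b ^ k) y ∈ K := by
      intro k
      induction k with
      | zero =>
        intro y hy
        rw [pow_zero, pow_zero, Module.End.one_apply, hρfix y hy.1]
        exact ⟨rfl, hy.2⟩
      | succ k ih =>
        intro y hy
        obtain ⟨h1, h2⟩ := ih y hy
        rw [pow_succ', pow_succ', Module.End.mul_apply, Module.End.mul_apply, h1]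
        refine ⟨?_, hbK _ h2⟩
        change ρ (b (ρ ((b ^ k) y))) = ρ (b ((b ^ k) y))
        have h3 : ρ ((b ^ k) y) = (b ^ k) y - ((b ^ k) y - ρ ((b ^ k) y)) := by abel
        rw [h3, map_sub, map_sub, hρzero _ (hbI _ (hρI _)), sub_zero]
    have hTr : T ^ r = 1 := by
      apply LinearMap.ext
      intro y
      apply Subtype.ext
      rw [restrict_pow_coe, (hpow r y y.2).1, hbr]
      exact hρfix _ y.2.1
    have hnd : ∀ y : Y, (∀ y', φ y y' = 0) → y = 0 := by
      intro y hy
      apply Subtype.ext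
      have hyI : (y : Fin m → F) ∈ I := by
        rw [← hperpK]
        intro k hk
        have h1 : k = ρ k + (k - ρ k) := by abel
        rw [h1, hermForm_add_right hF, hperp' _ y.2.2 _ (hρI k), add_zero]
        exact hy ⟨ρ k, ⟨hρY0 k, hρK k hk⟩⟩
      have := hY0.disjoint.le_bot ⟨hyI, y.2.1⟩
      exact (Submodule.mem_bot F).mp this
    have hherm : ∀ y y' : Y, φ y' y = 1 * (φ y y') ^ q := by
      intro y y'
      rw [one_mul]
      exact (hermForm_conj hF _ _).symm
    have hT : ∀ y y' : Y, φ (T y) (T y') = φ y y' := by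
      intro y y'
      change ⟪ρ (b (y : Fin m → F)), ρ (b (y' : Fin m → F))⟫ = ⟪(y : Fin m → F), (y' : Fin m → F)⟫
      rw [hρform _ (hbK _ y.2.2) _ (hbK _ y'.2.2), hbb]
    obtain ⟨i, hi, hir⟩ := dvd_of_isometry hF φ
      (fun x x' y => by
        change ⟪((x + x' : Y) : Fin m → F), (y : Fin m → F)⟫ = _
        rw [Submodule.coe_add, hermForm_add_left])
      (fun c x y => by
        change ⟪((c • x : Y) : Fin m → F), (y : Fin m → F)⟫ = _
        rw [Submodule.coe_smul, hermForm_smul_left])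
      (fun x y y' => by
        change ⟪(x : Fin m → F), ((y + y' : Y) : Fin m → F)⟫ = _
        rw [Submodule.coe_add, hermForm_add_right hF])
      (fun c x y => by
        change ⟪(x : Fin m → F), ((c • y : Y) : Fin m → F)⟫ = _
        rw [Submodule.coe_smul, hermForm_smul_right])
      1 (Or.inl rfl) hherm hnd T hT r hr hTr hT1 hrq
    have hYdim : finrank F Y + finrank F I ≤ finrank F K := by
      have h1 := Submodule.finrank_sup_add_finrank_inf_eq Y I
      have h2 : Y ⊓ I = ⊥ := by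
        rw [eq_bot_iff]
        intro x hx
        exact hY0.disjoint.le_bot ⟨hx.2, hx.1.1⟩
      have h3 : Y ⊔ I ≤ K := sup_le inf_le_right hIK
      have h4 := Submodule.finrank_mono h3
      rw [h2, finrank_bot] at h1
      omega
    exact hcon i (by omega) hir
  -- ### Part 3: `(b - 1)^3 = 0`
  have h1 : ∀ x, b x - x ∈ K := by
    intro x
    rw [hK, LinearMap.mem_ker, map_sub, ← hbn, hfixI _ ⟨x, rfl⟩, sub_self]
  have h2 : ∀ k ∈ K, b k - k ∈ I := by
    intro k hk
    have hyk : ρ k ∈ Y := ⟨hρY0 k, hρK k hk⟩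
    have e1 : k = ρ k + (k - ρ k) := by abel
    have e2 : b k - k = b (ρ k) - ρ k := by
      conv_lhs => rw [e1]
      rw [map_add, hfixI _ (hρI k)]
      abel
    rw [e2]
    have e3 := hρI (b (ρ k))
    rwa [hfixY _ hyk] at e3
  have h3 : ∀ x, b (b (b x - x) - (b x - x)) - (b (b x - x) - (b x - x)) = 0 := by
    intro x
    rw [hfixI _ (h2 _ (h1 x)), sub_self]
  -- back to matrices
  have hcube : (B - 1) ^ 3 = 0 := by
    apply (Matrix.toLinAlgEquiv' (R := F) (n := Fin m)).injective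
    rw [map_zero, map_pow, map_sub, map_one]
    apply LinearMap.ext
    intro x
    rw [pow_succ, pow_two, Module.End.mul_apply, Module.End.mul_apply]
    simp only [LinearMap.sub_apply, Module.End.one_apply, LinearMap.zero_apply]
    exact h3 x
  obtain ⟨p, j, hp, hchar, hqp⟩ := exists_char_pow_of_card_eq_sq hF
  have : Fact p.Prime := ⟨hp⟩
  have : Nonempty (Fin m) := ⟨⟨0, by omega⟩⟩
  have : CharP F p := hchar
  have hBq : B ^ (p ^ (2 * j)) = 1 := by
    have h4 : (B - 1) ^ (p ^ (2 * j)) = B ^ (p ^ (2 * j)) - 1 := by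
      rw [sub_pow_char_pow_of_commute p (2 * j) (Commute.one_right B), one_pow]
    have h5 : (B - 1) ^ (p ^ (2 * j)) = 0 := by
      have h6 : 3 ≤ p ^ (2 * j) := by
        have : p ^ (2 * j) = q ^ 2 := by rw [hqp, ← pow_mul, mul_comm]
        rw [this]
        nlinarith
      obtain ⟨t, ht⟩ := Nat.exists_eq_add_of_le h6
      rw [ht, pow_add, hcube, zero_mul]
    rw [h5] at h4
    exact (sub_eq_zero.mp h4.symm)
  apply hB1
  have hcop : Nat.Coprime r (p ^ (2 * j)) := by
    apply Nat.Coprime.pow_right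
    rw [Nat.coprime_primes hr hp]
    rintro rfl
    apply hrq
    rw [hqp]
    apply dvd_pow_self
    rintro rfl
    rw [pow_zero] at hqp
    omega
  have := Nat.gcd_eq_gcd_ab r (p ^ (2 * j))
  -- B has order dividing both
  have hB' : IsUnit B := by
    refine ⟨⟨B, B ^ (r - 1), ?_, ?_⟩, rfl⟩
    · rw [← pow_succ', Nat.sub_add_cancel hr.one_lt.le, hBr]
    · rw [← pow_succ, Nat.sub_add_cancel hr.one_lt.le, hBr]
  obtain ⟨u, rfl⟩ := hB'
  have hu1 : u ^ r = 1 := Units.ext (by rw [Units.val_pow_eq_pow_val, hBr, Units.val_one])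
  have hu2 : u ^ (p ^ (2 * j)) = 1 :=
    Units.ext (by rw [Units.val_pow_eq_pow_val, hBq, Units.val_one])
  have h7 : orderOf u ∣ 1 := by
    have := Nat.dvd_gcd (orderOf_dvd_of_pow_eq_one hu1) (orderOf_dvd_of_pow_eq_one hu2)
    rwa [hcop] at this
  rw [orderOf_eq_one_iff.mp (Nat.dvd_one.mp h7), Units.val_one]

end

end Cfsg.Agent.Helper13
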