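import Cfsg.Agent.Helper13.UComm3
import Cfsg.Agent.Helper5.UnitaryCenter
import Cfsg.Agent.Helper45.SUCard

/-!
# Lifting commuting elements of `PSU_m(q)` of orders `p`, `r` to `SU_m(q)`, and the
(skew-)selfadjoint square-zero matrix attached to a unipotent unitary matrix.
-/

set_option autoImplicit false

namespace Cfsg.Agent.Helper13

open Matrix Module Cfsg.Agent.S0837

section
variable {F : Type*} [Field F] [Fintype F] {q m : ℕ}

local notation "⟪" x ", " y "⟫" => Cfsg.hermForm m F q x y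

/-- central elements of `SU_m(q)` have order dividing `q + 1` -/
theorem center_SU_pow (hF : Fintype.card F = q ^ 2) (hm : 1 ≤ m) (ζ : Cfsg.SU m F q)
    (hζ : ζ ∈ Subgroup.center (Cfsg.SU m F q)) : ζ ^ (q + 1) = 1 := by
  let i₀ : Fin m := ⟨0, by omega⟩
  have hscal := Cfsg.Agent.Helper5.center_eq_scalar hF ζ hζ i₀
  set c := ζ.1.1 i₀ i₀ with hc
  have hsv : ∀ v : Fin m → F, Matrix.scalar (Fin m) c *ᵥ v = c • v := by
    intro v
    funext i
    rw [Matrix.scalar_apply, Matrix.mulVec_diagonal]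
    rfl
  have hc1 : c ^ (q + 1) = 1 := by
    have h1 := ζ.2 (Pi.single i₀ 1) (Pi.single i₀ 1)
    change ⟪ζ.1.1 *ᵥ Pi.single i₀ 1, ζ.1.1 *ᵥ Pi.single i₀ 1⟫ = ⟪Pi.single i₀ 1, Pi.single i₀ 1⟫ at h1
    rw [hscal, hsv, hermForm_smul_left, hermForm_smul_right, hermForm_single_right hF] at h1
    rw [pow_succ']
    simpa using h1
  apply Subtype.ext
  apply Subtype.ext
  rw [Subgroup.coe_pow, Matrix.SpecialLinearGroup.coe_pow, hscal, ← map_pow, hc1, map_one]
  rfl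

/-- the adjoint computation: for `U` unitary with inverse `W`, `D = U - 1` and `s` with `D^s = 0`,
the matrix `N = D^(s-1)` satisfies `⟪N u, v⟫ = (-1)^(s-1) ⟪u, N v⟫`. -/
theorem hermForm_unipotent_pow_adjoint (hF : Fintype.card F = q ^ 2)
    (U W : Matrix (Fin m) (Fin m) F) (hU : ∀ u v, ⟪U *ᵥ u, U *ᵥ v⟫ = ⟪u, v⟫)
    (hUW : U * W = 1) (s : ℕ) (hs1 : 1 ≤ s) (hs : (U - 1) ^ s = 0) (u v : Fin m → F) :
    ⟪((U - 1) ^ (s - 1)) *ᵥ u, v⟫ = (-1) ^ (s - 1) * ⟪u, ((U - 1) ^ (s - 1)) *ᵥ v⟫ := by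
  have hWU : W * U = 1 := mul_eq_one_comm.mp hUW
  set D := U - 1 with hD
  have hadj : ∀ u v, ⟪U *ᵥ u, v⟫ = ⟪u, W *ᵥ v⟫ := by
    intro u v
    have h1 : v = U *ᵥ (W *ᵥ v) := by rw [Matrix.mulVec_mulVec, hUW, Matrix.one_mulVec]
    conv_lhs => rw [h1]
    rw [hU]
  have hD1 : ∀ u v, ⟪D *ᵥ u, v⟫ = -⟪u, (W * D) *ᵥ v⟫ := by
    intro u v
    have e1 : D *ᵥ u = U *ᵥ u - u := by rw [hD, Matrix.sub_mulVec, Matrix.one_mulVec]
    have e2 : (W * D) *ᵥ v = v - W *ᵥ v := by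
      rw [hD, mul_sub, hWU, mul_one, Matrix.sub_mulVec, Matrix.one_mulVec]
    rw [e1, e2, hermForm_sub_left, hadj, hermForm_sub_right hF]
    ring
  have hDk : ∀ k : ℕ, ∀ u v, ⟪(D ^ k) *ᵥ u, v⟫ = (-1) ^ k * ⟪u, ((W * D) ^ k) *ᵥ v⟫ := by
    intro k
    induction k with
    | zero =>
      intro u v
      rw [pow_zero, pow_zero, pow_zero, Matrix.one_mulVec, Matrix.one_mulVec, one_mul]
    | succ k ih =>
      intro u v
      rw [pow_succ', ← Matrix.mulVec_mulVec, hD1, ih, pow_succ (W * D) k, Matrix.mulVec_mulVec,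
        pow_succ]
      ring
  have hcomm : Commute W D := by
    have h1 : Commute W U := by
      change W * U = U * W
      rw [hWU, hUW]
    rw [hD]
    exact h1.sub_right (Commute.one_right W)
  have hWDs : W * D ^ (s - 1) = D ^ (s - 1) := by
    have h1 : U * D ^ (s - 1) = D ^ (s - 1) := by
      have : U = D + 1 := by rw [hD]; abel
      rw [this, add_mul, one_mul, ← pow_succ', Nat.sub_add_cancel hs1, hs, zero_add]
    calc W * D ^ (s - 1) = W * (U * D ^ (s - 1)) := by rw [h1]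
      _ = D ^ (s - 1) := by rw [← mul_assoc, hWU, one_mul]
  have hWk : ∀ k : ℕ, W ^ k * D ^ (s - 1) = D ^ (s - 1) := by
    intro k
    induction k with
    | zero => rw [pow_zero, one_mul]
    | succ k ih => rw [pow_succ, mul_assoc, hWDs, ih]
  rw [hDk, hcomm.mul_pow, hWk]

end

end Cfsg.Agent.Helper13
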