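import Cfsg.Agent.Helper13.UGen1

set_option autoImplicit false

namespace Cfsg.Agent.Helper13

open Matrix

variable {F : Type*} [Field F] [Fintype F] {q n : ℕ}

local notation "⟪" x ", " y "⟫" => Cfsg.hermForm n F q x y

/-- `M` preserves the Hermitian form -/
def IsU (q : ℕ) (M : Matrix (Fin n) (Fin n) F) : Prop :=
  ∀ x y, Cfsg.hermForm n F q (M *ᵥ x) (M *ᵥ y) = Cfsg.hermForm n F q x y

omit [Fintype F] in
theorem IsU.one : IsU q (1 : Matrix (Fin n) (Fin n) F) := by
  intro x y
  rw [Matrix.one_mulVec, Matrix.one_mulVec]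

omit [Fintype F] in
theorem IsU.mul {M N : Matrix (Fin n) (Fin n) F} (hM : IsU q M) (hN : IsU q N) :
    IsU q (M * N) := by
  intro x y
  rw [← Matrix.mulVec_mulVec, ← Matrix.mulVec_mulVec, hM, hN]

/-- `M` fixes every vector orthogonal to `W` -/
def FixPerp (q : ℕ) (W : Submodule F (Fin n → F)) (M : Matrix (Fin n) (Fin n) F) : Prop :=
  ∀ x, (∀ y ∈ W, Cfsg.hermForm n F q x y = 0) → M *ᵥ x = x

omit [Fintype F] in
theorem FixPerp.one (W : Submodule F (Fin n → F)) : FixPerp q W (1 : Matrix (Fin n) (Fin n) F) :=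
  fun x _ => Matrix.one_mulVec x

omit [Fintype F] in
theorem FixPerp.mul {W : Submodule F (Fin n → F)} {M N : Matrix (Fin n) (Fin n) F}
    (hM : FixPerp q W M) (hN : FixPerp q W N) : FixPerp q W (M * N) := by
  intro x hx
  rw [← Matrix.mulVec_mulVec, hN x hx, hM x hx]

omit [Fintype F] in
theorem FixPerp.mono {W W' : Submodule F (Fin n → F)} (h : W ≤ W')
    {M : Matrix (Fin n) (Fin n) F} (hM : FixPerp q W M) : FixPerp q W' M :=
  fun x hx => hM x (fun y hy => hx y (h hy))

/-! ### transvections -/

omit [Fintype F] in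
theorem unitaryTransvection_eq_rankOne (v : Fin n → F) (c : F) :
    Cfsg.unitaryTransvection n q v c = 1 + c • rankOne q v v := rfl

omit [Fintype F] in
theorem det_unitaryTransvection (v : Fin n → F) (c : F) (hv : ⟪v, v⟫ = 0) :
    (Cfsg.unitaryTransvection n q v c).det = 1 := by
  rw [unitaryTransvection_eq_rankOne, det_one_add_rankOne, hv, mul_zero, add_zero]

omit [Fintype F] in
theorem unitaryTransvection_zero (v : Fin n → F) :
    Cfsg.unitaryTransvection n q v 0 = 1 := by
  rw [unitaryTransvection_eq_rankOne, zero_smul, add_zero]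

omit [Fintype F] in
theorem unitaryTransvection_mul (v : Fin n → F) (c c' : F) (hv : ⟪v, v⟫ = 0) :
    Cfsg.unitaryTransvection n q v c * Cfsg.unitaryTransvection n q v c' =
      Cfsg.unitaryTransvection n q v (c + c') := by
  apply mat_ext_mulVec
  intro x
  rw [← Matrix.mulVec_mulVec, unitaryTransvection_mulVec, unitaryTransvection_mulVec,
    unitaryTransvection_mulVec, hermForm_add_left, hermForm_smul_left, hv, mul_zero, add_zero]
  module

theorem isU_unitaryTransvection (hF : Fintype.card F = q ^ 2) (v : Fin n → F) (c : F)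
    (hv : ⟪v, v⟫ = 0) (hc : c + c ^ q = 0) : IsU q (Cfsg.unitaryTransvection n q v c) := by
  intro x y
  rw [hermForm_unitaryTransvection hF v hv, add_comm (c ^ q), hc, zero_mul, add_zero]

omit [Fintype F] in
/-- conjugating a transvection by an isometry -/
theorem conj_unitaryTransvection {G G' : Matrix (Fin n) (Fin n) F}
    (hG : IsU q G) (hGG' : G * G' = 1) (v : Fin n → F) (c : F) :
    G * Cfsg.unitaryTransvection n q v c * G' = Cfsg.unitaryTransvection n q (G *ᵥ v) c := by
  apply mat_ext_mulVec
  intro x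
  rw [← Matrix.mulVec_mulVec, ← Matrix.mulVec_mulVec, unitaryTransvection_mulVec,
    unitaryTransvection_mulVec, Matrix.mulVec_add, Matrix.mulVec_mulVec, hGG', Matrix.one_mulVec,
    Matrix.mulVec_smul]
  congr 2
  have h := hG (G' *ᵥ x) v
  rw [Matrix.mulVec_mulVec, hGG', Matrix.one_mulVec] at h
  rw [h]

/-! ### the group generated by the transvections with vector in `W` -/

/-- products of unitary transvections with isotropic vector in `W` -/
inductive InTW (q : ℕ) (W : Submodule F (Fin n → F)) : Matrix (Fin n) (Fin n) F → Prop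
  | one : InTW q W 1
  | tv_mul (v : Fin n → F) (c : F) (M : Matrix (Fin n) (Fin n) F) :
      v ∈ W → Cfsg.hermForm n F q v v = 0 → c + c ^ q = 0 → InTW q W M →
      InTW q W (Cfsg.unitaryTransvection n q v c * M)

omit [Fintype F] in
theorem InTW.tv {W : Submodule F (Fin n → F)} {v : Fin n → F} (hvW : v ∈ W) (hv : ⟪v, v⟫ = 0)
    {c : F} (hc : c + c ^ q = 0) : InTW q W (Cfsg.unitaryTransvection n q v c) := by
  have := InTW.tv_mul v c 1 hvW hv hc InTW.one
  rwa [mul_one] at this

omit [Fintype F] in
theorem InTW.mul {W : Submodule F (Fin n → F)} {M N : Matrix (Fin n) (Fin n) F}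
    (hM : InTW q W M) (hN : InTW q W N) : InTW q W (M * N) := by
  induction hM with
  | one => rwa [one_mul]
  | tv_mul v c M hvW hv hc _ ih =>
    rw [mul_assoc]
    exact InTW.tv_mul v c _ hvW hv hc ih

omit [Fintype F] in
theorem InTW.mono {W W' : Submodule F (Fin n → F)} (h : W ≤ W') {M : Matrix (Fin n) (Fin n) F}
    (hM : InTW q W M) : InTW q W' M := by
  induction hM with
  | one => exact InTW.one
  | tv_mul v c M hvW hv hc _ ih => exact InTW.tv_mul v c _ (h hvW) hv hc ih

theorem InTW.isU (hF : Fintype.card F = q ^ 2) {W : Submodule F (Fin n → F)}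
    {M : Matrix (Fin n) (Fin n) F} (hM : InTW q W M) : IsU q M := by
  induction hM with
  | one => exact IsU.one
  | tv_mul v c M _ hv hc _ ih => exact (isU_unitaryTransvection hF v c hv hc).mul ih

omit [Fintype F] in
theorem InTW.det {W : Submodule F (Fin n → F)}
    {M : Matrix (Fin n) (Fin n) F} (hM : InTW q W M) : M.det = 1 := by
  induction hM with
  | one => exact Matrix.det_one
  | tv_mul v c M _ hv _ _ ih => rw [Matrix.det_mul, det_unitaryTransvection v c hv, ih, one_mul]

omit [Fintype F] in
theorem InTW.fixPerp {W : Submodule F (Fin n → F)}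
    {M : Matrix (Fin n) (Fin n) F} (hM : InTW q W M) : FixPerp q W M := by
  induction hM with
  | one => exact FixPerp.one W
  | tv_mul v c M hvW _ _ _ ih =>
    refine FixPerp.mul ?_ ih
    intro x hx
    rw [unitaryTransvection_mulVec, hx v hvW, mul_zero, zero_smul, add_zero]

omit [Fintype F] in
theorem InTW.maps {W : Submodule F (Fin n → F)}
    {M : Matrix (Fin n) (Fin n) F} (hM : InTW q W M) : ∀ x ∈ W, M *ᵥ x ∈ W := by
  induction hM with
  | one => intro x hx; rwa [Matrix.one_mulVec]
  | tv_mul v c M hvW _ _ _ ih =>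
    intro x hx
    rw [← Matrix.mulVec_mulVec, unitaryTransvection_mulVec]
    exact W.add_mem (ih x hx) (W.smul_mem _ hvW)

theorem InTW.inv (hF : Fintype.card F = q ^ 2) {W : Submodule F (Fin n → F)}
    {M : Matrix (Fin n) (Fin n) F} (hM : InTW q W M) :
    ∃ M', InTW q W M' ∧ M' * M = 1 ∧ M * M' = 1 := by
  induction hM with
  | one => exact ⟨1, InTW.one, one_mul 1, one_mul 1⟩
  | tv_mul v c M hvW hv hc _ ih =>
    obtain ⟨M', hM', h1, h2⟩ := ih
    have hc' : -c + (-c) ^ q = 0 := by
      rw [frob_neg' hF]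
      linear_combination -hc
    refine ⟨M' * Cfsg.unitaryTransvection n q v (-c), hM'.mul (InTW.tv hvW hv hc'), ?_, ?_⟩
    · rw [mul_assoc, ← mul_assoc (Cfsg.unitaryTransvection n q v (-c)),
        unitaryTransvection_mul v _ _ hv, neg_add_cancel, unitaryTransvection_zero, one_mul, h1]
    · rw [mul_assoc, ← mul_assoc M, h2, one_mul, unitaryTransvection_mul v _ _ hv,
        add_neg_cancel, unitaryTransvection_zero]

omit [Fintype F] in
theorem InTW.conj {W : Submodule F (Fin n → F)} {G G' : Matrix (Fin n) (Fin n) F}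
    (hG : IsU q G) (hGG' : G * G' = 1) (hGW : ∀ x ∈ W, G *ᵥ x ∈ W)
    {M : Matrix (Fin n) (Fin n) F} (hM : InTW q W M) : InTW q W (G * M * G') := by
  have hG'G : G' * G = 1 := mul_eq_one_comm.mp hGG'
  induction hM with
  | one => rw [mul_one, hGG']; exact InTW.one
  | tv_mul v c M hvW hv hc _ ih =>
    have h1 : G * (Cfsg.unitaryTransvection n q v c * M) * G' =
        (G * Cfsg.unitaryTransvection n q v c * G') * (G * M * G') := by
      have : G * Cfsg.unitaryTransvection n q v c * G' * (G * M * G') =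
          G * Cfsg.unitaryTransvection n q v c * (G' * G) * M * G' := by
        simp only [mul_assoc]
      rw [this, hG'G, mul_one]
      simp only [mul_assoc]
    rw [h1, conj_unitaryTransvection hG hGG']
    refine InTW.tv_mul _ c _ (hGW v hvW) ?_ hc ih
    rw [hG, hv]

end Cfsg.Agent.Helper13
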