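import Cfsg.Agent.Helper13.UGen2

set_option autoImplicit false

namespace Cfsg.Agent.Helper13

open Matrix

variable {F : Type*} [Field F] [Fintype F] {q n : ℕ}

local notation "⟪" x ", " y "⟫" => Cfsg.hermForm n F q x y

theorem hermForm_eq_zero_symm (hF : Fintype.card F = q ^ 2) {x y : Fin n → F} (h : ⟪x, y⟫ = 0) :
    ⟪y, x⟫ = 0 := by
  have hq := two_le_of_card_eq_sq hF
  rw [← hermForm_conj hF, h, zero_pow (by omega)]

theorem hermForm_ne_zero_symm (hF : Fintype.card F = q ^ 2) {x y : Fin n → F} (h : ⟪x, y⟫ ≠ 0) :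
    ⟪y, x⟫ ≠ 0 := fun h' => h (hermForm_eq_zero_symm hF h')

/-- one transvection moves `u` to `w` when `h(u, w)` is non-zero of trace zero -/
theorem exists_tv_map (hF : Fintype.card F = q ^ 2) (W : Submodule F (Fin n → F))
    {u w : Fin n → F} (hu : u ∈ W) (hw : w ∈ W) (huu : ⟪u, u⟫ = 0) (hww : ⟪w, w⟫ = 0)
    (ha0 : ⟪u, w⟫ ≠ 0) (ha : ⟪u, w⟫ + ⟪u, w⟫ ^ q = 0) :
    ∃ t, InTW q W t ∧ t *ᵥ u = w := by
  set a := ⟪u, w⟫ with hadef
  have hwu : ⟪w, u⟫ = a ^ q := (hermForm_conj hF u w).symm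
  have haq : a ^ q = -a := by linear_combination ha
  refine ⟨Cfsg.unitaryTransvection n q (w - u) a⁻¹, InTW.tv (W.sub_mem hw hu) ?_ ?_, ?_⟩
  · rw [hermForm_sub_left, hermForm_sub_right hF, hermForm_sub_right hF, huu, hww, hwu, ← hadef]
    linear_combination -ha
  · rw [inv_pow, haq]
    field_simp
    ring
  · rw [unitaryTransvection_mulVec, hermForm_sub_right hF, huu, ← hadef, sub_zero,
      inv_mul_cancel₀ ha0, one_smul]
    abel

/-- the transvections of `W` move `u` to `w` when `h(u, w) ≠ 0` -/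
theorem exists_T_map_of_ne_zero (hF : Fintype.card F = q ^ 2) (W : Submodule F (Fin n → F))
    (hW : NonDeg q W) (h3 : 3 ≤ Module.finrank F W)
    {u w : Fin n → F} (hu : u ∈ W) (hw : w ∈ W) (huu : ⟪u, u⟫ = 0) (hww : ⟪w, w⟫ = 0)
    (ha0 : ⟪u, w⟫ ≠ 0) : ∃ t, InTW q W t ∧ t *ᵥ u = w := by
  have hq := two_le_of_card_eq_sq hF
  by_cases ha : ⟪u, w⟫ + ⟪u, w⟫ ^ q = 0
  · exact exists_tv_map hF W hu hw huu hww ha0 ha
  set a := ⟪u, w⟫ with hadef
  have hwu : ⟪w, u⟫ = a ^ q := (hermForm_conj hF u w).symm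
  have haq0 : a ^ q ≠ 0 := pow_ne_zero q ha0
  -- a hyperbolic partner proportional to `w`
  set u' : Fin n → F := ((a⁻¹) ^ q) • w with hu'def
  have hu' : u' ∈ W := W.smul_mem _ hw
  have hu'u' : ⟪u', u'⟫ = 0 := by
    rw [hu'def, hermForm_smul_left, hermForm_smul_right, hww, mul_zero, mul_zero]
  have huu' : ⟪u, u'⟫ = 1 := by
    rw [hu'def, hermForm_smul_right, frob_frob hF, ← hadef, inv_mul_cancel₀ ha0]
  obtain ⟨y₀, hy₀, hy₀0⟩ := exists_mem_hypCompl_ne_zero hF W h3 hu hu' huu hu'u' huu'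
  have hnd := nonDeg_hypCompl hF W hW hu hu' huu hu'u' huu'
  obtain ⟨δ, hδ0, hδ⟩ := Cfsg.Agent.Helper5.exists_trace_zero hF (F := F)
  set ν : F := -(δ * δ * (a + a ^ q) * (a * a ^ q)⁻¹) with hν
  have hνq : ν ^ q = ν := by
    rw [hν, frob_neg' hF, mul_pow, mul_pow, mul_pow, inv_pow, mul_pow, frob_add hF,
      frob_frob hF, hδ]
    ring
  obtain ⟨y, hy, hyy⟩ := exists_norm_eq_in hF _ hnd hy₀ hy₀0 hνq
  have hyW : y ∈ W := hy.1
  have hyu : ⟪y, u⟫ = 0 := hy.2.1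
  have hyw : ⟪y, w⟫ = 0 := by
    have h1 := hy.2.2
    rw [hu'def, hermForm_smul_right, frob_frob hF] at h1
    rcases mul_eq_zero.mp h1 with h | h
    · exact absurd h (inv_ne_zero ha0)
    · exact h
  have huy : ⟪u, y⟫ = 0 := hermForm_eq_zero_symm hF hyu
  have hwy : ⟪w, y⟫ = 0 := hermForm_eq_zero_symm hF hyw
  set α : F := δ * a⁻¹ with hα
  set β : F := (δ * a⁻¹) ^ q with hβ
  have hβq : β ^ q = δ * a⁻¹ := frob_frob hF _
  set x : Fin n → F := α • u + β • w + y with hx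
  have hxW : x ∈ W := W.add_mem (W.add_mem (W.smul_mem _ hu) (W.smul_mem _ hw)) hyW
  have hux : ⟪u, x⟫ = δ := by
    rw [hx, hermForm_add_right hF, hermForm_add_right hF, hermForm_smul_right,
      hermForm_smul_right, huu, huy, ← hadef, hβq, mul_zero, zero_add, add_zero,
      inv_mul_cancel_right₀ ha0]
  have hxw : ⟪x, w⟫ = δ := by
    rw [hx, hermForm_add_left, hermForm_add_left, hermForm_smul_left, hermForm_smul_left,
      hww, hyw, ← hadef, hα, mul_zero, add_zero, add_zero, inv_mul_cancel_right₀ ha0]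
  have hxx : ⟪x, x⟫ = 0 := by
    rw [hx]
    simp only [hermForm_add_left, hermForm_add_right hF, hermForm_smul_left, hermForm_smul_right,
      huu, hww, huy, hwy, hyu, hyw, hyy, hwu, ← hadef, hβq]
    rw [hν, hα, hβ, mul_pow, inv_pow, hδ]
    field_simp
    ring
  have hδtr : δ + δ ^ q = 0 := by rw [hδ]; ring
  obtain ⟨t₁, ht₁, h1⟩ := exists_tv_map hF W hu hxW huu hxx (by rw [hux]; exact hδ0)
    (by rw [hux]; exact hδtr)
  obtain ⟨t₂, ht₂, h2⟩ := exists_tv_map hF W hxW hw hxx hww (by rw [hxw]; exact hδ0)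
    (by rw [hxw]; exact hδtr)
  refine ⟨t₂ * t₁, ht₂.mul ht₁, ?_⟩
  rw [← Matrix.mulVec_mulVec, h1, h2]

/-- an isotropic vector of `W` not orthogonal to two given isotropic vectors -/
theorem exists_isotropic_nonorth (hF : Fintype.card F = q ^ 2) (W : Submodule F (Fin n → F))
    (hW : NonDeg q W) {u w : Fin n → F} (hu : u ∈ W) (hw : w ∈ W) (hu0 : u ≠ 0) (hw0 : w ≠ 0)
    (huu : ⟪u, u⟫ = 0) (huw : ⟪u, w⟫ = 0) :
    ∃ x ∈ W, ⟪x, x⟫ = 0 ∧ ⟪u, x⟫ ≠ 0 ∧ ⟪x, w⟫ ≠ 0 := by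
  have hq := two_le_of_card_eq_sq hF
  obtain ⟨p, hp, hup⟩ : ∃ y ∈ W, ⟪u, y⟫ ≠ 0 := by
    by_contra h
    push Not at h
    exact hu0 (hW u hu h)
  obtain ⟨p', hp', hwp'⟩ : ∃ y ∈ W, ⟪w, y⟫ ≠ 0 := by
    by_contra h
    push Not at h
    exact hw0 (hW w hw h)
  obtain ⟨r, hr, hur, hwr⟩ : ∃ r ∈ W, ⟪u, r⟫ ≠ 0 ∧ ⟪w, r⟫ ≠ 0 := by
    by_cases h1 : ⟪w, p⟫ = 0
    · by_cases h2 : ⟪u, p'⟫ = 0
      · refine ⟨p + p', W.add_mem hp hp', ?_, ?_⟩
        · rw [hermForm_add_right hF, h2, add_zero]; exact hup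
        · rw [hermForm_add_right hF, h1, zero_add]; exact hwp'
      · exact ⟨p', hp', h2, hwp'⟩
    · exact ⟨p, hp, hup, h1⟩
  have hru : ⟪r, u⟫ ≠ 0 := hermForm_ne_zero_symm hF hur
  have hrw : ⟪r, w⟫ ≠ 0 := hermForm_ne_zero_symm hF hwr
  have hfix : (-⟪r, r⟫) ^ q = -⟪r, r⟫ := by rw [frob_neg' hF, hermForm_self_fixed hF]
  have hcard := card_trace_fiber hF hru hfix
  have hne : Nonempty {t : F // t ^ q * ⟪r, u⟫ + t * ⟪r, u⟫ ^ q = -⟪r, r⟫} := by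
    apply (Nat.card_pos_iff.mp _).1
    rw [hcard]; omega
  obtain ⟨γ, hγ⟩ := hne
  refine ⟨r + γ • u, W.add_mem hr (W.smul_mem γ hu), ?_, ?_, ?_⟩
  · rw [hermForm_add_smul_self hF u r huu, hγ]
    ring
  · rw [hermForm_add_right hF, hermForm_smul_right, huu, mul_zero, add_zero]
    exact hur
  · rw [hermForm_add_left, hermForm_smul_left, huw, mul_zero, add_zero]
    exact hrw

/-- the transvections of `W` are transitive on the non-zero isotropic vectors of `W` -/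
theorem exists_T_map (hF : Fintype.card F = q ^ 2) (W : Submodule F (Fin n → F))
    (hW : NonDeg q W) (h3 : 3 ≤ Module.finrank F W)
    {u w : Fin n → F} (hu : u ∈ W) (hw : w ∈ W) (hu0 : u ≠ 0) (hw0 : w ≠ 0)
    (huu : ⟪u, u⟫ = 0) (hww : ⟪w, w⟫ = 0) : ∃ t, InTW q W t ∧ t *ᵥ u = w := by
  by_cases ha0 : ⟪u, w⟫ = 0
  · obtain ⟨x, hx, hxx, hux, hxw⟩ := exists_isotropic_nonorth hF W hW hu hw hu0 hw0 huu ha0
    obtain ⟨t₁, ht₁, h1⟩ := exists_T_map_of_ne_zero hF W hW h3 hu hx huu hxx hux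
    obtain ⟨t₂, ht₂, h2⟩ := exists_T_map_of_ne_zero hF W hW h3 hx hw hxx hww hxw
    refine ⟨t₂ * t₁, ht₂.mul ht₁, ?_⟩
    rw [← Matrix.mulVec_mulVec, h1, h2]
  · exact exists_T_map_of_ne_zero hF W hW h3 hu hw huu hww ha0

end Cfsg.Agent.Helper13
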