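import Cfsg.Agent.Helper13.UGen3

set_option autoImplicit false

namespace Cfsg.Agent.Helper13

open Matrix

variable {F : Type*} [Field F] [Fintype F] {q n : ℕ}

local notation "⟪" x ", " y "⟫" => Cfsg.hermForm n F q x y

/-- the Eichler transformation `x ↦ x + h(x,u) y - h(x,y) u + c h(x,u) u` -/
def eichler (q : ℕ) (u y : Fin n → F) (c : F) : Matrix (Fin n) (Fin n) F :=
  1 + rankOne q y u - rankOne q u y + c • rankOne q u u

omit [Fintype F] in
theorem eichler_mulVec (u y : Fin n → F) (c : F) (x : Fin n → F) :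
    eichler q u y c *ᵥ x = x + ⟪x, u⟫ • y - ⟪x, y⟫ • u + (c * ⟪x, u⟫) • u := by
  rw [eichler, Matrix.add_mulVec, Matrix.sub_mulVec, Matrix.add_mulVec, Matrix.one_mulVec,
    Matrix.smul_mulVec, rankOne_mulVec, rankOne_mulVec, rankOne_mulVec, smul_smul]

theorem eichler_mul (hF : Fintype.card F = q ^ 2) {u y y' : Fin n → F} (c c' : F)
    (huu : ⟪u, u⟫ = 0) (hyu : ⟪y, u⟫ = 0) (hy'u : ⟪y', u⟫ = 0) :
    eichler q u y c * eichler q u y' c' = eichler q u (y + y') (c + c' - ⟪y', y⟫) := by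
  have huy : ⟪u, y⟫ = 0 := hermForm_eq_zero_symm hF hyu
  apply mat_ext_mulVec
  intro x
  rw [← Matrix.mulVec_mulVec, eichler_mulVec, eichler_mulVec, eichler_mulVec]
  simp only [hermForm_add_left, hermForm_sub_left, hermForm_smul_left, hermForm_add_right hF,
    huu, hyu, hy'u, huy, mul_zero, add_zero, sub_zero]
  module

theorem eichler_zero_eq_tv (hF : Fintype.card F = q ^ 2) (u : Fin n → F) (c : F) :
    eichler q u 0 c = Cfsg.unitaryTransvection n q u c := by
  apply mat_ext_mulVec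
  intro x
  rw [eichler_mulVec, unitaryTransvection_mulVec, hermForm_zero_right hF, smul_zero, zero_smul,
    add_zero, sub_zero]

theorem eichler_zero_zero (hF : Fintype.card F = q ^ 2) (u : Fin n → F) :
    eichler q u 0 0 = 1 := by
  rw [eichler_zero_eq_tv hF, unitaryTransvection_zero]

theorem isU_eichler (hF : Fintype.card F = q ^ 2) {u y : Fin n → F} {c : F}
    (huu : ⟪u, u⟫ = 0) (hyu : ⟪y, u⟫ = 0) (hc : c + c ^ q + ⟪y, y⟫ = 0) :
    IsU q (eichler q u y c) := by
  have huy : ⟪u, y⟫ = 0 := hermForm_eq_zero_symm hF hyu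
  intro x x'
  rw [eichler_mulVec, eichler_mulVec]
  simp only [hermForm_add_left, hermForm_sub_left, hermForm_smul_left, hermForm_add_right hF,
    hermForm_sub_right hF, hermForm_smul_right, huu, hyu, huy, mul_zero, add_zero, sub_zero,
    mul_pow, hermForm_conj hF x' u, hermForm_conj hF x' y]
  linear_combination (⟪x, u⟫ * ⟪u, x'⟫) * hc

omit [Fintype F] in
/-- conjugating an Eichler transformation by an isometry -/
theorem conj_eichler {G G' : Matrix (Fin n) (Fin n) F}
    (hG : IsU q G) (hGG' : G * G' = 1) (u y : Fin n → F) (c : F) :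
    G * eichler q u y c * G' = eichler q (G *ᵥ u) (G *ᵥ y) c := by
  have key : ∀ x v, ⟪G' *ᵥ x, v⟫ = ⟪x, G *ᵥ v⟫ := by
    intro x v
    have h := hG (G' *ᵥ x) v
    rw [Matrix.mulVec_mulVec, hGG', Matrix.one_mulVec] at h
    exact h.symm
  apply mat_ext_mulVec
  intro x
  rw [← Matrix.mulVec_mulVec, ← Matrix.mulVec_mulVec, eichler_mulVec, eichler_mulVec,
    Matrix.mulVec_add, Matrix.mulVec_sub, Matrix.mulVec_add, Matrix.mulVec_mulVec, hGG',
    Matrix.one_mulVec, Matrix.mulVec_smul, Matrix.mulVec_smul, Matrix.mulVec_smul, key, key]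

omit [Fintype F] in
theorem eichler_smul (u y : Fin n → F) (c : F) {s : F} (hs : s ^ q = s) :
    eichler q (s • u) y c = eichler q u (s • y) (s * s * c) := by
  apply mat_ext_mulVec
  intro x
  rw [eichler_mulVec, eichler_mulVec]
  simp only [hermForm_smul_right, hs]
  module

/-- a product of three transvections is an Eichler transformation -/
theorem three_tv_eq_eichler (hF : Fintype.card F = q ^ 2) {u y : Fin n → F} {a : F}
    (huu : ⟪u, u⟫ = 0) (hyy : ⟪y, y⟫ = 0) (hyu : ⟪y, u⟫ = 0) (ha : a ^ q = -a) :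
    Cfsg.unitaryTransvection n q (u + y) a * Cfsg.unitaryTransvection n q u (-a) *
      Cfsg.unitaryTransvection n q y (-a) = eichler q u (a • y) 0 := by
  have huy : ⟪u, y⟫ = 0 := hermForm_eq_zero_symm hF hyu
  apply mat_ext_mulVec
  intro x
  rw [← Matrix.mulVec_mulVec, ← Matrix.mulVec_mulVec, unitaryTransvection_mulVec,
    unitaryTransvection_mulVec, unitaryTransvection_mulVec, eichler_mulVec]
  simp only [hermForm_add_left, hermForm_smul_left, hermForm_add_right hF, hermForm_smul_right,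
    huu, hyy, hyu, huy, ha, mul_zero, add_zero, zero_mul, zero_smul]
  module

/-- Eichler transformations with isotropic `y` are products of transvections -/
theorem inTW_eichler_of_isotropic (hF : Fintype.card F = q ^ 2) (W : Submodule F (Fin n → F))
    {u y : Fin n → F} (hu : u ∈ W) (hy : y ∈ W) (huu : ⟪u, u⟫ = 0) (hyy : ⟪y, y⟫ = 0)
    (hyu : ⟪y, u⟫ = 0) : InTW q W (eichler q u y 0) := by
  have huy : ⟪u, y⟫ = 0 := hermForm_eq_zero_symm hF hyu
  obtain ⟨δ, hδ0, hδ⟩ := Cfsg.Agent.Helper5.exists_trace_zero hF (F := F)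
  set y' : Fin n → F := δ⁻¹ • y with hy'
  have hy'W : y' ∈ W := W.smul_mem _ hy
  have hy'y' : ⟪y', y'⟫ = 0 := by
    rw [hy', hermForm_smul_left, hermForm_smul_right, hyy, mul_zero, mul_zero]
  have hy'u : ⟪y', u⟫ = 0 := by rw [hy', hermForm_smul_left, hyu, mul_zero]
  have huy' : ⟪u, y'⟫ = 0 := hermForm_eq_zero_symm hF hy'u
  have h1 := three_tv_eq_eichler hF huu hy'y' hy'u hδ
  have h2 : δ • y' = y := by rw [hy', smul_smul, mul_inv_cancel₀ hδ0, one_smul]
  rw [h2] at h1
  rw [← h1]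
  have hδ1 : δ + δ ^ q = 0 := by rw [hδ]; ring
  have hδ2 : -δ + (-δ) ^ q = 0 := by rw [frob_neg' hF, hδ]; ring
  refine ((InTW.tv (W.add_mem hu hy'W) ?_ hδ1).mul (InTW.tv hu huu hδ2)).mul
    (InTW.tv hy'W hy'y' hδ2)
  rw [hermForm_add_left, hermForm_add_right hF, hermForm_add_right hF, huu, hy'y', huy', hy'u]
  ring

/-- the parameter `c` of an Eichler transformation in `T` can be adjusted -/
theorem inTW_eichler_adjust (hF : Fintype.card F = q ^ 2) (W : Submodule F (Fin n → F))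
    {u y : Fin n → F} (hu : u ∈ W) (huu : ⟪u, u⟫ = 0) (hyu : ⟪y, u⟫ = 0) {c₀ c : F}
    (hc₀ : c₀ + c₀ ^ q + ⟪y, y⟫ = 0) (hc : c + c ^ q + ⟪y, y⟫ = 0)
    (h : InTW q W (eichler q u y c₀)) : InTW q W (eichler q u y c) := by
  have h1 : eichler q u y c = eichler q u 0 (c - c₀) * eichler q u y c₀ := by
    rw [eichler_mul hF _ _ huu (hermForm_zero_left u) hyu, zero_add, hermForm_zero_right hF]
    congr 1
    ring
  rw [h1, eichler_zero_eq_tv hF]
  refine (InTW.tv hu huu ?_).mul h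
  rw [frob_sub' hF]
  linear_combination hc - hc₀

/-- Case A: if `W₁ ⊆ u^⊥ ∩ W` is non-degenerate with an isotropic vector, then all Eichler
transformations `E(u, y, c)` with `y ∈ W₁` are products of transvections of `W`. -/
theorem inTW_eichler_caseA (hF : Fintype.card F = q ^ 2) (W W₁ : Submodule F (Fin n → F))
    (hle : W₁ ≤ W) (hW₁ : NonDeg q W₁) {u : Fin n → F} (hu : u ∈ W) (huu : ⟪u, u⟫ = 0)
    (hperp : ∀ y ∈ W₁, ⟪y, u⟫ = 0) {u₁ : Fin n → F} (hu₁ : u₁ ∈ W₁) (hu₁0 : u₁ ≠ 0)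
    (hu₁u₁ : ⟪u₁, u₁⟫ = 0) {y : Fin n → F} (hy : y ∈ W₁) {c : F}
    (hc : c + c ^ q + ⟪y, y⟫ = 0) : InTW q W (eichler q u y c) := by
  have key := isotropic_span_induction hF W₁ hW₁ hu₁ hu₁0 hu₁u₁
    (fun y => ⟪y, u⟫ = 0 ∧ ∃ c : F, c + c ^ q + ⟪y, y⟫ = 0 ∧ InTW q W (eichler q u y c))
    (by
      rintro a b ⟨ha, ca, hca, hTa⟩ ⟨hb, cb, hcb, hTb⟩
      refine ⟨by rw [hermForm_add_left, ha, hb, add_zero], ca + cb - ⟪b, a⟫, ?_, ?_⟩
      · rw [frob_sub' hF, frob_add hF, hermForm_conj hF b a, hermForm_add_self hF,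
          hermForm_conj hF a b]
        linear_combination hca + hcb
      · rw [← eichler_mul hF _ _ huu ha hb]
        exact hTa.mul hTb)
    (by
      intro y hy hyy
      have hq := two_le_of_card_eq_sq hF
      refine ⟨hperp y hy, 0, by rw [hyy, zero_pow (by omega)]; ring, ?_⟩
      exact inTW_eichler_of_isotropic hF W hu (hle hy) huu hyy (hperp y hy))
  obtain ⟨hyu, c₀, hc₀, hT⟩ := key y hy
  exact inTW_eichler_adjust hF W hu huu hyu hc₀ hc hT

end Cfsg.Agent.Helper13
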