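import Cfsg.Agent.Helper13.UGen4

set_option autoImplicit false

namespace Cfsg.Agent.Helper13

open Matrix

variable {F : Type*} [Field F] [Fintype F] {q n : ℕ}

local notation "⟪" x ", " y "⟫" => Cfsg.hermForm n F q x y

theorem perp_span_pair (hF : Fintype.card F = q ^ 2) {u u' x : Fin n → F} (h1 : ⟪x, u⟫ = 0)
    (h2 : ⟪x, u'⟫ = 0) : ∀ y ∈ Submodule.span F ({u, u'} : Set (Fin n → F)), ⟪x, y⟫ = 0 := by
  intro y hy
  obtain ⟨a, b, rfl⟩ := Submodule.mem_span_pair.mp hy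
  rw [hermForm_add_right hF, hermForm_smul_right, hermForm_smul_right, h1, h2]
  ring

/-- an element of `SU` fixing `⟨u,u'⟩^⊥` pointwise -/
structure PlaneSU (q : ℕ) (u u' : Fin n → F) (g : Matrix (Fin n) (Fin n) F) : Prop where
  isU : IsU q g
  det : g.det = 1
  fix : ∀ x, Cfsg.hermForm n F q x u = 0 → Cfsg.hermForm n F q x u' = 0 → g *ᵥ x = x

theorem PlaneSU.mul_left (hF : Fintype.card F = q ^ 2) {u u' : Fin n → F}
    {t g : Matrix (Fin n) (Fin n) F}
    (ht : InTW q (Submodule.span F ({u, u'} : Set (Fin n → F))) t) (hg : PlaneSU q u u' g) :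
    PlaneSU q u u' (t * g) := by
  refine ⟨(ht.isU hF).mul hg.isU, by rw [Matrix.det_mul, ht.det, hg.det, one_mul], ?_⟩
  intro x h1 h2
  rw [← Matrix.mulVec_mulVec, hg.fix x h1 h2, ht.fixPerp x (perp_span_pair hF h1 h2)]

theorem InTW.of_mul_left (hF : Fintype.card F = q ^ 2) {W : Submodule F (Fin n → F)}
    {t g : Matrix (Fin n) (Fin n) F} (ht : InTW q W t) (h : InTW q W (t * g)) : InTW q W g := by
  obtain ⟨t', ht', h1, -⟩ := ht.inv hF
  have : g = t' * (t * g) := by rw [← mul_assoc, h1, one_mul]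
  rw [this]
  exact ht'.mul h

section plane

variable {u u' : Fin n → F}

/-- the image of a vector of the plane lies in the plane -/
theorem plane_decomp (hF : Fintype.card F = q ^ 2) (huu : ⟪u, u⟫ = 0) (hu'u' : ⟪u', u'⟫ = 0)
    (huu' : ⟪u, u'⟫ = 1) {g : Matrix (Fin n) (Fin n) F} (hg : IsU q g)
    (hfix : ∀ x, ⟪x, u⟫ = 0 → ⟪x, u'⟫ = 0 → g *ᵥ x = x) {v : Fin n → F}
    (hv : ∀ z, ⟪z, u⟫ = 0 → ⟪z, u'⟫ = 0 → ⟪v, z⟫ = 0) :
    g *ᵥ v = ⟪g *ᵥ v, u'⟫ • u + ⟪g *ᵥ v, u⟫ • u' := by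
  have hmem : ∀ x, hypProj q u u' x ∈ hypCompl q ⊤ u u' := fun x =>
    hypProj_mem hF ⊤ Submodule.mem_top Submodule.mem_top huu hu'u' huu' Submodule.mem_top
  have hr : hypProj q u u' (g *ᵥ v) = 0 := by
    apply eq_zero_of_hermForm_eq_zero hF
    intro x
    have h1 := (hmem (g *ᵥ v)).2.1
    have h2 := (hmem (g *ᵥ v)).2.2
    have h3 := (hmem x).2.1
    have h4 := (hmem x).2.2
    have h5 : ⟪hypProj q u u' (g *ᵥ v), hypProj q u u' x⟫ = 0 := by
      conv_lhs => rw [hypProj]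
      rw [hermForm_sub_left, hermForm_sub_left, hermForm_smul_left, hermForm_smul_left,
        hermForm_eq_zero_symm hF h3, hermForm_eq_zero_symm hF h4, mul_zero, mul_zero, sub_zero,
        sub_zero]
      have h6 := hg v (hypProj q u u' x)
      rw [hfix _ h3 h4] at h6
      rw [h6]
      exact hv _ h3 h4
    rw [hypProj_decomp (q := q) u u' x, hermForm_add_right hF, hermForm_add_right hF,
      hermForm_smul_right, hermForm_smul_right, h1, h2, h5]
    ring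
  have h := hypProj_decomp (q := q) u u' (g *ᵥ v)
  rw [hr, add_zero] at h
  exact h

/-- two matrices fixing `⟨u,u'⟩^⊥` pointwise that agree on `u`, `u'` are equal -/
theorem plane_ext {M N : Matrix (Fin n) (Fin n) F}
    (hM : ∀ x, ⟪x, u⟫ = 0 → ⟪x, u'⟫ = 0 → M *ᵥ x = x)
    (hN : ∀ x, ⟪x, u⟫ = 0 → ⟪x, u'⟫ = 0 → N *ᵥ x = x)
    (hF : Fintype.card F = q ^ 2) (huu : ⟪u, u⟫ = 0) (hu'u' : ⟪u', u'⟫ = 0)
    (huu' : ⟪u, u'⟫ = 1) (h1 : M *ᵥ u = N *ᵥ u) (h2 : M *ᵥ u' = N *ᵥ u') : M = N := by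
  apply mat_ext_mulVec
  intro x
  have hmem := hypProj_mem hF ⊤ Submodule.mem_top Submodule.mem_top huu hu'u' huu'
    (Submodule.mem_top (x := x))
  have hx := hypProj_decomp (q := q) u u' x
  rw [hx, Matrix.mulVec_add, Matrix.mulVec_add, Matrix.mulVec_add, Matrix.mulVec_add,
    Matrix.mulVec_smul, Matrix.mulVec_smul, Matrix.mulVec_smul, Matrix.mulVec_smul, h1, h2,
    hM _ hmem.2.1 hmem.2.2, hN _ hmem.2.1 hmem.2.2]

/-- the determinant of a matrix fixing `⟨u,u'⟩^⊥` pointwise -/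
theorem det_plane (hF : Fintype.card F = q ^ 2) (huu : ⟪u, u⟫ = 0) (hu'u' : ⟪u', u'⟫ = 0)
    (huu' : ⟪u, u'⟫ = 1) {g : Matrix (Fin n) (Fin n) F}
    (hfix : ∀ x, ⟪x, u⟫ = 0 → ⟪x, u'⟫ = 0 → g *ᵥ x = x) :
    g.det = ⟪g *ᵥ u, u'⟫ * ⟪g *ᵥ u', u⟫ - ⟪g *ᵥ u', u'⟫ * ⟪g *ᵥ u, u⟫ := by
  have hu'u : ⟪u', u⟫ = 1 := by rw [← hermForm_conj hF, huu', one_pow]
  set A : Matrix (Fin n) (Fin 2) F :=
    Matrix.of (fun i k => if k = 0 then (g *ᵥ u - u) i else (g *ᵥ u' - u') i) with hA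
  set B : Matrix (Fin 2) (Fin n) F :=
    Matrix.of (fun k j => if k = 0 then (u' j) ^ q else (u j) ^ q) with hB
  have hBx : ∀ x : Fin n → F, B *ᵥ x = ![⟪x, u'⟫, ⟪x, u⟫] := by
    intro x
    funext k
    fin_cases k
    · simp only [hB, Matrix.mulVec, dotProduct, Matrix.of_apply, Cfsg.hermForm]
      simp only [Fin.zero_eta, Fin.isValue, ↓reduceIte, Matrix.cons_val_zero]
      exact Finset.sum_congr rfl fun i _ => mul_comm _ _
    · simp only [hB, Matrix.mulVec, dotProduct, Matrix.of_apply, Cfsg.hermForm]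
      simp only [Fin.mk_one, Fin.isValue, one_ne_zero, ↓reduceIte, Matrix.cons_val_one,
        Matrix.cons_val_fin_one]
      exact Finset.sum_congr rfl fun i _ => mul_comm _ _
  have hAv : ∀ v : Fin 2 → F, A *ᵥ v = v 0 • (g *ᵥ u - u) + v 1 • (g *ᵥ u' - u') := by
    intro v
    funext i
    simp only [hA, Matrix.mulVec, dotProduct, Matrix.of_apply, Fin.sum_univ_two, Fin.isValue,
      ↓reduceIte, one_ne_zero, Pi.add_apply, Pi.smul_apply, smul_eq_mul]
    ring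
  have hg : g = 1 + A * B := by
    apply plane_ext hfix ?_ hF huu hu'u' huu'
    · rw [Matrix.add_mulVec, Matrix.one_mulVec, ← Matrix.mulVec_mulVec, hBx, hAv]
      simp only [Matrix.cons_val_zero, Matrix.cons_val_one, Matrix.cons_val_fin_one, huu, huu']
      module
    · rw [Matrix.add_mulVec, Matrix.one_mulVec, ← Matrix.mulVec_mulVec, hBx, hAv]
      simp only [Matrix.cons_val_zero, Matrix.cons_val_one, Matrix.cons_val_fin_one, hu'u', hu'u]
      module
    · intro x h1 h2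
      rw [Matrix.add_mulVec, Matrix.one_mulVec, ← Matrix.mulVec_mulVec, hBx, hAv]
      simp only [Matrix.cons_val_zero, Matrix.cons_val_one, Matrix.cons_val_fin_one, h1, h2]
      module
  have hBA : ∀ k l, (B * A) k l = (B *ᵥ (fun i => A i l)) k := fun k l => rfl
  have hA0 : (fun i => A i 0) = g *ᵥ u - u := by
    funext i
    simp [hA]
  have hA1 : (fun i => A i 1) = g *ᵥ u' - u' := by
    funext i
    simp [hA]
  conv_lhs => rw [hg]
  rw [Matrix.det_one_add_mul_comm, Matrix.det_fin_two]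
  simp only [Matrix.add_apply, hBA, hA0, hA1, hBx, Matrix.one_apply_eq, Matrix.cons_val_zero,
    Matrix.cons_val_one, Matrix.cons_val_fin_one, hermForm_sub_left, huu, huu', hu'u, hu'u',
    Matrix.one_apply_ne (show (0 : Fin 2) ≠ 1 by decide),
    Matrix.one_apply_ne (show (1 : Fin 2) ≠ 0 by decide)]
  ring

end plane

end Cfsg.Agent.Helper13
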