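import Cfsg.Agent.Helper13.UGen5

set_option autoImplicit false

namespace Cfsg.Agent.Helper13

open Matrix

variable {F : Type*} [Field F] [Fintype F] {q n : ℕ}

local notation "⟪" x ", " y "⟫" => Cfsg.hermForm n F q x y

/-- the plane spanned by `u` and `u'` -/
abbrev hplane (u u' : Fin n → F) : Submodule F (Fin n → F) :=
  Submodule.span F ({u, u'} : Set (Fin n → F))

omit [Fintype F] in
theorem left_mem_hplane (u u' : Fin n → F) : u ∈ hplane u u' :=
  Submodule.subset_span (by simp)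

omit [Fintype F] in
theorem right_mem_hplane (u u' : Fin n → F) : u' ∈ hplane u u' :=
  Submodule.subset_span (by simp)

variable {u u' : Fin n → F}

/-- an element of `SU` of the plane fixing `u` is a transvection -/
theorem inTW_of_planeSU_fix (hF : Fintype.card F = q ^ 2) (huu : ⟪u, u⟫ = 0)
    (hu'u' : ⟪u', u'⟫ = 0) (huu' : ⟪u, u'⟫ = 1) {g : Matrix (Fin n) (Fin n) F}
    (hg : PlaneSU q u u' g) (hgu : g *ᵥ u = u) : InTW q (hplane u u') g := by
  have hu'u : ⟪u', u⟫ = 1 := by rw [← hermForm_conj hF, huu', one_pow]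
  have hdec := plane_decomp hF huu hu'u' huu' hg.isU hg.fix (v := u')
    (fun z _ h2 => hermForm_eq_zero_symm hF h2)
  have h1 : ⟪g *ᵥ u', u⟫ = 1 := by
    have := hg.isU u' u
    rw [hgu] at this
    rw [this, hu'u]
  rw [h1, one_smul] at hdec
  set α := ⟪g *ᵥ u', u'⟫ with hα
  have hα0 : α + α ^ q = 0 := by
    have h3 := hg.isU u' u'
    rw [hdec, hu'u'] at h3
    simp only [hermForm_add_left, hermForm_add_right hF, hermForm_smul_left, hermForm_smul_right,
      huu, hu'u', huu', hu'u] at h3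
    linear_combination h3
  have hgt : g = Cfsg.unitaryTransvection n q u α := by
    apply plane_ext hg.fix ?_ hF huu hu'u' huu'
    · rw [hgu, unitaryTransvection_mulVec, huu, mul_zero, zero_smul, add_zero]
    · rw [hdec, unitaryTransvection_mulVec, hu'u, mul_one]
      abel
    · intro x h1 _
      rw [unitaryTransvection_mulVec, h1, mul_zero, zero_smul, add_zero]
  rw [hgt]
  exact InTW.tv (left_mem_hplane u u') huu hα0

/-- an element of `SU` of the plane mapping `u` to a multiple of `u'` -/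
theorem inTW_of_planeSU_swap (hF : Fintype.card F = q ^ 2) (huu : ⟪u, u⟫ = 0)
    (hu'u' : ⟪u', u'⟫ = 0) (huu' : ⟪u, u'⟫ = 1) {g : Matrix (Fin n) (Fin n) F}
    (hg : PlaneSU q u u' g) {c : F} (hc0 : c ≠ 0) (hgu : g *ᵥ u = c • u') :
    InTW q (hplane u u') g := by
  have hu'u : ⟪u', u⟫ = 1 := by rw [← hermForm_conj hF, huu', one_pow]
  have hcq0 : c ^ q ≠ 0 := pow_ne_zero q hc0
  set b := ⟪g *ᵥ u', u'⟫ with hb
  have hdet := det_plane hF huu hu'u' huu' hg.fix
  rw [hg.det, hgu, hermForm_smul_left, hermForm_smul_left, hu'u', hu'u, ← hb] at hdet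
  have hun := hg.isU u u'
  rw [hgu, hermForm_smul_left, ← hermForm_conj hF (g *ᵥ u') u', ← hb, huu'] at hun
  have hbc : b = -c⁻¹ := by
    field_simp
    linear_combination hdet
  rw [hbc, frob_neg' hF, inv_pow] at hun
  have hcq : c ^ q = -c := by
    field_simp at hun
    linear_combination -hun
  have hc1 : c + c ^ q = 0 := by rw [hcq]; ring
  have hc2 : -c⁻¹ + (-c⁻¹) ^ q = 0 := by
    rw [frob_neg' hF, inv_pow, hcq]
    field_simp
    ring
  have hω : InTW q (hplane u u')
      (Cfsg.unitaryTransvection n q u (-c⁻¹) * Cfsg.unitaryTransvection n q u' c) :=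
    (InTW.tv (left_mem_hplane u u') huu hc2).mul (InTW.tv (right_mem_hplane u u') hu'u' hc1)
  have hωu : (Cfsg.unitaryTransvection n q u (-c⁻¹) * Cfsg.unitaryTransvection n q u' c) *ᵥ u
      = c • u' := by
    rw [← Matrix.mulVec_mulVec, unitaryTransvection_mulVec, unitaryTransvection_mulVec]
    simp only [hermForm_add_left, hermForm_smul_left, huu, huu', hu'u]
    have : -c⁻¹ * (0 + c * 1 * 1) = -1 := by
      field_simp
      ring
    rw [this]
    module
  obtain ⟨ω', hω', h1, -⟩ := hω.inv hF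
  have hg₂ : PlaneSU q u u' (ω' * g) := hg.mul_left hF hω'
  have hg₂u : (ω' * g) *ᵥ u = u := by
    rw [← Matrix.mulVec_mulVec, hgu, ← hωu, Matrix.mulVec_mulVec, h1, Matrix.one_mulVec]
  exact InTW.of_mul_left hF hω' (inTW_of_planeSU_fix hF huu hu'u' huu' hg₂ hg₂u)

/-- an element of `SU` of the plane with `h(g u, u) ≠ 0` -/
theorem inTW_of_planeSU_of_ne (hF : Fintype.card F = q ^ 2) (huu : ⟪u, u⟫ = 0)
    (hu'u' : ⟪u', u'⟫ = 0) (huu' : ⟪u, u'⟫ = 1) {g : Matrix (Fin n) (Fin n) F}
    (hg : PlaneSU q u u' g) (hc0 : ⟪g *ᵥ u, u⟫ ≠ 0) : InTW q (hplane u u') g := by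
  have hu'u : ⟪u', u⟫ = 1 := by rw [← hermForm_conj hF, huu', one_pow]
  have hdec := plane_decomp hF huu hu'u' huu' hg.isU hg.fix (v := u)
    (fun z h1 _ => hermForm_eq_zero_symm hF h1)
  set a := ⟪g *ᵥ u, u'⟫ with ha
  set c := ⟪g *ᵥ u, u⟫ with hc
  have hcq0 : c ^ q ≠ 0 := pow_ne_zero q hc0
  have hiso : a * c ^ q + c * a ^ q = 0 := by
    have h3 := hg.isU u u
    rw [hdec, huu] at h3
    simp only [hermForm_add_left, hermForm_add_right hF, hermForm_smul_left, hermForm_smul_right,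
      huu, hu'u', huu', hu'u] at h3
    linear_combination h3
  have hγ : -a * c⁻¹ + (-a * c⁻¹) ^ q = 0 := by
    rw [mul_pow, frob_neg' hF, inv_pow]
    field_simp
    linear_combination -hiso
  have ht : InTW q (hplane u u') (Cfsg.unitaryTransvection n q u (-a * c⁻¹)) :=
    InTW.tv (left_mem_hplane u u') huu hγ
  have hg₁ := hg.mul_left hF ht
  have hg₁u : (Cfsg.unitaryTransvection n q u (-a * c⁻¹) * g) *ᵥ u = c • u' := by
    rw [← Matrix.mulVec_mulVec, unitaryTransvection_mulVec, ← hc]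
    rw [hdec]
    have : -a * c⁻¹ * c = -a := by
      field_simp
    rw [this]
    module
  exact InTW.of_mul_left hF ht (inTW_of_planeSU_swap hF huu hu'u' huu' hg₁ hc0 hg₁u)

/-- `SU` of a hyperbolic plane is generated by its transvections -/
theorem inTW_of_planeSU (hF : Fintype.card F = q ^ 2) (huu : ⟪u, u⟫ = 0)
    (hu'u' : ⟪u', u'⟫ = 0) (huu' : ⟪u, u'⟫ = 1) {g : Matrix (Fin n) (Fin n) F}
    (hg : PlaneSU q u u' g) : InTW q (hplane u u') g := by
  have hu'u : ⟪u', u⟫ = 1 := by rw [← hermForm_conj hF, huu', one_pow]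
  by_cases hc0 : ⟪g *ᵥ u, u⟫ = 0
  · have hdec := plane_decomp hF huu hu'u' huu' hg.isU hg.fix (v := u)
      (fun z h1 _ => hermForm_eq_zero_symm hF h1)
    rw [hc0, zero_smul, add_zero] at hdec
    have ha0 : ⟪g *ᵥ u, u'⟫ ≠ 0 := by
      intro h
      rw [h, zero_smul] at hdec
      have h1 := hg.isU u u'
      rw [hdec, hermForm_zero_left, huu'] at h1
      exact zero_ne_one h1
    obtain ⟨δ, hδ0, hδ⟩ := Cfsg.Agent.Helper5.exists_trace_zero hF (F := F)
    have hδ1 : δ + δ ^ q = 0 := by rw [hδ]; ring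
    have ht : InTW q (hplane u u') (Cfsg.unitaryTransvection n q u' δ) :=
      InTW.tv (right_mem_hplane u u') hu'u' hδ1
    have hg' := hg.mul_left hF ht
    refine InTW.of_mul_left hF ht (inTW_of_planeSU_of_ne hF huu hu'u' huu' hg' ?_)
    rw [← Matrix.mulVec_mulVec, unitaryTransvection_mulVec, hermForm_add_left,
      hermForm_smul_left, hc0, hu'u, zero_add, mul_one]
    exact mul_ne_zero hδ0 ha0
  · exact inTW_of_planeSU_of_ne hF huu hu'u' huu' hg hc0

end Cfsg.Agent.Helper13
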