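import Cfsg.Agent.Helper13.UGen6

set_option autoImplicit false

namespace Cfsg.Agent.Helper13

open Matrix

variable {F : Type*} [Field F] [Fintype F] {q n : ℕ}

local notation "⟪" x ", " y "⟫" => Cfsg.hermForm n F q x y

/-- for `q ≥ 3` the fixed field has an element other than `0`, `1` -/
theorem exists_fixed_ne_zero_one (hF : Fintype.card F = q ^ 2) (hq3 : 3 ≤ q) :
    ∃ s : F, s ^ q = s ∧ s ≠ 0 ∧ s ≠ 1 := by
  have hcard : Nat.card Fˣ = q ^ 2 - 1 := by
    rw [Nat.card_units, Nat.card_eq_fintype_card, hF]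
  have hlt : q + 1 < Nat.card Fˣ := by
    rw [hcard]
    have : q * 3 ≤ q * q := Nat.mul_le_mul_left q hq3
    have h2 : q ^ 2 = q * q := sq q
    omega
  obtain ⟨a, ha⟩ := exists_pow_ne_one_of_isCyclic (G := Fˣ) (k := q + 1) (by omega) hlt
  refine ⟨((a ^ (q + 1) : Fˣ) : F), ?_, Units.ne_zero _, ?_⟩
  · rw [Units.val_pow_eq_pow_val, ← pow_mul, show (q + 1) * q = q ^ 2 + q by ring, pow_add,
      ← hF, FiniteField.pow_card, pow_succ']
  · intro h
    apply ha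
    exact Units.ext h

variable {u u' : Fin n → F}

/-- the torus element `u ↦ s u`, `u' ↦ s⁻¹ u'` of `SU` of the plane -/
theorem planeSU_hypMat (hF : Fintype.card F = q ^ 2) (huu : ⟪u, u⟫ = 0)
    (hu'u' : ⟪u', u'⟫ = 0) (huu' : ⟪u, u'⟫ = 1) {s : F} (hs : s ^ q = s) (hs0 : s ≠ 0) :
    PlaneSU q u u' (hypMat q u u' (s - 1) (s⁻¹ - 1)) := by
  have hu'u : ⟪u', u⟫ = 1 := by rw [← hermForm_conj hF, huu', one_pow]
  have hsi : (s⁻¹) ^ q = s⁻¹ := by rw [inv_pow, hs]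
  refine ⟨?_, ?_, ?_⟩
  · intro x y
    apply hypMat_preserves hF u u' _ _ huu hu'u' huu'
    · rw [frob_sub' hF, hs, one_pow]
      field_simp
      ring
    · rw [frob_sub' hF, hsi, one_pow]
      field_simp
      ring
  · rw [det_hypMat, huu', hu'u]
    field_simp
    ring
  · intro x h1 h2
    rw [hypMat_mulVec u u' _ _ hu'u', h1, h2, mul_zero, mul_zero, zero_smul, zero_smul, add_zero,
      add_zero]

/-- Case B: for `q ≥ 3` the Eichler transformations `E(u, y, c)` with `y ⊥ u, u'` are products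
of transvections. -/
theorem inTW_eichler_caseB (hF : Fintype.card F = q ^ 2) (W : Submodule F (Fin n → F))
    (hu : u ∈ W) (hu' : u' ∈ W) (huu : ⟪u, u⟫ = 0) (hu'u' : ⟪u', u'⟫ = 0) (huu' : ⟪u, u'⟫ = 1)
    (hq3 : 3 ≤ q) {y : Fin n → F} (hy : y ∈ W) (hyu : ⟪y, u⟫ = 0) (hyu' : ⟪y, u'⟫ = 0) {c : F}
    (hc : c + c ^ q + ⟪y, y⟫ = 0) : InTW q W (eichler q u y c) := by
  have hu'u : ⟪u', u⟫ = 1 := by rw [← hermForm_conj hF, huu', one_pow]
  obtain ⟨s, hs, hs0, hs1⟩ := exists_fixed_ne_zero_one hF hq3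
  have hs1' : s - 1 ≠ 0 := sub_ne_zero.mpr hs1
  -- write `y = (s - 1) • y₀`
  obtain ⟨y₀, rfl⟩ : ∃ y₀ : Fin n → F, y = (s - 1) • y₀ :=
    ⟨(s - 1)⁻¹ • y, by rw [smul_smul, mul_inv_cancel₀ hs1', one_smul]⟩
  have hy₀ : y₀ ∈ W := by
    have := W.smul_mem (s - 1)⁻¹ hy
    rwa [smul_smul, inv_mul_cancel₀ hs1', one_smul] at this
  have hy₀u : ⟪y₀, u⟫ = 0 := by
    rw [hermForm_smul_left] at hyu
    exact (mul_eq_zero.mp hyu).resolve_left hs1'
  have hy₀u' : ⟪y₀, u'⟫ = 0 := by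
    rw [hermForm_smul_left] at hyu'
    exact (mul_eq_zero.mp hyu').resolve_left hs1'
  have huy₀ : ⟪u, y₀⟫ = 0 := hermForm_eq_zero_symm hF hy₀u
  set N₀ := ⟪y₀, y₀⟫ with hN₀
  have hN₀q : N₀ ^ q = N₀ := hermForm_self_fixed hF y₀
  obtain ⟨c₀, hc₀⟩ := exists_trace_eq_of_fixed hF (a := -N₀) (by rw [frob_neg' hF, hN₀q])
  have hc₀' : c₀ + c₀ ^ q + ⟪y₀, y₀⟫ = 0 := by rw [hc₀, ← hN₀]; ring
  -- the torus element
  have hDP := planeSU_hypMat hF huu hu'u' huu' hs hs0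
  have hle : hplane u u' ≤ W := by
    rw [Submodule.span_le]
    intro x hx
    rcases hx with rfl | hx
    · exact hu
    · rw [Set.mem_singleton_iff.mp hx]; exact hu'
  have hD : InTW q W (hypMat q u u' (s - 1) (s⁻¹ - 1)) :=
    (inTW_of_planeSU hF huu hu'u' huu' hDP).mono hle
  set D := hypMat q u u' (s - 1) (s⁻¹ - 1) with hDdef
  have hDu : D *ᵥ u = s • u := by
    rw [hDdef, hypMat_mulVec u u' _ _ hu'u', huu, huu', mul_zero, zero_smul, add_zero, mul_one]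
    module
  have hDy₀ : D *ᵥ y₀ = y₀ := hDP.fix y₀ hy₀u hy₀u'
  obtain ⟨D', hD', hD'D, hDD'⟩ := hD.inv hF
  -- the Eichler element and its inverse
  set E := eichler q u y₀ c₀ with hE
  set E' := eichler q u (-y₀) (c₀ ^ q) with hE'
  have hny₀u : ⟪-y₀, u⟫ = 0 := by rw [hermForm_neg_left, hy₀u, neg_zero]
  have hEE' : E * E' = 1 := by
    rw [hE, hE', eichler_mul hF _ _ huu hy₀u hny₀u, add_neg_cancel, hermForm_neg_left, ← hN₀]
    have : c₀ + c₀ ^ q - -N₀ = 0 := by rw [hc₀]; ring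
    rw [this, eichler_zero_zero hF]
  have hEU : IsU q E := isU_eichler hF huu hy₀u hc₀'
  have hEW : ∀ x ∈ W, E *ᵥ x ∈ W := by
    intro x hx
    rw [hE, eichler_mulVec]
    exact W.add_mem (W.sub_mem (W.add_mem hx (W.smul_mem _ hy₀)) (W.smul_mem _ hu))
      (W.smul_mem _ hu)
  have hM : InTW q W (D * (E * D' * E')) := hD.mul (InTW.conj hEU hEE' hEW hD')
  have hM2 : D * (E * D' * E') = eichler q u ((s - 1) • y₀)
      (s * s * c₀ + c₀ ^ q - ⟪-y₀, s • y₀⟫) := by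
    have h1 : D * (E * D' * E') = (D * E * D') * E' := by simp only [mul_assoc]
    have hsy₀u : ⟪s • y₀, u⟫ = 0 := by rw [hermForm_smul_left, hy₀u, mul_zero]
    rw [h1, hE, conj_eichler (hD.isU hF) hDD', hDu, hDy₀, eichler_smul u y₀ c₀ hs, hE',
      eichler_mul hF _ _ huu hsy₀u hny₀u]
    congr 1
    module
  rw [hM2] at hM
  refine inTW_eichler_adjust hF W hu huu hyu ?_ hc hM
  simp only [hermForm_neg_left, hermForm_smul_left, hermForm_smul_right, frob_sub' hF,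
    frob_add hF, mul_pow, frob_neg' hF, frob_frob hF, hs, one_pow, ← hN₀, hN₀q]
  linear_combination (s * s + 1) * hc₀

/-- the inductive step: reduction from `W` to the complement of a hyperbolic pair -/
theorem inTW_step (hF : Fintype.card F = q ^ 2) (W : Submodule F (Fin n → F))
    (hW : NonDeg q W) (h3 : 3 ≤ Module.finrank F W)
    (hu : u ∈ W) (hu' : u' ∈ W) (huu : ⟪u, u⟫ = 0) (hu'u' : ⟪u', u'⟫ = 0) (huu' : ⟪u, u'⟫ = 1)
    (hQ : ∀ y ∈ hypCompl q W u u', ∀ c : F, c + c ^ q + ⟪y, y⟫ = 0 →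
      InTW q W (eichler q u y c))
    (hP₁ : ∀ g : Matrix (Fin n) (Fin n) F, IsU q g → g.det = 1 →
      FixPerp q (hypCompl q W u u') g → (∀ x ∈ hypCompl q W u u', g *ᵥ x ∈ hypCompl q W u u') →
      InTW q ⊤ g)
    {g : Matrix (Fin n) (Fin n) F} (hgU : IsU q g) (hgdet : g.det = 1) (hgfix : FixPerp q W g)
    (hgW : ∀ x ∈ W, g *ᵥ x ∈ W) : InTW q ⊤ g := by
  have hu'u : ⟪u', u⟫ = 1 := by rw [← hermForm_conj hF, huu', one_pow]
  have hu0 : u ≠ 0 := by
    rintro rfl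
    rw [hermForm_zero_left] at huu'
    exact zero_ne_one huu'
  -- move `g u` back to `u`
  have hgu0 : g *ᵥ u ≠ 0 := by
    intro h
    have h1 := hgU u u'
    rw [h, hermForm_zero_left, huu'] at h1
    exact zero_ne_one h1
  have hguu : ⟪g *ᵥ u, g *ᵥ u⟫ = 0 := by rw [hgU, huu]
  obtain ⟨t₁, ht₁, h1⟩ := exists_T_map hF W hW h3 (hgW u hu) hu hgu0 hu0 hguu huu
  set g₁ := t₁ * g with hg₁
  have hg₁U : IsU q g₁ := (ht₁.isU hF).mul hgU
  have hg₁u : g₁ *ᵥ u = u := by rw [hg₁, ← Matrix.mulVec_mulVec, h1]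
  have hg₁W : ∀ x ∈ W, g₁ *ᵥ x ∈ W := by
    intro x hx
    rw [hg₁, ← Matrix.mulVec_mulVec]
    exact ht₁.maps _ (hgW x hx)
  -- move `g₁ u'` back to `u'`
  set w := g₁ *ᵥ u' with hw
  have hwW : w ∈ W := hg₁W u' hu'
  have hwu : ⟪w, u⟫ = 1 := by
    have := hg₁U u' u
    rw [hg₁u] at this
    rw [hw, this, hu'u]
  have hww : ⟪w, w⟫ = 0 := by rw [hw, hg₁U, hu'u']
  set c₁ := ⟪w, u'⟫ with hc₁
  set y : Fin n → F := w - u' - c₁ • u with hy
  have hyW : y ∈ W := W.sub_mem (W.sub_mem hwW hu') (W.smul_mem _ hu)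
  have hyu : ⟪y, u⟫ = 0 := by
    rw [hy, hermForm_sub_left, hermForm_sub_left, hermForm_smul_left, hwu, hu'u, huu]
    ring
  have hyu' : ⟪y, u'⟫ = 0 := by
    rw [hy, hermForm_sub_left, hermForm_sub_left, hermForm_smul_left, ← hc₁, hu'u', huu']
    ring
  have huy : ⟪u, y⟫ = 0 := hermForm_eq_zero_symm hF hyu
  have hu'y : ⟪u', y⟫ = 0 := hermForm_eq_zero_symm hF hyu'
  have hwdec : w = y + (u' + c₁ • u) := by rw [hy]; abel
  have hcy : c₁ + c₁ ^ q + ⟪y, y⟫ = 0 := by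
    have h2 := hww
    rw [hwdec] at h2
    simp only [hermForm_add_left, hermForm_add_right hF, hermForm_smul_left, hermForm_smul_right,
      huu, hu'u', huu', hu'u, hyu, hyu', huy, hu'y] at h2
    linear_combination h2
  have hymem : y ∈ hypCompl q W u u' := ⟨hyW, hyu, hyu'⟩
  have hE := hQ y hymem c₁ hcy
  set E := eichler q u y c₁ with hEdef
  have hEu : E *ᵥ u = u := by
    rw [hEdef, eichler_mulVec, huu, huy, mul_zero, zero_smul, zero_smul, add_zero,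
      sub_zero, add_zero]
  have hEu' : E *ᵥ u' = w := by
    rw [hEdef, eichler_mulVec, hu'u, hu'y, hwdec]
    module
  obtain ⟨E', hE', hE'E, -⟩ := hE.inv hF
  set g₂ := E' * g₁ with hg₂
  have hg₂U : IsU q g₂ := (hE'.isU hF).mul hg₁U
  have hg₂det : g₂.det = 1 := by
    rw [hg₂, hg₁, Matrix.det_mul, Matrix.det_mul, hE'.det, ht₁.det, hgdet]
    ring
  have hg₂fix : FixPerp q W g₂ := hE'.fixPerp.mul (ht₁.fixPerp.mul hgfix)
  have hg₂u : g₂ *ᵥ u = u := by
    rw [hg₂, ← Matrix.mulVec_mulVec, hg₁u]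
    conv_lhs => rw [← hEu]
    rw [Matrix.mulVec_mulVec, hE'E, Matrix.one_mulVec]
  have hg₂u' : g₂ *ᵥ u' = u' := by
    rw [hg₂, ← Matrix.mulVec_mulVec, ← hw, ← hEu', Matrix.mulVec_mulVec, hE'E,
      Matrix.one_mulVec]
  have hg₂W : ∀ x ∈ W, g₂ *ᵥ x ∈ W := by
    intro x hx
    rw [hg₂, ← Matrix.mulVec_mulVec]
    exact hE'.maps _ (hg₁W x hx)
  -- `g₂` satisfies the hypotheses for the complement
  have hg₂fix₁ : FixPerp q (hypCompl q W u u') g₂ := by
    intro x hx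
    have hx' : ∀ y ∈ W, ⟪hypProj q u u' x, y⟫ = 0 := by
      intro y hy
      have hpy := hypProj_mem hF W hu hu' huu hu'u' huu' hy
      have hpx := hypProj_mem hF ⊤ Submodule.mem_top Submodule.mem_top huu hu'u' huu'
        (Submodule.mem_top (x := x))
      have h5 : ⟪hypProj q u u' x, hypProj q u u' y⟫ = 0 := by
        conv_lhs => rw [hypProj]
        rw [hermForm_sub_left, hermForm_sub_left, hermForm_smul_left, hermForm_smul_left,
          hermForm_eq_zero_symm hF hpy.2.1, hermForm_eq_zero_symm hF hpy.2.2, hx _ hpy]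
        ring
      rw [hypProj_decomp (q := q) u u' y, hermForm_add_right hF, hermForm_add_right hF,
        hermForm_smul_right, hermForm_smul_right, hpx.2.1, hpx.2.2, h5]
      ring
    have h6 := hg₂fix _ hx'
    have hxdec := hypProj_decomp (q := q) u u' x
    rw [hxdec, Matrix.mulVec_add, Matrix.mulVec_add, Matrix.mulVec_smul, Matrix.mulVec_smul,
      hg₂u, hg₂u', h6]
  have hg₂W₁ : ∀ x ∈ hypCompl q W u u', g₂ *ᵥ x ∈ hypCompl q W u u' := by
    intro x hx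
    refine ⟨hg₂W x hx.1, ?_, ?_⟩
    · have := hg₂U x u
      rw [hg₂u] at this
      rw [this, hx.2.1]
    · have := hg₂U x u'
      rw [hg₂u'] at this
      rw [this, hx.2.2]
  have hfin := hP₁ g₂ hg₂U hg₂det hg₂fix₁ hg₂W₁
  have h7 : InTW q ⊤ g₁ := InTW.of_mul_left hF (hE'.mono le_top) hfin
  exact InTW.of_mul_left hF (ht₁.mono le_top) h7

/-- the anisotropic case: an element of `SU` fixing `W^⊥` pointwise is trivial -/
theorem eq_one_of_anisotropic (hF : Fintype.card F = q ^ 2) (W : Submodule F (Fin n → F))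
    (hW : ∀ x ∈ W, ⟪x, x⟫ = 0 → x = 0)
    {g : Matrix (Fin n) (Fin n) F} (hgdet : g.det = 1) (hgfix : FixPerp q W g)
    (hgW : ∀ x ∈ W, g *ᵥ x ∈ W) : g = 1 := by
  by_cases hW0 : ∀ x ∈ W, x = 0
  · apply mat_ext_mulVec
    intro x
    rw [Matrix.one_mulVec]
    apply hgfix
    intro y hy
    rw [hW0 y hy, hermForm_zero_right hF]
  · push Not at hW0
    obtain ⟨z, hz, hz0⟩ := hW0
    set μ := ⟪z, z⟫ with hμ
    have hμ0 : μ ≠ 0 := fun h => hz0 (hW z hz h)
    obtain ⟨l, hl⟩ := eq_smul_of_anisotropic hF W hW hz hz0 (hgW z hz)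
    have hg : g = 1 + ((l - 1) * μ⁻¹) • rankOne q z z := by
      apply mat_ext_mulVec
      intro x
      rw [one_add_rankOne_mulVec]
      set x' : Fin n → F := x - (⟪x, z⟫ * μ⁻¹) • z with hx'
      have hx'z : ⟪x', z⟫ = 0 := by
        rw [hx', hermForm_sub_left, hermForm_smul_left, ← hμ, inv_mul_cancel_right₀ hμ0, sub_self]
      have hx'fix : g *ᵥ x' = x' := by
        apply hgfix
        intro y hy
        obtain ⟨c, rfl⟩ := eq_smul_of_anisotropic hF W hW hz hz0 hy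
        rw [hermForm_smul_right, hx'z, mul_zero]
      have hxdec : x = x' + (⟪x, z⟫ * μ⁻¹) • z := by rw [hx']; abel
      conv_lhs => rw [hxdec]
      rw [Matrix.mulVec_add, Matrix.mulVec_smul, hl, hx'fix, hx']
      module
    have hdet : g.det = l := by
      rw [hg, det_one_add_rankOne, ← hμ, inv_mul_cancel_right₀ hμ0]
      ring
    rw [hgdet] at hdet
    rw [hg, ← hdet, sub_self, zero_mul, zero_smul, add_zero]

end Cfsg.Agent.Helper13
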