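import Cfsg.Agent.Helper13.UGen7

set_option autoImplicit false

namespace Cfsg.Agent.Helper13

open Matrix

variable {F : Type*} [Field F] [Fintype F] {q n : ℕ}

local notation "⟪" x ", " y "⟫" => Cfsg.hermForm n F q x y

/-- the orthogonal of a subspace -/
def perpSub (q : ℕ) (W : Submodule F (Fin n → F)) : Submodule F (Fin n → F) where
  carrier := {x | ∀ y ∈ W, Cfsg.hermForm n F q x y = 0}
  add_mem' := by
    intro a b ha hb y hy
    rw [hermForm_add_left, ha y hy, hb y hy, add_zero]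
  zero_mem' := fun y _ => hermForm_zero_left y
  smul_mem' := by
    intro c a ha y hy
    rw [hermForm_smul_left, ha y hy, mul_zero]

omit [Fintype F] in
theorem mem_perpSub (W : Submodule F (Fin n → F)) (x : Fin n → F) :
    x ∈ perpSub q W ↔ ∀ y ∈ W, ⟪x, y⟫ = 0 := Iff.rfl

variable {u u' : Fin n → F}

/-- an anisotropic vector orthogonal to a `3`-dimensional `W = ⟨u, u', z⟩ ≠ ⊤` -/
theorem exists_anisotropic_perp (hF : Fintype.card F = q ^ 2) (W : Submodule F (Fin n → F))
    (hu : u ∈ W) (hu' : u' ∈ W) (huu : ⟪u, u⟫ = 0) (hu'u' : ⟪u', u'⟫ = 0) (huu' : ⟪u, u'⟫ = 1)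
    {z : Fin n → F} (hz : z ∈ W) (hzu : ⟪z, u⟫ = 0) (hzu' : ⟪z, u'⟫ = 0) (hzz : ⟪z, z⟫ ≠ 0)
    (hspan : ∀ y ∈ W, ∃ c : F, hypProj q u u' y = c • z) {x : Fin n → F} (hx : x ∉ W) :
    ∃ z', (∀ y ∈ W, ⟪z', y⟫ = 0) ∧ ⟪z', z'⟫ ≠ 0 := by
  have hu'u : ⟪u', u⟫ = 1 := by rw [← hermForm_conj hF, huu', one_pow]
  have huz : ⟪u, z⟫ = 0 := hermForm_eq_zero_symm hF hzu
  have hu'z : ⟪u', z⟫ = 0 := hermForm_eq_zero_symm hF hzu'
  set μ := ⟪z, z⟫ with hμ
  -- the projection to `W`
  set pW : (Fin n → F) → (Fin n → F) :=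
    fun v => ⟪v, u'⟫ • u + ⟪v, u⟫ • u' + (⟪v, z⟫ * μ⁻¹) • z with hpW
  have hpWmem : ∀ v, pW v ∈ W := fun v =>
    W.add_mem (W.add_mem (W.smul_mem _ hu) (W.smul_mem _ hu')) (W.smul_mem _ hz)
  have hperp : ∀ v, v - pW v ∈ perpSub q W := by
    intro v y hy
    obtain ⟨c, hc⟩ := hspan y hy
    have h1 : ⟪v - pW v, u⟫ = 0 := by
      simp only [hpW, hermForm_sub_left, hermForm_add_left, hermForm_smul_left, huu, hu'u, hzu]
      ring
    have h2 : ⟪v - pW v, u'⟫ = 0 := by
      simp only [hpW, hermForm_sub_left, hermForm_add_left, hermForm_smul_left, huu', hu'u', hzu']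
      ring
    have h3 : ⟪v - pW v, z⟫ = 0 := by
      simp only [hpW, hermForm_sub_left, hermForm_add_left, hermForm_smul_left, huz, hu'z, ← hμ]
      field_simp
      ring
    rw [hypProj_decomp (q := q) u u' y, hc, hermForm_add_right hF, hermForm_add_right hF,
      hermForm_smul_right, hermForm_smul_right, hermForm_smul_right, h1, h2, h3]
    ring
  have hnd : NonDeg q (perpSub q W) := by
    intro a ha hay
    apply eq_zero_of_hermForm_eq_zero hF
    intro v
    have h1 : v = pW v + (v - pW v) := by abel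
    rw [h1, hermForm_add_right hF, ha _ (hpWmem v), hay _ (hperp v), add_zero]
  have hx0 : x - pW x ≠ 0 := by
    intro h
    apply hx
    rw [sub_eq_zero] at h
    rw [h]
    exact hpWmem x
  obtain ⟨z', hz', hz'z'⟩ := exists_anisotropic hF _ hnd (hperp x) hx0
  exact ⟨z', hz', hz'z'⟩

/-- **Main theorem.** Every element of `SU_n(q)` fixing `W^⊥` pointwise and stabilising the
non-degenerate subspace `W` is a product of unitary transvections (`(n, q) ≠ (3, 2)`). -/
theorem inTW_of_SU (hF : Fintype.card F = q ^ 2) (h32 : ¬ (n = 3 ∧ q = 2)) :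
    ∀ (d : ℕ) (W : Submodule F (Fin n → F)), Module.finrank F W = d → NonDeg q W →
      ∀ g : Matrix (Fin n) (Fin n) F, IsU q g → g.det = 1 → FixPerp q W g →
        (∀ x ∈ W, g *ᵥ x ∈ W) → InTW q ⊤ g := by
  classical
  have hq2 := two_le_of_card_eq_sq hF
  intro d
  induction d using Nat.strong_induction_on with
  | _ d ih =>
  intro W hd hW g hgU hgdet hgfix hgW
  by_cases hiso : ∃ u ∈ W, u ≠ 0 ∧ ⟪u, u⟫ = 0
  swap
  · -- anisotropic case
    push Not at hiso
    have hani : ∀ x ∈ W, ⟪x, x⟫ = 0 → x = 0 := by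
      intro x hx hxx
      by_contra h
      exact hiso x hx h hxx
    rw [eq_one_of_anisotropic hF W hani hgdet hgfix hgW]
    exact InTW.one
  obtain ⟨u, hu, hu0, huu⟩ := hiso
  obtain ⟨u', hu', hu'u', huu'⟩ := exists_hyperbolic_partner_in hF W hW hu hu0 huu
  have hu'u : ⟪u', u⟫ = 1 := by rw [← hermForm_conj hF, huu', one_pow]
  have hW₁ : NonDeg q (hypCompl q W u u') := nonDeg_hypCompl hF W hW hu hu' huu hu'u' huu'
  have hdim := finrank_hypCompl_add_two_le hF W hu hu' huu huu'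
  by_cases hW₁0 : ∀ y ∈ hypCompl q W u u', y = 0
  · -- `W` is the hyperbolic plane
    have hP : PlaneSU q u u' g := by
      refine ⟨hgU, hgdet, ?_⟩
      intro x h1 h2
      apply hgfix
      intro y hy
      have h0 := hW₁0 _ (hypProj_mem hF W hu hu' huu hu'u' huu' hy)
      rw [hypProj_decomp (q := q) u u' y, h0, add_zero, hermForm_add_right hF,
        hermForm_smul_right, hermForm_smul_right, h1, h2]
      ring
    exact (inTW_of_planeSU hF huu hu'u' huu' hP).mono le_top
  push Not at hW₁0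
  obtain ⟨z, hz, hz0⟩ := hW₁0
  have hpos : 0 < Module.finrank F (hypCompl q W u u') :=
    Module.finrank_pos_iff_exists_ne_zero.mpr ⟨⟨z, hz⟩, fun h => hz0 (congrArg Subtype.val h)⟩
  have h3 : 3 ≤ Module.finrank F W := by omega
  have hP₁ : ∀ g : Matrix (Fin n) (Fin n) F, IsU q g → g.det = 1 →
      FixPerp q (hypCompl q W u u') g →
      (∀ x ∈ hypCompl q W u u', g *ᵥ x ∈ hypCompl q W u u') → InTW q ⊤ g :=
    ih (Module.finrank F (hypCompl q W u u')) (by omega) _ rfl hW₁
  by_cases hiso₁ : ∃ u₁ ∈ hypCompl q W u u', u₁ ≠ 0 ∧ ⟪u₁, u₁⟫ = 0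
  · -- Case A
    obtain ⟨u₁, hu₁, hu₁0, hu₁u₁⟩ := hiso₁
    refine inTW_step hF W hW h3 hu hu' huu hu'u' huu' ?_ hP₁ hgU hgdet hgfix hgW
    intro y hy c hc
    exact inTW_eichler_caseA hF W _ (hypCompl_le W u u') hW₁ hu huu (fun y hy => hy.2.1)
      hu₁ hu₁0 hu₁u₁ hy hc
  push Not at hiso₁
  have hani : ∀ x ∈ hypCompl q W u u', ⟪x, x⟫ = 0 → x = 0 := by
    intro x hx hxx
    by_contra h
    exact hiso₁ x hx h hxx
  by_cases hq3 : 3 ≤ q
  · -- Case B
    refine inTW_step hF W hW h3 hu hu' huu hu'u' huu' ?_ hP₁ hgU hgdet hgfix hgW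
    intro y hy c hc
    exact inTW_eichler_caseB hF W hu hu' huu hu'u' huu' hq3 hy.1 hy.2.1 hy.2.2 hc
  -- the exceptional case `q = 2`, `W` of dimension `3`
  have hq : q = 2 := by omega
  have hzz : ⟪z, z⟫ ≠ 0 := fun h => hz0 (hani z hz h)
  have hspan : ∀ y ∈ W, ∃ c : F, hypProj q u u' y = c • z := fun y hy =>
    eq_smul_of_anisotropic hF _ hani hz hz0 (hypProj_mem hF W hu hu' huu hu'u' huu' hy)
  have hle3 : Module.finrank F W ≤ 3 := by
    have hle : W ≤ Submodule.span F (({u, u', z} : Finset (Fin n → F)) : Set (Fin n → F)) := by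
      intro y hy
      obtain ⟨c, hc⟩ := hspan y hy
      rw [hypProj_decomp (q := q) u u' y, hc]
      apply Submodule.add_mem
      · apply Submodule.add_mem
        · exact Submodule.smul_mem _ _ (Submodule.subset_span (by simp))
        · exact Submodule.smul_mem _ _ (Submodule.subset_span (by simp))
      · exact Submodule.smul_mem _ _ (Submodule.subset_span (by simp))
    have h4 := Submodule.finrank_mono hle
    have h5 : Module.finrank F
        (Submodule.span F (({u, u', z} : Finset (Fin n → F)) : Set (Fin n → F))) ≤ _ :=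
      finrank_span_finset_le_card (R := F) ({u, u', z} : Finset (Fin n → F))
    have h6 : ({u, u', z} : Finset (Fin n → F)).card ≤ 3 := Finset.card_le_three
    omega
  have hn : Module.finrank F (Fin n → F) = n := by
    rw [Module.finrank_fintype_fun_eq_card, Fintype.card_fin]
  have hWn : Module.finrank F W ≤ n := by
    have := Submodule.finrank_le W
    rwa [hn] at this
  have hn4 : 4 ≤ n := by
    have : n ≠ 3 := fun h => h32 ⟨h, hq⟩
    omega
  obtain ⟨x, hx⟩ : ∃ x, x ∉ W := by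
    by_contra h
    push Not at h
    have : W = ⊤ := by
      rw [eq_top_iff]
      intro x _
      exact h x
    rw [this, finrank_top, hn] at hle3
    omega
  obtain ⟨z', hz', hz'z'⟩ := exists_anisotropic_perp hF W hu hu' huu hu'u' huu' hz.1 hz.2.1
    hz.2.2 hzz hspan hx
  have hz'0 : z' ≠ 0 := by
    rintro rfl
    exact hz'z' (hermForm_zero_left _)
  have hz'W : ∀ y ∈ W, ⟪y, z'⟫ = 0 := fun y hy => hermForm_eq_zero_symm hF (hz' y hy)
  -- the enlarged subspace
  set W' : Submodule F (Fin n → F) := W ⊔ Submodule.span F {z'} with hW'def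
  have hWW' : W ≤ W' := le_sup_left
  have hz'W' : z' ∈ W' := Submodule.mem_sup_right (Submodule.mem_span_singleton_self z')
  have hmemW' : ∀ x ∈ W', ∃ w ∈ W, ∃ l : F, x = w + l • z' := by
    intro x hx
    obtain ⟨w, hw, b, hb, rfl⟩ := Submodule.mem_sup.mp hx
    obtain ⟨l, rfl⟩ := Submodule.mem_span_singleton.mp hb
    exact ⟨w, hw, l, rfl⟩
  have hW' : NonDeg q W' := by
    intro x hx hxy
    obtain ⟨w, hw, l, rfl⟩ := hmemW' x hx
    have h1 := hxy z' hz'W'
    rw [hermForm_add_left, hz'W w hw, hermForm_smul_left, zero_add] at h1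
    have hl : l = 0 := (mul_eq_zero.mp h1).resolve_right hz'z'
    rw [hl, zero_smul, add_zero] at hxy ⊢
    exact hW w hw (fun y hy => hxy y (hWW' hy))
  have h3' : 3 ≤ Module.finrank F W' := le_trans h3 (Submodule.finrank_mono hWW')
  have hW₁' : NonDeg q (hypCompl q W' u u') :=
    nonDeg_hypCompl hF W' hW' (hWW' hu) (hWW' hu') huu hu'u' huu'
  have hle₁ : hypCompl q W' u u' ≤ hypCompl q W u u' ⊔ Submodule.span F {z'} := by
    intro x hx
    obtain ⟨w, hw, l, rfl⟩ := hmemW' x hx.1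
    have h1 := hx.2.1
    have h2 := hx.2.2
    rw [hermForm_add_left, hermForm_smul_left, hz' u hu, mul_zero, add_zero] at h1
    rw [hermForm_add_left, hermForm_smul_left, hz' u' hu', mul_zero, add_zero] at h2
    exact Submodule.add_mem_sup ⟨hw, h1, h2⟩
      (Submodule.smul_mem _ _ (Submodule.mem_span_singleton_self z'))
  have hdim' : Module.finrank F (hypCompl q W' u u') < d := by
    have h4 := Submodule.finrank_mono hle₁
    have h5 := Submodule.finrank_add_le_finrank_add_finrank (hypCompl q W u u')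
      (Submodule.span F {z'})
    have h6 : Module.finrank F (Submodule.span F {z'}) = 1 := finrank_span_singleton hz'0
    omega
  have hP₁' := ih (Module.finrank F (hypCompl q W' u u')) hdim' _ rfl hW₁'
  -- an isotropic vector in the new complement
  set μ := ⟪z, z⟫ with hμ
  set μ' := ⟪z', z'⟫ with hμ'
  have hμq : μ ^ q = μ := hermForm_self_fixed hF z
  have hμ'q : μ' ^ q = μ' := hermForm_self_fixed hF z'
  obtain ⟨l, hl⟩ := exists_norm_eq_of_fixed hF (a := -μ * μ'⁻¹)
    (by rw [mul_pow, inv_pow, hμ'q, frob_neg' hF, hμq])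
  have hu₁mem : z + l • z' ∈ hypCompl q W' u u' := by
    refine ⟨W'.add_mem (hWW' hz.1) (W'.smul_mem _ hz'W'), ?_, ?_⟩
    · rw [hermForm_add_left, hermForm_smul_left, hz.2.1, hz' u hu, mul_zero, add_zero]
    · rw [hermForm_add_left, hermForm_smul_left, hz.2.2, hz' u' hu', mul_zero, add_zero]
  have hu₁iso : ⟪z + l • z', z + l • z'⟫ = 0 := by
    rw [hermForm_add_self hF, hermForm_smul_left, hermForm_smul_right, hermForm_smul_right,
      hz'W z hz.1, ← hμ, ← hμ', ← mul_assoc, hl, inv_mul_cancel_right₀ hz'z', mul_zero,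
      zero_pow (by omega)]
    ring
  have hu₁0 : z + l • z' ≠ 0 := by
    intro h
    have h1 : ⟪z + l • z', z⟫ = 0 := by rw [h, hermForm_zero_left]
    rw [hermForm_add_left, hermForm_smul_left, hz' z hz.1, mul_zero, add_zero] at h1
    exact hzz h1
  have hgfix' : FixPerp q W' g := hgfix.mono hWW'
  have hgz' : g *ᵥ z' = z' := hgfix z' hz'
  have hgW' : ∀ x ∈ W', g *ᵥ x ∈ W' := by
    intro x hx
    obtain ⟨w, hw, l, rfl⟩ := hmemW' x hx
    rw [Matrix.mulVec_add, Matrix.mulVec_smul, hgz']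
    exact W'.add_mem (hWW' (hgW w hw)) (W'.smul_mem _ hz'W')
  refine inTW_step hF W' hW' h3' (hWW' hu) (hWW' hu') huu hu'u' huu' ?_ hP₁' hgU hgdet
    hgfix' hgW'
  intro y hy c hc
  exact inTW_eichler_caseA hF W' _ (hypCompl_le W' u u') hW₁' (hWW' hu) huu
    (fun y hy => hy.2.1) hu₁mem hu₁0 hu₁iso hy hc

end Cfsg.Agent.Helper13
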