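import Cfsg.Agent.Helper13.UGen8

set_option autoImplicit false

namespace Cfsg.Agent.Helper13

open Matrix

variable {F : Type*} [Field F] [Fintype F] {q n : ℕ}

local notation "⟪" x ", " y "⟫" => Cfsg.hermForm n F q x y

/-- the matrix of an element of `SU` -/
abbrev suMat (A : Cfsg.SU n F q) : Matrix (Fin n) (Fin n) F :=
  ((A : Matrix.SpecialLinearGroup (Fin n) F) : Matrix (Fin n) (Fin n) F)

omit [Fintype F] in
theorem suMat_injective {A B : Cfsg.SU n F q} (h : suMat A = suMat B) : A = B :=
  Subtype.ext (Subtype.ext h)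

omit [Fintype F] in
theorem suMat_mul (A B : Cfsg.SU n F q) : suMat (A * B) = suMat A * suMat B := rfl

omit [Fintype F] in
theorem suMat_one : suMat (1 : Cfsg.SU n F q) = 1 := rfl

omit [Fintype F] in
theorem isU_suMat (A : Cfsg.SU n F q) : IsU q (suMat A) := A.2

omit [Fintype F] in
theorem det_suMat (A : Cfsg.SU n F q) : (suMat A).det = 1 := A.1.2

/-- the transvection as an element of `SU` -/
def tvElt (hF : Fintype.card F = q ^ 2) (v : Fin n → F) (c : F) (hv : ⟪v, v⟫ = 0)
    (hc : c + c ^ q = 0) : Cfsg.SU n F q :=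
  ⟨⟨Cfsg.unitaryTransvection n q v c, det_unitaryTransvection v c hv⟩,
    isU_unitaryTransvection hF v c hv hc⟩

theorem suMat_tvElt (hF : Fintype.card F = q ^ 2) (v : Fin n → F) (c : F) (hv : ⟪v, v⟫ = 0)
    (hc : c + c ^ q = 0) : suMat (tvElt hF v c hv hc) = Cfsg.unitaryTransvection n q v c := rfl

/-- the generating set of the statement -/
def tvSet (n : ℕ) (F : Type*) [Field F] (q : ℕ) : Set (Cfsg.SU n F q) :=
  {A | ∃ (v : Fin n → F) (c : F), Cfsg.hermForm n F q v v = 0 ∧
    ((A : Matrix.SpecialLinearGroup (Fin n) F) : Matrix (Fin n) (Fin n) F) =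
      Cfsg.unitaryTransvection n q v c}

theorem mem_closure_of_inTW (hF : Fintype.card F = q ^ 2) {M : Matrix (Fin n) (Fin n) F}
    (hM : InTW q ⊤ M) : ∀ A : Cfsg.SU n F q, suMat A = M → A ∈ Subgroup.closure (tvSet n F q) := by
  induction hM with
  | one =>
    intro A hA
    have : A = 1 := suMat_injective (by rw [hA, suMat_one])
    rw [this]
    exact Subgroup.one_mem _
  | tv_mul v c M _ hv hc _ ih =>
    intro A hA
    have hc' : -c + (-c) ^ q = 0 := by
      rw [frob_neg' hF]
      linear_combination -hc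
    have hB : suMat (tvElt hF v (-c) hv hc' * A) = M := by
      rw [suMat_mul, suMat_tvElt, hA, ← mul_assoc, unitaryTransvection_mul v _ _ hv,
        neg_add_cancel, unitaryTransvection_zero, one_mul]
    have hBmem := ih _ hB
    have hA' : A = tvElt hF v c hv hc * (tvElt hF v (-c) hv hc' * A) := by
      apply suMat_injective
      rw [suMat_mul, suMat_tvElt, hB, hA]
    rw [hA']
    refine Subgroup.mul_mem _ (Subgroup.subset_closure ?_) hBmem
    exact ⟨v, c, hv, rfl⟩

/-- `SU_n(q)` is generated by the unitary transvections -/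
theorem closure_tvSet_eq_top (hF : Fintype.card F = q ^ 2) (h32 : ¬ (n = 3 ∧ q = 2)) :
    Subgroup.closure (tvSet n F q) = ⊤ := by
  rw [eq_top_iff]
  intro A _
  have hnd : NonDeg q (⊤ : Submodule F (Fin n → F)) := by
    intro x _ hx
    exact eq_zero_of_hermForm_eq_zero hF x (fun y => hx y Submodule.mem_top)
  have hfix : FixPerp q (⊤ : Submodule F (Fin n → F)) (suMat A) := by
    intro x hx
    have : x = 0 := eq_zero_of_hermForm_eq_zero hF x (fun y => hx y Submodule.mem_top)
    rw [this, Matrix.mulVec_zero]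
  have h := inTW_of_SU hF h32 _ ⊤ rfl hnd (suMat A) (isU_suMat A) (det_suMat A) hfix
    (fun _ _ => Submodule.mem_top)
  exact mem_closure_of_inTW hF h A rfl

end Cfsg.Agent.Helper13
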