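import Cfsg.Agent.Helper13.UGen9

set_option autoImplicit false

namespace Cfsg.Agent.Helper13

open Matrix

variable {F : Type*} [Field F] [Fintype F] {q n : ℕ}

local notation "⟪" x ", " y "⟫" => Cfsg.hermForm n F q x y

omit [Fintype F] in
/-- determinant of a rank two perturbation of the identity -/
theorem det_one_add_two_rankOne (a b a' b' : Fin n → F) :
    (1 + rankOne q a b + rankOne q a' b').det =
      (1 + ⟪a, b⟫) * (1 + ⟪a', b'⟫) - ⟪a', b⟫ * ⟪a, b'⟫ := by
  set A : Matrix (Fin n) (Fin 2) F := Matrix.of (fun i k => if k = 0 then a i else a' i) with hA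
  set B : Matrix (Fin 2) (Fin n) F :=
    Matrix.of (fun k j => if k = 0 then (b j) ^ q else (b' j) ^ q) with hB
  have h1 : 1 + rankOne q a b + rankOne q a' b' = 1 + A * B := by
    rw [add_assoc]
    congr 1
    ext i j
    simp [hA, hB, rankOne, Matrix.mul_apply, Fin.sum_univ_two, Matrix.vecMulVec_apply]
  have h00 : (B * A) 0 0 = ⟪a, b⟫ := by
    simp only [hA, hB, Matrix.mul_apply, Matrix.of_apply, Cfsg.hermForm, Fin.isValue, ↓reduceIte]
    exact Finset.sum_congr rfl fun j _ => mul_comm _ _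
  have h01 : (B * A) 0 1 = ⟪a', b⟫ := by
    simp only [hA, hB, Matrix.mul_apply, Matrix.of_apply, Cfsg.hermForm, Fin.isValue, ↓reduceIte,
      one_ne_zero]
    exact Finset.sum_congr rfl fun j _ => mul_comm _ _
  have h10 : (B * A) 1 0 = ⟪a, b'⟫ := by
    simp only [hA, hB, Matrix.mul_apply, Matrix.of_apply, Cfsg.hermForm, Fin.isValue, ↓reduceIte,
      one_ne_zero]
    exact Finset.sum_congr rfl fun j _ => mul_comm _ _
  have h11 : (B * A) 1 1 = ⟪a', b'⟫ := by
    simp only [hA, hB, Matrix.mul_apply, Matrix.of_apply, Cfsg.hermForm, Fin.isValue, ↓reduceIte,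
      one_ne_zero]
    exact Finset.sum_congr rfl fun j _ => mul_comm _ _
  rw [h1, Matrix.det_one_add_mul_comm, Matrix.det_fin_two]
  simp only [Matrix.add_apply, h00, h01, h10, h11, Matrix.one_apply_eq,
    Matrix.one_apply_ne (show (0 : Fin 2) ≠ 1 by decide),
    Matrix.one_apply_ne (show (1 : Fin 2) ≠ 0 by decide)]
  ring

theorem det_eichler (hF : Fintype.card F = q ^ 2) {u y : Fin n → F} (c : F)
    (huu : ⟪u, u⟫ = 0) (hyu : ⟪y, u⟫ = 0) : (eichler q u y c).det = 1 := by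
  have huy : ⟪u, y⟫ = 0 := hermForm_eq_zero_symm hF hyu
  have h1 : eichler q u y c = 1 + rankOne q (y + c • u) u + rankOne q (-u) y := by
    apply mat_ext_mulVec
    intro x
    rw [eichler_mulVec, Matrix.add_mulVec, Matrix.add_mulVec, Matrix.one_mulVec, rankOne_mulVec,
      rankOne_mulVec]
    module
  rw [h1, det_one_add_two_rankOne]
  simp only [hermForm_add_left, hermForm_smul_left, hermForm_neg_left, huu, hyu, huy]
  ring

/-- an Eichler transformation as an element of `SU` -/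
def eichlerElt (hF : Fintype.card F = q ^ 2) (u y : Fin n → F) (c : F) (huu : ⟪u, u⟫ = 0)
    (hyu : ⟪y, u⟫ = 0) (hc : c + c ^ q + ⟪y, y⟫ = 0) : Cfsg.SU n F q :=
  ⟨⟨eichler q u y c, det_eichler hF c huu hyu⟩, isU_eichler hF huu hyu hc⟩

theorem suMat_eichlerElt (hF : Fintype.card F = q ^ 2) (u y : Fin n → F) (c : F)
    (huu : ⟪u, u⟫ = 0) (hyu : ⟪y, u⟫ = 0) (hc : c + c ^ q + ⟪y, y⟫ = 0) :
    suMat (eichlerElt hF u y c huu hyu hc) = eichler q u y c := rfl

/-- an element of `SU` fixing the isotropic vector `u` and moving `v` to `w`, where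
`h(v,u) = h(w,u) = 1` -/
theorem exists_SU_fix_map (hF : Fintype.card F = q ^ 2) {u v w : Fin n → F}
    (huu : ⟪u, u⟫ = 0) (hvv : ⟪v, v⟫ = 0) (hww : ⟪w, w⟫ = 0) (hvu : ⟪v, u⟫ = 1)
    (hwu : ⟪w, u⟫ = 1) :
    ∃ A : Cfsg.SU n F q, suMat A *ᵥ u = u ∧ suMat A *ᵥ v = w := by
  have huv : ⟪u, v⟫ = 1 := by rw [← hermForm_conj hF, hvu, one_pow]
  set c₁ := ⟪w, v⟫ with hc₁
  set y : Fin n → F := w - v - c₁ • u with hy
  have hyu : ⟪y, u⟫ = 0 := by
    rw [hy, hermForm_sub_left, hermForm_sub_left, hermForm_smul_left, hwu, hvu, huu]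
    ring
  have hyv : ⟪y, v⟫ = 0 := by
    rw [hy, hermForm_sub_left, hermForm_sub_left, hermForm_smul_left, ← hc₁, hvv, huv]
    ring
  have huy : ⟪u, y⟫ = 0 := hermForm_eq_zero_symm hF hyu
  have hvy : ⟪v, y⟫ = 0 := hermForm_eq_zero_symm hF hyv
  have hwdec : w = y + (v + c₁ • u) := by rw [hy]; abel
  have hcy : c₁ + c₁ ^ q + ⟪y, y⟫ = 0 := by
    have h2 := hww
    rw [hwdec] at h2
    simp only [hermForm_add_left, hermForm_add_right hF, hermForm_smul_left, hermForm_smul_right,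
      huu, hvv, huv, hvu, hyu, hyv, huy, hvy] at h2
    linear_combination h2
  refine ⟨eichlerElt hF u y c₁ huu hyu hcy, ?_, ?_⟩
  · rw [suMat_eichlerElt, eichler_mulVec, huu, huy, mul_zero, zero_smul, zero_smul, add_zero,
      sub_zero, add_zero]
  · rw [suMat_eichlerElt, eichler_mulVec, hvu, hvy, hwdec]
    module

end Cfsg.Agent.Helper13
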