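import Cfsg.Agent.Helper13.UIwa1

set_option autoImplicit false

namespace Cfsg.Agent.Helper13

open Matrix MulAction
open scoped Pointwise

variable {F : Type*} [Field F] [Fintype F] {q n : ℕ}

local notation "⟪" x ", " y "⟫" => Cfsg.hermForm n F q x y

/-- the isotropic points: lines spanned by a non-zero isotropic vector -/
def IsoPt (n : ℕ) (F : Type*) [Field F] (q : ℕ) :=
  {L : Submodule F (Fin n → F) //
    ∃ u : Fin n → F, u ≠ 0 ∧ Cfsg.hermForm n F q u u = 0 ∧ L = Submodule.span F {u}}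

/-- the point spanned by an isotropic vector -/
def IsoPt.mk (u : Fin n → F) (hu0 : u ≠ 0) (huu : ⟪u, u⟫ = 0) : IsoPt n F q :=
  ⟨Submodule.span F {u}, u, hu0, huu, rfl⟩

omit [Fintype F] in
theorem IsoPt.ind {P : IsoPt n F q → Prop} (h : ∀ u hu0 huu, P (IsoPt.mk u hu0 huu)) :
    ∀ p, P p := by
  rintro ⟨_, u, hu0, huu, rfl⟩
  exact h u hu0 huu

omit [Fintype F] in
theorem IsoPt.mk_eq_mk_iff {u w : Fin n → F} (hu0 : u ≠ 0) (huu : ⟪u, u⟫ = 0) (hw0 : w ≠ 0)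
    (hww : ⟪w, w⟫ = 0) :
    IsoPt.mk u hu0 huu = IsoPt.mk w hw0 hww ↔ ∃ a : F, a ≠ 0 ∧ w = a • u := by
  have h1 : IsoPt.mk u hu0 huu = IsoPt.mk w hw0 hww ↔
      Submodule.span F {u} = Submodule.span F {w} :=
    ⟨fun h => congrArg Subtype.val h, fun h => Subtype.ext h⟩
  rw [h1, Submodule.span_singleton_eq_span_singleton]
  constructor
  · rintro ⟨z, hz⟩
    exact ⟨(z : F), z.ne_zero, hz.symm⟩
  · rintro ⟨a, ha, rfl⟩
    exact ⟨Units.mk0 a ha, rfl⟩

omit [Fintype F] in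
theorem suMat_inv_mulVec (A : Cfsg.SU n F q) (x : Fin n → F) :
    suMat A⁻¹ *ᵥ (suMat A *ᵥ x) = x := by
  rw [Matrix.mulVec_mulVec, ← suMat_mul, inv_mul_cancel, suMat_one, Matrix.one_mulVec]

omit [Fintype F] in
theorem suMat_mulVec_ne_zero (A : Cfsg.SU n F q) {u : Fin n → F} (hu : u ≠ 0) :
    suMat A *ᵥ u ≠ 0 := by
  intro h
  apply hu
  rw [← suMat_inv_mulVec A u, h, Matrix.mulVec_zero]

/-- the action of `SU` on the isotropic points -/
instance isoPtMulAction : MulAction (Cfsg.SU n F q) (IsoPt n F q) where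
  smul A p := ⟨p.1.map (Matrix.mulVecLin (suMat A)), by
    obtain ⟨u, hu0, huu, hL⟩ := p.2
    refine ⟨suMat A *ᵥ u, suMat_mulVec_ne_zero A hu0, by rw [isU_suMat A, huu], ?_⟩
    rw [hL, Submodule.map_span, Set.image_singleton, Matrix.mulVecLin_apply]⟩
  one_smul p := Subtype.ext (by
    show p.1.map (Matrix.mulVecLin (suMat (1 : Cfsg.SU n F q))) = p.1
    rw [suMat_one, Matrix.mulVecLin_one, Submodule.map_id])
  mul_smul A B p := Subtype.ext (by
    show p.1.map (Matrix.mulVecLin (suMat (A * B))) =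
      (p.1.map (Matrix.mulVecLin (suMat B))).map (Matrix.mulVecLin (suMat A))
    rw [suMat_mul, Matrix.mulVecLin_mul, Submodule.map_comp])

omit [Fintype F] in
theorem IsoPt.smul_mk (A : Cfsg.SU n F q) (u : Fin n → F) (hu0 : u ≠ 0) (huu : ⟪u, u⟫ = 0) :
    A • IsoPt.mk u hu0 huu =
      IsoPt.mk (suMat A *ᵥ u) (suMat_mulVec_ne_zero A hu0) (by rw [isU_suMat A, huu]) :=
  Subtype.ext (by
    show (Submodule.span F {u}).map (Matrix.mulVecLin (suMat A)) = Submodule.span F {suMat A *ᵥ u}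
    rw [Submodule.map_span, Set.image_singleton, Matrix.mulVecLin_apply])

theorem exists_SU_of_inTW (hF : Fintype.card F = q ^ 2) {M : Matrix (Fin n) (Fin n) F}
    (hM : InTW q ⊤ M) : ∃ A : Cfsg.SU n F q, suMat A = M := by
  induction hM with
  | one => exact ⟨1, suMat_one⟩
  | tv_mul v c M _ hv hc _ ih =>
    obtain ⟨A, hA⟩ := ih
    exact ⟨tvElt hF v c hv hc * A, by rw [suMat_mul, suMat_tvElt, hA]⟩

theorem nonDeg_top (hF : Fintype.card F = q ^ 2) : NonDeg q (⊤ : Submodule F (Fin n → F)) := by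
  intro x _ hx
  exact eq_zero_of_hermForm_eq_zero hF x (fun y => hx y Submodule.mem_top)

/-- `SU_n(q)`, `n ≥ 3`, is transitive on the non-zero isotropic vectors -/
theorem exists_SU_map (hF : Fintype.card F = q ^ 2) (hn : 3 ≤ n) {u w : Fin n → F}
    (hu0 : u ≠ 0) (hw0 : w ≠ 0) (huu : ⟪u, u⟫ = 0) (hww : ⟪w, w⟫ = 0) :
    ∃ A : Cfsg.SU n F q, suMat A *ᵥ u = w := by
  have h3 : 3 ≤ Module.finrank F (⊤ : Submodule F (Fin n → F)) := by
    rw [finrank_top, Module.finrank_fintype_fun_eq_card, Fintype.card_fin]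
    exact hn
  obtain ⟨t, ht, h⟩ := exists_T_map hF ⊤ (nonDeg_top hF) h3 Submodule.mem_top Submodule.mem_top
    hu0 hw0 huu hww
  obtain ⟨A, hA⟩ := exists_SU_of_inTW hF ht
  exact ⟨A, by rw [hA, h]⟩

theorem isoPt_isPretransitive (hF : Fintype.card F = q ^ 2) (hn : 3 ≤ n) :
    IsPretransitive (Cfsg.SU n F q) (IsoPt n F q) := by
  constructor
  intro p p'
  induction p using IsoPt.ind with | _ u hu0 huu =>
  induction p' using IsoPt.ind with | _ w hw0 hww =>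
  obtain ⟨A, hA⟩ := exists_SU_map hF hn hu0 hw0 huu hww
  refine ⟨A, ?_⟩
  rw [IsoPt.smul_mk]
  simp only [hA]

/-- Claim 1 -/
theorem isoPt_block_claim1 (hF : Fintype.card F = q ^ 2) {B : Set (IsoPt n F q)}
    (hB : IsBlock (Cfsg.SU n F q) B) {u v w : Fin n → F} (hu0 : u ≠ 0) (hv0 : v ≠ 0)
    (hw0 : w ≠ 0) (huu : ⟪u, u⟫ = 0) (hvv : ⟪v, v⟫ = 0) (hww : ⟪w, w⟫ = 0)
    (huB : IsoPt.mk u hu0 huu ∈ B) (hvB : IsoPt.mk v hv0 hvv ∈ B)
    (huv : ⟪u, v⟫ ≠ 0) (huw : ⟪u, w⟫ ≠ 0) : IsoPt.mk w hw0 hww ∈ B := by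
  have hvu : ⟪v, u⟫ ≠ 0 := hermForm_ne_zero_symm hF huv
  have hwu : ⟪w, u⟫ ≠ 0 := hermForm_ne_zero_symm hF huw
  set a := (⟪v, u⟫)⁻¹ with ha
  set b := (⟪w, u⟫)⁻¹ with hb
  have ha0 : a ≠ 0 := inv_ne_zero hvu
  have hb0 : b ≠ 0 := inv_ne_zero hwu
  have h1 : ⟪a • v, u⟫ = 1 := by rw [hermForm_smul_left, ha, inv_mul_cancel₀ hvu]
  have h2 : ⟪b • w, u⟫ = 1 := by rw [hermForm_smul_left, hb, inv_mul_cancel₀ hwu]
  have h3 : ⟪a • v, a • v⟫ = 0 := by
    rw [hermForm_smul_left, hermForm_smul_right, hvv, mul_zero, mul_zero]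
  have h4 : ⟪b • w, b • w⟫ = 0 := by
    rw [hermForm_smul_left, hermForm_smul_right, hww, mul_zero, mul_zero]
  obtain ⟨A, hAu, hAv⟩ := exists_SU_fix_map hF huu h3 h4 h1 h2
  have hAB : A • B = B := by
    apply hB.smul_eq_of_mem huB
    rw [IsoPt.smul_mk]
    simp only [hAu]
    exact huB
  have h5 : A • IsoPt.mk v hv0 hvv ∈ B := by
    rw [← hAB]
    exact Set.smul_mem_smul_set hvB
  rw [IsoPt.smul_mk] at h5
  convert h5 using 1
  rw [IsoPt.mk_eq_mk_iff]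
  refine ⟨a⁻¹ * b, mul_ne_zero (inv_ne_zero ha0) hb0, ?_⟩
  rw [Matrix.mulVec_smul] at hAv
  have h6 : suMat A *ᵥ v = a⁻¹ • (b • w) := by
    rw [← hAv, smul_smul, inv_mul_cancel₀ ha0, one_smul]
  rw [h6, smul_smul]

/-- a block containing two non-orthogonal points is everything -/
theorem isoPt_block_eq_univ_of_nonorth (hF : Fintype.card F = q ^ 2)
    {B : Set (IsoPt n F q)} (hB : IsBlock (Cfsg.SU n F q) B) {u v : Fin n → F} (hu0 : u ≠ 0)
    (hv0 : v ≠ 0) (huu : ⟪u, u⟫ = 0) (hvv : ⟪v, v⟫ = 0)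
    (huB : IsoPt.mk u hu0 huu ∈ B) (hvB : IsoPt.mk v hv0 hvv ∈ B)
    (huv : ⟪u, v⟫ ≠ 0) : B = Set.univ := by
  rw [Set.eq_univ_iff_forall]
  intro p
  induction p using IsoPt.ind with | _ w hw0 hww =>
  by_cases huw : ⟪u, w⟫ = 0
  · obtain ⟨x, -, hxx, hux, hxw⟩ := exists_isotropic_nonorth hF ⊤ (nonDeg_top hF)
      Submodule.mem_top Submodule.mem_top hu0 hw0 huu huw
    have hx0 : x ≠ 0 := by
      rintro rfl
      exact hxw (hermForm_zero_left _)
    have hxB := isoPt_block_claim1 hF hB hu0 hv0 hx0 huu hvv hxx huB hvB huv hux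
    exact isoPt_block_claim1 hF hB hx0 hu0 hw0 hxx huu hww hxB huB
      (hermForm_ne_zero_symm hF hux) hxw
  · exact isoPt_block_claim1 hF hB hu0 hv0 hw0 huu hvv hww huB hvB huv huw

/-- an isotropic vector orthogonal to `u` but not to `v` -/
theorem exists_isotropic_orth_sep (hF : Fintype.card F = q ^ 2) {u v : Fin n → F}
    (hu0 : u ≠ 0) (huu : ⟪u, u⟫ = 0) (hvv : ⟪v, v⟫ = 0) (huv : ⟪u, v⟫ = 0)
    (hne : ∀ a : F, v ≠ a • u) : ∃ z, ⟪z, z⟫ = 0 ∧ ⟪z, u⟫ = 0 ∧ ⟪v, z⟫ ≠ 0 := by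
  have hq := two_le_of_card_eq_sq hF
  have hvu : ⟪v, u⟫ = 0 := hermForm_eq_zero_symm hF huv
  obtain ⟨x, hxu, hvx⟩ : ∃ x, ⟪x, u⟫ = 0 ∧ ⟪v, x⟫ ≠ 0 := by
    by_contra hcon
    push Not at hcon
    obtain ⟨x₁, -, -, hux₁⟩ := exists_hyperbolic_partner_in hF ⊤ (nonDeg_top hF)
      (Submodule.mem_top (x := u)) hu0 huu
    have hx₁u : ⟪x₁, u⟫ = 1 := by rw [← hermForm_conj hF, hux₁, one_pow]
    apply hne (⟪v, x₁⟫)
    rw [← sub_eq_zero]
    apply eq_zero_of_hermForm_eq_zero hF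
    intro y
    have h1 := hcon (y - ⟪y, u⟫ • x₁) (by
      rw [hermForm_sub_left, hermForm_smul_left, hx₁u, mul_one, sub_self])
    rw [hermForm_sub_right hF, hermForm_smul_right, hermForm_conj hF] at h1
    rw [hermForm_sub_left, hermForm_smul_left]
    linear_combination h1
  have hxv : ⟪x, v⟫ ≠ 0 := hermForm_ne_zero_symm hF hvx
  have hfix : (-⟪x, x⟫) ^ q = -⟪x, x⟫ := by rw [frob_neg' hF, hermForm_self_fixed hF]
  have hcard := card_trace_fiber hF hxv hfix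
  have hne' : Nonempty {t : F // t ^ q * ⟪x, v⟫ + t * ⟪x, v⟫ ^ q = -⟪x, x⟫} := by
    apply (Nat.card_pos_iff.mp _).1
    rw [hcard]; omega
  obtain ⟨γ, hγ⟩ := hne'
  refine ⟨x + γ • v, ?_, ?_, ?_⟩
  · rw [hermForm_add_smul_self hF v x hvv, hγ]
    ring
  · rw [hermForm_add_left, hermForm_smul_left, hxu, hvu, mul_zero, add_zero]
  · rw [hermForm_add_right hF, hermForm_smul_right, hvv, mul_zero, add_zero]
    exact hvx

/-- `SU_n(q)`, `n ≥ 3`, is primitive on the isotropic points -/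
theorem isoPt_isPreprimitive (hF : Fintype.card F = q ^ 2) (hn : 3 ≤ n) :
    IsPreprimitive (Cfsg.SU n F q) (IsoPt n F q) := by
  have := isoPt_isPretransitive hF hn
  refine { isTrivialBlock_of_isBlock := ?_ }
  intro B hB
  by_cases hsub : B.Subsingleton
  · exact Or.inl hsub
  right
  rw [Set.not_subsingleton_iff] at hsub
  obtain ⟨p, hp, p', hp', hne⟩ := hsub
  induction p using IsoPt.ind with | _ u hu0 huu =>
  induction p' using IsoPt.ind with | _ v hv0 hvv =>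
  by_cases huv : ⟪u, v⟫ = 0
  · have hvu : ∀ a : F, v ≠ a • u := by
      intro a hva
      apply hne
      have ha : a ≠ 0 := by
        rintro rfl
        rw [zero_smul] at hva
        exact hv0 hva
      rw [IsoPt.mk_eq_mk_iff]
      exact ⟨a, ha, hva⟩
    obtain ⟨z, hzz, hzu, hvz⟩ := exists_isotropic_orth_sep hF hu0 huu hvv huv hvu
    obtain ⟨δ, hδ0, hδ⟩ := Cfsg.Agent.Helper5.exists_trace_zero hF (F := F)
    have hδ1 : δ + δ ^ q = 0 := by rw [hδ]; ring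
    set A := tvElt hF z δ hzz hδ1 with hA
    have huz : ⟪u, z⟫ = 0 := hermForm_eq_zero_symm hF hzu
    have hAu : suMat A *ᵥ u = u := by
      rw [hA, suMat_tvElt, unitaryTransvection_mulVec, huz, mul_zero, zero_smul, add_zero]
    have hAv : suMat A *ᵥ v = v + (δ * ⟪v, z⟫) • z := by
      rw [hA, suMat_tvElt, unitaryTransvection_mulVec]
    have hAB : A • B = B := by
      apply hB.smul_eq_of_mem hp
      rw [IsoPt.smul_mk]
      simp only [hAu]
      exact hp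
    have hAvB : A • IsoPt.mk v hv0 hvv ∈ B := by
      rw [← hAB]
      exact Set.smul_mem_smul_set hp'
    rw [IsoPt.smul_mk] at hAvB
    refine isoPt_block_eq_univ_of_nonorth hF hB hv0 _ hvv _ hp' hAvB ?_
    rw [hAv, hermForm_add_right hF, hvv, zero_add, hermForm_smul_right]
    exact mul_ne_zero (pow_ne_zero q (mul_ne_zero hδ0 hvz)) hvz
  · exact isoPt_block_eq_univ_of_nonorth hF hB hu0 hv0 huu hvv hp hp' huv

end Cfsg.Agent.Helper13
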