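import Cfsg.Agent.Helper13.UIwa2
import Cfsg.Agent.S0781

set_option autoImplicit false

namespace Cfsg.Agent.Helper13

open Matrix MulAction
open scoped Pointwise

variable {F : Type*} [Field F] [Fintype F] {q n : ℕ}

local notation "⟪" x ", " y "⟫" => Cfsg.hermForm n F q x y

omit [Fintype F] in
theorem unitaryTransvection_smul (v : Fin n → F) (a c : F) :
    Cfsg.unitaryTransvection n q (a • v) c = Cfsg.unitaryTransvection n q v (c * a * a ^ q) := by
  apply mat_ext_mulVec
  intro x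
  rw [unitaryTransvection_mulVec, unitaryTransvection_mulVec, hermForm_smul_right]
  module

/-- the root subgroup of an isotropic vector -/
def rootOf (hF : Fintype.card F = q ^ 2) (v : Fin n → F) (hv : ⟪v, v⟫ = 0) :
    Subgroup (Cfsg.SU n F q) where
  carrier := {A | ∃ c : F, c + c ^ q = 0 ∧ suMat A = Cfsg.unitaryTransvection n q v c}
  mul_mem' := by
    rintro A B ⟨c, hc, hA⟩ ⟨d, hd, hB⟩
    refine ⟨c + d, ?_, ?_⟩
    · rw [frob_add hF]
      linear_combination hc + hd
    · rw [suMat_mul, hA, hB, unitaryTransvection_mul v c d hv]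
  one_mem' := by
    have hq := two_le_of_card_eq_sq hF
    exact ⟨0, by rw [zero_pow (by omega), add_zero], by rw [suMat_one, unitaryTransvection_zero]⟩
  inv_mem' := by
    rintro A ⟨c, hc, hA⟩
    have hc' : -c + (-c) ^ q = 0 := by
      rw [frob_neg' hF]
      linear_combination -hc
    refine ⟨-c, hc', ?_⟩
    have h1 : A⁻¹ = tvElt hF v (-c) hv hc' := by
      rw [inv_eq_iff_mul_eq_one]
      apply suMat_injective
      rw [suMat_mul, hA, suMat_tvElt, unitaryTransvection_mul v _ _ hv, add_neg_cancel,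
        unitaryTransvection_zero, suMat_one]
    rw [h1, suMat_tvElt]

theorem mem_rootOf (hF : Fintype.card F = q ^ 2) {v : Fin n → F} (hv : ⟪v, v⟫ = 0)
    {A : Cfsg.SU n F q} :
    A ∈ rootOf hF v hv ↔ ∃ c : F, c + c ^ q = 0 ∧ suMat A = Cfsg.unitaryTransvection n q v c :=
  Iff.rfl

theorem hermForm_smul_self (v : Fin n → F) (a : F) (hv : ⟪v, v⟫ = 0) : ⟪a • v, a • v⟫ = 0 := by
  rw [hermForm_smul_left, hermForm_smul_right, hv, mul_zero, mul_zero]

theorem rootOf_smul (hF : Fintype.card F = q ^ 2) {v : Fin n → F} (hv : ⟪v, v⟫ = 0) {a : F}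
    (ha : a ≠ 0) : rootOf hF (a • v) (hermForm_smul_self v a hv) = rootOf hF v hv := by
  have haq : a ^ q ≠ 0 := pow_ne_zero q ha
  ext A
  rw [mem_rootOf, mem_rootOf]
  constructor
  · rintro ⟨c, hc, hA⟩
    refine ⟨c * a * a ^ q, ?_, by rw [hA, unitaryTransvection_smul]⟩
    rw [mul_pow, mul_pow, frob_frob hF]
    linear_combination (a * a ^ q) * hc
  · rintro ⟨c, hc, hA⟩
    refine ⟨c * (a * a ^ q)⁻¹, ?_, ?_⟩
    · rw [mul_pow, inv_pow, mul_pow, frob_frob hF]
      field_simp
      linear_combination hc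
    · rw [hA, unitaryTransvection_smul]
      congr 1
      field_simp

theorem rootOf_conj (hF : Fintype.card F = q ^ 2) (A : Cfsg.SU n F q) {v : Fin n → F}
    (hv : ⟪v, v⟫ = 0) :
    rootOf hF (suMat A *ᵥ v) (by rw [isU_suMat A, hv]) = MulAut.conj A • rootOf hF v hv := by
  have h1 : suMat A * suMat A⁻¹ = 1 := by rw [← suMat_mul, mul_inv_cancel, suMat_one]
  have h2 : suMat A⁻¹ * suMat A = 1 := by rw [← suMat_mul, inv_mul_cancel, suMat_one]
  ext B
  rw [Subgroup.mem_pointwise_smul_iff_inv_smul_mem]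
  simp only [mem_rootOf, MulAut.smul_def, MulAut.inv_apply, MulAut.conj_symm_apply]
  constructor
  · rintro ⟨c, hc, hB⟩
    refine ⟨c, hc, ?_⟩
    rw [suMat_mul, suMat_mul, hB, ← conj_unitaryTransvection (isU_suMat A) h1]
    calc suMat A⁻¹ * (suMat A * Cfsg.unitaryTransvection n q v c * suMat A⁻¹) * suMat A
        = (suMat A⁻¹ * suMat A) * Cfsg.unitaryTransvection n q v c * (suMat A⁻¹ * suMat A) := by
          simp only [mul_assoc]
      _ = Cfsg.unitaryTransvection n q v c := by rw [h2, one_mul, mul_one]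
  · rintro ⟨c, hc, hB⟩
    refine ⟨c, hc, ?_⟩
    rw [suMat_mul, suMat_mul] at hB
    rw [← conj_unitaryTransvection (isU_suMat A) h1, ← hB]
    calc suMat B = (suMat A * suMat A⁻¹) * suMat B * (suMat A * suMat A⁻¹) := by
          rw [h1, one_mul, mul_one]
      _ = suMat A * (suMat A⁻¹ * suMat B * suMat A) * suMat A⁻¹ := by simp only [mul_assoc]

/-- a generator of an isotropic point -/
noncomputable def IsoPt.rep (p : IsoPt n F q) : Fin n → F := Classical.choose p.2

omit [Fintype F] in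
theorem IsoPt.rep_ne_zero (p : IsoPt n F q) : p.rep ≠ 0 := (Classical.choose_spec p.2).1

omit [Fintype F] in
theorem IsoPt.rep_isotropic (p : IsoPt n F q) : ⟪p.rep, p.rep⟫ = 0 :=
  (Classical.choose_spec p.2).2.1

omit [Fintype F] in
theorem IsoPt.mk_rep (p : IsoPt n F q) : IsoPt.mk p.rep p.rep_ne_zero p.rep_isotropic = p :=
  Subtype.ext (Classical.choose_spec p.2).2.2.symm

theorem rootOf_rep_mk (hF : Fintype.card F = q ^ 2) {v : Fin n → F} (hv0 : v ≠ 0)
    (hv : ⟪v, v⟫ = 0) :
    rootOf hF (IsoPt.mk v hv0 hv).rep (IsoPt.rep_isotropic _) = rootOf hF v hv := by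
  have h := IsoPt.mk_rep (IsoPt.mk v hv0 hv)
  rw [IsoPt.mk_eq_mk_iff] at h
  obtain ⟨a, ha, hva⟩ := h
  have h1 := rootOf_smul hF (IsoPt.rep_isotropic (IsoPt.mk v hv0 hv)) ha
  rw [← h1]
  congr 1
  exact hva.symm

theorem trace_zero_of_isU_tv (hF : Fintype.card F = q ^ 2) {v : Fin n → F} (hv0 : v ≠ 0)
    (hv : ⟪v, v⟫ = 0) {c : F} (h : IsU q (Cfsg.unitaryTransvection n q v c)) :
    c + c ^ q = 0 := by
  obtain ⟨x, hx⟩ : ∃ x, ⟪v, x⟫ ≠ 0 := by
    by_contra hcon
    push Not at hcon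
    exact hv0 (eq_zero_of_hermForm_eq_zero hF v hcon)
  have hx' : ⟪x, v⟫ ≠ 0 := hermForm_ne_zero_symm hF hx
  have h1 := h x x
  rw [hermForm_unitaryTransvection hF v hv] at h1
  have h2 : (c ^ q + c) * (⟪x, v⟫ * ⟪v, x⟫) = 0 := by linear_combination h1
  rcases mul_eq_zero.mp h2 with h3 | h3
  · linear_combination h3
  · exact absurd h3 (mul_ne_zero hx' hx)

/-- the Iwasawa structure of `SU_n(q)` on the isotropic points -/
noncomputable def suIwasawa (hF : Fintype.card F = q ^ 2) (h32 : ¬ (n = 3 ∧ q = 2)) :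
    IwasawaStructure (Cfsg.SU n F q) (IsoPt n F q) where
  T p := rootOf hF p.rep p.rep_isotropic
  is_comm p := by
    refine ⟨⟨?_⟩⟩
    rintro ⟨A, c, hc, hA⟩ ⟨B, d, hd, hB⟩
    apply Subtype.ext
    apply suMat_injective
    change suMat A * suMat B = suMat B * suMat A
    rw [hA, hB, unitaryTransvection_mul _ _ _ p.rep_isotropic,
      unitaryTransvection_mul _ _ _ p.rep_isotropic, add_comm]
  is_conj g p := by
    induction p using IsoPt.ind with | _ v hv0 hv =>
    rw [IsoPt.smul_mk, rootOf_rep_mk hF, rootOf_rep_mk hF, rootOf_conj hF]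
  is_generator := by
    rw [eq_top_iff, ← closure_tvSet_eq_top hF h32, Subgroup.closure_le]
    rintro A ⟨v, c, hv, hA⟩
    by_cases hv0 : v = 0
    · have : A = 1 := by
        apply suMat_injective
        change suMat A = 1
        rw [show suMat A = Cfsg.unitaryTransvection n q v c from hA, hv0]
        apply mat_ext_mulVec
        intro x
        rw [unitaryTransvection_mulVec, smul_zero, add_zero, Matrix.one_mulVec]
      rw [this]
      exact one_mem _
    · apply Subgroup.mem_iSup_of_mem (IsoPt.mk v hv0 hv)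
      rw [rootOf_rep_mk hF]
      have hU := isU_suMat A
      rw [show suMat A = Cfsg.unitaryTransvection n q v c from hA] at hU
      exact ⟨c, trace_zero_of_isU_tv hF hv0 hv hU, hA⟩

/-- `SU_n(q)` is perfect -/
theorem commutator_SU_eq_top (hF : Fintype.card F = q ^ 2) (hn : 3 ≤ n)
    (h32 : ¬ (n = 3 ∧ q = 2)) : commutator (Cfsg.SU n F q) = ⊤ := by
  have hq := two_le_of_card_eq_sq hF
  have hn' : 4 ≤ n ∨ (n = 3 ∧ 3 ≤ q) := by
    by_cases h4 : 4 ≤ n
    · exact Or.inl h4
    · right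
      have h3 : n = 3 := by omega
      refine ⟨h3, ?_⟩
      by_contra h
      exact h32 ⟨h3, by omega⟩
  rw [eq_top_iff, ← closure_tvSet_eq_top hF h32, commutator_eq_closure]
  apply Subgroup.closure_mono
  rintro A ⟨v, c, hv, hA⟩
  exact Cfsg.Agent.S0781.result hF n hn' A v c hv hA

end Cfsg.Agent.Helper13
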