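import Cfsg.Agent.Helper13.UMax1

set_option autoImplicit false

namespace Cfsg.Agent.Helper13

open Matrix Cfsg.Agent.S0837

variable {F : Type*} [Field F] [Fintype F] {q n : ℕ}

local notation "⟪" x ", " y "⟫" => Cfsg.hermForm n F q x y
local notation "Matn" => Matrix (Fin n) (Fin n) F

/-- a subgroup containing all the unitary transvections contains `SU` -/
theorem suGL_le_of_tv (hF : Fintype.card F = q ^ 2) (h32 : ¬ (n = 3 ∧ q = 2))
    (M : Subgroup (GL (Fin n) F))
    (h : ∀ v : Fin n → F, ⟪v, v⟫ = 0 → v ∈ utvVecs q M) :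
    Cfsg.GU n F q ⊓ Cfsg.Geo.specialLinear (Fin n) F ≤ M := by
  have key : ∀ N : Matn, InTW q ⊤ N → ∀ g : GL (Fin n) F, (g : Matn) = N → g ∈ M := by
    intro N hN
    induction hN with
    | one =>
      intro g hg
      have : g = 1 := Units.ext hg
      rw [this]
      exact M.one_mem
    | tv_mul v c N' _ hv hc _ ih =>
      intro g hg
      have ht : glOfDetOne (Cfsg.unitaryTransvection n q v c) (det_unitaryTransvection v c hv) ∈ M :=
        (h v hv).2 c hc _ rfl
      have hc' : -c + (-c) ^ q = 0 := by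
        rw [frob_neg' hF]
        linear_combination -hc
      have h1 : (((glOfDetOne (Cfsg.unitaryTransvection n q v c)
          (det_unitaryTransvection v c hv))⁻¹ * g : GL (Fin n) F) : Matn) = N' := by
        have h2 : ((glOfDetOne (Cfsg.unitaryTransvection n q v c)
            (det_unitaryTransvection v c hv))⁻¹ : GL (Fin n) F) =
            glOfDetOne (Cfsg.unitaryTransvection n q v (-c)) (det_unitaryTransvection v (-c) hv) := by
          rw [inv_eq_iff_mul_eq_one]
          apply Units.ext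
          rw [Units.val_mul, glOfDetOne_coe, glOfDetOne_coe, unitaryTransvection_mul v _ _ hv,
            add_neg_cancel, unitaryTransvection_zero, Units.val_one]
        rw [h2, Units.val_mul, glOfDetOne_coe, hg, ← mul_assoc, unitaryTransvection_mul v _ _ hv,
          neg_add_cancel, unitaryTransvection_zero, one_mul]
      have h3 := ih _ h1
      have h4 : g = glOfDetOne (Cfsg.unitaryTransvection n q v c)
          (det_unitaryTransvection v c hv) * ((glOfDetOne (Cfsg.unitaryTransvection n q v c)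
          (det_unitaryTransvection v c hv))⁻¹ * g) := by
        rw [mul_inv_cancel_left]
      rw [h4]
      exact M.mul_mem ht h3
  intro g hg
  have hgU : IsU q (g : Matn) := (mem_GU_iff g).mp hg.1
  have hgd : (g : Matn).det = 1 := (mem_specialLinear_iff g).mp hg.2
  have hfix : FixPerp q (⊤ : Submodule F (Fin n → F)) (g : Matn) := by
    intro x hx
    have : x = 0 := eq_zero_of_hermForm_eq_zero hF x (fun y => hx y Submodule.mem_top)
    rw [this, Matrix.mulVec_zero]
  have h1 := inTW_of_SU hF h32 _ ⊤ rfl (nonDeg_top hF) (g : Matn) hgU hgd hfix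
    (fun _ _ => Submodule.mem_top)
  exact key _ h1 g rfl

/-- the stabiliser of a totally isotropic subspace is maximal in `SU_n(q)` -/
theorem su_ti_stab_isMaximalIn (hF : Fintype.card F = q ^ 2) (h32 : ¬ (n = 3 ∧ q = 2))
    (W : Submodule F (Fin n → F)) (hW0 : W ≠ ⊥)
    (hW : Cfsg.Geo.IsTotallySingularFor (Cfsg.hermForm n F q) W) :
    Cfsg.Geo.IsMaximalIn (Cfsg.GU n F q ⊓ Cfsg.Geo.specialLinear (Fin n) F)
      (Cfsg.Geo.subspaceStabilizer W ⊓
        (Cfsg.GU n F q ⊓ Cfsg.Geo.specialLinear (Fin n) F)) := by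
  have hq := two_le_of_card_eq_sq hF
  obtain ⟨w₁, hw₁, hw₁0⟩ := (Submodule.ne_bot_iff W).mp hW0
  have hWperp : W ≤ perpSub q W := fun x hx y hy => hW x hx y hy
  refine ⟨lt_of_le_of_ne inf_le_right ?_, ?_⟩
  · -- properness
    intro heq
    obtain ⟨x, -, hxx, hw₁x⟩ := exists_hyperbolic_partner_in hF ⊤ (nonDeg_top hF)
      (Submodule.mem_top (x := w₁)) hw₁0 (hW w₁ hw₁ w₁ hw₁)
    obtain ⟨δ, hδ0, hδ⟩ := Cfsg.Agent.Helper5.exists_trace_zero hF (F := F)
    have hδ' : δ + δ ^ q = 0 := by rw [hδ]; ring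
    have h1 : glOfDetOne (Cfsg.unitaryTransvection n q x δ) (det_unitaryTransvection x δ hxx) ∈
        Cfsg.Geo.subspaceStabilizer W ⊓
          (Cfsg.GU n F q ⊓ Cfsg.Geo.specialLinear (Fin n) F) := by
      rw [heq]
      refine ⟨?_, ?_⟩
      · exact (mem_GU_iff _).mpr (by
          rw [glOfDetOne_coe]; exact isU_unitaryTransvection hF x δ hxx hδ')
      · exact (mem_specialLinear_iff _).mpr (by
          rw [glOfDetOne_coe]; exact det_unitaryTransvection x δ hxx)
    have h2 := ((mem_subspaceStabilizer_iff' W _).mp h1.1 w₁).mp hw₁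
    rw [glOfDetOne_coe, unitaryTransvection_mulVec, hw₁x, mul_one] at h2
    have h3 : δ • x ∈ W := by
      have := W.sub_mem h2 hw₁
      rwa [add_sub_cancel_left] at this
    have h4 : x ∈ W := by
      have := W.smul_mem δ⁻¹ h3
      rwa [smul_smul, inv_mul_cancel₀ hδ0, one_smul] at this
    have := hW w₁ hw₁ x h4
    rw [hw₁x] at this
    exact one_ne_zero this
  · intro M hPM hMG
    by_cases hMP : M = Cfsg.Geo.subspaceStabilizer W ⊓
        (Cfsg.GU n F q ⊓ Cfsg.Geo.specialLinear (Fin n) F)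
    · exact Or.inl hMP
    right
    have hMGU : M ≤ Cfsg.GU n F q := hMG.trans inf_le_left
    obtain ⟨h, hhM, hhP⟩ : ∃ h ∈ M, h ∉ Cfsg.Geo.subspaceStabilizer W ⊓
        (Cfsg.GU n F q ⊓ Cfsg.Geo.specialLinear (Fin n) F) := by
      by_contra hcon
      push Not at hcon
      exact hMP (le_antisymm hcon hPM)
    have hhS : h ∉ Cfsg.Geo.subspaceStabilizer W := fun h1 => hhP ⟨h1, hMG hhM⟩
    have hhU : IsU q (h : Matn) := (mem_GU_iff h).mp (hMGU hhM)
    -- isotropic vectors of `W^⊥`
    have hSWp : ∀ v ∈ perpSub q W, ⟪v, v⟫ = 0 → v ∈ utvVecs q M := by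
      intro v hv hvv
      refine ⟨hvv, ?_⟩
      intro c hc g hg
      apply hPM
      refine ⟨?_, ?_, ?_⟩
      · apply mem_subspaceStabilizer_of_maps_into'
        intro x hx
        rw [hg, unitaryTransvection_mulVec, hermForm_eq_zero_symm hF (hv x hx), mul_zero,
          zero_smul, add_zero]
        exact hx
      · exact (mem_GU_iff _).mpr (by rw [hg]; exact isU_unitaryTransvection hF v c hvv hc)
      · exact (mem_specialLinear_iff _).mpr (by rw [hg]; exact det_unitaryTransvection v c hvv)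
    have hSW : ∀ v ∈ W, v ∈ utvVecs q M := fun v hv => hSWp v (hWperp hv) (hW v hv v hv)
    -- some vector of `utvVecs` lies outside `W^⊥`
    obtain ⟨x₀, hx₀S, hx₀⟩ : ∃ x₀ ∈ utvVecs q M, x₀ ∉ perpSub q W := by
      by_contra hcon
      push Not at hcon
      obtain ⟨x, hx, hhx⟩ : ∃ x ∈ W, (h : Matn) *ᵥ x ∉ W := by
        by_contra hc2
        push Not at hc2
        exact hhS (mem_subspaceStabilizer_of_maps_into' W h hc2)
      have huS : (h : Matn) *ᵥ x ∈ utvVecs q M := utvVecs_map hMGU hhM (hSW x hx)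
      have huP := hcon _ huS
      have huW : (h : Matn) *ᵥ x ∉ perpSub q (perpSub q W) := by
        rw [perpSub_perpSub hF]; exact hhx
      rw [mem_perpSub] at huW
      push Not at huW
      obtain ⟨y, hy, huy⟩ := huW
      set u := (h : Matn) *ᵥ x with hu
      have hyyq : (-⟪y, y⟫) ^ q = -⟪y, y⟫ := by rw [frob_neg' hF, hermForm_conj hF]
      obtain ⟨t, ht⟩ := exists_trace_eq_of_fixed hF hyyq
      obtain ⟨l, hlu⟩ : ∃ l : F, l * ⟪u, y⟫ = t :=
        ⟨t * (⟪u, y⟫)⁻¹, by rw [mul_assoc, inv_mul_cancel₀ huy, mul_one]⟩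
      have hy'P : y + l • u ∈ perpSub q W := (perpSub q W).add_mem hy ((perpSub q W).smul_mem _ huP)
      have hy'y' : ⟪y + l • u, y + l • u⟫ = 0 := by
        have h1 : (l * ⟪u, y⟫) ^ q = l ^ q * ⟪y, u⟫ := by rw [mul_pow, hermForm_conj hF]
        simp only [hermForm_add_left, hermForm_add_right hF, hermForm_smul_left,
          hermForm_smul_right, huS.1, mul_zero, add_zero]
        rw [hlu] at h1
        linear_combination ht - h1 + hlu
      have huy' : ⟪u, y + l • u⟫ ≠ 0 := by
        rw [hermForm_add_right hF, hermForm_smul_right, huS.1, mul_zero, add_zero]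
        exact huy
      have hy'S := hSWp _ hy'P hy'y'
      have h3 := hcon _ (utvVecs_map hMGU (M.inv_mem hhM) hy'S)
      have h4 := h3 x hx
      rw [← hhU, glU_mulVec_inv] at h4
      exact huy' (hermForm_eq_zero_symm hF h4)
    rw [mem_perpSub] at hx₀
    push Not at hx₀
    obtain ⟨w₀, hw₀, hx₀w₀⟩ := hx₀
    -- the Eichler move
    have hmove : ∀ x ∈ utvVecs q M, ∀ w ∈ W, ⟪x, w⟫ ≠ 0 → ∀ z : Fin n → F, ⟪z, z⟫ = 0 →
        ⟪z, w⟫ ≠ 0 → z ∈ utvVecs q M := by
      intro x hxS w hw hxw z hzz hzw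
      set α := ⟪x, w⟫ with hα
      set z' := (α * (⟪z, w⟫)⁻¹) • z with hz'
      have hz'w : ⟪z', w⟫ = α := by
        rw [hz', hermForm_smul_left, mul_assoc, inv_mul_cancel₀ hzw, mul_one]
      have hz'z' : ⟪z', z'⟫ = 0 := by
        rw [hz', hermForm_smul_left, hermForm_smul_right, hzz, mul_zero, mul_zero]
      suffices hsuff : z' ∈ utvVecs q M by
        have h1 := utvVecs_smul hF hsuff (α * (⟪z, w⟫)⁻¹)⁻¹
        rwa [hz', smul_smul, inv_mul_cancel₀ (mul_ne_zero hxw (inv_ne_zero hzw)), one_smul] at h1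
      set y := α⁻¹ • (z' - x) with hy
      have hww : ⟪w, w⟫ = 0 := hW w hw w hw
      have hyw : ⟪y, w⟫ = 0 := by
        rw [hy, hermForm_smul_left, hermForm_sub_left, hz'w, ← hα, sub_self, mul_zero]
      have hz'eq : z' = x + α • y := by
        rw [hy, smul_smul, mul_inv_cancel₀ hxw, one_smul]; abel
      set c := ⟪x, y⟫ * α⁻¹ with hc
      have hcc : c + c ^ q + ⟪y, y⟫ = 0 := by
        have h1 := hz'z'
        rw [hz'eq] at h1
        simp only [hermForm_add_left, hermForm_add_right hF, hermForm_smul_left,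
          hermForm_smul_right, hxS.1, zero_add] at h1
        have h2 : ⟪x, y⟫ ^ q = ⟪y, x⟫ := hermForm_conj hF x y
        have hαq : α ^ q ≠ 0 := pow_ne_zero _ hxw
        have h3 : (α * α ^ q) * (c + c ^ q + ⟪y, y⟫) = 0 := by
          rw [hc, mul_pow, h2, inv_pow]
          field_simp
          linear_combination h1
        rcases mul_eq_zero.mp h3 with h4 | h4
        · exact absurd h4 (mul_ne_zero hxw hαq)
        · exact h4
      have hEU : IsU q (eichler q w y c) := isU_eichler hF hww hyw hcc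
      have hEd : (eichler q w y c).det = 1 := det_eichler hF c hww hyw
      have hEP : glOfDetOne (eichler q w y c) hEd ∈ M := by
        apply hPM
        refine ⟨?_, ?_, ?_⟩
        · apply mem_subspaceStabilizer_of_maps_into'
          intro v hv
          rw [glOfDetOne_coe, eichler_mulVec, hW v hv w hw, zero_smul, add_zero, mul_zero,
            zero_smul, add_zero]
          exact W.sub_mem hv (W.smul_mem _ hw)
        · exact (mem_GU_iff _).mpr (by rw [glOfDetOne_coe]; exact hEU)
        · exact (mem_specialLinear_iff _).mpr (by rw [glOfDetOne_coe]; exact hEd)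
      have h5 := utvVecs_map hMGU hEP hxS
      rw [glOfDetOne_coe, eichler_mulVec, ← hα] at h5
      have h6 : x + α • y - ⟪x, y⟫ • w + (c * α) • w = z' := by
        rw [hz'eq, hc, mul_assoc, inv_mul_cancel₀ hxw, mul_one]; abel
      rwa [h6] at h5
    apply le_antisymm hMG
    apply suGL_le_of_tv hF h32
    intro z hzz
    by_cases hzP : z ∈ perpSub q W
    · exact hSWp z hzP hzz
    rw [mem_perpSub] at hzP
    push Not at hzP
    obtain ⟨w₁', hw₁', hzw₁'⟩ := hzP
    by_cases h1 : ⟪z, w₀⟫ = 0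
    · by_cases h2 : ⟪x₀, w₁'⟫ = 0
      · apply hmove x₀ hx₀S (w₀ + w₁') (W.add_mem hw₀ hw₁') _ z hzz
        · rw [hermForm_add_right hF, h1, zero_add]; exact hzw₁'
        · rw [hermForm_add_right hF, h2, add_zero]; exact hx₀w₀
      · exact hmove x₀ hx₀S w₁' hw₁' h2 z hzz hzw₁'
    · exact hmove x₀ hx₀S w₀ hw₀ hx₀w₀ z hzz h1

end Cfsg.Agent.Helper13
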