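import Cfsg.Agent.Helper13.UMax2

set_option autoImplicit false

namespace Cfsg.Agent.Helper13

open Matrix Cfsg.Agent.S0837

variable {F : Type*} [Field F] [Fintype F] {q n : ℕ}

local notation "⟪" x ", " y "⟫" => Cfsg.hermForm n F q x y
local notation "Matn" => Matrix (Fin n) (Fin n) F

/-! ### non-degenerate subspaces and their complements -/

omit [Fintype F] in
theorem nonDeg_of_isNondegenerateOn {W : Submodule F (Fin n → F)}
    (hW : Cfsg.Geo.IsNondegenerateOn (Cfsg.hermForm n F q) W) : NonDeg q W := by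
  intro x hx hxy
  by_contra hx0
  obtain ⟨y, hy, hxy'⟩ := (hW x hx hx0).2
  exact hxy' (hxy y hy)

omit [Fintype F] in
theorem inf_perpSub_eq_bot {A : Submodule F (Fin n → F)} (hA : NonDeg q A) :
    A ⊓ perpSub q A = ⊥ := by
  rw [eq_bot_iff]
  intro x hx
  rw [Submodule.mem_bot]
  exact hA x hx.1 (fun y hy => hx.2 y hy)

theorem sup_perpSub_eq_top (hF : Fintype.card F = q ^ 2) {A : Submodule F (Fin n → F)}
    (hA : NonDeg q A) : A ⊔ perpSub q A = ⊤ := by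
  apply Submodule.eq_top_of_finrank_eq
  have h1 := Submodule.finrank_sup_add_finrank_inf_eq A (perpSub q A)
  rw [inf_perpSub_eq_bot hA, finrank_bot, add_zero] at h1
  rw [h1, Module.finrank_fintype_fun_eq_card, Fintype.card_fin]
  have := finrank_perpSub hF A
  omega

theorem exists_perp_decomp (hF : Fintype.card F = q ^ 2) {A : Submodule F (Fin n → F)}
    (hA : NonDeg q A) (x : Fin n → F) : ∃ a ∈ A, ∃ a' ∈ perpSub q A, x = a + a' := by
  have hx : x ∈ A ⊔ perpSub q A := by rw [sup_perpSub_eq_top hF hA]; exact Submodule.mem_top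
  obtain ⟨a, ha, a', ha', rfl⟩ := Submodule.mem_sup.mp hx
  exact ⟨a, ha, a', ha', rfl⟩

theorem nonDeg_perpSub (hF : Fintype.card F = q ^ 2) {A : Submodule F (Fin n → F)}
    (hA : NonDeg q A) : NonDeg q (perpSub q A) := by
  intro x hx hxy
  apply eq_zero_of_hermForm_eq_zero hF x
  intro y
  obtain ⟨a, ha, a', ha', rfl⟩ := exists_perp_decomp hF hA y
  rw [hermForm_add_right hF, hx a ha, hxy a' ha', add_zero]

omit [Fintype F] in
theorem perpSub_anti {A B : Submodule F (Fin n → F)} (h : A ≤ B) : perpSub q B ≤ perpSub q A :=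
  fun _ hx y hy => hx y (h hy)

theorem nonDeg_sup_span (hF : Fintype.card F = q ^ 2) {A : Submodule F (Fin n → F)}
    (hA : NonDeg q A) {e : Fin n → F} (he : e ∈ perpSub q A) (hee : ⟪e, e⟫ ≠ 0) :
    NonDeg q (A ⊔ Submodule.span F {e}) := by
  intro x hx hxy
  obtain ⟨a, ha, b, hb, rfl⟩ := Submodule.mem_sup.mp hx
  obtain ⟨μ, rfl⟩ := Submodule.mem_span_singleton.mp hb
  have h1 := hxy e (Submodule.mem_sup_right (Submodule.mem_span_singleton_self e))
  rw [hermForm_add_left, hermForm_smul_left, hermForm_eq_zero_symm hF (he a ha), zero_add] at h1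
  have hμ : μ = 0 := by
    rcases mul_eq_zero.mp h1 with h | h
    · exact h
    · exact absurd h hee
  subst hμ
  rw [zero_smul, add_zero] at hxy ⊢
  apply hA a ha
  intro y hy
  exact hxy y (Submodule.mem_sup_left hy)

theorem finrank_le_hypCompl_add_two (hF : Fintype.card F = q ^ 2) (W : Submodule F (Fin n → F))
    {u u' : Fin n → F} (hu : u ∈ W) (hu' : u' ∈ W) (huu : ⟪u, u⟫ = 0) (hu'u' : ⟪u', u'⟫ = 0)
    (huu' : ⟪u, u'⟫ = 1) :
    Module.finrank F W ≤ Module.finrank F (hypCompl q W u u') + 2 := by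
  classical
  have hle : W ≤ hypCompl q W u u' ⊔
      Submodule.span F (({u, u'} : Finset (Fin n → F)) : Set (Fin n → F)) := by
    intro x hx
    have h0 := hypProj_mem hF W hu hu' huu hu'u' huu' hx
    rw [hypProj_decomp (q := q) u u' x, add_comm]
    apply Submodule.add_mem_sup h0
    apply Submodule.add_mem
    · exact Submodule.smul_mem _ _ (Submodule.subset_span (by simp))
    · exact Submodule.smul_mem _ _ (Submodule.subset_span (by simp))
  have h4 := Submodule.finrank_mono hle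
  have h5 : Module.finrank F
      (Submodule.span F (({u, u'} : Finset (Fin n → F)) : Set (Fin n → F))) ≤ _ :=
    finrank_span_finset_le_card (R := F) ({u, u'} : Finset (Fin n → F))
  have h6 : ({u, u'} : Finset (Fin n → F)).card ≤ 2 := Finset.card_le_two
  have h7 := Submodule.finrank_add_le_finrank_add_finrank (hypCompl q W u u')
    (Submodule.span F (({u, u'} : Finset (Fin n → F)) : Set (Fin n → F)))
  omega

/-- a non-degenerate subspace of dimension at least two has a non-zero isotropic vector -/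
theorem exists_isotropic_in (hF : Fintype.card F = q ^ 2) {A : Submodule F (Fin n → F)}
    (hA : NonDeg q A) (h2 : 2 ≤ Module.finrank F A) : ∃ s ∈ A, s ≠ 0 ∧ ⟪s, s⟫ = 0 := by
  have hAbot : A ≠ ⊥ := by
    intro h
    rw [h, finrank_bot] at h2
    omega
  obtain ⟨x, hx, hx0⟩ := (Submodule.ne_bot_iff A).mp hAbot
  obtain ⟨a, ha, haa⟩ := exists_anisotropic hF A hA hx hx0
  have ha0 : a ≠ 0 := by
    rintro rfl
    exact haa (hermForm_zero_left _)
  have hlt : Submodule.span F {a} < A := by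
    refine lt_of_le_of_ne ((Submodule.span_singleton_le_iff_mem a A).mpr ha) ?_
    intro h
    have h3 : Module.finrank F (Submodule.span F {a}) = 1 := finrank_span_singleton ha0
    rw [h] at h3
    omega
  obtain ⟨a₂, ha₂, ha₂n⟩ := SetLike.exists_of_lt hlt
  obtain ⟨b, hb⟩ : ∃ b, b = a₂ - (⟪a₂, a⟫ * (⟪a, a⟫)⁻¹) • a := ⟨_, rfl⟩
  have hbA : b ∈ A := by rw [hb]; exact A.sub_mem ha₂ (A.smul_mem _ ha)
  have hba : ⟪b, a⟫ = 0 := by
    rw [hb, hermForm_sub_left, hermForm_smul_left, mul_assoc, inv_mul_cancel₀ haa, mul_one,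
      sub_self]
  have hb0 : b ≠ 0 := by
    intro h0
    apply ha₂n
    rw [hb, sub_eq_zero] at h0
    rw [h0]
    exact Submodule.smul_mem _ _ (Submodule.mem_span_singleton_self a)
  by_cases hbb : ⟪b, b⟫ = 0
  · exact ⟨b, hbA, hb0, hbb⟩
  · have hfix : (-⟪a, a⟫ * (⟪b, b⟫)⁻¹) ^ q = -⟪a, a⟫ * (⟪b, b⟫)⁻¹ := by
      rw [mul_pow, inv_pow, frob_neg' hF, hermForm_conj hF, hermForm_conj hF]
    obtain ⟨l, hl⟩ := exists_norm_eq_of_fixed hF hfix
    refine ⟨a + l • b, A.add_mem ha (A.smul_mem _ hbA), ?_, ?_⟩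
    · intro h0
      have h1 : ⟪a + l • b, a⟫ = 0 := by rw [h0, hermForm_zero_left]
      rw [hermForm_add_left, hermForm_smul_left, hba, mul_zero, add_zero] at h1
      exact haa h1
    · have hab : ⟪a, b⟫ = 0 := hermForm_eq_zero_symm hF hba
      simp only [hermForm_add_left, hermForm_add_right hF, hermForm_smul_left,
        hermForm_smul_right, hab, hba, mul_zero, add_zero, zero_add]
      have h5 : l * l ^ q * ⟪b, b⟫ = -⟪a, a⟫ := by
        rw [hl, mul_assoc, inv_mul_cancel₀ hbb, mul_one]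
      linear_combination h5

/-- a non-zero vector of a non-degenerate subspace is not orthogonal to all its isotropic vectors -/
theorem exists_isotropic_not_perp (hF : Fintype.card F = q ^ 2) {A : Submodule F (Fin n → F)}
    (hA : NonDeg q A) (h2 : 2 ≤ Module.finrank F A) {p : Fin n → F} (hp : p ∈ A) (hp0 : p ≠ 0) :
    ∃ s ∈ A, ⟪s, s⟫ = 0 ∧ ⟪p, s⟫ ≠ 0 := by
  obtain ⟨s₀, hs₀, hs₀0, hs₀s₀⟩ := exists_isotropic_in hF hA h2
  by_contra hcon
  push Not at hcon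
  have h1 : ∀ y ∈ A, ⟪p, y⟫ = 0 :=
    isotropic_span_induction hF A hA hs₀ hs₀0 hs₀s₀ (fun y => ⟪p, y⟫ = 0)
      (fun a b (ha : ⟪p, a⟫ = 0) (hb : ⟪p, b⟫ = 0) => by
        rw [hermForm_add_right hF, ha, hb, add_zero])
      (fun y hy hyy => hcon y hy hyy)
  exact hp0 (hA p hp h1)

/-! ### transitivity of the transvection group of a non-degenerate subspace -/

/-- the transvection group of `A` is transitive on the hyperbolic pairs of `A` -/
theorem exists_T_map_pair (hF : Fintype.card F = q ^ 2) (A : Submodule F (Fin n → F))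
    (hA : NonDeg q A) (h4 : 4 ≤ Module.finrank F A) {u u' v v' : Fin n → F}
    (hu : u ∈ A) (hu' : u' ∈ A) (hv : v ∈ A) (hv' : v' ∈ A)
    (huu : ⟪u, u⟫ = 0) (hu'u' : ⟪u', u'⟫ = 0) (huu' : ⟪u, u'⟫ = 1)
    (hvv : ⟪v, v⟫ = 0) (hv'v' : ⟪v', v'⟫ = 0) (hvv' : ⟪v, v'⟫ = 1) :
    ∃ t, InTW q A t ∧ t *ᵥ u = v ∧ t *ᵥ u' = v' := by
  have hu0 : u ≠ 0 := by
    rintro rfl
    rw [hermForm_zero_left] at huu'
    exact zero_ne_one huu'
  have hv0 : v ≠ 0 := by
    rintro rfl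
    rw [hermForm_zero_left] at hvv'
    exact zero_ne_one hvv'
  obtain ⟨t₁, ht₁, ht₁u⟩ := exists_T_map hF A hA (by omega) hu hv hu0 hv0 huu hvv
  have ht₁U : IsU q t₁ := ht₁.isU hF
  obtain ⟨u₁, hu₁⟩ : ∃ u₁, u₁ = t₁ *ᵥ u' := ⟨_, rfl⟩
  have hu₁A : u₁ ∈ A := by rw [hu₁]; exact ht₁.maps u' hu'
  have hu₁u₁ : ⟪u₁, u₁⟫ = 0 := by rw [hu₁, ht₁U, hu'u']
  have hvu₁ : ⟪v, u₁⟫ = 1 := by rw [← ht₁u, hu₁, ht₁U, huu']
  have hu₁v : ⟪u₁, v⟫ = 1 := by rw [← hermForm_conj hF, hvu₁, one_pow]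
  have hv'v : ⟪v', v⟫ = 1 := by rw [← hermForm_conj hF, hvv', one_pow]
  obtain ⟨c, hc⟩ : ∃ c, c = ⟪v', u₁⟫ := ⟨_, rfl⟩
  obtain ⟨y, hy⟩ : ∃ y, y = v' - u₁ - c • v := ⟨_, rfl⟩
  have hyA : y ∈ A := by
    rw [hy]
    exact A.sub_mem (A.sub_mem hv' hu₁A) (A.smul_mem _ hv)
  have hyv : ⟪y, v⟫ = 0 := by
    rw [hy, hermForm_sub_left, hermForm_sub_left, hermForm_smul_left, hv'v, hu₁v, hvv]
    ring
  have hyu₁ : ⟪y, u₁⟫ = 0 := by
    rw [hy, hermForm_sub_left, hermForm_sub_left, hermForm_smul_left, ← hc, hu₁u₁, hvu₁]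
    ring
  have hvy : ⟪v, y⟫ = 0 := hermForm_eq_zero_symm hF hyv
  have hu₁y : ⟪u₁, y⟫ = 0 := hermForm_eq_zero_symm hF hyu₁
  have hv'dec : v' = y + (u₁ + c • v) := by rw [hy]; abel
  have hcy : c + c ^ q + ⟪y, y⟫ = 0 := by
    have h2 := hv'v'
    rw [hv'dec] at h2
    simp only [hermForm_add_left, hermForm_add_right hF, hermForm_smul_left, hermForm_smul_right,
      hvv, hu₁u₁, hvu₁, hu₁v, hyv, hyu₁, hvy, hu₁y] at h2
    linear_combination h2
  have hyW₁ : y ∈ hypCompl q A v u₁ := ⟨hyA, hyv, hyu₁⟩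
  have hW₁ : NonDeg q (hypCompl q A v u₁) := nonDeg_hypCompl hF A hA hv hu₁A hvv hu₁u₁ hvu₁
  have hdim : 2 ≤ Module.finrank F (hypCompl q A v u₁) := by
    have := finrank_le_hypCompl_add_two hF A hv hu₁A hvv hu₁u₁ hvu₁
    omega
  obtain ⟨s, hs, hs0, hss⟩ := exists_isotropic_in hF hW₁ hdim
  have hE : InTW q A (eichler q v y c) :=
    inTW_eichler_caseA hF A (hypCompl q A v u₁) (hypCompl_le _ _ _) hW₁ hv hvv
      (fun z hz => hz.2.1) hs hs0 hss hyW₁ hcy
  refine ⟨eichler q v y c * t₁, hE.mul ht₁, ?_, ?_⟩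
  · rw [← Matrix.mulVec_mulVec, ht₁u, eichler_mulVec, hvv, hvy, mul_zero, zero_smul, zero_smul,
      add_zero, sub_zero, add_zero]
  · rw [← Matrix.mulVec_mulVec, ← hu₁, eichler_mulVec, hu₁v, hu₁y, hv'dec]
    module

/-- the transvection group of `A` is transitive on the vectors of `A` of a given non-zero norm -/
theorem exists_T_map_norm (hF : Fintype.card F = q ^ 2) (A : Submodule F (Fin n → F))
    (hA : NonDeg q A) (h4 : 4 ≤ Module.finrank F A) {p p' : Fin n → F}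
    (hp : p ∈ A) (hp' : p' ∈ A) (hpp : ⟪p, p⟫ ≠ 0) (hnorm : ⟪p', p'⟫ = ⟪p, p⟫) :
    ∃ t, InTW q A t ∧ t *ᵥ p = p' := by
  have hfix : ⟪p, p⟫ ^ q = ⟪p, p⟫ := hermForm_conj hF p p
  obtain ⟨β, hβ⟩ := exists_trace_eq_of_fixed hF hfix
  have key : ∀ p ∈ A, ⟪p, p⟫ = β + β ^ q → ⟪p, p⟫ ≠ 0 → ∃ u ∈ A, ∃ u' ∈ A,
      ⟪u, u⟫ = 0 ∧ ⟪u', u'⟫ = 0 ∧ ⟪u, u'⟫ = 1 ∧ p = u + β • u' := by
    intro p hp hpβ hpp
    have hp0 : p ≠ 0 := by
      rintro rfl
      exact hpp (hermForm_zero_left _)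
    obtain ⟨s, hs, hss, hps⟩ := exists_isotropic_not_perp hF hA (by omega) hp hp0
    obtain ⟨α, hα⟩ : ∃ α, α = ⟪p, s⟫ := ⟨_, rfl⟩
    rw [← hα] at hps
    obtain ⟨u', hu'⟩ : ∃ u', u' = ((α ^ q)⁻¹) • s := ⟨_, rfl⟩
    have hu'A : u' ∈ A := by rw [hu']; exact A.smul_mem _ hs
    have hu'u' : ⟪u', u'⟫ = 0 := by
      rw [hu', hermForm_smul_left, hermForm_smul_right, hss, mul_zero, mul_zero]
    have hpu' : ⟪p, u'⟫ = 1 := by
      rw [hu', hermForm_smul_right, ← hα, inv_pow, frob_frob hF, inv_mul_cancel₀ hps]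
    have hu'p : ⟪u', p⟫ = 1 := by rw [← hermForm_conj hF, hpu', one_pow]
    refine ⟨p - β • u', A.sub_mem hp (A.smul_mem _ hu'A), u', hu'A, ?_, hu'u', ?_, by abel⟩
    · simp only [hermForm_sub_left, hermForm_sub_right hF, hermForm_smul_left,
        hermForm_smul_right, hpu', hu'p, hu'u']
      linear_combination hpβ
    · rw [hermForm_sub_left, hermForm_smul_left, hpu', hu'u']
      ring
  obtain ⟨u, hu, u', hu', huu, hu'u', huu', hpe⟩ := key p hp hβ.symm hpp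
  obtain ⟨v, hv, v', hv', hvv, hv'v', hvv', hp'e⟩ := key p' hp' (by rw [hnorm, hβ])
    (by rw [hnorm]; exact hpp)
  obtain ⟨t, ht, htu, htu'⟩ := exists_T_map_pair hF A hA h4 hu hu' hv hv' huu hu'u' huu' hvv
    hv'v' hvv'
  exact ⟨t, ht, by rw [hpe, hp'e, Matrix.mulVec_add, Matrix.mulVec_smul, htu, htu']⟩

end Cfsg.Agent.Helper13
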