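import Cfsg.Agent.Helper13.UMax3

set_option autoImplicit false

namespace Cfsg.Agent.Helper13

open Matrix Cfsg.Agent.S0837

variable {F : Type*} [Field F] [Fintype F] {q n : ℕ}

local notation "⟪" x ", " y "⟫" => Cfsg.hermForm n F q x y
local notation "Matn" => Matrix (Fin n) (Fin n) F

omit [Fintype F] in
/-- products of transvections along vectors of `utvVecs q M` lie in `M` -/
theorem mem_of_inTW {M : Subgroup (GL (Fin n) F)}
    {A : Submodule F (Fin n → F)}
    (h : ∀ v ∈ A, ⟪v, v⟫ = 0 → v ∈ utvVecs q M) {N : Matn} (hN : InTW q A N) :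
    ∀ g : GL (Fin n) F, (g : Matn) = N → g ∈ M := by
  induction hN with
  | one =>
    intro g hg
    have : g = 1 := Units.ext hg
    rw [this]
    exact M.one_mem
  | tv_mul v c N' hvA hv hc _ ih =>
    intro g hg
    have ht : glOfDetOne (Cfsg.unitaryTransvection n q v c) (det_unitaryTransvection v c hv) ∈ M :=
      (h v hvA hv).2 c hc _ rfl
    have h1 : (((glOfDetOne (Cfsg.unitaryTransvection n q v c)
        (det_unitaryTransvection v c hv))⁻¹ * g : GL (Fin n) F) : Matn) = N' := by
      have h2 : ((glOfDetOne (Cfsg.unitaryTransvection n q v c)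
          (det_unitaryTransvection v c hv))⁻¹ : GL (Fin n) F) =
          glOfDetOne (Cfsg.unitaryTransvection n q v (-c)) (det_unitaryTransvection v (-c) hv) := by
        rw [inv_eq_iff_mul_eq_one]
        apply Units.ext
        rw [Units.val_mul, glOfDetOne_coe, glOfDetOne_coe, unitaryTransvection_mul v _ _ hv,
          add_neg_cancel, unitaryTransvection_zero, Units.val_one]
      rw [h2, Units.val_mul, glOfDetOne_coe, hg, ← mul_assoc, unitaryTransvection_mul v _ _ hv,
        neg_add_cancel, unitaryTransvection_zero, one_mul]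
    have h3 := ih _ h1
    have h4 : g = glOfDetOne (Cfsg.unitaryTransvection n q v c)
        (det_unitaryTransvection v c hv) * ((glOfDetOne (Cfsg.unitaryTransvection n q v c)
        (det_unitaryTransvection v c hv))⁻¹ * g) := by
      rw [mul_inv_cancel_left]
    rw [h4]
    exact M.mul_mem ht h3

/-- the growth lemma: from the isotropic vectors of `A` to those of `A ⊕ F e` -/
theorem utvVecs_grow (hF : Fintype.card F = q ^ 2) {M : Subgroup (GL (Fin n) F)}
    (hM : M ≤ Cfsg.GU n F q) {A : Submodule F (Fin n → F)} (hA : NonDeg q A)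
    (h4 : 4 ≤ Module.finrank F A)
    (hS : ∀ v ∈ A, ⟪v, v⟫ = 0 → v ∈ utvVecs q M)
    {w' e : Fin n → F} (hw' : w' ∈ A) (he : e ∈ perpSub q A) (hee : ⟪e, e⟫ ≠ 0)
    (hx : w' + e ∈ utvVecs q M) :
    ∀ z ∈ A ⊔ Submodule.span F {e}, ⟪z, z⟫ = 0 → z ∈ utvVecs q M := by
  intro z hz hzz
  obtain ⟨a, ha, b, hb, rfl⟩ := Submodule.mem_sup.mp hz
  obtain ⟨μ, rfl⟩ := Submodule.mem_span_singleton.mp hb
  by_cases hμ : μ = 0
  · subst hμ
    rw [zero_smul, add_zero] at hzz ⊢
    exact hS a ha hzz
  · suffices hsuff : μ⁻¹ • a + e ∈ utvVecs q M by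
      have := utvVecs_smul hF hsuff μ
      rwa [smul_add, smul_smul, mul_inv_cancel₀ hμ, one_smul] at this
    have hea : ⟪e, a⟫ = 0 := he a ha
    have hae : ⟪a, e⟫ = 0 := hermForm_eq_zero_symm hF hea
    have hew' : ⟪e, w'⟫ = 0 := he w' hw'
    have hw'e : ⟪w', e⟫ = 0 := hermForm_eq_zero_symm hF hew'
    have hn1 : ⟪w', w'⟫ = -⟪e, e⟫ := by
      have h1 := hx.1
      simp only [hermForm_add_left, hermForm_add_right hF, hw'e, hew', add_zero, zero_add] at h1
      linear_combination h1
    have hn0 : ⟪a, a⟫ = -(μ * μ ^ q) * ⟪e, e⟫ := by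
      have h1 := hzz
      simp only [hermForm_add_left, hermForm_add_right hF, hermForm_smul_left,
        hermForm_smul_right, hae, hea, mul_zero, add_zero, zero_add] at h1
      linear_combination h1
    have hμq : μ ^ q ≠ 0 := pow_ne_zero _ hμ
    have hn2 : ⟪μ⁻¹ • a, μ⁻¹ • a⟫ = ⟪w', w'⟫ := by
      rw [hermForm_smul_left, hermForm_smul_right, hn0, hn1, inv_pow]
      field_simp
    obtain ⟨t, ht, htw⟩ := exists_T_map_norm hF A hA h4 hw' (A.smul_mem μ⁻¹ ha)
      (by rw [hn1]; exact neg_ne_zero.mpr hee) hn2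
    have hte : t *ᵥ e = e := ht.fixPerp e (fun y hy => he y hy)
    have htM : glOfDetOne t ht.det ∈ M := mem_of_inTW hS ht _ rfl
    have h5 := utvVecs_map hM htM hx
    rwa [glOfDetOne_coe, Matrix.mulVec_add, htw, hte] at h5

end Cfsg.Agent.Helper13
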