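import Cfsg.Agent.Helper13.UMax4

set_option autoImplicit false

namespace Cfsg.Agent.Helper13

open Matrix Cfsg.Agent.S0837

variable {F : Type*} [Field F] [Fintype F] {q n : ℕ}

local notation "⟪" x ", " y "⟫" => Cfsg.hermForm n F q x y
local notation "Matn" => Matrix (Fin n) (Fin n) F

/-- an element of `M` not stabilising `W` produces a mixed vector of `utvVecs q M` -/
theorem exists_mixed_utv (hF : Fintype.card F = q ^ 2) {M : Subgroup (GL (Fin n) F)}
    (hM : M ≤ Cfsg.GU n F q) {W : Submodule F (Fin n → F)} (hW : NonDeg q W)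
    (hdim : 2 * Module.finrank F W < n) (h3 : 3 ≤ Module.finrank F (perpSub q W))
    (hSU : ∀ v ∈ perpSub q W, ⟪v, v⟫ = 0 → v ∈ utvVecs q M)
    {h : GL (Fin n) F} (hhM : h ∈ M) (hhS : h ∉ Cfsg.Geo.subspaceStabilizer W) :
    ∃ w ∈ W, ∃ u ∈ perpSub q W, w ≠ 0 ∧ u ≠ 0 ∧ w + u ∈ utvVecs q M := by
  by_contra hcon
  push Not at hcon
  have hhU : IsU q (h : Matn) := (mem_GU_iff h).mp (hM hhM)
  have hU : NonDeg q (perpSub q W) := nonDeg_perpSub hF hW
  -- images of isotropic vectors of `U` are pure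
  have hpure : ∀ s ∈ perpSub q W, ⟪s, s⟫ = 0 →
      (h : Matn) *ᵥ s ∈ W ∨ (h : Matn) *ᵥ s ∈ perpSub q W := by
    intro s hs hss
    have h1 := utvVecs_map hM hhM (hSU s hs hss)
    obtain ⟨a, ha, a', ha', hdec⟩ := exists_perp_decomp hF hW ((h : Matn) *ᵥ s)
    by_cases ha0 : a = 0
    · right
      rw [hdec, ha0, zero_add]
      exact ha'
    · by_cases ha'0 : a' = 0
      · left
        rw [hdec, ha'0, add_zero]
        exact ha
      · exact absurd (hdec ▸ h1) (hcon a ha a' ha' ha0 ha'0)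
  obtain ⟨s₀, hs₀, hs₀0, hs₀s₀⟩ := exists_isotropic_in hF hU (by omega)
  -- propagation along non-orthogonality
  have hprop : ∀ X Y : Submodule F (Fin n → F), (∀ x ∈ X, ∀ y ∈ Y, ⟪x, y⟫ = 0) →
      (∀ s ∈ perpSub q W, ⟪s, s⟫ = 0 → (h : Matn) *ᵥ s ∈ X ∨ (h : Matn) *ᵥ s ∈ Y) →
      (h : Matn) *ᵥ s₀ ∈ X → ∀ y ∈ perpSub q W, (h : Matn) *ᵥ y ∈ X := by
    intro X Y hXY hp hs₀X
    have hstep : ∀ s ∈ perpSub q W, ⟪s, s⟫ = 0 → (h : Matn) *ᵥ s ∈ X →
        ∀ s' ∈ perpSub q W, ⟪s', s'⟫ = 0 → ⟪s, s'⟫ ≠ 0 → (h : Matn) *ᵥ s' ∈ X := by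
      intro s _ _ hsX s' hs' hs's' hne
      rcases hp s' hs' hs's' with h1 | h1
      · exact h1
      · exfalso
        apply hne
        rw [← hhU]
        exact hXY _ hsX _ h1
    have hiso : ∀ s ∈ perpSub q W, ⟪s, s⟫ = 0 → (h : Matn) *ᵥ s ∈ X := by
      intro s hs hss
      by_cases hs0 : s = 0
      · rw [hs0, Matrix.mulVec_zero]
        exact X.zero_mem
      by_cases hne : ⟪s₀, s⟫ = 0
      · obtain ⟨x, hx, hxx, hs₀x, hxs⟩ := exists_isotropic_nonorth hF (perpSub q W) hU hs₀ hs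
          hs₀0 hs0 hs₀s₀ hne
        exact hstep x hx hxx (hstep s₀ hs₀ hs₀s₀ hs₀X x hx hxx hs₀x) s hs hss hxs
      · exact hstep s₀ hs₀ hs₀s₀ hs₀X s hs hss hne
    exact isotropic_span_induction hF (perpSub q W) hU hs₀ hs₀0 hs₀s₀
      (fun y => (h : Matn) *ᵥ y ∈ X)
      (fun a b (ha : (h : Matn) *ᵥ a ∈ X) (hb : (h : Matn) *ᵥ b ∈ X) => by
        rw [Matrix.mulVec_add]
        exact X.add_mem ha hb)
      hiso
  rcases hpure s₀ hs₀ hs₀s₀ with hcase | hcase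
  · -- `h` maps `U` into `W`: impossible by dimensions
    have hall := hprop W (perpSub q W) (fun x hx y hy => hermForm_eq_zero_symm hF (hy x hx))
      hpure hcase
    have hinj : Function.Injective (Matrix.mulVecLin (h : Matn)) := by
      intro x y hxy
      rw [Matrix.mulVecLin_apply, Matrix.mulVecLin_apply] at hxy
      exact glU_mulVec_injective h hxy
    have hle : (perpSub q W).map (Matrix.mulVecLin (h : Matn)) ≤ W := by
      rintro _ ⟨x, hx, rfl⟩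
      exact hall x hx
    have hfin : Module.finrank F ((perpSub q W).map (Matrix.mulVecLin (h : Matn))) =
        Module.finrank F (perpSub q W) := by
      have h3 := LinearEquiv.finrank_map_eq (LinearEquiv.ofInjectiveEndo _ hinj) (perpSub q W)
      rw [← h3]
      congr 2
    have h5 := Submodule.finrank_mono hle
    have h6 := finrank_perpSub hF W
    omega
  · -- `h` stabilises `U`, hence `W`
    have hall := hprop (perpSub q W) W (fun x hx y hy => hx y hy)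
      (fun s hs hss => (hpure s hs hss).symm) hcase
    have hstab := mem_subspaceStabilizer_of_maps_into' (perpSub q W) h hall
    apply hhS
    apply mem_subspaceStabilizer_of_maps_into'
    intro w hw
    rw [← perpSub_perpSub hF W]
    intro u hu
    have hu' : ((h⁻¹ : GL (Fin n) F) : Matn) *ᵥ u ∈ perpSub q W := by
      rw [(mem_subspaceStabilizer_iff' _ h).mp hstab, glU_mulVec_inv]
      exact hu
    have h7 : ⟪(h : Matn) *ᵥ w, u⟫ = ⟪w, ((h⁻¹ : GL (Fin n) F) : Matn) *ᵥ u⟫ := by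
      rw [← hhU w, glU_mulVec_inv]
    rw [h7]
    exact hermForm_eq_zero_symm hF (hu' w hw)

/-- a mixed vector of `utvVecs q M` can be chosen with anisotropic components -/
theorem exists_mixed_anisotropic (hF : Fintype.card F = q ^ 2) {M : Subgroup (GL (Fin n) F)}
    (hM : M ≤ Cfsg.GU n F q) {W : Submodule F (Fin n → F)} (hW : NonDeg q W)
    (h3 : 3 ≤ Module.finrank F (perpSub q W))
    (hSW : ∀ v ∈ W, ⟪v, v⟫ = 0 → v ∈ utvVecs q M)
    (hSU : ∀ v ∈ perpSub q W, ⟪v, v⟫ = 0 → v ∈ utvVecs q M)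
    {w u : Fin n → F} (hw : w ∈ W) (hu : u ∈ perpSub q W) (hw0 : w ≠ 0) (hu0 : u ≠ 0)
    (hx : w + u ∈ utvVecs q M) :
    ∃ w' ∈ W, ∃ u' ∈ perpSub q W, ⟪w', w'⟫ ≠ 0 ∧ w' + u' ∈ utvVecs q M := by
  by_cases hww : ⟪w, w⟫ = 0
  swap
  · exact ⟨w, hw, u, hu, hww, hx⟩
  have hU : NonDeg q (perpSub q W) := nonDeg_perpSub hF hW
  have huw : ⟪u, w⟫ = 0 := hu w hw
  have hwu : ⟪w, u⟫ = 0 := hermForm_eq_zero_symm hF huw
  have huu : ⟪u, u⟫ = 0 := by
    have h1 := hx.1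
    simp only [hermForm_add_left, hermForm_add_right hF, hww, huw, hwu, zero_add] at h1
    exact h1
  obtain ⟨v, hv, hvv, hwv⟩ := exists_hyperbolic_partner_in hF W hW hw hw0 hww
  obtain ⟨us, hus, husus, huus⟩ := exists_hyperbolic_partner_in hF (perpSub q W) hU hu hu0 huu
  obtain ⟨θ, hθ⟩ := exists_trace_ne_zero hF (F := F)
  obtain ⟨δ, hδ0, hδ⟩ := Cfsg.Agent.Helper5.exists_trace_zero hF (F := F)
  have hδ' : δ + δ ^ q = 0 := by rw [hδ]; ring
  have hθ0 : θ ≠ 0 := by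
    rintro rfl
    have hq := two_le_of_card_eq_sq hF
    rw [zero_pow (by omega), add_zero] at hθ
    exact hθ rfl
  have hus0 : us ≠ 0 := by
    rintro rfl
    rw [hermForm_zero_right hF] at huus
    exact zero_ne_one huus
  obtain ⟨u₁, hu₁⟩ : ∃ u₁, u₁ = θ • us := ⟨_, rfl⟩
  have hu₁U : u₁ ∈ perpSub q W := by rw [hu₁]; exact (perpSub q W).smul_mem _ hus
  have hu₁0 : u₁ ≠ 0 := by rw [hu₁]; exact smul_ne_zero hθ0 hus0
  have hu₁u₁ : ⟪u₁, u₁⟫ = 0 := by
    rw [hu₁, hermForm_smul_left, hermForm_smul_right, husus, mul_zero, mul_zero]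
  have huu₁ : ⟪u, u₁⟫ = θ ^ q := by rw [hu₁, hermForm_smul_right, huus, mul_one]
  obtain ⟨t, ht, htu⟩ := exists_T_map hF (perpSub q W) hU h3 hu hu₁U hu0 hu₁0 huu hu₁u₁
  have htw : t *ᵥ w = w := ht.fixPerp w (fun y hy => hermForm_eq_zero_symm hF (hy w hw))
  have htM : glOfDetOne t ht.det ∈ M := mem_of_inTW hSU ht _ rfl
  have hz₁ : w + u₁ ∈ utvVecs q M := by
    have h5 := utvVecs_map hM htM hx
    rwa [glOfDetOne_coe, Matrix.mulVec_add, htw, htu] at h5
  have hvS : v ∈ utvVecs q M := hSW v hv hvv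
  have huv : ⟪u, v⟫ = 0 := hu v hv
  have hu₁v : ⟪u₁, v⟫ = 0 := hu₁U v hv
  have hu₁w : ⟪u₁, w⟫ = 0 := hu₁U w hw
  have hvu₁ : ⟪v, u₁⟫ = 0 := hermForm_eq_zero_symm hF hu₁v
  have hwu₁ : ⟪w, u₁⟫ = 0 := hermForm_eq_zero_symm hF hu₁w
  have hvw : ⟪v, w⟫ = 1 := by rw [← hermForm_conj hF, hwv, one_pow]
  have hz₂ : w + u + δ • v ∈ utvVecs q M := by
    have h5 := utvVecs_tv hM hvS hx hδ'
    rwa [hermForm_add_left, hwv, huv, add_zero, mul_one] at h5
  obtain ⟨γ, hγ⟩ : ∃ γ, γ = θ ^ q + δ := ⟨_, rfl⟩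
  have hγ' : ⟪w + u + δ • v, w + u₁⟫ = γ := by
    simp only [hermForm_add_left, hermForm_add_right hF, hermForm_smul_left, hww, hwu₁, huw,
      huu₁, hvw, hvu₁]
    rw [hγ]
    ring
  have hxA := utvVecs_tv hM hz₁ hz₂ hδ'
  rw [hγ'] at hxA
  refine ⟨(1 + δ * γ) • w + δ • v, W.add_mem (W.smul_mem _ hw) (W.smul_mem _ hv),
    u + (δ * γ) • u₁, (perpSub q W).add_mem hu ((perpSub q W).smul_mem _ hu₁U), ?_, ?_⟩
  · simp only [hermForm_add_left, hermForm_add_right hF, hermForm_smul_left,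
      hermForm_smul_right, hww, hvv, hwv, hvw, mul_zero, mul_one, add_zero, zero_add]
    have hθq : (θ ^ q) ^ q = θ := frob_frob hF θ
    have hγq : γ ^ q = θ - δ := by
      rw [hγ, frob_add hF, hθq, hδ]
      ring
    have h1q : (1 + δ * γ) ^ q = 1 - δ * (θ - δ) := by
      rw [frob_add hF, one_pow, mul_pow, hγq, hδ]
      ring
    rw [h1q, hδ, hγ]
    intro h0
    have h8 : δ * δ * (θ + θ ^ q) = 0 := by linear_combination -h0
    rcases mul_eq_zero.mp h8 with h9 | h9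
    · rcases mul_eq_zero.mp h9 with h10 | h10 <;> exact hδ0 h10
    · exact hθ h9
  · have : (1 + δ * γ) • w + δ • v + (u + (δ * γ) • u₁) =
        w + u + δ • v + (δ * γ) • (w + u₁) := by module
    rw [this]
    exact hxA

end Cfsg.Agent.Helper13
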