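import Cfsg.Agent.Helper13.UMax5

set_option autoImplicit false

namespace Cfsg.Agent.Helper13

open Matrix Cfsg.Agent.S0837

variable {F : Type*} [Field F] [Fintype F] {q n : ℕ}

local notation "⟪" x ", " y "⟫" => Cfsg.hermForm n F q x y
local notation "Matn" => Matrix (Fin n) (Fin n) F

/-- growing a non-degenerate subspace containing `W^⊥` and an anisotropic vector of `W` up to
the whole space -/
theorem utv_all_of_base (hF : Fintype.card F = q ^ 2) {M : Subgroup (GL (Fin n) F)}
    (hM : M ≤ Cfsg.GU n F q) {W : Submodule F (Fin n → F)}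
    (hSW : ∀ v ∈ W, ⟪v, v⟫ = 0 → v ∈ utvVecs q M)
    {w₀ : Fin n → F} (hw₀ : w₀ ∈ W) (hw₀w₀ : ⟪w₀, w₀⟫ ≠ 0) :
    ∀ (d : ℕ) (A : Submodule F (Fin n → F)), NonDeg q A → 4 ≤ Module.finrank F A →
      perpSub q W ≤ A → w₀ ∈ A → n ≤ Module.finrank F A + d →
      (∀ v ∈ A, ⟪v, v⟫ = 0 → v ∈ utvVecs q M) → ∀ v : Fin n → F, ⟪v, v⟫ = 0 → v ∈ utvVecs q M := by
  intro d
  induction d with
  | zero =>
    intro A hA h4 hUA hw₀A hd hS v hvv
    have hAtop : A = ⊤ := by
      apply Submodule.eq_top_of_finrank_eq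
      rw [Module.finrank_fintype_fun_eq_card, Fintype.card_fin]
      have := Submodule.finrank_le A
      rw [Module.finrank_fintype_fun_eq_card, Fintype.card_fin] at this
      omega
    exact hS v (by rw [hAtop]; exact Submodule.mem_top) hvv
  | succ d ih =>
    intro A hA h4 hUA hw₀A hd hS v hvv
    by_cases hAtop : A = ⊤
    · exact hS v (by rw [hAtop]; exact Submodule.mem_top) hvv
    have hE : NonDeg q (perpSub q A) := nonDeg_perpSub hF hA
    have hEbot : perpSub q A ≠ ⊥ := by
      intro h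
      apply hAtop
      have := sup_perpSub_eq_top hF hA
      rwa [h, sup_bot_eq] at this
    obtain ⟨x, hx, hx0⟩ := (Submodule.ne_bot_iff _).mp hEbot
    obtain ⟨e, he, hee⟩ := exists_anisotropic hF _ hE hx hx0
    have heW : e ∈ W := by
      have := perpSub_anti (q := q) hUA he
      rwa [perpSub_perpSub hF] at this
    have hfix : (-⟪w₀, w₀⟫ * (⟪e, e⟫)⁻¹) ^ q = -⟪w₀, w₀⟫ * (⟪e, e⟫)⁻¹ := by
      rw [mul_pow, inv_pow, frob_neg' hF, hermForm_conj hF, hermForm_conj hF]
    obtain ⟨l, hl⟩ := exists_norm_eq_of_fixed hF hfix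
    have hl0 : l ≠ 0 := by
      rintro rfl
      rw [zero_mul] at hl
      have h1 : ⟪w₀, w₀⟫ * (⟪e, e⟫)⁻¹ = 0 := by linear_combination hl
      rcases mul_eq_zero.mp h1 with h | h
      · exact hw₀w₀ h
      · exact inv_ne_zero hee h
    have hew₀ : ⟪e, w₀⟫ = 0 := he w₀ hw₀A
    have hw₀e : ⟪w₀, e⟫ = 0 := hermForm_eq_zero_symm hF hew₀
    have hviso : ⟪w₀ + l • e, w₀ + l • e⟫ = 0 := by
      simp only [hermForm_add_left, hermForm_add_right hF, hermForm_smul_left,
        hermForm_smul_right, hew₀, hw₀e, mul_zero, add_zero, zero_add]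
      have h5 : l * l ^ q * ⟪e, e⟫ = -⟪w₀, w₀⟫ := by
        rw [hl, mul_assoc, inv_mul_cancel₀ hee, mul_one]
      linear_combination h5
    have hvS : w₀ + l • e ∈ utvVecs q M := hSW _ (W.add_mem hw₀ (W.smul_mem _ heW)) hviso
    have hvS' : l⁻¹ • w₀ + e ∈ utvVecs q M := by
      have := utvVecs_smul hF hvS l⁻¹
      rwa [smul_add, smul_smul, inv_mul_cancel₀ hl0, one_smul] at this
    have hgrow := utvVecs_grow hF hM hA h4 hS (A.smul_mem l⁻¹ hw₀A) he hee hvS'
    have hA' : NonDeg q (A ⊔ Submodule.span F {e}) := nonDeg_sup_span hF hA he hee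
    have hlt : A < A ⊔ Submodule.span F {e} := by
      refine lt_of_le_of_ne le_sup_left ?_
      intro h
      have heA : e ∈ A := by
        rw [h]
        exact Submodule.mem_sup_right (Submodule.mem_span_singleton_self e)
      have h6 : e ∈ A ⊓ perpSub q A := ⟨heA, he⟩
      rw [inf_perpSub_eq_bot hA, Submodule.mem_bot] at h6
      rw [h6, hermForm_zero_left] at hee
      exact hee rfl
    have hfr := Submodule.finrank_lt_finrank_of_lt hlt
    exact ih (A ⊔ Submodule.span F {e}) hA' (by omega) (hUA.trans le_sup_left)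
      (Submodule.mem_sup_left hw₀A) (by omega) hgrow v hvv

/-- the stabiliser of a non-degenerate subspace `W` with `2 dim W < n` is maximal in `SU_n(q)` -/
theorem su_nondeg_stab_isMaximalIn (hF : Fintype.card F = q ^ 2) (hn : 13 ≤ n)
    (W : Submodule F (Fin n → F)) (hW0 : W ≠ ⊥) (hW : NonDeg q W)
    (hdim : 2 * Module.finrank F W < n) :
    Cfsg.Geo.IsMaximalIn (Cfsg.GU n F q ⊓ Cfsg.Geo.specialLinear (Fin n) F)
      (Cfsg.Geo.subspaceStabilizer W ⊓
        (Cfsg.GU n F q ⊓ Cfsg.Geo.specialLinear (Fin n) F)) := by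
  have hU : NonDeg q (perpSub q W) := nonDeg_perpSub hF hW
  have hfr := finrank_perpSub hF W
  have hU7 : 7 ≤ Module.finrank F (perpSub q W) := by omega
  have h32 : ¬ (n = 3 ∧ q = 2) := by omega
  obtain ⟨x₁, hx₁, hx₁0⟩ := (Submodule.ne_bot_iff W).mp hW0
  refine ⟨lt_of_le_of_ne inf_le_right ?_, ?_⟩
  · -- properness
    intro heq
    obtain ⟨w, hw, hww⟩ := exists_anisotropic hF W hW hx₁ hx₁0
    have hUbot : perpSub q W ≠ ⊥ := by
      intro h
      rw [h, finrank_bot] at hU7
      omega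
    obtain ⟨y₁, hy₁, hy₁0⟩ := (Submodule.ne_bot_iff _).mp hUbot
    have hfix : (-⟪w, w⟫) ^ q = -⟪w, w⟫ := by rw [frob_neg' hF, hermForm_conj hF]
    obtain ⟨u, hu, huu⟩ := exists_norm_eq_in hF _ hU hy₁ hy₁0 hfix
    have huw : ⟪u, w⟫ = 0 := hu w hw
    have hwu : ⟪w, u⟫ = 0 := hermForm_eq_zero_symm hF huw
    have hxx : ⟪w + u, w + u⟫ = 0 := by
      simp only [hermForm_add_left, hermForm_add_right hF, huw, hwu, huu]
      ring
    obtain ⟨δ, hδ0, hδ⟩ := Cfsg.Agent.Helper5.exists_trace_zero hF (F := F)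
    have hδ' : δ + δ ^ q = 0 := by rw [hδ]; ring
    have h1 : glOfDetOne (Cfsg.unitaryTransvection n q (w + u) δ)
        (det_unitaryTransvection (w + u) δ hxx) ∈
        Cfsg.Geo.subspaceStabilizer W ⊓
          (Cfsg.GU n F q ⊓ Cfsg.Geo.specialLinear (Fin n) F) := by
      rw [heq]
      refine ⟨?_, ?_⟩
      · exact (mem_GU_iff _).mpr (by
          rw [glOfDetOne_coe]; exact isU_unitaryTransvection hF (w + u) δ hxx hδ')
      · exact (mem_specialLinear_iff _).mpr (by
          rw [glOfDetOne_coe]; exact det_unitaryTransvection (w + u) δ hxx)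
    have h2 := ((mem_subspaceStabilizer_iff' W _).mp h1.1 w).mp hw
    rw [glOfDetOne_coe, unitaryTransvection_mulVec, hermForm_add_right hF, hwu, add_zero] at h2
    have h3 : (δ * ⟪w, w⟫) • (w + u) ∈ W := by
      have := W.sub_mem h2 hw
      rwa [add_sub_cancel_left] at this
    have h4 : w + u ∈ W := by
      have := W.smul_mem (δ * ⟪w, w⟫)⁻¹ h3
      rwa [smul_smul, inv_mul_cancel₀ (mul_ne_zero hδ0 hww), one_smul] at this
    have h5 : u ∈ W := by
      have := W.sub_mem h4 hw
      rwa [add_sub_cancel_left] at this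
    have h6 : u ∈ W ⊓ perpSub q W := ⟨h5, hu⟩
    rw [inf_perpSub_eq_bot hW, Submodule.mem_bot] at h6
    rw [h6, hermForm_zero_left] at huu
    exact hww (by linear_combination huu)
  · intro M hPM hMG
    by_cases hMP : M = Cfsg.Geo.subspaceStabilizer W ⊓
        (Cfsg.GU n F q ⊓ Cfsg.Geo.specialLinear (Fin n) F)
    · exact Or.inl hMP
    right
    have hMGU : M ≤ Cfsg.GU n F q := hMG.trans inf_le_left
    obtain ⟨h, hhM, hhP⟩ : ∃ h ∈ M, h ∉ Cfsg.Geo.subspaceStabilizer W ⊓
        (Cfsg.GU n F q ⊓ Cfsg.Geo.specialLinear (Fin n) F) := by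
      by_contra hcon
      push Not at hcon
      exact hMP (le_antisymm hcon hPM)
    have hhS : h ∉ Cfsg.Geo.subspaceStabilizer W := fun h1 => hhP ⟨h1, hMG hhM⟩
    have hSW : ∀ v ∈ W, ⟪v, v⟫ = 0 → v ∈ utvVecs q M := by
      intro v hv hvv
      refine ⟨hvv, ?_⟩
      intro c hc g hg
      apply hPM
      refine ⟨?_, ?_, ?_⟩
      · apply mem_subspaceStabilizer_of_maps_into'
        intro x hx
        rw [hg, unitaryTransvection_mulVec]
        exact W.add_mem hx (W.smul_mem _ hv)
      · exact (mem_GU_iff _).mpr (by rw [hg]; exact isU_unitaryTransvection hF v c hvv hc)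
      · exact (mem_specialLinear_iff _).mpr (by rw [hg]; exact det_unitaryTransvection v c hvv)
    have hSU : ∀ v ∈ perpSub q W, ⟪v, v⟫ = 0 → v ∈ utvVecs q M := by
      intro v hv hvv
      refine ⟨hvv, ?_⟩
      intro c hc g hg
      apply hPM
      refine ⟨?_, ?_, ?_⟩
      · apply mem_subspaceStabilizer_of_maps_into'
        intro x hx
        rw [hg, unitaryTransvection_mulVec, hermForm_eq_zero_symm hF (hv x hx), mul_zero,
          zero_smul, add_zero]
        exact hx
      · exact (mem_GU_iff _).mpr (by rw [hg]; exact isU_unitaryTransvection hF v c hvv hc)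
      · exact (mem_specialLinear_iff _).mpr (by rw [hg]; exact det_unitaryTransvection v c hvv)
    obtain ⟨w, hw, u, hu, hw0, hu0, hx⟩ :=
      exists_mixed_utv hF hMGU hW hdim (by omega) hSU hhM hhS
    obtain ⟨w', hw', u', hu', hw'w', hx'⟩ :=
      exists_mixed_anisotropic hF hMGU hW (by omega) hSW hSU hw hu hw0 hu0 hx
    have hw'U : w' ∈ perpSub q (perpSub q W) := by rw [perpSub_perpSub hF]; exact hw'
    have hx'' : u' + w' ∈ utvVecs q M := by rw [add_comm]; exact hx'
    have hgrow := utvVecs_grow hF hMGU hU (by omega) hSU hu' hw'U hw'w' hx''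
    have hA : NonDeg q (perpSub q W ⊔ Submodule.span F {w'}) :=
      nonDeg_sup_span hF hU hw'U hw'w'
    have hfrA := Submodule.finrank_mono
      (le_sup_left : perpSub q W ≤ perpSub q W ⊔ Submodule.span F {w'})
    apply le_antisymm hMG
    apply suGL_le_of_tv hF h32
    exact utv_all_of_base hF hMGU hSW hw' hw'w' n _ hA (by omega) le_sup_left
      (Submodule.mem_sup_right (Submodule.mem_span_singleton_self w')) (by omega) hgrow

end Cfsg.Agent.Helper13
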