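import Cfsg.Agent.Helper13.UPair1

set_option autoImplicit false

namespace Cfsg.Agent.Helper13

open Matrix Cfsg.Agent.S0837

variable {F : Type*} [Field F] [Fintype F] {q n : ℕ}

local notation "⟪" x ", " y "⟫" => Cfsg.hermForm n F q x y
local notation "Matn" => Matrix (Fin n) (Fin n) F

omit [Fintype F] in
theorem module_le_or_le_of_mem_or {V : Type*} [AddCommGroup V] [Module F V]
    {A B C : Submodule F V} (h : ∀ x ∈ C, x ∈ A ∨ x ∈ B) : C ≤ A ∨ C ≤ B := by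
  by_contra hcon
  push Not at hcon
  obtain ⟨⟨x, hxC, hxA⟩, ⟨y, hyC, hyB⟩⟩ :=
    And.intro (SetLike.not_le_iff_exists.mp hcon.1) (SetLike.not_le_iff_exists.mp hcon.2)
  have hxB : x ∈ B := (h x hxC).resolve_left hxA
  have hyA : y ∈ A := (h y hyC).resolve_right hyB
  rcases h (x + y) (C.add_mem hxC hyC) with h1 | h1
  · apply hxA
    have := A.sub_mem h1 hyA
    rwa [add_sub_cancel_right] at this
  · apply hyB
    have := B.sub_mem h1 hxB
    rwa [add_sub_cancel_left] at this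

/-- the Eichler transformations `E(u, y, 0)` are symmetric in `u`, `y` up to a sign -/
theorem eichler_flip (hF : Fintype.card F = q ^ 2) (u y : Fin n → F) :
    eichler q y u 0 = eichler q u (-y) 0 := by
  apply mat_ext_mulVec
  intro x
  rw [eichler_mulVec, eichler_mulVec, hermForm_neg_right hF]
  module

omit [Fintype F] in
theorem finrank_span_singleton_le_one' (x : Fin n → F) :
    Module.finrank F (Submodule.span F ({x} : Set (Fin n → F))) ≤ 1 := by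
  have := finrank_span_le_card (R := F) ({x} : Set (Fin n → F))
  simpa using this

/-- a totally isotropic subspace invariant under the Eichler transformations `E(a, b, 0)`,
`a ∈ A`, `b ∈ B`, lies in `A` or in `B` -/
theorem LagPair.pure_of_invariant (hF : Fintype.card F = q ^ 2)
    {A B : Submodule F (Fin n → F)} {k : ℕ} (h : LagPair q A B k) (hk : 3 ≤ k)
    {W : Submodule F (Fin n → F)} (hW : ∀ x ∈ W, ∀ y ∈ W, ⟪x, y⟫ = 0)
    (hinv : ∀ a ∈ A, ∀ b ∈ B, ⟪b, a⟫ = 0 → ∀ x ∈ W, eichler q a b 0 *ᵥ x ∈ W) :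
    W ≤ A ∨ W ≤ B := by
  apply module_le_or_le_of_mem_or
  intro x hx
  obtain ⟨x₀, hx₀, x₁, hx₁, rfl⟩ := h.decomp x
  by_cases hx₀0 : x₀ = 0
  · right
    rw [hx₀0, zero_add]
    exact hx₁
  by_cases hx₁0 : x₁ = 0
  · left
    rw [hx₁0, add_zero]
    exact hx₀
  exfalso
  have hX₁ : Submodule.span F {x₁} ≤ B := by
    rw [Submodule.span_le, Set.singleton_subset_iff]
    exact hx₁
  have hfin := h.symm.finrank_inf_perp hF hX₁
  have h1 := finrank_span_singleton_le_one' x₁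
  have h2 := finrank_span_singleton_le_one' x₀
  have hnle : ¬ (A ⊓ perpSub q (Submodule.span F {x₁}) ≤ Submodule.span F {x₀}) := by
    intro hle
    have := Submodule.finrank_mono hle
    omega
  obtain ⟨e, he, hen⟩ := SetLike.not_le_iff_exists.mp hnle
  have heA : e ∈ A := he.1
  have hex₁ : ⟪e, x₁⟫ = 0 := he.2 x₁ (Submodule.mem_span_singleton_self x₁)
  have hx₁e : ⟪x₁, e⟫ = 0 := hermForm_eq_zero_symm hF hex₁
  have hsep1 : ∀ c : F, e ≠ c • x₀ := by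
    intro c hc
    apply hen
    rw [hc]
    exact Submodule.smul_mem _ _ (Submodule.mem_span_singleton_self x₀)
  obtain ⟨f, hfB, hfx₀, hfe⟩ := h.sep_one hF heA hx₀ hsep1
  have hx₀f : ⟪x₀, f⟫ = 0 := hermForm_eq_zero_symm hF hfx₀
  -- `f ∈ W`
  have hsep2 : ∀ c : F, x₁ ≠ c • f := by
    intro c hc
    have h3 : ⟪x₁, e⟫ = c * ⟪f, e⟫ := by rw [hc, hermForm_smul_left]
    rw [hx₁e] at h3
    rcases mul_eq_zero.mp h3.symm with h4 | h4
    · apply hx₁0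
      rw [hc, h4, zero_smul]
    · exact hfe h4
  obtain ⟨e', he'A, he'f, he'x₁⟩ := h.symm.sep_one hF hx₁ hfB hsep2
  have hfW : f ∈ W := by
    have h3 := hinv e' he'A f hfB (hermForm_eq_zero_symm hF he'f) _ hx
    rw [eichler_mulVec] at h3
    have h4 : ⟪x₀ + x₁, e'⟫ = ⟪x₁, e'⟫ := by
      rw [hermForm_add_left, h.tiA x₀ hx₀ e' he'A, zero_add]
    have h5 : ⟪x₀ + x₁, f⟫ = 0 := by
      rw [hermForm_add_left, hx₀f, h.tiB x₁ hx₁ f hfB, add_zero]
    rw [h4, h5] at h3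
    have h6 : ⟪x₁, e'⟫ • f ∈ W := by
      have := W.sub_mem h3 hx
      convert this using 1
      module
    have h7 := W.smul_mem (⟪x₁, e'⟫)⁻¹ h6
    rwa [smul_smul, inv_mul_cancel₀ (hermForm_ne_zero_symm hF he'x₁), one_smul] at h7
  -- `e ∈ W`
  have hsep3 : ∀ c : F, x₀ ≠ c • e := by
    intro c hc
    by_cases hc0 : c = 0
    · apply hx₀0
      rw [hc, hc0, zero_smul]
    · apply hen
      have : e = c⁻¹ • x₀ := by rw [hc, smul_smul, inv_mul_cancel₀ hc0, one_smul]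
      rw [this]
      exact Submodule.smul_mem _ _ (Submodule.mem_span_singleton_self x₀)
  obtain ⟨f', hf'B, hf'e, hf'x₀⟩ := h.sep_one hF hx₀ heA hsep3
  have heW : e ∈ W := by
    have h3 := hinv e heA f' hf'B hf'e _ hx
    rw [eichler_mulVec] at h3
    have h4 : ⟪x₀ + x₁, e⟫ = 0 := by
      rw [hermForm_add_left, h.tiA x₀ hx₀ e heA, hx₁e, add_zero]
    have h5 : ⟪x₀ + x₁, f'⟫ = ⟪x₀, f'⟫ := by
      rw [hermForm_add_left, h.tiB x₁ hx₁ f' hf'B, add_zero]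
    rw [h4, h5] at h3
    have h6 : ⟪x₀, f'⟫ • e ∈ W := by
      have := W.sub_mem hx h3
      convert this using 1
      module
    have h7 := W.smul_mem (⟪x₀, f'⟫)⁻¹ h6
    rwa [smul_smul, inv_mul_cancel₀ (hermForm_ne_zero_symm hF hf'x₀), one_smul] at h7
  exact hfe (hW f hfW e heW)

/-- an element of `M` not respecting the pair `{A, B}` produces an Eichler transformation
of `M` not stabilising both `A` and `B` -/
theorem LagPair.exists_bad (hF : Fintype.card F = q ^ 2) {A B : Submodule F (Fin n → F)} {k : ℕ}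
    (h : LagPair q A B k) (hk : 3 ≤ k) {M : Subgroup (GL (Fin n) F)} (hM : M ≤ Cfsg.GU n F q)
    (hH : ∀ a ∈ A, ∀ b ∈ B, ⟪b, a⟫ = 0 → MatMem M (eichler q a b 0))
    {g : GL (Fin n) F} (hg : g ∈ M)
    (h1 : ¬ ((∀ a ∈ A, (g : Matn) *ᵥ a ∈ A) ∧ (∀ b ∈ B, (g : Matn) *ᵥ b ∈ B)))
    (h2 : ¬ ((∀ a ∈ A, (g : Matn) *ᵥ a ∈ B) ∧ (∀ b ∈ B, (g : Matn) *ᵥ b ∈ A))) :
    ∃ u y : Fin n → F, ⟪u, u⟫ = 0 ∧ ⟪y, y⟫ = 0 ∧ ⟪y, u⟫ = 0 ∧ MatMem M (eichler q u y 0) ∧
      ((∃ f ∈ B, eichler q u y 0 *ᵥ f ∉ B) ∨ (∃ e ∈ A, eichler q u y 0 *ᵥ e ∉ A)) := by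
  by_contra hcon
  push Not at hcon
  have hgU : IsU q (g : Matn) := (mem_GU_iff g).mp (hM hg)
  have hg'M : g⁻¹ ∈ M := M.inv_mem hg
  have hg'U : IsU q ((g⁻¹ : GL (Fin n) F) : Matn) := (mem_GU_iff _).mp (hM hg'M)
  have hGG' : (g : Matn) * ((g⁻¹ : GL (Fin n) F) : Matn) = 1 := by
    rw [← Units.val_mul, mul_inv_cancel, Units.val_one]
  have hG'G : ((g⁻¹ : GL (Fin n) F) : Matn) * (g : Matn) = 1 := by
    rw [← Units.val_mul, inv_mul_cancel, Units.val_one]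
  -- the conjugated Eichler transformations stabilise `A` and `B`
  have hconj : ∀ a ∈ A, ∀ b ∈ B, ⟪b, a⟫ = 0 →
      (∀ f ∈ B, (((g⁻¹ : GL (Fin n) F) : Matn) * eichler q a b 0 * (g : Matn)) *ᵥ f ∈ B) ∧
      (∀ e ∈ A, (((g⁻¹ : GL (Fin n) F) : Matn) * eichler q a b 0 * (g : Matn)) *ᵥ e ∈ A) := by
    intro a ha b hb hba
    have h3 := conj_eichler hg'U hG'G a b 0
    have h4 : MatMem M (((g⁻¹ : GL (Fin n) F) : Matn) * eichler q a b 0 * (g : Matn)) := by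
      have := MatMem.conj hg'M (hH a ha b hb hba)
      rwa [inv_inv] at this
    rw [h3] at h4 ⊢
    refine hcon _ _ ?_ ?_ ?_ h4
    · rw [hg'U, h.tiA a ha a ha]
    · rw [hg'U, h.tiB b hb b hb]
    · rw [hg'U, hba]
  have hpush : ∀ (N : Matn) (x : Fin n → F),
      N *ᵥ ((g : Matn) *ᵥ x) = (g : Matn) *ᵥ ((((g⁻¹ : GL (Fin n) F) : Matn) * N * (g : Matn)) *ᵥ x) := by
    intro N x
    rw [Matrix.mulVec_mulVec, Matrix.mulVec_mulVec, ← mul_assoc, ← mul_assoc, hGG', one_mul]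
  have hWA : A.map (Matrix.mulVecLin (g : Matn)) ≤ A ∨ A.map (Matrix.mulVecLin (g : Matn)) ≤ B := by
    apply h.pure_of_invariant hF hk
    · rintro _ ⟨x, hx, rfl⟩ _ ⟨y, hy, rfl⟩
      rw [Matrix.mulVecLin_apply, Matrix.mulVecLin_apply, hgU]
      exact h.tiA x hx y hy
    · rintro a ha b hb hba _ ⟨x, hx, rfl⟩
      rw [Matrix.mulVecLin_apply, hpush]
      exact ⟨_, (hconj a ha b hb hba).2 x hx, rfl⟩
  have hWB : B.map (Matrix.mulVecLin (g : Matn)) ≤ A ∨ B.map (Matrix.mulVecLin (g : Matn)) ≤ B := by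
    apply h.pure_of_invariant hF hk
    · rintro _ ⟨x, hx, rfl⟩ _ ⟨y, hy, rfl⟩
      rw [Matrix.mulVecLin_apply, Matrix.mulVecLin_apply, hgU]
      exact h.tiB x hx y hy
    · rintro a ha b hb hba _ ⟨x, hx, rfl⟩
      rw [Matrix.mulVecLin_apply, hpush]
      exact ⟨_, (hconj a ha b hb hba).1 x hx, rfl⟩
  -- a pair of non-orthogonal vectors
  have hAne : ∃ a ∈ A, a ≠ 0 := by
    by_contra hc
    push Not at hc
    have hA0 : A = ⊥ := by
      rw [eq_bot_iff]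
      intro x hx
      rw [Submodule.mem_bot]
      exact hc x hx
    have := h.finA
    rw [hA0, finrank_bot] at this
    omega
  obtain ⟨a₀, ha₀, ha₀0⟩ := hAne
  obtain ⟨b₀, hb₀, hb₀a₀⟩ := h.dual hF ha₀ ha₀0
  have hne : ⟪(g : Matn) *ᵥ b₀, (g : Matn) *ᵥ a₀⟫ ≠ 0 := by rwa [hgU]
  rcases hWA with hAA | hAB
  · rcases hWB with hBA | hBB
    · exact hne (h.tiA _ (hBA ⟨b₀, hb₀, rfl⟩) _ (hAA ⟨a₀, ha₀, rfl⟩))
    · exact h1 ⟨fun a ha => hAA ⟨a, ha, rfl⟩, fun b hb => hBB ⟨b, hb, rfl⟩⟩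
  · rcases hWB with hBA | hBB
    · exact h2 ⟨fun a ha => hAB ⟨a, ha, rfl⟩, fun b hb => hBA ⟨b, hb, rfl⟩⟩
    · exact hne (h.tiB _ (hBB ⟨b₀, hb₀, rfl⟩) _ (hAB ⟨a₀, ha₀, rfl⟩))

end Cfsg.Agent.Helper13
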