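import Cfsg.Agent.Helper13.UPair2

set_option autoImplicit false

namespace Cfsg.Agent.Helper13

open Matrix Cfsg.Agent.S0837

variable {F : Type*} [Field F] [Fintype F] {q n : ℕ}

local notation "⟪" x ", " y "⟫" => Cfsg.hermForm n F q x y
local notation "Matn" => Matrix (Fin n) (Fin n) F

omit [Fintype F] in
/-- `E(e, λ e, 0)` is a transvection -/
theorem eichler_self_smul (e : Fin n → F) (l : F) :
    eichler q e (l • e) 0 = Cfsg.unitaryTransvection n q e (l - l ^ q) := by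
  apply mat_ext_mulVec
  intro x
  rw [eichler_mulVec, unitaryTransvection_mulVec, hermForm_smul_right]
  module

omit [Fintype F] in
theorem finrank_span_pair_le_two' (u y : Fin n → F) :
    Module.finrank F (Submodule.span F ({u, y} : Set (Fin n → F))) ≤ 2 := by
  classical
  have h5 : Module.finrank F
      (Submodule.span F ((({u, y} : Finset (Fin n → F))) : Set (Fin n → F))) ≤ _ :=
    finrank_span_finset_le_card (R := F) ({u, y} : Finset (Fin n → F))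
  have h6 : ({u, y} : Finset (Fin n → F)).card ≤ 2 := Finset.card_le_two
  have h7 : ((({u, y} : Finset (Fin n → F))) : Set (Fin n → F)) = ({u, y} : Set (Fin n → F)) := by
    simp
  rw [h7] at h5
  omega

/-- a vector of `A` orthogonal to `u`, `y` and outside the span of `u₀`, `y₀` -/
theorem LagPair.exists_perp_outside (hF : Fintype.card F = q ^ 2)
    {A B : Submodule F (Fin n → F)} {k : ℕ} (h : LagPair q A B k) (hk : 5 ≤ k)
    (u y u₀ y₀ : Fin n → F) :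
    ∃ e ∈ A, ⟪e, u⟫ = 0 ∧ ⟪e, y⟫ = 0 ∧ e ∉ Submodule.span F ({u₀, y₀} : Set (Fin n → F)) := by
  have h1 := finrank_span_pair_le_two' u y
  have h2 := finrank_span_pair_le_two' u₀ y₀
  have h3 := finrank_perpSub hF (Submodule.span F ({u, y} : Set (Fin n → F)))
  have h4 := Submodule.finrank_sup_add_finrank_inf_eq A
    (perpSub q (Submodule.span F ({u, y} : Set (Fin n → F))))
  have h5 : Module.finrank F
      (A ⊔ perpSub q (Submodule.span F ({u, y} : Set (Fin n → F))) : Submodule F (Fin n → F)) ≤ n := by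
    have := Submodule.finrank_le
      (A ⊔ perpSub q (Submodule.span F ({u, y} : Set (Fin n → F))))
    rwa [Module.finrank_fintype_fun_eq_card, Fintype.card_fin] at this
  have h7 := h.two_mul
  have h8 := h.finA
  have h6 : ¬ (A ⊓ perpSub q (Submodule.span F ({u, y} : Set (Fin n → F))) ≤
      Submodule.span F ({u₀, y₀} : Set (Fin n → F))) := by
    intro hle
    have := Submodule.finrank_mono hle
    omega
  obtain ⟨e, he, hen⟩ := SetLike.not_le_iff_exists.mp h6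
  refine ⟨e, he.1, ?_, ?_, hen⟩
  · exact he.2 u (Submodule.subset_span (by simp))
  · exact he.2 y (Submodule.subset_span (by simp))

/-- the key step: an Eichler transformation of `M` moving a vector of `B` out of `B` yields a
non-zero vector of `A` all of whose transvections lie in `M` -/
theorem LagPair.engine (hF : Fintype.card F = q ^ 2) {A B : Submodule F (Fin n → F)} {k : ℕ}
    (h : LagPair q A B k) (hk : 5 ≤ k) {M : Subgroup (GL (Fin n) F)}
    (hH : ∀ a ∈ A, ∀ b ∈ B, ⟪b, a⟫ = 0 → MatMem M (eichler q a b 0))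
    {u y : Fin n → F} (huu : ⟪u, u⟫ = 0) (hyy : ⟪y, y⟫ = 0) (hyu : ⟪y, u⟫ = 0)
    (hg : MatMem M (eichler q u y 0)) {f'' : Fin n → F} (hf'' : f'' ∈ B)
    (hgf : eichler q u y 0 *ᵥ f'' ∉ B) :
    ∃ e ∈ A, e ≠ 0 ∧ e ∈ utvVecs q M := by
  have hq := two_le_of_card_eq_sq hF
  have hq0 : q ≠ 0 := by omega
  obtain ⟨u₀, hu₀, u₁, hu₁, hudec⟩ := h.decomp u
  obtain ⟨y₀, hy₀, y₁, hy₁, hydec⟩ := h.decomp y
  obtain ⟨e, heA, heu, hey, hen⟩ := h.exists_perp_outside hF hk u y u₀ y₀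
  have hX : Submodule.span F ({u₀, y₀} : Set (Fin n → F)) ≤ A := by
    rw [Submodule.span_le]
    rintro x (rfl | rfl)
    · exact hu₀
    · exact hy₀
  have hu₀X : u₀ ∈ Submodule.span F ({u₀, y₀} : Set (Fin n → F)) :=
    Submodule.subset_span (by simp)
  have hy₀X : y₀ ∈ Submodule.span F ({u₀, y₀} : Set (Fin n → F)) :=
    Submodule.subset_span (by simp)
  have he0 : e ≠ 0 := by
    rintro rfl
    exact hen (Submodule.zero_mem _)
  have hee : ⟪e, e⟫ = 0 := h.tiA e heA e heA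
  obtain ⟨f₂, hf₂, hf₂X, hf₂e⟩ := h.sep hF hX heA hen
  have hf₂u : ⟪f₂, u⟫ = 0 := by
    rw [hudec, hermForm_add_right hF, hf₂X u₀ hu₀X, h.tiB f₂ hf₂ u₁ hu₁, add_zero]
  have hf₂y : ⟪f₂, y⟫ = 0 := by
    rw [hydec, hermForm_add_right hF, hf₂X y₀ hy₀X, h.tiB f₂ hf₂ y₁ hy₁, add_zero]
  -- the corrected vector
  obtain ⟨f', hf'def⟩ : ∃ f', f' = f'' - (⟪f'', e⟫ * (⟪f₂, e⟫)⁻¹) • f₂ := ⟨_, rfl⟩
  have hf' : f' ∈ B := by
    rw [hf'def]
    exact B.sub_mem hf'' (B.smul_mem _ hf₂)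
  have hf'e : ⟪f', e⟫ = 0 := by
    rw [hf'def, hermForm_sub_left, hermForm_smul_left, mul_assoc, inv_mul_cancel₀ hf₂e, mul_one,
      sub_self]
  obtain ⟨α, hα⟩ : ∃ α, α = ⟪f', u⟫ := ⟨_, rfl⟩
  obtain ⟨γ, hγ⟩ : ∃ γ, γ = ⟪f', y⟫ := ⟨_, rfl⟩
  have hα' : α = ⟪f'', u⟫ := by
    rw [hα, hf'def, hermForm_sub_left, hermForm_smul_left, hf₂u, mul_zero, sub_zero]
  have hγ' : γ = ⟪f'', y⟫ := by
    rw [hγ, hf'def, hermForm_sub_left, hermForm_smul_left, hf₂y, mul_zero, sub_zero]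
  obtain ⟨z, hz⟩ : ∃ z, z = f' + α • y - γ • u := ⟨_, rfl⟩
  obtain ⟨z₀, hz₀⟩ : ∃ z₀, z₀ = α • y₀ - γ • u₀ := ⟨_, rfl⟩
  obtain ⟨z₁, hz₁⟩ : ∃ z₁, z₁ = f' + α • y₁ - γ • u₁ := ⟨_, rfl⟩
  have hzdec : z = z₀ + z₁ := by
    rw [hz, hz₀, hz₁, hudec, hydec]
    module
  have hz₀A : z₀ ∈ A := by
    rw [hz₀]
    exact A.sub_mem (A.smul_mem _ hy₀) (A.smul_mem _ hu₀)
  have hz₀X : z₀ ∈ Submodule.span F ({u₀, y₀} : Set (Fin n → F)) := by
    rw [hz₀]
    exact Submodule.sub_mem _ (Submodule.smul_mem _ _ hy₀X) (Submodule.smul_mem _ _ hu₀X)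
  have hz₁B : z₁ ∈ B := by
    rw [hz₁]
    exact B.sub_mem (B.add_mem hf' (B.smul_mem _ hy₁)) (B.smul_mem _ hu₁)
  have hz₀0 : z₀ ≠ 0 := by
    intro h0
    apply hgf
    rw [eichler_mulVec, ← hα', ← hγ']
    have : f'' + α • y - γ • u + (0 * α) • u = z₀ + (f'' + α • y₁ - γ • u₁) := by
      rw [hz₀, hudec, hydec]
      module
    rw [this, h0, zero_add]
    exact B.sub_mem (B.add_mem hf'' (B.smul_mem _ hy₁)) (B.smul_mem _ hu₁)
  -- the element `g`
  have hgU : IsU q (eichler q u y 0) :=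
    isU_eichler hF huu hyu (by rw [hyy, zero_pow hq0]; ring)
  have hnyu : ⟪-y, u⟫ = 0 := by rw [hermForm_neg_left, hyu, neg_zero]
  have hGG' : eichler q u y 0 * eichler q u (-y) 0 = 1 := by
    rw [eichler_mul hF 0 0 huu hyu hnyu, hermForm_neg_left, hyy, add_neg_cancel]
    simp only [add_zero, neg_zero, sub_zero]
    exact eichler_zero_zero hF u
  have hg' : MatMem M (eichler q u (-y) 0) := hg.of_mul_eq_one hGG'
  have hge : eichler q u y 0 *ᵥ e = e := by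
    rw [eichler_mulVec, heu, hey]
    module
  have hgf' : eichler q u y 0 *ᵥ f' = z := by
    rw [eichler_mulVec, ← hα, ← hγ, hz]
    module
  have hze : ⟪z, e⟫ = 0 := by
    rw [← hgf', ← hge, hgU, hf'e]
  have hz₀e : ⟪z₀, e⟫ = 0 := h.tiA z₀ hz₀A e heA
  have hz₁e : ⟪z₁, e⟫ = 0 := by
    have h1 := hze
    rw [hzdec, hermForm_add_left, hz₀e, zero_add] at h1
    exact h1
  have hzmem : ∀ c : F, MatMem M (eichler q e (c • z) 0) := by
    intro c
    have hcf : ⟪c • f', e⟫ = 0 := by rw [hermForm_smul_left, hf'e, mul_zero]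
    have h1 := conj_eichler hgU hGG' e (c • f') 0
    rw [hge, Matrix.mulVec_smul, hgf'] at h1
    rw [← h1]
    exact (hg.mul (hH e heA (c • f') (B.smul_mem c hf') hcf)).mul hg'
  -- splitting off the part in `B`
  have hBc : ∀ c : F, ∃ s : F, MatMem M (eichler q e (c • z₀) s) := by
    intro c
    have h1 : ⟪c • z, e⟫ = 0 := by rw [hermForm_smul_left, hze, mul_zero]
    have h3 : ⟪-(c • z₁), e⟫ = 0 := by
      rw [hermForm_neg_left, hermForm_smul_left, hz₁e, mul_zero, neg_zero]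
    have h4 := eichler_mul hF 0 0 hee h1 h3
    have h5 : c • z + -(c • z₁) = c • z₀ := by
      rw [hzdec]
      module
    rw [h5] at h4
    refine ⟨0 + 0 - ⟪-(c • z₁), c • z⟫, ?_⟩
    rw [← h4]
    exact (hzmem c).mul (hH e heA _ (B.neg_mem (B.smul_mem c hz₁B)) h3)
  -- `z₀` is not a multiple of `e`
  have hsepz : ∀ c : F, z₀ ≠ c • e := by
    intro c hc
    by_cases hc0 : c = 0
    · apply hz₀0
      rw [hc, hc0, zero_smul]
    · apply hen
      have h1 : e = c⁻¹ • z₀ := by rw [hc, smul_smul, inv_mul_cancel₀ hc0, one_smul]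
      rw [h1]
      exact Submodule.smul_mem _ _ hz₀X
  obtain ⟨f₁, hf₁, hf₁e, hf₁z₀⟩ := h.sep_one hF hz₀A heA hsepz
  obtain ⟨β, hβ⟩ : ∃ β, β = ⟪z₀, f₁⟫ := ⟨_, rfl⟩
  have hβ0 : β ≠ 0 := by
    rw [hβ]
    exact hermForm_ne_zero_symm hF hf₁z₀
  have hef₁ : ⟪e, f₁⟫ = 0 := hermForm_eq_zero_symm hF hf₁e
  have hf₁f₁ : ⟪f₁, f₁⟫ = 0 := h.tiB f₁ hf₁ f₁ hf₁
  have hρ : MatMem M (eichler q e f₁ 0) := hH e heA f₁ hf₁ hf₁e
  have hρU : IsU q (eichler q e f₁ 0) :=
    isU_eichler hF hee hf₁e (by rw [hf₁f₁, zero_pow hq0]; ring)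
  have hnf₁e : ⟪-f₁, e⟫ = 0 := by rw [hermForm_neg_left, hf₁e, neg_zero]
  have hρρ' : eichler q e f₁ 0 * eichler q e (-f₁) 0 = 1 := by
    rw [eichler_mul hF 0 0 hee hf₁e hnf₁e, hermForm_neg_left, hf₁f₁, add_neg_cancel]
    simp only [add_zero, neg_zero, sub_zero]
    exact eichler_zero_zero hF e
  have hρ' : MatMem M (eichler q e (-f₁) 0) := hρ.of_mul_eq_one hρρ'
  have hρe : eichler q e f₁ 0 *ᵥ e = e := by
    rw [eichler_mulVec, hee, hef₁]
    module
  have hρz : ∀ c : F, eichler q e f₁ 0 *ᵥ (c • z₀) = c • z₀ + (-(c * β)) • e := by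
    intro c
    rw [eichler_mulVec, hermForm_smul_left, hermForm_smul_left, hz₀e, ← hβ]
    module
  have hz₀z₀ : ⟪z₀, z₀⟫ = 0 := h.tiA z₀ hz₀A z₀ hz₀A
  have hez₀ : ⟪e, z₀⟫ = 0 := h.tiA e heA z₀ hz₀A
  refine ⟨e, heA, he0, hee, ?_⟩
  intro d hd g₀ hg₀
  obtain ⟨μ, hμ⟩ := exists_frob_sub_eq hF hd
  obtain ⟨c, hc⟩ : ∃ c : F, c * β = μ := ⟨μ * β⁻¹, by field_simp⟩
  obtain ⟨s, hs⟩ := hBc c
  have hcz₀e : ⟪c • z₀, e⟫ = 0 := by rw [hermForm_smul_left, hz₀e, mul_zero]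
  have hncz₀e : ⟪-(c • z₀), e⟫ = 0 := by rw [hermForm_neg_left, hcz₀e, neg_zero]
  -- the conjugate of `B_c`
  have h1 := conj_eichler hρU hρρ' e (c • z₀) s
  rw [hρe, hρz] at h1
  have h3 : MatMem M (eichler q e (c • z₀ + (-(c * β)) • e) s) := by
    rw [← h1]
    exact (hρ.mul hs).mul hρ'
  -- the inverse of `B_c`
  have h4 : MatMem M (eichler q e (-(c • z₀)) (-s)) := by
    apply hs.of_mul_eq_one
    have e1 : c • z₀ + -(c • z₀) = 0 := add_neg_cancel _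
    have e2 : s + -s - ⟪-(c • z₀), c • z₀⟫ = 0 := by
      rw [hermForm_neg_left, hermForm_smul_left, hermForm_smul_right, hz₀z₀]
      ring
    rw [eichler_mul hF s (-s) hee hcz₀e hncz₀e, e1, e2]
    exact eichler_zero_zero hF e
  have h5 : ⟪c • z₀ + (-(c * β)) • e, e⟫ = 0 := by
    rw [hermForm_add_left, hcz₀e, hermForm_smul_left, hee, mul_zero, add_zero]
  have h7 := eichler_mul hF s (-s) hee h5 hncz₀e
  have h8 : c • z₀ + (-(c * β)) • e + -(c • z₀) = (-(c * β)) • e := by module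
  have h9 : s + -s - ⟪-(c • z₀), c • z₀ + (-(c * β)) • e⟫ = 0 := by
    rw [hermForm_neg_left, hermForm_add_right hF, hermForm_smul_left, hermForm_smul_right,
      hermForm_smul_right, hz₀z₀, hermForm_smul_left, hz₀e]
    ring
  rw [h8, h9, eichler_self_smul, hc] at h7
  have h10 : -μ - (-μ) ^ q = d := by
    rw [frob_neg' hF]
    linear_combination hμ
  rw [h10] at h7
  exact (h3.mul h4).mem g₀ (by rw [hg₀, ← h7, hc])

end Cfsg.Agent.Helper13
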