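import Cfsg.Agent.Helper13.UPair3

set_option autoImplicit false

namespace Cfsg.Agent.Helper13

open Matrix Cfsg.Agent.S0837

variable {F : Type*} [Field F] [Fintype F] {q n : ℕ}

local notation "⟪" x ", " y "⟫" => Cfsg.hermForm n F q x y
local notation "Matn" => Matrix (Fin n) (Fin n) F

/-- the Eichler transformations `E(a, b, 0)` act transitively on the non-zero vectors of `A` -/
theorem LagPair.utv_of_one (hF : Fintype.card F = q ^ 2) {A B : Submodule F (Fin n → F)} {k : ℕ}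
    (h : LagPair q A B k) {M : Subgroup (GL (Fin n) F)} (hM : M ≤ Cfsg.GU n F q)
    (hH : ∀ a ∈ A, ∀ b ∈ B, ⟪b, a⟫ = 0 → MatMem M (eichler q a b 0))
    {e : Fin n → F} (heA : e ∈ A) (he0 : e ≠ 0) (heS : e ∈ utvVecs q M) :
    ∀ a ∈ A, a ∈ utvVecs q M := by
  intro a ha
  by_cases hmul : ∃ c : F, a = c • e
  · obtain ⟨c, rfl⟩ := hmul
    exact utvVecs_smul hF heS c
  push Not at hmul
  have hsep : ∀ c : F, e ≠ c • (a - e) := by
    intro c hc
    have hc0 : c ≠ 0 := by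
      rintro rfl
      rw [zero_smul] at hc
      exact he0 hc
    apply hmul ((1 + c) * c⁻¹)
    have h1 : c • a = (1 + c) • e := by
      have : c • a = e + c • e := by
        nth_rewrite 1 [hc]
        module
      rw [this]
      module
    have h3 := congrArg (fun z => c⁻¹ • z) h1
    simp only [smul_smul, inv_mul_cancel₀ hc0, one_smul] at h3
    rw [h3, mul_comm]
  obtain ⟨b, hb, hbae, hbe⟩ := h.sep_one hF heA (A.sub_mem ha heA) hsep
  have heb : ⟪e, b⟫ ≠ 0 := hermForm_ne_zero_symm hF hbe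
  obtain ⟨c, hc⟩ : ∃ c : F, c = (-(⟪e, b⟫)⁻¹) ^ q := ⟨_, rfl⟩
  have hcq : c ^ q = -(⟪e, b⟫)⁻¹ := by rw [hc, frob_frob hF]
  obtain ⟨b', hb'⟩ : ∃ b', b' = c • b := ⟨_, rfl⟩
  have hb'B : b' ∈ B := by rw [hb']; exact B.smul_mem _ hb
  have hb'ae : ⟪b', a - e⟫ = 0 := by rw [hb', hermForm_smul_left, hbae, mul_zero]
  have heb' : ⟪e, b'⟫ = -1 := by
    rw [hb', hermForm_smul_right, hcq]
    field_simp
  have h1 := (hH _ (A.sub_mem ha heA) _ hb'B hb'ae).mulVec_utv hM heS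
  rw [eichler_mulVec, h.tiA e heA _ (A.sub_mem ha heA), heb'] at h1
  have h3 : e + (0 : F) • b' - (-1 : F) • (a - e) + ((0 : F) * 0) • (a - e) = a := by module
  rwa [h3] at h1

/-- the swap of a hyperbolic pair as a product of three transvections -/
theorem exists_hyp_swap (hF : Fintype.card F = q ^ 2) {a b : Fin n → F} (haa : ⟪a, a⟫ = 0)
    (hbb : ⟪b, b⟫ = 0) (hba : ⟪b, a⟫ = 1) :
    ∃ (w : Matn) (δ ε : F), InTW q (Submodule.span F ({a, b} : Set (Fin n → F))) w ∧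
      w *ᵥ a = ε • b ∧ w *ᵥ b = δ • a := by
  obtain ⟨δ, hδ0, hδ⟩ := Cfsg.Agent.Helper5.exists_trace_zero hF (F := F)
  have hab : ⟪a, b⟫ = 1 := by rw [← hermForm_conj hF, hba, one_pow]
  have haP : a ∈ Submodule.span F ({a, b} : Set (Fin n → F)) := Submodule.subset_span (by simp)
  have hbP : b ∈ Submodule.span F ({a, b} : Set (Fin n → F)) := Submodule.subset_span (by simp)
  have hδt : δ + δ ^ q = 0 := by rw [hδ]; ring
  have hεt : -δ⁻¹ + (-δ⁻¹) ^ q = 0 := by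
    rw [frob_neg' hF, inv_pow, hδ]
    field_simp
    ring
  have hεδ : -δ⁻¹ * δ = -1 := by field_simp
  have e1 : Cfsg.unitaryTransvection n q a δ *ᵥ a = a := by
    rw [unitaryTransvection_mulVec, haa, mul_zero, zero_smul, add_zero]
  have e2 : Cfsg.unitaryTransvection n q b (-δ⁻¹) *ᵥ a = a + (-δ⁻¹) • b := by
    rw [unitaryTransvection_mulVec, hab, mul_one]
  have e3 : Cfsg.unitaryTransvection n q a δ *ᵥ b = b + δ • a := by
    rw [unitaryTransvection_mulVec, hba, mul_one]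
  have e4 : Cfsg.unitaryTransvection n q b (-δ⁻¹) *ᵥ b = b := by
    rw [unitaryTransvection_mulVec, hbb, mul_zero, zero_smul, add_zero]
  refine ⟨Cfsg.unitaryTransvection n q a δ * Cfsg.unitaryTransvection n q b (-δ⁻¹) *
    Cfsg.unitaryTransvection n q a δ, δ, -δ⁻¹,
    ((InTW.tv haP haa hδt).mul (InTW.tv hbP hbb hεt)).mul (InTW.tv haP haa hδt), ?_, ?_⟩
  · rw [← Matrix.mulVec_mulVec, ← Matrix.mulVec_mulVec, e1, e2, Matrix.mulVec_add,
      Matrix.mulVec_smul, e1, e3]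
    linear_combination (norm := module) hεδ • a
  · have s1 : Cfsg.unitaryTransvection n q b (-δ⁻¹) *ᵥ (b + δ • a) =
        b + δ • (a + (-δ⁻¹) • b) := by
      rw [Matrix.mulVec_add, Matrix.mulVec_smul, e4, e2]
    have s2 : Cfsg.unitaryTransvection n q a δ *ᵥ (b + δ • (a + (-δ⁻¹) • b)) =
        (b + δ • a) + δ • (a + (-δ⁻¹) • (b + δ • a)) := by
      rw [Matrix.mulVec_add, Matrix.mulVec_smul, Matrix.mulVec_add, Matrix.mulVec_smul, e3, e1]
    rw [← Matrix.mulVec_mulVec, ← Matrix.mulVec_mulVec, e3, s1, s2]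
    linear_combination (norm := module) hεδ • b + (δ * hεδ) • a

omit [Fintype F] in
theorem mem_perpSub_singleton (b x : Fin n → F) :
    x ∈ perpSub q (Submodule.span F {b}) ↔ ⟪x, b⟫ = 0 := by
  rw [mem_perpSub]
  constructor
  · intro h
    exact h b (Submodule.mem_span_singleton_self b)
  · intro h w hw
    obtain ⟨c, rfl⟩ := Submodule.mem_span_singleton.mp hw
    rw [hermForm_smul_right, h, mul_zero]

/-- a product of unitary transvections interchanging two totally isotropic subspaces in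
duality -/
theorem exists_uswap (hF : Fintype.card F = q ^ 2) :
    ∀ (m : ℕ) (A B : Submodule F (Fin n → F)), Module.finrank F A = m →
    (∀ x ∈ A, ∀ y ∈ A, ⟪x, y⟫ = 0) → (∀ x ∈ B, ∀ y ∈ B, ⟪x, y⟫ = 0) →
    (∀ a ∈ A, a ≠ 0 → ∃ b ∈ B, ⟪b, a⟫ ≠ 0) → (∀ b ∈ B, b ≠ 0 → ∃ a ∈ A, ⟪a, b⟫ ≠ 0) →
    ∃ N : Matn, InTW q (A ⊔ B) N ∧ (∀ a ∈ A, N *ᵥ a ∈ B) ∧ (∀ b ∈ B, N *ᵥ b ∈ A) := by
  intro m
  induction m using Nat.strong_induction_on with
  | _ m ih =>
    intro A B hAm hA hB hP1 hP2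
    by_cases hA0 : A = ⊥
    · have hB0 : ∀ b ∈ B, b = 0 := by
        intro b hb
        by_contra hb0
        obtain ⟨a, ha, hab⟩ := hP2 b hb hb0
        rw [hA0, Submodule.mem_bot] at ha
        rw [ha, hermForm_zero_left] at hab
        exact hab rfl
      refine ⟨1, InTW.one, ?_, ?_⟩
      · intro a ha
        rw [hA0, Submodule.mem_bot] at ha
        rw [ha, Matrix.mulVec_zero]
        exact B.zero_mem
      · intro b hb
        rw [hB0 b hb, Matrix.mulVec_zero]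
        exact A.zero_mem
    obtain ⟨a, ha, ha0⟩ := (Submodule.ne_bot_iff A).mp hA0
    obtain ⟨b₀, hb₀, hb₀a⟩ := hP1 a ha ha0
    obtain ⟨b, hbdef⟩ : ∃ b, b = (⟪b₀, a⟫)⁻¹ • b₀ := ⟨_, rfl⟩
    have hb : b ∈ B := by rw [hbdef]; exact B.smul_mem _ hb₀
    have hba : ⟪b, a⟫ = 1 := by rw [hbdef, hermForm_smul_left, inv_mul_cancel₀ hb₀a]
    have hab : ⟪a, b⟫ = 1 := by rw [← hermForm_conj hF, hba, one_pow]
    have haa : ⟪a, a⟫ = 0 := hA a ha a ha
    have hbb : ⟪b, b⟫ = 0 := hB b hb b hb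
    -- the smaller pair
    obtain ⟨A₁, hA₁⟩ : ∃ A₁, A₁ = A ⊓ perpSub q (Submodule.span F {b}) := ⟨_, rfl⟩
    obtain ⟨B₁, hB₁⟩ : ∃ B₁, B₁ = B ⊓ perpSub q (Submodule.span F {a}) := ⟨_, rfl⟩
    have hA₁le : A₁ ≤ A := by rw [hA₁]; exact inf_le_left
    have hB₁le : B₁ ≤ B := by rw [hB₁]; exact inf_le_left
    have hA₁b : ∀ x ∈ A₁, ⟪x, b⟫ = 0 := by
      intro x hx
      rw [hA₁] at hx
      exact (mem_perpSub_singleton b x).mp hx.2
    have hB₁a : ∀ x ∈ B₁, ⟪x, a⟫ = 0 := by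
      intro x hx
      rw [hB₁] at hx
      exact (mem_perpSub_singleton a x).mp hx.2
    have hA₁mem : ∀ x ∈ A, ⟪x, b⟫ = 0 → x ∈ A₁ := by
      intro x hx hxb
      rw [hA₁]
      exact ⟨hx, (mem_perpSub_singleton b x).mpr hxb⟩
    have hB₁mem : ∀ x ∈ B, ⟪x, a⟫ = 0 → x ∈ B₁ := by
      intro x hx hxa
      rw [hB₁]
      exact ⟨hx, (mem_perpSub_singleton a x).mpr hxa⟩
    have hA₁lt : A₁ < A := by
      refine lt_of_le_of_ne hA₁le ?_
      intro h
      have : a ∈ A₁ := by rw [h]; exact ha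
      have h1 := hA₁b a this
      rw [hab] at h1
      exact one_ne_zero h1
    have hfinlt := Submodule.finrank_lt_finrank_of_lt hA₁lt
    have hA₁ti : ∀ x ∈ A₁, ∀ y ∈ A₁, ⟪x, y⟫ = 0 :=
      fun x hx y hy => hA x (hA₁le hx) y (hA₁le hy)
    have hB₁ti : ∀ x ∈ B₁, ∀ y ∈ B₁, ⟪x, y⟫ = 0 :=
      fun x hx y hy => hB x (hB₁le hx) y (hB₁le hy)
    have hP1' : ∀ a₁ ∈ A₁, a₁ ≠ 0 → ∃ b₁ ∈ B₁, ⟪b₁, a₁⟫ ≠ 0 := by
      intro a₁ ha₁ ha₁0
      obtain ⟨b', hb', hb'a₁⟩ := hP1 a₁ (hA₁le ha₁) ha₁0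
      have hba₁ : ⟪b, a₁⟫ = 0 := hermForm_eq_zero_symm hF (hA₁b a₁ ha₁)
      refine ⟨b' - ⟪b', a⟫ • b, hB₁mem _ (B.sub_mem hb' (B.smul_mem _ hb)) ?_, ?_⟩
      · rw [hermForm_sub_left, hermForm_smul_left, hba]
        ring
      · rw [hermForm_sub_left, hermForm_smul_left, hba₁, mul_zero, sub_zero]
        exact hb'a₁
    have hP2' : ∀ b₁ ∈ B₁, b₁ ≠ 0 → ∃ a₁ ∈ A₁, ⟪a₁, b₁⟫ ≠ 0 := by
      intro b₁ hb₁ hb₁0
      obtain ⟨a', ha', ha'b₁⟩ := hP2 b₁ (hB₁le hb₁) hb₁0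
      have hab₁ : ⟪a, b₁⟫ = 0 := hermForm_eq_zero_symm hF (hB₁a b₁ hb₁)
      refine ⟨a' - ⟪a', b⟫ • a, hA₁mem _ (A.sub_mem ha' (A.smul_mem _ ha)) ?_, ?_⟩
      · rw [hermForm_sub_left, hermForm_smul_left, hab]
        ring
      · rw [hermForm_sub_left, hermForm_smul_left, hab₁, mul_zero, sub_zero]
        exact ha'b₁
    obtain ⟨N₂, hN₂, hN₂A, hN₂B⟩ := ih _ (by omega) A₁ B₁ rfl hA₁ti hB₁ti hP1' hP2'
    obtain ⟨w, δ, ε, hw, hwa, hwb⟩ := exists_hyp_swap hF haa hbb hba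
    have hPle : Submodule.span F ({a, b} : Set (Fin n → F)) ≤ A ⊔ B := by
      rw [Submodule.span_le]
      rintro x (rfl | rfl)
      · exact Submodule.mem_sup_left ha
      · exact Submodule.mem_sup_right hb
    refine ⟨N₂ * w, (hN₂.mono (sup_le_sup hA₁le hB₁le)).mul (hw.mono hPle), ?_, ?_⟩
    · -- vectors of `A`
      intro x hx
      have hx₁ : x - ⟪x, b⟫ • a ∈ A₁ := by
        apply hA₁mem _ (A.sub_mem hx (A.smul_mem _ ha))
        rw [hermForm_sub_left, hermForm_smul_left, hab]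
        ring
      have hwx₁ : w *ᵥ (x - ⟪x, b⟫ • a) = x - ⟪x, b⟫ • a := by
        apply hw.fixPerp
        intro p hp
        obtain ⟨s, t, rfl⟩ := Submodule.mem_span_pair.mp hp
        rw [hermForm_add_right hF, hermForm_smul_right, hermForm_smul_right,
          hA _ (hA₁le hx₁) a ha, hA₁b _ hx₁]
        ring
      have hN₂b : N₂ *ᵥ b = b := by
        apply hN₂.fixPerp
        intro p hp
        obtain ⟨a₁, ha₁, b₁, hb₁, rfl⟩ := Submodule.mem_sup.mp hp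
        rw [hermForm_add_right hF, hB b hb b₁ (hB₁le hb₁),
          hermForm_eq_zero_symm hF (hA₁b a₁ ha₁)]
        ring
      have hxdec : x = ⟪x, b⟫ • a + (x - ⟪x, b⟫ • a) := by abel
      rw [← Matrix.mulVec_mulVec]
      nth_rewrite 1 [hxdec]
      rw [Matrix.mulVec_add, Matrix.mulVec_smul, hwa, hwx₁, Matrix.mulVec_add, Matrix.mulVec_smul,
        Matrix.mulVec_smul, hN₂b]
      exact B.add_mem (B.smul_mem _ (B.smul_mem _ hb)) (hB₁le (hN₂A _ hx₁))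
    · -- vectors of `B`
      intro y hy
      have hy₁ : y - ⟪y, a⟫ • b ∈ B₁ := by
        apply hB₁mem _ (B.sub_mem hy (B.smul_mem _ hb))
        rw [hermForm_sub_left, hermForm_smul_left, hba]
        ring
      have hwy₁ : w *ᵥ (y - ⟪y, a⟫ • b) = y - ⟪y, a⟫ • b := by
        apply hw.fixPerp
        intro p hp
        obtain ⟨s, t, rfl⟩ := Submodule.mem_span_pair.mp hp
        rw [hermForm_add_right hF, hermForm_smul_right, hermForm_smul_right,
          hB _ (hB₁le hy₁) b hb, hB₁a _ hy₁]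
        ring
      have hN₂a : N₂ *ᵥ a = a := by
        apply hN₂.fixPerp
        intro p hp
        obtain ⟨a₁, ha₁, b₁, hb₁, rfl⟩ := Submodule.mem_sup.mp hp
        rw [hermForm_add_right hF, hA a ha a₁ (hA₁le ha₁),
          hermForm_eq_zero_symm hF (hB₁a b₁ hb₁)]
        ring
      have hydec : y = ⟪y, a⟫ • b + (y - ⟪y, a⟫ • b) := by abel
      rw [← Matrix.mulVec_mulVec]
      nth_rewrite 1 [hydec]
      rw [Matrix.mulVec_add, Matrix.mulVec_smul, hwb, hwy₁, Matrix.mulVec_add, Matrix.mulVec_smul,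
        Matrix.mulVec_smul, hN₂a]
      exact A.add_mem (A.smul_mem _ (A.smul_mem _ ha)) (hA₁le (hN₂B _ hy₁))

/-- from the two members to all isotropic vectors -/
theorem LagPair.utv_all (hF : Fintype.card F = q ^ 2) {A B : Submodule F (Fin n → F)} {k : ℕ}
    (h : LagPair q A B k) {M : Subgroup (GL (Fin n) F)} (hM : M ≤ Cfsg.GU n F q)
    (hAS : ∀ a ∈ A, a ∈ utvVecs q M) (hBS : ∀ b ∈ B, b ∈ utvVecs q M) :
    ∀ x : Fin n → F, ⟪x, x⟫ = 0 → x ∈ utvVecs q M := by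
  have key : ∀ a ∈ A, ∀ b ∈ B, ⟪b, a⟫ ≠ 0 → ⟪a + b, a + b⟫ = 0 → a + b ∈ utvVecs q M := by
    intro a ha b hb hba hxx
    have hab : ⟪a, b⟫ ≠ 0 := hermForm_ne_zero_symm hF hba
    have htr : ⟪a, b⟫ + ⟪b, a⟫ = 0 := by
      rw [hermForm_add_left, hermForm_add_right hF, hermForm_add_right hF, h.tiA a ha a ha,
        h.tiB b hb b hb] at hxx
      linear_combination hxx
    have hc : (⟪a, b⟫)⁻¹ + ((⟪a, b⟫)⁻¹) ^ q = 0 := by
      rw [inv_pow, hermForm_conj hF]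
      field_simp
      linear_combination htr
    have h1 := utvVecs_tv hM (hBS b hb) (hAS a ha) hc
    rwa [inv_mul_cancel₀ hab, one_smul] at h1
  intro x hxx
  obtain ⟨a, ha, b, hb, rfl⟩ := h.decomp x
  by_cases ha0 : a = 0
  · rw [ha0, zero_add]
    exact hBS b hb
  by_cases hba : ⟪b, a⟫ = 0
  · have hab : ⟪a, b⟫ = 0 := hermForm_eq_zero_symm hF hba
    obtain ⟨δ, hδ0, hδ⟩ := Cfsg.Agent.Helper5.exists_trace_zero hF (F := F)
    obtain ⟨b₀, hb₀, hb₀a⟩ := h.dual hF ha ha0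
    obtain ⟨b', hb'def⟩ : ∃ b', b' = (δ * (⟪b₀, a⟫)⁻¹) • b₀ := ⟨_, rfl⟩
    have hb' : b' ∈ B := by rw [hb'def]; exact B.smul_mem _ hb₀
    have hb'a : ⟪b', a⟫ = δ := by
      rw [hb'def, hermForm_smul_left, mul_assoc, inv_mul_cancel₀ hb₀a, mul_one]
    have hab' : ⟪a, b'⟫ = -δ := by rw [← hermForm_conj hF, hb'a, hδ]
    have h1 : a + b' ∈ utvVecs q M := by
      apply key a ha b' hb' (by rw [hb'a]; exact hδ0)
      rw [hermForm_add_left, hermForm_add_right hF, hermForm_add_right hF, h.tiA a ha a ha,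
        h.tiB b' hb' b' hb', hb'a, hab']
      ring
    have h3 : b - b' ∈ utvVecs q M := hBS _ (B.sub_mem hb hb')
    have hc : δ⁻¹ + (δ⁻¹) ^ q = 0 := by
      rw [inv_pow, hδ]
      field_simp
      ring
    have h4 := utvVecs_tv hM h3 h1 hc
    have h5 : ⟪a + b', b - b'⟫ = δ := by
      rw [hermForm_add_left, hermForm_sub_right hF, hermForm_sub_right hF, hab, hab',
        h.tiB b' hb' b hb, h.tiB b' hb' b' hb']
      ring
    rw [h5, inv_mul_cancel₀ hδ0, one_smul] at h4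
    have h6 : a + b' + (b - b') = a + b := by abel
    rwa [h6] at h4
  · exact key a ha b hb hba hxx

end Cfsg.Agent.Helper13
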