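import Cfsg.Agent.Helper13.UPair4

set_option autoImplicit false

namespace Cfsg.Agent.Helper13

open Matrix Cfsg.Agent.S0837

variable {F : Type*} [Field F] [Fintype F] {q n : ℕ}

local notation "⟪" x ", " y "⟫" => Cfsg.hermForm n F q x y
local notation "Matn" => Matrix (Fin n) (Fin n) F

omit [Fintype F] in
/-- an invertible matrix mapping `W` into `W'` of the same dimension maps `W` onto `W'` -/
theorem map_toLin'_eq_of_maps_into_fin (g : GL (Fin n) F) {W W' : Submodule F (Fin n → F)}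
    (hfin : Module.finrank F W = Module.finrank F W') (h : ∀ x ∈ W, (g : Matn) *ᵥ x ∈ W') :
    W.map (Matrix.toLin' (g : Matn)) = W' := by
  have hinj : Function.Injective (Matrix.toLin' (g : Matn)) := by
    intro x y hxy
    rw [Matrix.toLin'_apply, Matrix.toLin'_apply] at hxy
    exact glU_mulVec_injective g hxy
  have hle : W.map (Matrix.toLin' (g : Matn)) ≤ W' := by
    rintro _ ⟨x, hx, rfl⟩
    rw [Matrix.toLin'_apply]
    exact h x hx
  apply Submodule.eq_of_le_of_finrank_eq hle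
  rw [← hfin]
  have h3 := LinearEquiv.finrank_map_eq (LinearEquiv.ofInjectiveEndo _ hinj) W
  rw [← h3]
  congr 2

omit [Fintype F] in
theorem mem_decompStab_two_fin {k : ℕ} {D : Fin 2 → Submodule F (Fin n → F)}
    (hfin : ∀ i, Module.finrank F (D i) = k) (g : GL (Fin n) F)
    (σ : Equiv.Perm (Fin 2)) (h : ∀ i, ∀ x ∈ D i, (g : Matn) *ᵥ x ∈ D (σ i)) :
    g ∈ Cfsg.Geo.decompositionStabilizer D := by
  change ∃ σ : Equiv.Perm (Fin 2), ∀ i, (D i).map (Matrix.toLin' (g : Matn)) = D (σ i)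
  exact ⟨σ, fun i => map_toLin'_eq_of_maps_into_fin g (by rw [hfin, hfin]) (h i)⟩

omit [Fintype F] in
theorem maps_of_mem_decompStab_two_fin {D : Fin 2 → Submodule F (Fin n → F)} {g : GL (Fin n) F}
    (hg : g ∈ Cfsg.Geo.decompositionStabilizer D) :
    ∃ σ : Equiv.Perm (Fin 2), ∀ i, ∀ x ∈ D i, (g : Matn) *ᵥ x ∈ D (σ i) := by
  obtain ⟨σ, hσ⟩ := hg
  refine ⟨σ, fun i x hx => ?_⟩
  rw [← hσ i]
  exact ⟨x, hx, by rw [Matrix.toLin'_apply]⟩

/-- the stabiliser of a pair of complementary totally isotropic subspaces is maximal in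
`SU_{2k}(q)` -/
theorem su_lag_pair_stab_isMaximalIn (hF : Fintype.card F = q ^ 2) (hn : 13 ≤ n) (k : ℕ)
    (D : Fin 2 → Submodule F (Fin n → F)) (hD : Cfsg.Geo.IsMDecomposition k D)
    (hts : ∀ i, Cfsg.Geo.IsTotallySingularFor (Cfsg.hermForm n F q) (D i)) :
    Cfsg.Geo.IsMaximalIn (Cfsg.GU n F q ⊓ Cfsg.Geo.specialLinear (Fin n) F)
      (Cfsg.Geo.decompositionStabilizer D ⊓
        (Cfsg.GU n F q ⊓ Cfsg.Geo.specialLinear (Fin n) F)) := by
  have hq := two_le_of_card_eq_sq hF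
  have hq0 : q ≠ 0 := by omega
  have hfin := hD.finrank_eq
  have hinf : D 0 ⊓ D 1 = ⊥ := by
    have h01 : (0 : Fin 2) ≠ 1 := by decide
    exact disjoint_iff.mp (hD.indep.pairwiseDisjoint h01)
  have hsup : D 0 ⊔ D 1 = ⊤ := by
    rw [eq_top_iff, ← hD.iSup_eq_top]
    apply iSup_le
    intro i
    fin_cases i
    · exact le_sup_left
    · exact le_sup_right
  have hL : LagPair q (D 0) (D 1) k := ⟨hts 0, hts 1, hsup, hinf, hfin 0, hfin 1⟩
  have hkn := hL.two_mul
  have hk7 : 7 ≤ k := by omega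
  have h32 : ¬ (n = 3 ∧ q = 2) := by omega
  -- the Eichler transformations of the stabiliser
  have hHP : ∀ a ∈ D 0, ∀ b ∈ D 1, ⟪b, a⟫ = 0 → MatMem
      (Cfsg.Geo.decompositionStabilizer D ⊓
        (Cfsg.GU n F q ⊓ Cfsg.Geo.specialLinear (Fin n) F)) (eichler q a b 0) := by
    intro a ha b hb hba
    have haa : ⟪a, a⟫ = 0 := hL.tiA a ha a ha
    have hbb : ⟪b, b⟫ = 0 := hL.tiB b hb b hb
    refine ⟨glOfDetOne (eichler q a b 0) (det_eichler hF 0 haa hba), ⟨?_, ?_, ?_⟩,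
      glOfDetOne_coe _ _⟩
    · apply mem_decompStab_two_fin hfin _ 1
      intro i
      fin_cases i
      · intro x hx
        rw [glOfDetOne_coe, eichler_mulVec, hL.tiA x hx a ha]
        simp only [zero_smul, add_zero, mul_zero, Equiv.Perm.coe_one, id_eq]
        exact (D 0).sub_mem hx ((D 0).smul_mem _ ha)
      · intro x hx
        rw [glOfDetOne_coe, eichler_mulVec, hL.tiB x hx b hb]
        simp only [zero_smul, add_zero, sub_zero, Equiv.Perm.coe_one, id_eq, zero_mul]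
        exact (D 1).add_mem hx ((D 1).smul_mem _ hb)
    · exact (mem_GU_iff _).mpr (by
        rw [glOfDetOne_coe]
        exact isU_eichler hF haa hba (by rw [hbb, zero_pow hq0]; ring))
    · exact (mem_specialLinear_iff _).mpr (by
        rw [glOfDetOne_coe]; exact det_eichler hF 0 haa hba)
  -- the swap
  have hP1 : ∀ a ∈ D 0, a ≠ 0 → ∃ b ∈ D 1, ⟪b, a⟫ ≠ 0 := fun a ha ha0 => hL.dual hF ha ha0
  have hP2 : ∀ b ∈ D 1, b ≠ 0 → ∃ a ∈ D 0, ⟪a, b⟫ ≠ 0 := fun b hb hb0 => hL.symm.dual hF hb hb0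
  obtain ⟨N₀, hN₀, hN₀A, hN₀B⟩ := exists_uswap hF k (D 0) (D 1) (hfin 0) hL.tiA hL.tiB hP1 hP2
  have hsP : MatMem (Cfsg.Geo.decompositionStabilizer D ⊓
      (Cfsg.GU n F q ⊓ Cfsg.Geo.specialLinear (Fin n) F)) N₀ := by
    refine ⟨glOfDetOne N₀ hN₀.det, ⟨?_, ?_, ?_⟩, glOfDetOne_coe _ _⟩
    · apply mem_decompStab_two_fin hfin _ (Equiv.swap 0 1)
      intro i
      fin_cases i
      · intro x hx
        rw [glOfDetOne_coe]
        simpa using hN₀A x hx
      · intro x hx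
        rw [glOfDetOne_coe]
        simpa using hN₀B x hx
    · exact (mem_GU_iff _).mpr (by rw [glOfDetOne_coe]; exact hN₀.isU hF)
    · exact (mem_specialLinear_iff _).mpr (by rw [glOfDetOne_coe]; exact hN₀.det)
  obtain ⟨a₀, ha₀, ha₀0⟩ : ∃ a ∈ D 0, a ≠ 0 := by
    by_contra hc
    push Not at hc
    have : D 0 = ⊥ := by
      rw [eq_bot_iff]
      intro x hx
      rw [Submodule.mem_bot]
      exact hc x hx
    have h1 := hfin 0
    rw [this, finrank_bot] at h1
    omega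
  refine ⟨lt_of_le_of_ne inf_le_right ?_, ?_⟩
  · -- properness
    intro heq
    obtain ⟨δ, hδ0, hδ⟩ := Cfsg.Agent.Helper5.exists_trace_zero hF (F := F)
    have hδ' : δ + δ ^ q = 0 := by rw [hδ]; ring
    obtain ⟨b₀, hb₀, hb₀a⟩ := hL.dual hF ha₀ ha₀0
    obtain ⟨b, hbdef⟩ : ∃ b, b = (δ * (⟪b₀, a₀⟫)⁻¹) • b₀ := ⟨_, rfl⟩
    have hb : b ∈ D 1 := by rw [hbdef]; exact (D 1).smul_mem _ hb₀
    have hba : ⟪b, a₀⟫ = δ := by
      rw [hbdef, hermForm_smul_left, mul_assoc, inv_mul_cancel₀ hb₀a, mul_one]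
    have hab : ⟪a₀, b⟫ = -δ := by rw [← hermForm_conj hF, hba, hδ]
    have hb0 : b ≠ 0 := by
      rintro rfl
      rw [hermForm_zero_left] at hba
      exact hδ0 hba.symm
    have hxx : ⟪a₀ + b, a₀ + b⟫ = 0 := by
      rw [hermForm_add_left, hermForm_add_right hF, hermForm_add_right hF, hL.tiA a₀ ha₀ a₀ ha₀,
        hL.tiB b hb b hb, hba, hab]
      ring
    -- a non-zero vector of `D 0` orthogonal to `b`
    have hX : Submodule.span F {b} ≤ D 1 := by
      rw [Submodule.span_le, Set.singleton_subset_iff]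
      exact hb
    have hfr := hL.symm.finrank_inf_perp hF hX
    have hfr1 := finrank_span_singleton_le_one' b
    obtain ⟨a', ha', ha'0⟩ : ∃ a ∈ D 0 ⊓ perpSub q (Submodule.span F {b}), a ≠ 0 := by
      by_contra hc
      push Not at hc
      have : D 0 ⊓ perpSub q (Submodule.span F {b}) = ⊥ := by
        rw [eq_bot_iff]
        intro x hx
        rw [Submodule.mem_bot]
        exact hc x hx
      rw [this, finrank_bot] at hfr
      omega
    have ha'b : ⟪a', b⟫ = 0 := (mem_perpSub_singleton b a').mp ha'.2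
    have h1 : glOfDetOne (Cfsg.unitaryTransvection n q (a₀ + b) δ)
        (det_unitaryTransvection (a₀ + b) δ hxx) ∈
        Cfsg.Geo.decompositionStabilizer D ⊓
          (Cfsg.GU n F q ⊓ Cfsg.Geo.specialLinear (Fin n) F) := by
      rw [heq]
      refine ⟨?_, ?_⟩
      · exact (mem_GU_iff _).mpr (by
          rw [glOfDetOne_coe]; exact isU_unitaryTransvection hF (a₀ + b) δ hxx hδ')
      · exact (mem_specialLinear_iff _).mpr (by
          rw [glOfDetOne_coe]; exact det_unitaryTransvection (a₀ + b) δ hxx)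
    obtain ⟨σ, hσ⟩ := maps_of_mem_decompStab_two_fin h1.1
    have h3 := hσ 0 a' ha'.1
    rw [glOfDetOne_coe, unitaryTransvection_mulVec, hermForm_add_right hF,
      hL.tiA a' ha'.1 a₀ ha₀, ha'b, add_zero, mul_zero, zero_smul, add_zero] at h3
    have h4 := hσ 0 a₀ ha₀
    rw [glOfDetOne_coe, unitaryTransvection_mulVec, hermForm_add_right hF,
      hL.tiA a₀ ha₀ a₀ ha₀, hab, zero_add] at h4
    have hcases : σ 0 = 0 ∨ σ 0 = 1 := by
      generalize σ 0 = j
      fin_cases j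
      · left; rfl
      · right; rfl
    rcases hcases with h5 | h5
    · rw [h5] at h4
      have h6 : (δ * -δ) • b ∈ D 0 := by
        have := (D 0).sub_mem h4 ((D 0).add_mem ha₀ ((D 0).smul_mem (δ * -δ) ha₀))
        have h7 : a₀ + (δ * -δ) • (a₀ + b) - (a₀ + (δ * -δ) • a₀) = (δ * -δ) • b := by module
        rwa [h7] at this
      have h7 : b ∈ D 0 := by
        have := (D 0).smul_mem (δ * -δ)⁻¹ h6
        rwa [smul_smul, inv_mul_cancel₀ (mul_ne_zero hδ0 (neg_ne_zero.mpr hδ0)), one_smul] at this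
      exact hb0 (hL.eq_zero_of_mem h7 hb)
    · rw [h5] at h3
      exact ha'0 (hL.eq_zero_of_mem ha'.1 h3)
  · intro M hPM hMG
    by_cases hMP : M = Cfsg.Geo.decompositionStabilizer D ⊓
        (Cfsg.GU n F q ⊓ Cfsg.Geo.specialLinear (Fin n) F)
    · exact Or.inl hMP
    right
    have hMGU : M ≤ Cfsg.GU n F q := hMG.trans inf_le_left
    obtain ⟨g, hgM, hgP⟩ : ∃ g ∈ M, g ∉ Cfsg.Geo.decompositionStabilizer D ⊓
        (Cfsg.GU n F q ⊓ Cfsg.Geo.specialLinear (Fin n) F) := by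
      by_contra hcon
      push Not at hcon
      exact hMP (le_antisymm hcon hPM)
    have hgS : g ∉ Cfsg.Geo.decompositionStabilizer D := fun h1 => hgP ⟨h1, hMG hgM⟩
    have hH : ∀ a ∈ D 0, ∀ b ∈ D 1, ⟪b, a⟫ = 0 → MatMem M (eichler q a b 0) := by
      intro a ha b hb hba
      obtain ⟨g', hg', hg'N⟩ := hHP a ha b hb hba
      exact ⟨g', hPM hg', hg'N⟩
    have hH' : ∀ b ∈ D 1, ∀ a ∈ D 0, ⟪a, b⟫ = 0 → MatMem M (eichler q b a 0) := by
      intro b hb a ha hab
      rw [eichler_flip hF]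
      apply hH a ha (-b) ((D 1).neg_mem hb)
      rw [hermForm_neg_left, hermForm_eq_zero_symm hF hab, neg_zero]
    obtain ⟨s, hsP', hsN⟩ := hsP
    have hsM : s ∈ M := hPM hsP'
    have hs'M : s⁻¹ ∈ M := M.inv_mem hsM
    have hback : ∀ x : Fin n → F, ((s⁻¹ : GL (Fin n) F) : Matn) *ᵥ (N₀ *ᵥ x) = x := by
      intro x
      rw [← hsN, Matrix.mulVec_mulVec, ← Units.val_mul, inv_mul_cancel, Units.val_one,
        Matrix.one_mulVec]
    have h1 : ¬ ((∀ a ∈ D 0, (g : Matn) *ᵥ a ∈ D 0) ∧ (∀ b ∈ D 1, (g : Matn) *ᵥ b ∈ D 1)) := by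
      rintro ⟨h3, h4⟩
      apply hgS
      apply mem_decompStab_two_fin hfin _ 1
      intro i
      fin_cases i
      · simpa using h3
      · simpa using h4
    have h3 : ¬ ((∀ a ∈ D 0, (g : Matn) *ᵥ a ∈ D 1) ∧ (∀ b ∈ D 1, (g : Matn) *ᵥ b ∈ D 0)) := by
      rintro ⟨h3, h4⟩
      apply hgS
      apply mem_decompStab_two_fin hfin _ (Equiv.swap 0 1)
      intro i
      fin_cases i
      · simpa using h3
      · simpa using h4
    obtain ⟨u, y, huu, hyy, hyu, hE, hcase⟩ := hL.exists_bad hF (by omega) hMGU hH hgM h1 h3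
    -- both members lie in `utvVecs q M`
    have hboth : (∀ a ∈ D 0, a ∈ utvVecs q M) ∧ (∀ b ∈ D 1, b ∈ utvVecs q M) := by
      rcases hcase with ⟨f, hf, hgf⟩ | ⟨e, he, hge⟩
      · obtain ⟨e, heA, he0, heS⟩ := hL.engine hF (by omega) hH huu hyy hyu hE hf hgf
        have hAS := hL.utv_of_one hF hMGU hH heA he0 heS
        refine ⟨hAS, ?_⟩
        intro b hb
        have h4 := utvVecs_map hMGU hs'M (hAS _ (hN₀B b hb))
        rwa [hback] at h4
      · obtain ⟨e', heB, he0, heS⟩ := hL.symm.engine hF (by omega) hH' huu hyy hyu hE he hge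
        have hBS := hL.symm.utv_of_one hF hMGU hH' heB he0 heS
        refine ⟨?_, hBS⟩
        intro a ha
        have h4 := utvVecs_map hMGU hs'M (hBS _ (hN₀A a ha))
        rwa [hback] at h4
    have hall := hL.utv_all hF hMGU hboth.1 hboth.2
    apply le_antisymm hMG
    exact suGL_le_of_tv hF h32 M hall

end Cfsg.Agent.Helper13
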