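import Cfsg.Agent.Helper13.UFrames
import Cfsg.Agent.Helper5.UnitaryCenter

set_option autoImplicit false

namespace Cfsg.Agent.Helper13

open Matrix

variable {F : Type*} [Field F] [Fintype F] {q n : ℕ}

/-- the rank one matrix `x ↦ h(x, w) u` -/
def rankOne (q : ℕ) (u w : Fin n → F) : Matrix (Fin n) (Fin n) F :=
  Matrix.vecMulVec u (fun j => w j ^ q)

omit [Fintype F] in
theorem rankOne_mulVec (u w x : Fin n → F) :
    rankOne q u w *ᵥ x = Cfsg.hermForm n F q x w • u := by
  rw [rankOne, Matrix.vecMulVec_mulVec]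
  have : (fun j => w j ^ q) ⬝ᵥ x = Cfsg.hermForm n F q x w := by
    simp only [dotProduct, Cfsg.hermForm]
    refine Finset.sum_congr rfl fun i _ => ?_
    ring
  rw [this]
  ext i
  simp [mul_comm]

omit [Fintype F] in
theorem one_add_rankOne_mulVec (c : F) (u w x : Fin n → F) :
    (1 + c • rankOne q u w) *ᵥ x = x + (c * Cfsg.hermForm n F q x w) • u := by
  rw [Matrix.add_mulVec, Matrix.one_mulVec, Matrix.smul_mulVec, rankOne_mulVec, smul_smul]

omit [Fintype F] in
theorem det_one_add_rankOne (c : F) (u w : Fin n → F) :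
    (1 + c • rankOne q u w).det = 1 + c * Cfsg.hermForm n F q u w := by
  unfold rankOne
  rw [← Matrix.vecMulVec_smul, Matrix.vecMulVec_eq Unit,
    Matrix.det_one_add_replicateCol_mul_replicateRow]
  congr 1
  simp only [dotProduct, Cfsg.hermForm, Pi.smul_apply, smul_eq_mul, Finset.mul_sum]
  apply Finset.sum_congr rfl
  intro i _
  ring

/-- the hyperbolic rotation `e ↦ (1+α) e`, `f ↦ (1+β) f` -/
def hypMat (q : ℕ) (e f : Fin n → F) (α β : F) : Matrix (Fin n) (Fin n) F :=
  (1 + α • rankOne q e f) * (1 + β • rankOne q f e)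

theorem hypMat_mulVec (e f : Fin n → F) (α β : F)
    (hff : Cfsg.hermForm n F q f f = 0) (x : Fin n → F) :
    hypMat q e f α β *ᵥ x =
      x + (α * Cfsg.hermForm n F q x f) • e + (β * Cfsg.hermForm n F q x e) • f := by
  rw [hypMat, ← Matrix.mulVec_mulVec, one_add_rankOne_mulVec, one_add_rankOne_mulVec,
    hermForm_add_left, hermForm_smul_left, hff, mul_zero, add_zero]
  abel

omit [Fintype F] in
theorem det_hypMat (e f : Fin n → F) (α β : F) :
    (hypMat q e f α β).det =
      (1 + α * Cfsg.hermForm n F q e f) * (1 + β * Cfsg.hermForm n F q f e) := by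
  rw [hypMat, Matrix.det_mul, det_one_add_rankOne, det_one_add_rankOne]

theorem hypMat_preserves (hF : Fintype.card F = q ^ 2) (e f : Fin n → F) (α β : F)
    (hee : Cfsg.hermForm n F q e e = 0) (hff : Cfsg.hermForm n F q f f = 0)
    (hef : Cfsg.hermForm n F q e f = 1)
    (hc1 : α ^ q + β + β * α ^ q = 0) (hc2 : β ^ q + α + α * β ^ q = 0) (x y : Fin n → F) :
    Cfsg.hermForm n F q (hypMat q e f α β *ᵥ x) (hypMat q e f α β *ᵥ y) =
      Cfsg.hermForm n F q x y := by
  have hfe : Cfsg.hermForm n F q f e = 1 := by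
    rw [← hermForm_conj hF e f, hef, one_pow]
  rw [hypMat_mulVec e f α β hff, hypMat_mulVec e f α β hff]
  simp only [hermForm_add_left, hermForm_add_right hF, hermForm_smul_left, hermForm_smul_right,
    hee, hff, hef, hfe, mul_pow, hermForm_conj hF y f, hermForm_conj hF y e]
  linear_combination (Cfsg.hermForm n F q x e * Cfsg.hermForm n F q f y) * hc1 +
    (Cfsg.hermForm n F q x f * Cfsg.hermForm n F q e y) * hc2

/-- an isotropic vector has a hyperbolic partner -/
theorem exists_hyperbolic_partner (hF : Fintype.card F = q ^ 2) (e : Fin n → F) (he : e ≠ 0)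
    (hee : Cfsg.hermForm n F q e e = 0) :
    ∃ f : Fin n → F, Cfsg.hermForm n F q f f = 0 ∧ Cfsg.hermForm n F q e f = 1 := by
  have hq := two_le_of_card_eq_sq hF
  obtain ⟨i, hi⟩ : ∃ i, e i ≠ 0 := by
    by_contra hcon
    push Not at hcon
    exact he (funext hcon)
  set c : F := ((e i)⁻¹) ^ q with hc
  have hcq : c ^ q = (e i)⁻¹ := frob_frob hF _
  set y : Fin n → F := c • Pi.single i 1 with hy
  have hey : Cfsg.hermForm n F q e y = 1 := by
    rw [hy, hermForm_smul_right, hermForm_single_right hF, hcq, inv_mul_cancel₀ hi]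
  have hye : Cfsg.hermForm n F q y e = 1 := by
    rw [← hermForm_conj hF e y, hey, one_pow]
  have hfix : (-Cfsg.hermForm n F q y y) ^ q = -Cfsg.hermForm n F q y y := by
    rw [frob_neg' hF, hermForm_self_fixed hF]
  have hcard := card_trace_fiber hF (one_ne_zero (α := F)) hfix
  have hne : Nonempty {t : F // t ^ q * 1 + t * 1 ^ q = -Cfsg.hermForm n F q y y} := by
    apply (Nat.card_pos_iff.mp _).1
    rw [hcard]
    omega
  obtain ⟨t, ht⟩ := hne
  refine ⟨y + t • e, ?_, ?_⟩
  · rw [hermForm_add_smul_self hF e y hee, hye, one_pow]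
    rw [mul_one, one_pow, mul_one] at ht
    rw [mul_one, mul_one, ht]
    ring
  · rw [hermForm_add_right hF, hey, hermForm_smul_right, hee]
    ring

/-- Hilbert 90 for the norm one group -/
theorem exists_div_frob_eq (hF : Fintype.card F = q ^ 2) (l : F) (hl : l ^ (q + 1) = 1) :
    ∃ a : F, a ≠ 0 ∧ a * (a ^ q)⁻¹ = l := by
  have hq := two_le_of_card_eq_sq hF
  have hl0 : l ≠ 0 := by
    rintro rfl
    rw [zero_pow (by omega)] at hl
    exact zero_ne_one hl
  by_cases h1 : 1 + l = 0
  · obtain ⟨c, hc0, hc⟩ := Cfsg.Agent.Helper5.exists_trace_zero hF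
    refine ⟨c, hc0, ?_⟩
    rw [hc]
    have : l = -1 := by linear_combination h1
    rw [this]
    field_simp
  · refine ⟨1 + l, h1, ?_⟩
    have h2 : l ^ q = l⁻¹ := by
      rw [pow_succ] at hl
      exact eq_inv_of_mul_eq_one_left hl
    rw [frob_add hF, one_pow, h2]
    have h3 : (1 + l⁻¹) = (1 + l) * l⁻¹ := by
      field_simp
      ring
    rw [h3, mul_inv, inv_inv, ← mul_assoc, mul_inv_cancel₀ h1, one_mul]

theorem mulVec_stab_iff (M : Matrix (Fin n) (Fin n) F)
    (hM : Function.Injective (fun v : Fin n → F => M *ᵥ v))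
    (W : Submodule F (Fin n → F)) (h : ∀ v ∈ W, M *ᵥ v ∈ W) (v : Fin n → F) :
    v ∈ W ↔ M *ᵥ v ∈ W := by
  have hbij := (Set.Finite.injOn_iff_bijOn_of_mapsTo (Set.toFinite (W : Set (Fin n → F)))
    (f := fun v : Fin n → F => M *ᵥ v) h).mp hM.injOn
  constructor
  · exact h v
  · intro hv
    obtain ⟨w, hw, hwv⟩ := hbij.surjOn hv
    rw [← hM hwv]
    exact hw

/-- the stabiliser in `GU` of a subspace -/
abbrev stabGU (n : ℕ) (F : Type*) [Field F] (q : ℕ) (W : Submodule F (Fin n → F)) :
    Subgroup (Cfsg.GU n F q) :=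
  Cfsg.stabilizing ((Units.coeHom (Matrix (Fin n) (Fin n) F)).comp (Cfsg.GU n F q).subtype)
    (W : Set (Fin n → F))

omit [Fintype F] in
theorem mem_stabGU (W : Submodule F (Fin n → F)) (g : Cfsg.GU n F q) :
    g ∈ stabGU n F q W ↔
      ∀ v, v ∈ W ↔ ((g : GL (Fin n) F) : Matrix (Fin n) (Fin n) F) *ᵥ v ∈ W := Iff.rfl

/-- every norm one scalar is the determinant of a unitary matrix stabilising
a totally isotropic subspace -/
theorem exists_stabGU_det (hF : Fintype.card F = q ^ 2) (hn : 1 ≤ n)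
    (W : Submodule F (Fin n → F))
    (hW : ∀ u ∈ W, ∀ v ∈ W, Cfsg.hermForm n F q u v = 0) (l : F) (hl : l ^ (q + 1) = 1) :
    ∃ g : Cfsg.GU n F q, g ∈ stabGU n F q W ∧
      ((g : GL (Fin n) F) : Matrix (Fin n) (Fin n) F).det = l := by
  have hq := two_le_of_card_eq_sq hF
  by_cases hbot : W = ⊥
  · -- any unitary matrix of determinant `l` works
    have : Nonempty (Fin n) := ⟨⟨0, by omega⟩⟩
    have hmem : (Units.mk0 l (by
        rintro rfl
        rw [zero_pow (by omega)] at hl
        exact zero_ne_one hl) : Fˣ) ∈ (Cfsg.Agent.Helper5.detGU (Fin n) F q).range := by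
      rw [Cfsg.Agent.Helper5.range_detGU hF, MonoidHom.mem_ker, powMonoidHom_apply]
      apply Units.ext
      rw [Units.val_pow_eq_pow_val, Units.val_mk0, hl, Units.val_one]
    obtain ⟨g', hg⟩ := hmem
    obtain ⟨g, hgg'⟩ : ∃ g : Cfsg.GU n F q, g = g' := ⟨g', rfl⟩
    refine ⟨g, ?_, ?_⟩
    · rw [mem_stabGU]
      intro v
      subst hbot
      rw [Submodule.mem_bot, Submodule.mem_bot]
      constructor
      · rintro rfl
        exact Matrix.mulVec_zero _
      · intro hv
        apply GU_mulVec_injective g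
        show _ *ᵥ v = _ *ᵥ (0 : Fin n → F)
        rw [hv, Matrix.mulVec_zero]
    · have := congrArg Units.val hg
      rw [Cfsg.Agent.Helper5.detGU_coe, Units.val_mk0] at this
      rw [← this, hgg']
  · obtain ⟨e, heW, he0⟩ := Submodule.exists_mem_ne_zero_of_ne_bot hbot
    have hee := hW e heW e heW
    obtain ⟨f, hff, hef⟩ := exists_hyperbolic_partner hF e he0 hee
    obtain ⟨a, ha0, hal⟩ := exists_div_frob_eq hF l hl
    have haq0 : a ^ q ≠ 0 := pow_ne_zero _ ha0
    set α : F := a - 1 with hα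
    set β : F := (a ^ q)⁻¹ - 1 with hβ
    have hαq : α ^ q = a ^ q - 1 := by
      rw [hα, sub_eq_add_neg, frob_add hF, frob_neg' hF, one_pow]
      ring
    have hβq : β ^ q = a⁻¹ - 1 := by
      rw [hβ, sub_eq_add_neg, frob_add hF, frob_neg' hF, one_pow, inv_pow, frob_frob hF]
      ring
    have hc1 : α ^ q + β + β * α ^ q = 0 := by
      rw [hαq, hβ]
      field_simp
      ring
    have hc2 : β ^ q + α + α * β ^ q = 0 := by
      rw [hβq, hα]
      field_simp
      ring
    have hfe : Cfsg.hermForm n F q f e = 1 := by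
      rw [← hermForm_conj hF e f, hef, one_pow]
    obtain ⟨g, hg⟩ := exists_GU_of_preserves' hF (hypMat q e f α β)
      (hypMat_preserves hF e f α β hee hff hef hc1 hc2)
    refine ⟨g, ?_, ?_⟩
    · rw [mem_stabGU]
      intro v
      apply mulVec_stab_iff _ (GU_mulVec_injective g) W
      intro x hx
      rw [hg, hypMat_mulVec e f α β hff, hW x hx e heW, mul_zero, zero_smul, add_zero]
      exact W.add_mem hx (W.smul_mem _ heW)
    · rw [hg, det_hypMat, hef, hfe, hα, hβ, ← hal]
      ring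

/-- the determinant on the stabiliser -/
def detStab (n : ℕ) (F : Type*) [Field F] (q : ℕ) (W : Submodule F (Fin n → F)) :
    stabGU n F q W →* Fˣ :=
  Matrix.GeneralLinearGroup.det.comp ((Cfsg.GU n F q).subtype.comp (stabGU n F q W).subtype)

omit [Fintype F] in
theorem detStab_coe (W : Submodule F (Fin n → F)) (g : stabGU n F q W) :
    ((detStab n F q W g : Fˣ) : F) =
      (((g : Cfsg.GU n F q) : GL (Fin n) F) : Matrix (Fin n) (Fin n) F).det := rfl

theorem range_detStab (hF : Fintype.card F = q ^ 2) (hn : 1 ≤ n)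
    (W : Submodule F (Fin n → F))
    (hW : ∀ u ∈ W, ∀ v ∈ W, Cfsg.hermForm n F q u v = 0) :
    (detStab n F q W).range = (powMonoidHom (q + 1) : Fˣ →* Fˣ).ker := by
  ext l
  rw [MonoidHom.mem_ker, powMonoidHom_apply]
  constructor
  · rintro ⟨g, rfl⟩
    apply Units.ext
    rw [Units.val_pow_eq_pow_val, detStab_coe, Units.val_one]
    exact Cfsg.Agent.Helper5.det_pow_eq_one hF g.1.1 g.1.2
  · intro hl
    have hl' : (l : F) ^ (q + 1) = 1 := by
      have := congrArg Units.val hl
      simpa using this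
    obtain ⟨g, hg1, hg2⟩ := exists_stabGU_det hF hn W hW (l : F) hl'
    refine ⟨⟨g, hg1⟩, ?_⟩
    apply Units.ext
    rw [detStab_coe]
    exact hg2

theorem card_stabGU_eq_ker_mul (hF : Fintype.card F = q ^ 2) (hn : 1 ≤ n)
    (W : Submodule F (Fin n → F))
    (hW : ∀ u ∈ W, ∀ v ∈ W, Cfsg.hermForm n F q u v = 0) :
    Nat.card (stabGU n F q W) = Nat.card (detStab n F q W).ker * (q + 1) := by
  have hfin : Finite (stabGU n F q W) := inferInstance
  rw [← Subgroup.card_mul_index (detStab n F q W).ker, Subgroup.index_ker,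
    range_detStab hF hn W hW, Cfsg.Agent.Helper5.card_norm_one_units hF]

/-- the stabiliser in `SU` is the kernel of the determinant on the stabiliser in `GU` -/
def stabSUEquivKer (W : Submodule F (Fin n → F)) :
    ↥((Cfsg.stabilizing (Cfsg.slToMat n F) (W : Set (Fin n → F))).subgroupOf (Cfsg.SU n F q)) ≃
      (detStab n F q W).ker where
  toFun A := ⟨⟨⟨Matrix.SpecialLinearGroup.toGL A.1.1, A.1.2⟩, Subgroup.mem_subgroupOf.mp A.2⟩, by
    rw [MonoidHom.mem_ker]
    apply Units.ext
    rw [detStab_coe]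
    exact A.1.1.2⟩
  invFun g := ⟨⟨⟨g.1.1.1.1, by
      have := g.2
      rw [MonoidHom.mem_ker] at this
      have h := congrArg Units.val this
      rw [detStab_coe] at h
      exact h⟩, g.1.1.2⟩, Subgroup.mem_subgroupOf.mpr g.1.2⟩
  left_inv A := by
    apply Subtype.ext
    apply Subtype.ext
    apply Subtype.ext
    rfl
  right_inv g := by
    apply Subtype.ext
    apply Subtype.ext
    apply Subtype.ext
    apply Units.ext
    rfl

theorem card_stabSU_mul (hF : Fintype.card F = q ^ 2) (hn : 1 ≤ n)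
    (W : Submodule F (Fin n → F))
    (hW : ∀ u ∈ W, ∀ v ∈ W, Cfsg.hermForm n F q u v = 0) :
    (q + 1) * Nat.card ↥((Cfsg.stabilizing (Cfsg.slToMat n F)
      (W : Set (Fin n → F))).subgroupOf (Cfsg.SU n F q)) = Nat.card (stabGU n F q W) := by
  rw [card_stabGU_eq_ker_mul hF hn W hW, Nat.card_congr (stabSUEquivKer (q := q) W), mul_comm]

end Cfsg.Agent.Helper13
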