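import Mathlib
import Cfsg.Agent.Helper13.UMax6
import Cfsg.Agent.Helper13.UnitaryLines
import Cfsg.Agent.Helper5.UnitaryCenter

/-!
# Unitary subfield subgroups `SU_n(q₀) < SU_n(q₀^r)`, `r` an odd prime: field facts

`F` has `q²` elements, `F₀` is a subfield with `|F| = |F₀|^r`, `r` odd.  Then `|F₀| = q₀²`,
`q = q₀^r`, and `x ↦ x^q` restricts to `x ↦ x^q₀` on `F₀`.
-/

set_option autoImplicit false
set_option linter.style.haveILetI false
set_option linter.unusedSectionVars false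

namespace Cfsg.Agent.Helper13

open Matrix Cfsg.Agent.S0837

variable {F : Type*} [Field F] [Fintype F] {q : ℕ}

/-- the data of the subfield situation -/
structure USubData (F : Type*) [Field F] [Fintype F] (q : ℕ) (F₀ : Subfield F) (r q₀ : ℕ) :
    Prop where
  hF : Fintype.card F = q ^ 2
  hr : r.Prime
  hro : Odd r
  hcard : Fintype.card F = Nat.card F₀ ^ r
  hF₀ : Nat.card F₀ = q₀ ^ 2
  hq : q = q₀ ^ r
  hpow : ∀ x ∈ F₀, x ^ q = x ^ q₀

theorem usub_exists_data (hF : Fintype.card F = q ^ 2) (F₀ : Subfield F) {r : ℕ} (hr : r.Prime)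
    (hro : Odd r) (hcard : Fintype.card F = Nat.card F₀ ^ r) :
    ∃ q₀ : ℕ, USubData F q F₀ r q₀ := by
  classical
  haveI : Fintype F₀ := Fintype.ofFinite _
  obtain ⟨k, hk⟩ := hro
  set N₀ := Nat.card F₀ with hN₀
  have hN₀pos : 0 < N₀ := Nat.card_pos
  have h1 : q ^ 2 = N₀ * (N₀ ^ k) ^ 2 := by
    rw [← hF, hcard, hk]; ring
  have hdvd : N₀ ^ k ∣ q := by
    rw [← Nat.pow_dvd_pow_iff (n := 2) (by norm_num)]
    exact Dvd.intro_left _ h1.symm
  obtain ⟨q₀, hq₀⟩ := hdvd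
  have hpos : 0 < (N₀ ^ k) ^ 2 := by positivity
  have h2 : N₀ = q₀ ^ 2 := by
    have : (N₀ ^ k) ^ 2 * q₀ ^ 2 = (N₀ ^ k) ^ 2 * N₀ := by
      rw [← mul_pow, ← hq₀, h1]; ring
    exact (Nat.eq_of_mul_eq_mul_left hpos this).symm
  have h3 : q = q₀ ^ r := by
    rw [hq₀, h2, hk]; ring
  refine ⟨q₀, hF, hr, ⟨k, hk⟩, hcard, h2, h3, ?_⟩
  intro x hx
  have hx1 : x ^ N₀ = x := by
    have := FiniteField.pow_card (⟨x, hx⟩ : F₀)
    rw [← Nat.card_eq_fintype_card] at this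
    exact congrArg Subtype.val this
  have hx2 : ∀ j : ℕ, x ^ (N₀ ^ j) = x := by
    intro j
    induction j with
    | zero => simp
    | succ j ih => rw [pow_succ, pow_mul, ih, hx1]
  rw [hq₀, pow_mul, hx2]

section data

variable {F₀ : Subfield F} {r q₀ : ℕ} (hS : USubData F q F₀ r q₀)
include hS

theorem USubData.q₀_two_le : 2 ≤ q₀ := by
  have h1 : 1 < Nat.card F₀ := Finite.one_lt_card
  rw [hS.hF₀] at h1
  by_contra hcon
  have : q₀ = 0 ∨ q₀ = 1 := by omega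
  rcases this with rfl | rfl <;> simp at h1

theorem USubData.frob_mem {x : F} (hx : x ∈ F₀) : x ^ q ∈ F₀ := F₀.pow_mem hx q

theorem USubData.card_sub [Fintype F₀] : Fintype.card F₀ = q₀ ^ 2 := by
  rw [← Nat.card_eq_fintype_card, hS.hF₀]

/-- an element of `F₀` moved by the involution -/
theorem USubData.exists_omega : ∃ ω ∈ F₀, ω ^ q ≠ ω := by
  classical
  haveI : Fintype F₀ := Fintype.ofFinite _
  have hF' : Fintype.card F₀ = q₀ ^ 2 := hS.card_sub
  have h1 := frobHom_ne_id hF'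
  have : ∃ x : F₀, frobHom hF' x ≠ x := by
    by_contra hcon
    push Not at hcon
    exact h1 (RingHom.ext hcon)
  obtain ⟨x, hx⟩ := this
  refine ⟨x, x.2, ?_⟩
  intro h
  apply hx
  apply Subtype.ext
  rw [frobHom_apply]
  have := hS.hpow x x.2
  rw [h] at this
  simpa using this.symm

/-- a non-zero element of trace zero in `F₀` -/
theorem USubData.exists_eps : ∃ ε ∈ F₀, ε ≠ 0 ∧ ε ^ q = -ε := by
  classical
  haveI : Fintype F₀ := Fintype.ofFinite _
  have hF' : Fintype.card F₀ = q₀ ^ 2 := hS.card_sub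
  obtain ⟨c, hc0, hc⟩ := Cfsg.Agent.Helper5.exists_trace_zero hF'
  refine ⟨c, c.2, ?_, ?_⟩
  · intro h
    apply hc0
    exact Subtype.ext h
  · rw [hS.hpow c c.2]
    have := congrArg Subtype.val hc
    simpa using this

/-- the norm `F₀ → K₀` is onto -/
theorem USubData.exists_norm {a : F} (ha : a ∈ F₀) (haq : a ^ q = a) :
    ∃ l ∈ F₀, l * l ^ q = a := by
  classical
  haveI : Fintype F₀ := Fintype.ofFinite _
  have hF' : Fintype.card F₀ = q₀ ^ 2 := hS.card_sub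
  have ha' : (⟨a, ha⟩ : F₀) ^ q₀ = ⟨a, ha⟩ := by
    apply Subtype.ext
    show a ^ q₀ = a
    rw [← hS.hpow a ha, haq]
  obtain ⟨l, hl⟩ := exists_norm_eq_of_fixed hF' ha'
  refine ⟨l, l.2, ?_⟩
  rw [hS.hpow l l.2]
  have := congrArg Subtype.val hl
  simpa using this

/-- the trace `F₀ → K₀` is onto -/
theorem USubData.exists_trace {a : F} (ha : a ∈ F₀) (haq : a ^ q = a) :
    ∃ t ∈ F₀, t + t ^ q = a := by
  classical
  haveI : Fintype F₀ := Fintype.ofFinite _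
  have hF' : Fintype.card F₀ = q₀ ^ 2 := hS.card_sub
  have ha' : (⟨a, ha⟩ : F₀) ^ q₀ = ⟨a, ha⟩ := by
    apply Subtype.ext
    show a ^ q₀ = a
    rw [← hS.hpow a ha, haq]
  obtain ⟨t, ht⟩ := exists_trace_eq_of_fixed hF' ha'
  refine ⟨t, t.2, ?_⟩
  rw [hS.hpow t t.2]
  have := congrArg Subtype.val ht
  simpa using this

/-- (F9) an element all of whose twisted traces with `F₀` lie in `F₀` lies in `F₀` -/
theorem USubData.mem_of_trace_mem {ζ : F} (h : ∀ b ∈ F₀, b * ζ + b ^ q * ζ ^ q ∈ F₀) :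
    ζ ∈ F₀ := by
  obtain ⟨ω, hω, hωq⟩ := hS.exists_omega
  have h1 := h 1 F₀.one_mem
  have h2 := h ω hω
  rw [one_pow, one_mul, one_mul] at h1
  have hne : ω ^ q - ω ≠ 0 := sub_ne_zero.mpr hωq
  have h3 : ζ = (ω ^ q * (ζ + ζ ^ q) - (ω * ζ + ω ^ q * ζ ^ q)) / (ω ^ q - ω) := by
    field_simp
    ring
  rw [h3]
  exact F₀.div_mem (F₀.sub_mem (F₀.mul_mem (hS.frob_mem hω) h1) h2)
    (F₀.sub_mem (hS.frob_mem hω) hω)

end data

end Cfsg.Agent.Helper13
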