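import Mathlib
import Cfsg.Agent.Helper13.USubDefs
import Cfsg.Agent.Helper11.USubUK2b
import Cfsg.Agent.Helper97.USubU2a
import Cfsg.Agent.Helper55.USubR12
import Cfsg.Agent.Helper55.USubULTE
import Cfsg.Agent.Helper14.USubUK3
import Cfsg.Agent.Helper14.USubUK3p
import Cfsg.Agent.Helper59.USubUORD
import Cfsg.Agent.Helper59.USubUIDX
import Cfsg.Agent.Helper41.USubUB1b
import Cfsg.Agent.Helper33.USubBR
import Cfsg.Agent.Helper50.USubUK1
import Cfsg.Agent.Helper70.USubU2c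
import Cfsg.Agent.Helper37.USubR0
import Cfsg.Agent.Helper37.USubUK2
import Cfsg.Agent.Helper32.USubU2b
import Cfsg.Agent.Helper13.SubOddAsm
import Cfsg.Agent.Helper13.SubInvF

/-!
# Assembly lemmas for S5982
-/

set_option autoImplicit false

namespace Cfsg.Agent.Helper13.USub

open Matrix Polynomial Cfsg Cfsg.Geo
open Cfsg.Agent.Helper43.PGLPrime (zp mult)
open Cfsg.Agent.Helper43.GUPrime (utilde)
open Cfsg.Agent.Helper13.SubOdd
open Cfsg.Agent.Helper11.USubUK2b (utilde_charpoly_of_mem_GU)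
open Cfsg.Agent.Helper97.USubU2a (conj_of_sq_square)
open Cfsg.Agent.Helper55.USubR12 (relIndex_eq_of_conj allConj_iff_of_conj)
open Cfsg.Agent.Helper55.USubULTE (padicValNat_sq_pow_sub_one_eq)
open Cfsg.Agent.Helper14.USubUK3 (mult_affine_of_utilde)
open Cfsg.Agent.Helper14.USubUK3p (utilde_of_mult_invariant)
open Cfsg.Agent.Helper59.USubUORD (exists_dvd_pow_sub_one_of_dvd_relIndex)
open Cfsg.Agent.Helper59.USubUIDX (not_dvd_relIndex)
open Cfsg.Agent.Helper41.USubUB1b (not_conj_of_block_unitary)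
open Cfsg.Agent.Helper33.USubBR (mem_SLs_iff)
open Cfsg.Agent.Helper50.USubUK1 (conj_of_utilde)
open Cfsg.Agent.Helper70.USubU2c (conj_of_char_two)
open Cfsg.Agent.Helper37.USubR0 (exists_conj_similarityGroup)
open Cfsg.Agent.Helper37.USubUK2 (exists_smul_GU_of_mem_sim norm_eq_one_of_smul_mem_GU)

variable {F : Type*} [Field F] {n : ℕ}

/-- an element of `SLs` as an element of `Matrix.SpecialLinearGroup` -/
theorem exists_sl_of_mem (x : GL (Fin n) F) (hx : x ∈ SLs n F) :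
    ∃ X : Matrix.SpecialLinearGroup (Fin n) F,
      (X : Matrix (Fin n) (Fin n) F) = (x : Matrix (Fin n) (Fin n) F) :=
  ⟨⟨x.val, (mem_SLs_iff x).mp hx⟩, rfl⟩

/-- an element of `Matrix.SpecialLinearGroup` as an element of `SLs` -/
theorem exists_gl_of_sl (X : Matrix.SpecialLinearGroup (Fin n) F) :
    ∃ x : GL (Fin n) F, x ∈ SLs n F ∧
      (x : Matrix (Fin n) (Fin n) F) = (X : Matrix (Fin n) (Fin n) F) := by
  refine ⟨Matrix.SpecialLinearGroup.toGL X, ?_, rfl⟩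
  rw [mem_SLs_iff]
  exact X.2

theorem coe_pow_gl (x : GL (Fin n) F) (m : ℕ) :
    ((x ^ m : GL (Fin n) F) : Matrix (Fin n) (Fin n) F) = (x : Matrix (Fin n) (Fin n) F) ^ m :=
  Units.val_pow_eq_pow_val x m

/-- the characteristic polynomial of a scalar multiple of a conjugate -/
theorem charpoly_smul_conj (x g : GL (Fin n) F) (lam : F) :
    (lam • ((g⁻¹ * x * g : GL (Fin n) F) : Matrix (Fin n) (Fin n) F)).charpoly =
      (lam • (x : Matrix (Fin n) (Fin n) F)).charpoly := by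
  have h := Matrix.charpoly_units_conj' g (lam • (x : Matrix (Fin n) (Fin n) F))
  rw [← h]
  congr 1
  rw [Units.val_mul, Units.val_mul, Matrix.mul_smul, Matrix.smul_mul, Matrix.coe_units_inv]


/-- from conjugacy into `SimH` to a `utilde`-fixed characteristic polynomial -/
theorem utilde_of_conj [Fintype F] (q₀ : ℕ) (hF : Fintype.card F = q₀ ^ 2) (bar : F →+* F)
    (hbar : ∀ a, bar a = a ^ q₀) (hn : 0 < n) (x g : GL (Fin n) F)
    (h : g⁻¹ * x * g ∈ SimH n F q₀) :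
    ∃ lam : F, lam ≠ 0 ∧ utilde bar (lam⁻¹ • (x : Matrix (Fin n) (Fin n) F)).charpoly =
      (lam⁻¹ • (x : Matrix (Fin n) (Fin n) F)).charpoly := by
  obtain ⟨lam, u, hlam, hu, hy⟩ := exists_smul_GU_of_mem_sim q₀ hF hn _ h
  refine ⟨lam, hlam, ?_⟩
  have h1 : (u : Matrix (Fin n) (Fin n) F) =
      lam⁻¹ • ((g⁻¹ * x * g : GL (Fin n) F) : Matrix (Fin n) (Fin n) F) := by
    rw [hy, smul_smul, inv_mul_cancel₀ hlam, one_smul]
  have h2 := utilde_charpoly_of_mem_GU q₀ hF bar hbar u hu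
  rw [h1, charpoly_smul_conj] at h2
  exact h2

/-- generic split derangement from an exponent vector (unitary version) -/
theorem derangement_of_cnt_u [Fintype F] (q₀ : ℕ) (hF : Fintype.card F = q₀ ^ 2) (bar : F →+* F)
    (hbar : ∀ a, bar a = a ^ q₀) (hn : 0 < n) (r : ℕ) [Fact r.Prime] (hrF : (r : F) ≠ 0) (ζ : F)
    (hζ : orderOf ζ = r) (a : Fin n → ZMod r) (lam : F) (hlam : lam ≠ 0)
    (hdet : lam ^ n * zp ζ r (∑ i, a i) = 1) (i i' : Fin n) (hne : a i ≠ a i')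
    (hcnt : ¬ ∃ c : ZMod r, ∀ j, cnt a (-(q₀ : ZMod r) * j + c) = cnt a j) :
    ∃ x ∈ SLs n F,
      (∃ z : F, ((x ^ r : GL (Fin n) F) : Matrix (Fin n) (Fin n) F) =
        z • (1 : Matrix (Fin n) (Fin n) F)) ∧
      (∀ z : F, (x : Matrix (Fin n) (Fin n) F) ≠ z • (1 : Matrix (Fin n) (Fin n) F)) ∧
      ∀ g : GL (Fin n) F, g⁻¹ * x * g ∉ SimH n F q₀ := by
  have hζr : ζ ^ r = 1 := by rw [← hζ]; exact pow_orderOf_eq_one ζ
  have hdetx : (lam • dg ζ a).det = 1 := by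
    rw [Matrix.det_smul, Fintype.card_fin, Cfsg.Agent.Helper14.SubOddDIAG.det_dg r ζ hζr a, hdet]
  obtain ⟨x, hxS, hxval⟩ := exists_gl_of_sl (⟨lam • dg ζ a, hdetx⟩ :
    Matrix.SpecialLinearGroup (Fin n) F)
  have hxval' : (x : Matrix (Fin n) (Fin n) F) = lam • dg ζ a := hxval
  refine ⟨x, hxS, ⟨lam ^ r, ?_⟩, ?_, ?_⟩
  · rw [coe_pow_gl, hxval', _root_.smul_pow, Cfsg.Agent.Helper14.SubOddDIAG.dg_pow r ζ hζr a]
  · intro z
    rw [hxval']
    exact Cfsg.Agent.Helper14.SubOddDIAG.dg_ne_smul r ζ hζ a i i' hne lam z hlam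
  · intro g hg
    obtain ⟨lam', hlam', hfix⟩ := utilde_of_conj q₀ hF bar hbar hn x g hg
    rw [hxval'] at hfix
    apply hcnt
    have h1 : lam'⁻¹ • (lam • dg ζ a) = (lam' * lam⁻¹)⁻¹ • dg ζ a := by
      rw [smul_smul, mul_inv, inv_inv]
    rw [h1] at hfix
    obtain ⟨c, hc⟩ := mult_affine_of_utilde q₀ hF bar hbar hn r hrF ζ hζ (dg ζ a)
      (Cfsg.Agent.Helper14.SubOddDIAG.dg_pow r ζ hζr a) (lam' * lam⁻¹)
      (mul_ne_zero hlam' (inv_ne_zero hlam)) hfix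
    refine ⟨c, fun j => ?_⟩
    rw [← Cfsg.Agent.Helper14.SubOddDIAG.mult_dg r ζ hζ a,
      ← Cfsg.Agent.Helper14.SubOddDIAG.mult_dg r ζ hζ a]
    exact hc j

/-- `4 ∣ q₀² - 1` for `q₀` odd -/
theorem four_dvd_sq_sub_one (q₀ : ℕ) (h : Odd q₀) : 4 ∣ q₀ ^ 2 - 1 := by
  obtain ⟨t, rfl⟩ := h
  have : (2 * t + 1) ^ 2 - 1 = 4 * (t * (t + 1)) := by
    have : (2 * t + 1) ^ 2 = 4 * (t * (t + 1)) + 1 := by ring
    rw [this]; simp
  rw [this]
  exact dvd_mul_right _ _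

/-- `r = 2` (⇐), odd characteristic -/
theorem allConj_two_of_val_le [Fintype F] (q₀ : ℕ) (hF : Fintype.card F = q₀ ^ 2)
    (h2 : (2 : F) ≠ 0) (hn : 0 < n)
    (hv : padicValNat 2 n ≤ padicValNat 2 (Fintype.card F - 1)) :
    AllConj n F 2 (SimH n F q₀) := by
  classical
  intro x hx ⟨z, hz⟩ _
  obtain ⟨X, hX⟩ := exists_sl_of_mem x hx
  have hXz : ((X ^ 2 : Matrix.SpecialLinearGroup (Fin n) F) : Matrix (Fin n) (Fin n) F) =
      z • (1 : Matrix (Fin n) (Fin n) F) := by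
    rw [coe_pow_sl, hX, ← coe_pow_gl, hz]
  have hq₀odd : Odd q₀ := by
    by_contra hne
    rw [Nat.not_odd_iff_even] at hne
    have hev : Even (Fintype.card F) := by
      rw [hF]; exact (Nat.even_pow.mpr ⟨hne, two_ne_zero⟩)
    have hrc : ringChar F = 2 := FiniteField.even_card_iff_char_two.mpr (Nat.even_iff.mp hev)
    have : CharP F 2 := by rw [← hrc]; exact ringChar.charP F
    exact h2 CharTwo.two_eq_zero
  have h4 : 4 ∣ Fintype.card F - 1 := by rw [hF]; exact four_dvd_sq_sub_one q₀ hq₀odd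
  have hsq : ∃ w : F, w * w = z := by
    by_contra hns
    push Not at hns
    obtain ⟨d, hd, hzd⟩ := Cfsg.Agent.Helper13.SubInv.det_of_nonsquare X z hns hXz
    have hd0 : 0 < d := by omega
    apply Cfsg.Agent.Helper13.SubInv.nonsquare_contra h2 h4 d hd0 _ z hns hzd
    rw [mul_comm, ← hd]
    exact hv
  obtain ⟨w, hw⟩ := hsq
  exact conj_of_sq_square q₀ hF h2 hn x hx w (by rw [hw]; exact hz)

/-- `r = 2` (⇒), odd characteristic -/
theorem val_le_of_allConj_two [Fintype F] (q₀ : ℕ) (hF : Fintype.card F = q₀ ^ 2)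
    (h2 : (2 : F) ≠ 0) (hn : 0 < n) (hall : AllConj n F 2 (SimH n F q₀)) :
    padicValNat 2 n ≤ padicValNat 2 (Fintype.card F - 1) := by
  classical
  by_contra hv
  have h2n : 2 ∣ n := dvd_of_one_le_padicValNat (by omega)
  obtain ⟨d, rfl⟩ := h2n
  have hd : 0 < d := by omega
  obtain ⟨z, hz, hzd⟩ := Cfsg.Agent.Helper13.SubInv.exists_nonsquare_pow h2 d hd hv
  obtain ⟨X, hX⟩ := Cfsg.Agent.Helper13.SubInv.exists_quad_sl d z hzd
  obtain ⟨x, hxS, hxval⟩ := exists_gl_of_sl X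
  have hxz : ((x ^ 2 : GL (Fin (2 * d)) F) : Matrix (Fin (2 * d)) (Fin (2 * d)) F) =
      z • (1 : Matrix (Fin (2 * d)) (Fin (2 * d)) F) := by
    rw [coe_pow_gl, hxval, ← coe_pow_sl, hX]
  have hns : ∀ c : F, (x : Matrix (Fin (2 * d)) (Fin (2 * d)) F) ≠
      c • (1 : Matrix (Fin (2 * d)) (Fin (2 * d)) F) := by
    intro c hc
    have h3 : (x : Matrix (Fin (2 * d)) (Fin (2 * d)) F) ^ 2 =
        (c * c) • (1 : Matrix (Fin (2 * d)) (Fin (2 * d)) F) := by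
      rw [hc, _root_.smul_pow, one_pow, pow_two]
    rw [← coe_pow_gl, hxz] at h3
    have h4 := congrFun (congrFun h3 ⟨0, hn⟩) ⟨0, hn⟩
    rw [Matrix.smul_apply, Matrix.smul_apply, Matrix.one_apply_eq, smul_eq_mul, smul_eq_mul,
      mul_one, mul_one] at h4
    exact hz c h4.symm
  obtain ⟨g, _, hg⟩ := hall x hxS ⟨z, hxz⟩ hns
  exact Cfsg.Agent.Helper32.USubU2b.not_conj_of_sq_nonsquare' q₀ hF
    (fun y h => exists_smul_GU_of_mem_sim q₀ hF hn y h)
    (fun u hu c hc => norm_eq_one_of_smul_mem_GU q₀ hF hn u hu c hc) h2 x z hz hxz g hg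


/-- `r ∣ q₀ - 1` odd gives `v_r(q₀² - 1) = v_r(q₀ - 1)` -/
theorem padicValNat_sq_sub_one' (r q₀ : ℕ) [Fact r.Prime] (hr2 : r ≠ 2) (hq₀ : 2 ≤ q₀)
    (hdvd : r ∣ q₀ - 1) : padicValNat r (q₀ ^ 2 - 1) = padicValNat r (q₀ - 1) := by
  have hrpr : r.Prime := Fact.out
  have hnd : ¬ r ∣ q₀ + 1 := by
    intro h
    have h2 : r ∣ (q₀ + 1) - (q₀ - 1) := Nat.dvd_sub h hdvd
    have h3 : (q₀ + 1) - (q₀ - 1) = 2 := by omega
    rw [h3] at h2
    have := Nat.le_of_dvd (by norm_num) h2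
    have := hrpr.two_le
    omega
  rw [sq_sub_one_nat q₀ (by omega), padicValNat.mul (by omega) (by omega),
    padicValNat.eq_zero_of_not_dvd hnd, add_zero]

/-- odd `r` (⇐): `n = r ∈ {3, 5}`, `(q₀ - 1)_r = r`. -/
theorem allConj_of_case_b_u [Fintype F] (p : ℕ) [Fact p.Prime] [CharP F p] (q₀ r : ℕ)
    [Fact r.Prime] (hr : r = 3 ∨ r = 5) (hrp : r ≠ p) (hF : Fintype.card F = q₀ ^ 2)
    (hv : padicValNat r (q₀ - 1) = 1) : AllConj r F r (SimH r F q₀) := by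
  intro x hx ⟨z, hz⟩ _
  have hrpr : r.Prime := Fact.out
  haveI : NeZero r := ⟨hrpr.ne_zero⟩
  have hr2 : r ≠ 2 := by rcases hr with h | h <;> omega
  have hr0 : 0 < r := hrpr.pos
  have hdvd : r ∣ q₀ - 1 := dvd_of_one_le_padicValNat (by omega)
  have hq₀2 : 2 ≤ q₀ := by
    by_contra h
    have : q₀ - 1 = 0 := by omega
    rw [this] at hv
    simp at hv
  have hrF : (r : F) ≠ 0 := by
    intro h
    rw [CharP.cast_eq_zero_iff F p] at h
    exact hrp ((Nat.prime_dvd_prime_iff_eq Fact.out hrpr).mp h).symm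
  have hval : padicValNat r (Fintype.card F - 1) = 1 := by
    rw [hF, padicValNat_sq_sub_one' r q₀ hr2 hq₀2 hdvd, hv]
  have hrq : r ∣ Fintype.card F - 1 := dvd_of_one_le_padicValNat (by omega)
  have hv' : r ∣ Fintype.card F - 1 → padicValNat r r ≤ padicValNat r (Fintype.card F - 1) := by
    intro _
    rw [hval, padicValNat_self]
  obtain ⟨X, hX⟩ := exists_sl_of_mem x hx
  have hXz : ((X ^ r : Matrix.SpecialLinearGroup (Fin r) F) : Matrix (Fin r) (Fin r) F) =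
      z • (1 : Matrix (Fin r) (Fin r) F) := by
    rw [coe_pow_sl, hX, ← coe_pow_gl, hz]
  obtain ⟨lam, hlam, hlamz⟩ :=
    Cfsg.Agent.Helper48.SubOddT2.exists_pow_eq_of_val_le hr0 r hr2 hv' X z hXz
  obtain ⟨ζ, hζ⟩ := Cfsg.Agent.Helper48.SubOdd.exists_orderOf_eq (F := F) r hrq
  have hζr : ζ ^ r = 1 := by rw [← hζ]; exact pow_orderOf_eq_one ζ
  obtain ⟨bar, hbar⟩ : ∃ bar : F →+* F, ∀ a, bar a = a ^ q₀ := by
    obtain ⟨m, hm⟩ := Cfsg.Agent.Helper43.GUPrime.exists_pow_eq p hF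
    exact ⟨iterateFrobenius F p m, fun a => by rw [iterateFrobenius_def, hm]⟩
  set A : Matrix (Fin r) (Fin r) F := lam⁻¹ • (x : Matrix (Fin r) (Fin r) F) with hAdef
  have hA : A ^ r = 1 := by
    apply smul_inv_pow_eq_one _ r lam hlam
    rw [← coe_pow_gl, hz, hlamz]
  have hdetA : A.det = lam⁻¹ ^ r := by
    rw [hAdef, Matrix.det_smul, Fintype.card_fin, (mem_SLs_iff x).mp hx, mul_one]
  have hM : (∑ j : ZMod r, (mult ζ r A j : ZMod r) * j) = 0 := by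
    have h1 := Cfsg.Agent.Helper41.SubOddDETM.det_eq_zp_moment r hrF ζ hζ A hA
    have h2 : zp ζ r (∑ j : ZMod r, (mult ζ r A j : ZMod r) * j) = 1 := by
      apply Cfsg.Agent.Helper48.SubOdd.eq_one_of_pow_of_val_one r hval _ lam⁻¹
        (Cfsg.Agent.Helper43.PGLPrime.zp_pow hζr _) (inv_ne_zero hlam)
      rw [← h1, hdetA]
    apply Cfsg.Agent.Helper43.PGLPrime.zp_injective hζ
    rw [h2, Cfsg.Agent.Helper43.PGLPrime.zp_zero]
  have hsum : ∑ j : ZMod r, mult ζ r A j = r :=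
    (Cfsg.Agent.Helper43.PGLPrime.charpoly_eq_prod hrpr hζ hrF A hA).2
  obtain ⟨c, hc⟩ := Cfsg.Agent.Helper63.SubOddSYM.exists_center_of_moment_zero r hr (mult ζ r A)
    hsum hM
  have h2ne : (2 : ZMod r) ≠ 0 := by
    intro h
    have h' : ((2 : ℕ) : ZMod r) = 0 := by exact_mod_cast h
    rw [ZMod.natCast_eq_zero_iff] at h'
    have := Nat.le_of_dvd (by norm_num) h'
    have := hrpr.two_le
    omega
  set c' : ZMod r := c / 2 with hc'
  have hcc : c = 2 * c' := by rw [hc', mul_div_cancel₀ _ h2ne]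
  set A' : Matrix (Fin r) (Fin r) F := zp ζ r (-c') • A with hA'def
  have hA' : A' ^ r = 1 := Cfsg.Agent.Helper43.PGLPrime.smul_pow_eq_one hζr (-c') A hA
  have he : -(q₀ : ZMod r) = -1 := by
    rw [neg_inj]
    exact (dvd_sub_one_iff r q₀ (by omega)).mp hdvd
  have hinv : ∀ j : ZMod r, mult ζ r A' (-(q₀ : ZMod r) * j) = mult ζ r A' j := by
    intro j
    rw [he, hA'def, Cfsg.Agent.Helper43.PGLPrime.mult_smul hζr,
      Cfsg.Agent.Helper43.PGLPrime.mult_smul hζr, ← hc (j - -c')]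
    congr 1
    rw [hcc]
    ring
  have hfix := utilde_of_mult_invariant q₀ hF bar hbar r hrF ζ hζ A' hA' hinv
  have hzz : zp ζ r c' * zp ζ r (-c') = 1 := by
    rw [← Cfsg.Agent.Helper43.PGLPrime.zp_add hζr, add_neg_cancel,
      Cfsg.Agent.Helper43.PGLPrime.zp_zero]
  have hzne : zp ζ r c' ≠ 0 := left_ne_zero_of_mul_eq_one hzz
  have hAx : (lam * zp ζ r c')⁻¹ • (x : Matrix (Fin r) (Fin r) F) = A' := by
    have hinvz : zp ζ r (-c') = (zp ζ r c')⁻¹ := eq_inv_of_mul_eq_one_right hzz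
    rw [hA'def, hAdef, smul_smul, mul_inv, mul_comm, hinvz]
  refine conj_of_utilde p q₀ hF bar hbar hr0 x hx (lam * zp ζ r c') (mul_ne_zero hlam hzne) r hrF
    ?_ ?_
  · rw [hAx]; exact hA'
  · rw [hAx]; exact hfix


/-- `r ∣ (if Even j then q₀ ^ j - 1 else q₀ ^ j + 1)` in terms of `ZMod r` -/
theorem dvd_twisted_iff (r q₀ j : ℕ) (hq₀ : 1 ≤ q₀) :
    r ∣ (if Even j then q₀ ^ j - 1 else q₀ ^ j + 1) ↔ (-(q₀ : ZMod r)) ^ j = 1 := by
  split_ifs with hj
  · rw [dvd_sub_one_iff r _ (Nat.one_le_pow _ _ hq₀), Even.neg_pow hj]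
    push_cast
    rfl
  · rw [Nat.not_even_iff_odd] at hj
    rw [Odd.neg_pow hj, ← ZMod.natCast_eq_zero_iff]
    push_cast
    constructor
    · intro h
      rw [neg_eq_iff_add_eq_zero]
      exact h
    · intro h
      rw [neg_eq_iff_add_eq_zero] at h
      exact h

/-- odd `r` (⇒) -/
theorem case_b_of_allConj_u [Fintype F] (p : ℕ) [Fact p.Prime] [CharP F p] (hn : 3 ≤ n)
    (q₀ : ℕ) (hF : Fintype.card F = q₀ ^ 2) (r : ℕ) [Fact r.Prime] (hr2 : r ≠ 2) (hrp : r ≠ p)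
    (hgap : ¬ (n = 6 ∧ r = 3)) (hΩ : r ∣ (SimH n F q₀).relIndex (SLs n F))
    (hall : AllConj n F r (SimH n F q₀)) :
    (r = 3 ∨ r = 5) ∧ n = r ∧ padicValNat r (q₀ - 1) = 1 := by
  have hrpr : r.Prime := Fact.out
  haveI : NeZero r := ⟨hrpr.ne_zero⟩
  have hn0 : 0 < n := by omega
  have hq₀2 : 2 ≤ q₀ := by
    by_contra h
    have h01 : q₀ = 0 ∨ q₀ = 1 := by omega
    have := Fintype.one_lt_card (α := F)
    rcases h01 with h | h <;> rw [hF, h] at this <;> simp at this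
  have hrF : (r : F) ≠ 0 := by
    intro h
    rw [CharP.cast_eq_zero_iff F p] at h
    exact hrp ((Nat.prime_dvd_prime_iff_eq Fact.out hrpr).mp h).symm
  obtain ⟨bar, hbar⟩ : ∃ bar : F →+* F, ∀ a, bar a = a ^ q₀ := by
    obtain ⟨m, hm⟩ := Cfsg.Agent.Helper43.GUPrime.exists_pow_eq p hF
    exact ⟨iterateFrobenius F p m, fun a => by rw [iterateFrobenius_def, hm]⟩
  by_cases hA : ∀ j, 0 < j → r ∣ (q₀ ^ 2) ^ j - 1 →
      r ∣ (if Even j then q₀ ^ j - 1 else q₀ ^ j + 1)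
  · exfalso
    refine not_dvd_relIndex p q₀ hF hn0 r hrp ?_ hΩ
    intro j hj2 _
    rw [hF]
    exact padicValNat_sq_pow_sub_one_eq r q₀ hr2 (by omega) hA j (by omega)
  push Not at hA
  obtain ⟨j₀, hj₀, hdq, hndq₀⟩ := hA
  have hB : ∃ j, 0 < j ∧ r ∣ Fintype.card F ^ j - 1 ∧
      ¬ r ∣ (if Even j then q₀ ^ j - 1 else q₀ ^ j + 1) := ⟨j₀, hj₀, by rwa [hF], hndq₀⟩
  by_cases h1 : r ∣ Fintype.card F - 1
  swap
  · -- the non-split case
    exfalso
    have hjn := exists_dvd_pow_sub_one_of_dvd_relIndex p hn0 (SimH n F q₀) r hrp hΩ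
    obtain ⟨X, g, s, hXr, hg, hgi, hgc, hch⟩ :=
      Cfsg.Agent.Helper41.SubOddB1a.exists_block_matrix (n := n) p r hrp h1 hjn
    obtain ⟨x, hxS, hxval⟩ := exists_gl_of_sl X
    have hxr : (x : Matrix (Fin n) (Fin n) F) ^ r = 1 := by rw [hxval]; exact hXr
    obtain ⟨y, _, hy⟩ := hall x hxS ⟨1, by rw [coe_pow_gl, hxr, one_smul]⟩
      (by
        rw [hxval]
        exact Cfsg.Agent.Helper14.SubOddB1c.not_scalar_of_block r h1 hrF hn0 _ g s hg hgi hgc hch)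
    exact not_conj_of_block_unitary p q₀ hF r hr2 hrp h1 hB x g s hxr hg hgi hgc
      (by rw [hxval]; exact hch) y hy
  -- the split case: `q₀ ≡ 1`
  have hnd₀ : ¬ (-(q₀ : ZMod r)) = 1 := by
    intro h
    apply hndq₀
    rw [dvd_twisted_iff r q₀ j₀ (by omega), h, one_pow]
  have hq1 : (q₀ : ZMod r) * (q₀ : ZMod r) = 1 := by
    have := (dvd_sub_one_iff r (Fintype.card F) Fintype.card_pos).mp h1
    rw [hF] at this
    push_cast at this
    rw [← pow_two]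
    exact this
  have he1 : (q₀ : ZMod r) = 1 := by
    rcases mul_self_eq_one_iff.mp hq1 with h | h
    · exact h
    · exfalso
      apply hnd₀
      rw [h, neg_neg]
  have he : -(q₀ : ZMod r) = -1 := by rw [he1]
  have hdvd1 : r ∣ q₀ - 1 := (dvd_sub_one_iff r q₀ (by omega)).mpr he1
  obtain ⟨ζ, hζ⟩ := Cfsg.Agent.Helper48.SubOdd.exists_orderOf_eq (F := F) r h1
  have hζr : ζ ^ r = 1 := by rw [← hζ]; exact pow_orderOf_eq_one ζ
  have hz0 : zp ζ r 0 = 1 := Cfsg.Agent.Helper43.PGLPrime.zp_zero ζ r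
  have hder : ∀ (a : Fin n → ZMod r) (lam : F), lam ≠ 0 → lam ^ n * zp ζ r (∑ i, a i) = 1 →
      ∀ i i' : Fin n, a i ≠ a i' →
      (¬ ∃ c : ZMod r, ∀ j, cnt a (-(q₀ : ZMod r) * j + c) = cnt a j) → False := by
    intro a lam hlam hdet i i' hne hcnt
    obtain ⟨x, hxS, hx1, hx2, hx3⟩ := derangement_of_cnt_u q₀ hF bar hbar hn0 r hrF ζ hζ a lam hlam
      hdet i i' hne hcnt
    obtain ⟨g, _, hg⟩ := hall x hxS hx1 hx2
    exact hx3 g hg
  have hcardne : Fintype.card F - 1 ≠ 0 := by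
    have := Fintype.one_lt_card (α := F)
    omega
  have ha1 : 1 ≤ padicValNat r (Fintype.card F - 1) :=
    one_le_padicValNat_of_dvd hcardne h1
  have hvalq : padicValNat r (q₀ - 1) = padicValNat r (Fintype.card F - 1) := by
    rw [hF, padicValNat_sq_sub_one' r q₀ hr2 hq₀2 hdvd1]
  by_cases hba : padicValNat r n < padicValNat r (Fintype.card F - 1)
  · exfalso
    obtain ⟨lam, hlam, hlamz⟩ :=
      Cfsg.Agent.Helper48.SubOdd.exists_pow_mul_eq_one hn0 r ζ hζ hba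
    refine hder (vec3 n r 1 0 0) lam hlam ?_ ⟨0, hn0⟩ ⟨1, by omega⟩ ?_ ?_
    · rw [Cfsg.Agent.Helper51.SubOddD2a.sum_vec3 hn, add_zero, add_zero]
      have : zp ζ r 1 = ζ := by
        unfold Cfsg.Agent.Helper43.PGLPrime.zp
        haveI : Fact (1 < r) := ⟨hrpr.one_lt⟩
        rw [ZMod.val_one, pow_one]
      rw [this]; exact hlamz
    · rw [vec3_zero, vec3_one]; exact one_ne_zero
    · rw [he]; exact Cfsg.Agent.Helper51.SubOddD2a.cnt_vec3_D2a hn r hr2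
  push Not at hba
  have hrn : r ∣ n := dvd_of_one_le_padicValNat (by omega)
  have hrlen : r ≤ n := Nat.le_of_dvd hn0 hrn
  have hsum0 : ∀ v₀ v₁ v₂ : ZMod r, v₀ + v₁ + v₂ = 0 →
      (1 : F) ^ n * zp ζ r (∑ i, vec3 n r v₀ v₁ v₂ i) = 1 := by
    intro v₀ v₁ v₂ h
    rw [one_pow, one_mul, Cfsg.Agent.Helper51.SubOddD2a.sum_vec3 hn, h, hz0]
  have hfin : n = r → (r = 3 ∨ r = 5) →
      ((r = 3 ∨ r = 5) ∧ n = r ∧ padicValNat r (q₀ - 1) = 1) := by
    intro hnr h35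
    refine ⟨h35, hnr, ?_⟩
    rw [hvalq]
    have : padicValNat r n = 1 := by rw [hnr, padicValNat_self]
    omega
  have hr3 : 3 ≤ r := by
    have := hrpr.two_le
    omega
  by_cases hr3' : r = 3
  · subst hr3'
    by_cases hn3' : n = 3
    · exact hfin hn3' (Or.inl rfl)
    exfalso
    have hn7 : 7 ≤ n := by
      obtain ⟨t, ht⟩ := hrn
      have : n ≠ 6 := fun h => hgap ⟨h, rfl⟩
      omega
    refine hder (vec3 n 3 1 1 1) 1 one_ne_zero (hsum0 1 1 1 z3_sum) ⟨0, hn0⟩ ⟨3, by omega⟩ ?_ ?_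
    · rw [vec3_zero, vec3_three]; exact one_ne_zero
    · rw [he]; exact Cfsg.Agent.Helper51.SubOddD2c.cnt_vec3_D2c hn7
  by_cases hr5' : r = 5
  · subst hr5'
    by_cases hn5' : n = 5
    · exact hfin hn5' (Or.inr rfl)
    exfalso
    have hn7 : 7 ≤ n := by
      obtain ⟨t, ht⟩ := hrn
      omega
    refine hder (vec3 n 5 1 2 (-3)) 1 one_ne_zero (hsum0 1 2 (-3) z5_sum) ⟨0, hn0⟩
      ⟨1, by omega⟩ ?_ ?_
    · rw [vec3_zero, vec3_one]; exact z5_ne
    · rw [he]; exact Cfsg.Agent.Helper51.SubOddD2b.cnt_vec3_D2b hn7 5 (le_refl 5)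
  exfalso
  have hr7 : 7 ≤ r := by
    have h4 : r ≠ 4 := fun h => by rw [h] at hrpr; exact absurd hrpr (by decide)
    have h6 : r ≠ 6 := fun h => by rw [h] at hrpr; exact absurd hrpr (by decide)
    omega
  have hn7 : 7 ≤ n := by omega
  refine hder (vec3 n r 1 2 (-3)) 1 one_ne_zero (hsum0 1 2 (-3) (by ring)) ⟨0, hn0⟩
    ⟨1, by omega⟩ ?_ ?_
  · rw [vec3_zero, vec3_one]
    intro h
    have : (1 : ZMod r) = 0 := by
      have h' : (2 : ZMod r) - 1 = 0 := by rw [← h]; ring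
      rw [← h']; ring
    exact one_ne_zero this
  · rw [he]; exact Cfsg.Agent.Helper51.SubOddD2b.cnt_vec3_D2b hn7 r (by omega)


/-- the statement for the standard form -/
theorem main_std [Fintype F] (p : ℕ) [Fact p.Prime] [CharP F p] (q₀ : ℕ)
    (hF : Fintype.card F = q₀ ^ 2) (hn : 3 ≤ n) (r : ℕ) [Fact r.Prime] (hr : r = 2 ∨ r ≠ p)
    (hgap : ¬ (n = 6 ∧ r = 3)) (hΩ : r ∣ (SimH n F q₀).relIndex (SLs n F)) :
    AllConj n F r (SimH n F q₀) ↔
      ((r = 2 ∧ (p = 2 ∨ padicValNat 2 n ≤ padicValNat 2 (Fintype.card F - 1))) ∨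
        ((r = 3 ∨ r = 5) ∧ n = r ∧ padicValNat r (q₀ - 1) = 1)) := by
  have hn0 : 0 < n := by omega
  have h2_of_ne : p ≠ 2 → (2 : F) ≠ 0 := by
    intro hp2 h
    have h' : ((2 : ℕ) : F) = 0 := by exact_mod_cast h
    rw [CharP.cast_eq_zero_iff F p] at h'
    exact hp2 ((Nat.prime_dvd_prime_iff_eq Fact.out Nat.prime_two).mp h')
  have hchar2 : (2 : F) = 0 → AllConj n F 2 (SimH n F q₀) := by
    intro h2 x hx ⟨z, hz⟩ _
    exact conj_of_char_two q₀ hF h2 hn0 x hx z hz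
  by_cases hr2 : r = 2
  · subst hr2
    constructor
    · intro hall
      left
      refine ⟨rfl, ?_⟩
      by_cases hp2 : p = 2
      · exact Or.inl hp2
      · exact Or.inr (val_le_of_allConj_two q₀ hF (h2_of_ne hp2) hn0 hall)
    · rintro (⟨_, hp2 | hv⟩ | ⟨h35, _, _⟩)
      · apply hchar2
        subst hp2
        exact CharTwo.two_eq_zero
      · by_cases h2 : (2 : F) = 0
        · exact hchar2 h2
        · exact allConj_two_of_val_le q₀ hF h2 hn0 hv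
      · rcases h35 with h | h <;> omega
  · have hrp : r ≠ p := by
      rcases hr with h | h
      · exact absurd h hr2
      · exact h
    constructor
    · intro hall
      exact Or.inr (case_b_of_allConj_u p hn q₀ hF r hr2 hrp hgap hΩ hall)
    · rintro (⟨h, _⟩ | ⟨h35, hnr, hv⟩)
      · exact absurd h hr2
      · subst hnr
        exact allConj_of_case_b_u p q₀ n h35 hrp hF hv

/-- the statement for an arbitrary unitary form -/
theorem main_general [Fintype F] (p : ℕ) [Fact p.Prime] [CharP F p] (q₀ : ℕ)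
    (hF : Fintype.card F = q₀ ^ 2) (hn : 3 ≤ n) (f : (Fin n → F) → (Fin n → F) → F)
    (hf : Cfsg.Geo.IsUnitaryFormPow q₀ f) (r : ℕ) [Fact r.Prime] (hr : r = 2 ∨ r ≠ p)
    (hgap : ¬ (n = 6 ∧ r = 3))
    (hΩ : r ∣ (Cfsg.Geo.similarityGroup f).relIndex (Cfsg.Geo.specialLinear (Fin n) F)) :
    AllConj n F r (Cfsg.Geo.similarityGroup f) ↔
      ((r = 2 ∧ (p = 2 ∨ padicValNat 2 n ≤ padicValNat 2 (Fintype.card F - 1))) ∨
        ((r = 3 ∨ r = 5) ∧ n = r ∧ padicValNat r (q₀ - 1) = 1)) := by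
  obtain ⟨c, hc⟩ := exists_conj_similarityGroup q₀ hF f hf
  have hΩ' : r ∣ (SimH n F q₀).relIndex (SLs n F) := by
    rw [← relIndex_eq_of_conj c (Cfsg.Geo.similarityGroup f) (SimH n F q₀) hc]
    exact hΩ
  rw [allConj_iff_of_conj r c (Cfsg.Geo.similarityGroup f) (SimH n F q₀) hc]
  exact main_std p q₀ hF hn r hr hgap hΩ'

end Cfsg.Agent.Helper13.USub
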