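import Mathlib
import Cfsg.Agent.Helper13.USubA

/-!
# Unitary subfield subgroups: field facts II

The Frobenius of `F` over `F₀`, quadratic equations over `F₀`, the fixed fields `K_q` and `K₀`, and the
absence of intermediate fields.
-/

set_option autoImplicit false
set_option linter.style.haveILetI false
set_option linter.unusedSectionVars false

namespace Cfsg.Agent.Helper13

open Matrix Cfsg.Agent.S0837 Polynomial

variable {F : Type*} [Field F] [Fintype F] {q : ℕ}

/-- an element fixed by the `|F₀|`-power map lies in `F₀` -/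
theorem mem_subfield_of_pow_card (F₀ : Subfield F) {x : F} (hx : x ^ Nat.card F₀ = x) :
    x ∈ F₀ := by
  classical
  haveI : Fintype F₀ := Fintype.ofFinite _
  set N₀ := Nat.card F₀ with hN₀
  have hN : 1 < N₀ := Finite.one_lt_card
  have hp : (X ^ N₀ - X : F[X]) ≠ 0 := FiniteField.X_pow_card_sub_X_ne_zero F hN
  have hsub : (Finset.univ.image (Subtype.val : F₀ → F)) ⊆ (X ^ N₀ - X : F[X]).roots.toFinset := by
    intro y hy
    rw [Finset.mem_image] at hy
    obtain ⟨z, -, rfl⟩ := hy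
    rw [Multiset.mem_toFinset, Polynomial.mem_roots hp]
    have := FiniteField.pow_card z
    rw [← Nat.card_eq_fintype_card] at this
    have h2 : (z : F) ^ N₀ = z := congrArg Subtype.val this
    simp [h2]
  have hcard : (X ^ N₀ - X : F[X]).roots.toFinset.card ≤ N₀ :=
    calc _ ≤ Multiset.card (X ^ N₀ - X : F[X]).roots := Multiset.toFinset_card_le _
      _ ≤ (X ^ N₀ - X : F[X]).natDegree := Polynomial.card_roots' _
      _ = N₀ := FiniteField.X_pow_card_sub_X_natDegree_eq F hN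
  have himg : (Finset.univ.image (Subtype.val : F₀ → F)).card = N₀ := by
    rw [Finset.card_image_of_injective _ Subtype.val_injective, Finset.card_univ,
      ← Nat.card_eq_fintype_card]
  have heq := Finset.eq_of_subset_of_card_le hsub (by rw [himg]; exact hcard)
  have hx' : x ∈ (X ^ N₀ - X : F[X]).roots.toFinset := by
    rw [Multiset.mem_toFinset, Polynomial.mem_roots hp]
    simp [hx]
  rw [← heq, Finset.mem_image] at hx'
  obtain ⟨z, -, rfl⟩ := hx'
  exact z.2

section data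

variable {F₀ : Subfield F} {r q₀ : ℕ} (hS : USubData F q F₀ r q₀)
include hS

/-- the `|F₀|`-power map is additive -/
theorem USubData.pow_card_add (x y : F) :
    (x + y) ^ Nat.card F₀ = x ^ Nat.card F₀ + y ^ Nat.card F₀ := by
  obtain ⟨p, hp⟩ := CharP.exists F
  have hprime : p.Prime := by
    rcases CharP.char_is_prime_or_zero F p with h | h
    · exact h
    · exfalso
      subst h
      have : CharZero F := CharP.charP_to_charZero F
      exact not_finite F
  haveI : Fact p.Prime := ⟨hprime⟩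
  obtain ⟨k, hk⟩ := FiniteField.card F p
  have hdvd : Nat.card F₀ ∣ p ^ (k : ℕ) := by
    rw [← hk.2, hS.hcard]
    exact dvd_pow_self _ hS.hr.ne_zero
  obtain ⟨j, -, hj⟩ := (Nat.dvd_prime_pow hprime).mp hdvd
  rw [hj]
  exact add_pow_char_pow x y p j

theorem USubData.pow_card_pow_r (x : F) : x ^ (Nat.card F₀ ^ r) = x := by
  rw [← hS.hcard, FiniteField.pow_card]

theorem USubData.pow_card_of_mem {x : F} (hx : x ∈ F₀) : x ^ Nat.card F₀ = x := by
  classical
  haveI : Fintype F₀ := Fintype.ofFinite _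
  have := FiniteField.pow_card (⟨x, hx⟩ : F₀)
  rw [← Nat.card_eq_fintype_card] at this
  exact congrArg Subtype.val this

/-- an element fixed by the square of the Frobenius over `F₀` lies in `F₀` (as `r` is odd) -/
theorem USubData.mem_of_pow_card_sq {x : F} (hx : (x ^ Nat.card F₀) ^ Nat.card F₀ = x) :
    x ∈ F₀ := by
  apply mem_subfield_of_pow_card
  obtain ⟨k, hk⟩ := hS.hro
  have h2 : ∀ j : ℕ, x ^ (Nat.card F₀ ^ (2 * j)) = x := by
    intro j
    induction j with
    | zero => simp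
    | succ j ih =>
      have : Nat.card F₀ ^ (2 * (j + 1)) = Nat.card F₀ ^ (2 * j) * (Nat.card F₀ * Nat.card F₀) := by
        ring
      rw [this, pow_mul, ih, pow_mul, hx]
  have h3 := hS.pow_card_pow_r x
  rw [hk, pow_succ, pow_mul, h2] at h3
  exact h3

/-- (F5) a root in `F` of a non-zero polynomial of degree at most two over `F₀` lies in `F₀` -/
theorem USubData.mem_of_quadratic {A B C ρ : F} (hA : A ∈ F₀) (hB : B ∈ F₀) (hC : C ∈ F₀)
    (hne : ¬ (A = 0 ∧ B = 0 ∧ C = 0)) (h : A * ρ ^ 2 + B * ρ + C = 0) : ρ ∈ F₀ := by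
  by_cases hA0 : A = 0
  · subst hA0
    have hB0 : B ≠ 0 := by
      rintro rfl
      apply hne
      refine ⟨rfl, rfl, ?_⟩
      linear_combination h
    have : ρ = -C / B := by
      field_simp
      linear_combination h
    rw [this]
    exact F₀.div_mem (F₀.neg_mem hC) hB
  · set N₀ := Nat.card F₀ with hN₀
    have h1 : A * (ρ ^ N₀) ^ 2 + B * ρ ^ N₀ + C = 0 := by
      have : (A * ρ ^ 2 + B * ρ + C) ^ N₀ = 0 ^ N₀ := by rw [h]
      rw [hS.pow_card_add, hS.pow_card_add, mul_pow, mul_pow, hS.pow_card_of_mem hA,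
        hS.pow_card_of_mem hB, hS.pow_card_of_mem hC, zero_pow (Nat.card_pos (α := F₀)).ne', ← pow_mul,
        mul_comm 2 N₀, pow_mul] at this
      exact this
    have h2 : (ρ ^ N₀ - ρ) * (A * (ρ ^ N₀ + ρ) + B) = 0 := by
      linear_combination h1 - h
    rcases mul_eq_zero.mp h2 with h3 | h3
    · exact mem_subfield_of_pow_card F₀ (sub_eq_zero.mp h3)
    · apply hS.mem_of_pow_card_sq
      have h4 : ρ ^ N₀ = -B / A - ρ := by
        field_simp
        linear_combination h3
      have h5 : (-B / A - ρ) ^ N₀ = -B / A - ρ ^ N₀ := by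
        have h6 : (-B / A) ^ N₀ = -B / A :=
          hS.pow_card_of_mem (F₀.div_mem (F₀.neg_mem hB) hA)
        have h7 : (-B / A - ρ) + ρ = -B / A := by ring
        have h8 := hS.pow_card_add (-B / A - ρ) ρ
        rw [h7, h6] at h8
        linear_combination -h8
      rw [h4, h5, h4]
      ring

end data

/-! ### the fixed fields -/

/-- the fixed field `K_q` of the involution `x ↦ x^q` -/
def fixKq (hF : Fintype.card F = q ^ 2) : Subfield F :=
  (frobHom hF).eqLocusField (RingHom.id F)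

theorem mem_fixKq (hF : Fintype.card F = q ^ 2) {x : F} : x ∈ fixKq hF ↔ x ^ q = x := Iff.rfl

/-- the fixed field `K₀ = F₀ ∩ K_q` -/
def fixK0 (hF : Fintype.card F = q ^ 2) (F₀ : Subfield F) : Subfield F := F₀ ⊓ fixKq hF

theorem mem_fixK0 (hF : Fintype.card F = q ^ 2) (F₀ : Subfield F) {x : F} :
    x ∈ fixK0 hF F₀ ↔ x ∈ F₀ ∧ x ^ q = x := Iff.rfl

theorem fixK0_le_fixKq (hF : Fintype.card F = q ^ 2) (F₀ : Subfield F) :
    fixK0 hF F₀ ≤ fixKq hF := inf_le_right

/-- the number of fixed points of `x ↦ x^s` in a subfield of order `s²` -/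
theorem card_fix_of_card_sq (E : Subfield F) (s : ℕ) (hE : Nat.card E = s ^ 2) :
    Nat.card {x : F // x ∈ E ∧ x ^ s = x} = s := by
  classical
  haveI : Fintype E := Fintype.ofFinite _
  have hF' : Fintype.card E = s ^ 2 := by rw [← Nat.card_eq_fintype_card, hE]
  have hs := two_le_of_card_eq_sq hF'
  obtain ⟨c, hc0, hc⟩ := Cfsg.Agent.Helper5.exists_trace_zero hF'
  have h0 : (0 : E) ^ s = 0 := zero_pow (by omega)
  refine Eq.trans ?_ (card_trace_fiber hF' (one_ne_zero (α := E)) h0)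
  have hcq : (c⁻¹) ^ s = -c⁻¹ := by
    rw [inv_pow, hc, inv_neg]
  let f : {x : F // x ∈ E ∧ x ^ s = x} → {t : E // t ^ s * 1 + t * 1 ^ s = 0} := fun x =>
    ⟨(⟨x.1, x.2.1⟩ : E) * c, by
      rw [mul_pow, hc, one_pow, mul_one, mul_one]
      have hx : (⟨x.1, x.2.1⟩ : E) ^ s = ⟨x.1, x.2.1⟩ := Subtype.ext x.2.2
      rw [hx]
      ring⟩
  let g : {t : E // t ^ s * 1 + t * 1 ^ s = 0} → {x : F // x ∈ E ∧ x ^ s = x} := fun t =>
    ⟨((t.1 * c⁻¹ : E) : F), (t.1 * c⁻¹ : E).2, by
      have ht' : t.1 ^ s = -t.1 := by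
        have ht : t.1 ^ s * 1 + t.1 * 1 ^ s = 0 := t.2
        linear_combination ht - t.1 * (one_pow (M := E) s)
      have : (t.1 * c⁻¹ : E) ^ s = t.1 * c⁻¹ := by
        rw [mul_pow, ht', hcq]; ring
      exact congrArg Subtype.val this⟩
  refine Nat.card_congr ⟨f, g, ?_, ?_⟩
  · intro x
    apply Subtype.ext
    show (((⟨x.1, x.2.1⟩ : E) * c * c⁻¹ : E) : F) = x.1
    rw [mul_assoc, mul_inv_cancel₀ hc0, mul_one]
  · intro t
    apply Subtype.ext
    apply Subtype.ext
    show ((t.1 * c⁻¹ : E) : F) * (c : F) = (t.1 : F)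
    rw [← Subfield.coe_mul, mul_assoc, inv_mul_cancel₀ hc0, mul_one]

theorem card_fixKq (hF : Fintype.card F = q ^ 2) : Nat.card (fixKq hF) = q := by
  have h1 : Nat.card (⊤ : Subfield F) = q ^ 2 := by
    rw [← hF, ← Nat.card_eq_fintype_card]
    exact Nat.card_congr (Subfield.topEquiv (K := F)).toEquiv
  refine Eq.trans ?_ (card_fix_of_card_sq (⊤ : Subfield F) q h1)
  exact Nat.card_congr ⟨fun x => ⟨x.1, Subfield.mem_top _, x.2⟩, fun x => ⟨x.1, x.2.2⟩,
    fun _ => rfl, fun _ => rfl⟩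

section data2

variable {F₀ : Subfield F} {r q₀ : ℕ} (hS : USubData F q F₀ r q₀)
include hS

theorem USubData.card_fixK0 : Nat.card (fixK0 hS.hF F₀) = q₀ := by
  refine Eq.trans ?_ (card_fix_of_card_sq F₀ q₀ hS.hF₀)
  exact Nat.card_congr ⟨fun x => ⟨x.1, x.2.1, by rw [← hS.hpow _ x.2.1]; exact x.2.2⟩,
    fun x => ⟨x.1, x.2.1, by show x.1 ^ q = x.1; rw [hS.hpow _ x.2.1]; exact x.2.2⟩,
    fun _ => rfl, fun _ => rfl⟩

end data2

/-- the order of a subfield is a power of the order of a smaller subfield -/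
theorem card_subfield_pow {A B : Subfield F} (h : A ≤ B) :
    ∃ d : ℕ, Nat.card B = Nat.card A ^ d := by
  let A' : Subfield B := A.comap B.subtype
  refine ⟨Module.finrank A' B, ?_⟩
  rw [Module.natCard_eq_pow_finrank (K := A') (V := B)]
  congr 1
  exact Nat.card_congr ⟨fun x => ⟨x.1.1, x.2⟩, fun a => ⟨⟨a.1, h a.2⟩, a.2⟩, fun _ => rfl,
    fun _ => rfl⟩

theorem subfield_eq_of_le_of_card_le {A B : Subfield F} (h : A ≤ B)
    (hc : Nat.card B ≤ Nat.card A) : A = B := by
  apply SetLike.coe_injective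
  apply Set.eq_of_subset_of_ncard_le h _ (Set.toFinite _)
  rw [← Nat.card_coe_set_eq, ← Nat.card_coe_set_eq]
  exact hc

section data3

variable {F₀ : Subfield F} {r q₀ : ℕ} (hS : USubData F q F₀ r q₀)
include hS

/-- (F6) there is no field strictly between `K₀` and `K_q` -/
theorem USubData.eq_fixKq_of_le {L : Subfield F} (h1 : fixK0 hS.hF F₀ ≤ L) (h2 : L ≤ fixKq hS.hF)
    {x : F} (hxL : x ∈ L) (hx : x ∉ fixK0 hS.hF F₀) : L = fixKq hS.hF := by
  obtain ⟨d, hd⟩ := card_subfield_pow h1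
  obtain ⟨d', hd'⟩ := card_subfield_pow h2
  rw [hS.card_fixK0] at hd
  rw [card_fixKq, hd, hS.hq, ← pow_mul] at hd'
  have hq₀ := hS.q₀_two_le
  have hrd : r = d * d' := Nat.pow_right_injective hq₀ hd'
  have hdr : d ∣ r := Dvd.intro _ hrd.symm
  rcases (Nat.dvd_prime hS.hr).mp hdr with h | h
  · exfalso
    apply hx
    have : fixK0 hS.hF F₀ = L := by
      apply subfield_eq_of_le_of_card_le h1
      rw [hd, h, pow_one, hS.card_fixK0]
    rw [this]
    exact hxL
  · apply subfield_eq_of_le_of_card_le h2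
    rw [card_fixKq, hd, h, ← hS.hq]

/-- for `q₀ = 3` no element of `K_q` squares to `-1` -/
theorem USubData.sq_ne_neg_one_of_three (h3 : q₀ = 3) {ν : F} (hν : ν ^ q = ν) :
    ν ^ 2 ≠ -1 := by
  intro h
  obtain ⟨k, hk⟩ := hS.hro
  have hq : q = 3 ^ r := by rw [hS.hq, h3]
  have hq4 : q % 4 = 3 := by
    rw [hq, hk, pow_succ, pow_mul, Nat.mul_mod, Nat.pow_mod]
    norm_num
  have hν0 : ν ≠ 0 := by
    rintro rfl
    rw [zero_pow (by norm_num)] at h
    have : (1 : F) = 0 := by linear_combination h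
    exact one_ne_zero this
  obtain ⟨m, hm⟩ : ∃ m, q = 4 * m + 3 := ⟨q / 4, by omega⟩
  have h1 : ν ^ (q - 1) = 1 := by
    have h2 : ν ^ (q - 1) * ν = ν := by
      rw [← pow_succ, Nat.sub_add_cancel (by omega), hν]
    field_simp at h2
    exact h2
  have h2 : ν ^ (q - 1) = -1 := by
    have : q - 1 = 2 * (2 * m + 1) := by omega
    rw [this, pow_mul, h, Odd.neg_one_pow ⟨m, rfl⟩]
  have h20 : (2 : F) = 0 := by
    rw [h1] at h2
    linear_combination h2
  have h3' : ringChar F = 2 := CharP.ringChar_of_prime_eq_zero Nat.prime_two h20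
  have h4 := FiniteField.even_card_of_char_two h3'
  rw [hS.hF, hq] at h4
  have h5 : Odd ((3 ^ r) ^ 2) := by
    apply Odd.pow
    apply Odd.pow
    decide
  rw [Nat.odd_iff] at h5
  omega

/-- in characteristic two `q₀ ≥ 3` forces `q₀ ≥ 4` -/
theorem USubData.four_le_of_char_two (h2 : (2 : F) = 0) (h3 : 3 ≤ q₀) : 4 ≤ q₀ := by
  haveI : CharP F 2 := CharTwo.of_one_ne_zero_of_two_eq_zero one_ne_zero h2
  haveI : Fact (Nat.Prime 2) := ⟨Nat.prime_two⟩
  obtain ⟨k, hk⟩ := FiniteField.card F 2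
  have hdvd : q₀ ∣ 2 ^ (k : ℕ) := by
    rw [← hk.2, hS.hF, hS.hq, ← pow_mul]
    exact dvd_pow_self _ (by have := hS.hr.pos; positivity)
  obtain ⟨j, -, hj⟩ := (Nat.dvd_prime_pow Nat.prime_two).mp hdvd
  rw [hj] at h3 ⊢
  have hj2 : 2 ≤ j := by
    by_contra hlt
    have : j = 0 ∨ j = 1 := by omega
    rcases this with rfl | rfl <;> norm_num at h3
  calc 4 = 2 ^ 2 := by norm_num
    _ ≤ 2 ^ j := Nat.pow_le_pow_right (by norm_num) hj2

end data3

end Cfsg.Agent.Helper13
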