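import Mathlib
import Cfsg.Agent.Helper13.USubB
import Cfsg.Agent.Helper94.SubO4

/-!
# Unitary subfield subgroups: rational geometry in coordinates

Rational vectors are those with all coordinates in `F₀`.  The vectors `e_i + λ e_j` with
`λ λ^q = -1`, `λ ∈ F₀`, are rational and isotropic.
-/

set_option autoImplicit false
set_option linter.style.haveILetI false
set_option linter.unusedSectionVars false

namespace Cfsg.Agent.Helper13

open Matrix Cfsg.Agent.S0837 Cfsg.Agent.Helper94.SubU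

variable {F : Type*} [Field F] [Fintype F] {q n : ℕ}

local notation "⟪" x ", " y "⟫" => Cfsg.hermForm n F q x y

theorem rat_hermForm_mem {F₀ : Subfield F} {u v : Fin n → F} (hu : Rat F₀ u) (hv : Rat F₀ v) :
    ⟪u, v⟫ ∈ F₀ := by
  unfold Cfsg.hermForm
  exact F₀.sum_mem fun i _ => F₀.mul_mem (hu i) (F₀.pow_mem (hv i) q)

/-- the vector `e_i + l e_j` -/
def mixVec (i j : Fin n) (l : F) : Fin n → F := Pi.single i 1 + l • Pi.single j 1

theorem rat_mixVec {F₀ : Subfield F} (i j : Fin n) {l : F} (hl : l ∈ F₀) :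
    Rat F₀ (mixVec i j l) :=
  (Rat.single F₀ i).add ((Rat.single F₀ j).smul hl)

theorem hermForm_mixVec_right (hF : Fintype.card F = q ^ 2) (i j : Fin n) (l : F)
    (x : Fin n → F) : ⟪x, mixVec i j l⟫ = x i + l ^ q * x j := by
  unfold mixVec
  rw [hermForm_add_right hF, hermForm_smul_right, hermForm_single_right hF,
    hermForm_single_right hF]

omit [Fintype F] in
theorem mixVec_apply_left {i j : Fin n} (hij : i ≠ j) (l : F) : mixVec i j l i = 1 := by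
  simp [mixVec, hij]

omit [Fintype F] in
theorem mixVec_apply_right {i j : Fin n} (hij : i ≠ j) (l : F) : mixVec i j l j = l := by
  simp [mixVec, hij.symm]

omit [Fintype F] in
theorem mixVec_apply_of_ne {i j k : Fin n} (hki : k ≠ i) (hkj : k ≠ j) (l : F) :
    mixVec i j l k = 0 := by
  simp [mixVec, hki, hkj]

theorem mixVec_isotropic (hF : Fintype.card F = q ^ 2) {i j : Fin n} (hij : i ≠ j) {l : F}
    (hl : l * l ^ q = -1) : ⟪mixVec i j l, mixVec i j l⟫ = 0 := by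
  rw [hermForm_mixVec_right hF, mixVec_apply_left hij, mixVec_apply_right hij]
  linear_combination hl

theorem frob_injective' (hF : Fintype.card F = q ^ 2) {a b : F} (h : a ^ q = b ^ q) : a = b := by
  have := congrArg (fun x => x ^ q) h
  simpa [frob_frob hF] using this

section data

variable {F₀ : Subfield F} {r q₀ : ℕ} (hS : USubData F q F₀ r q₀)
include hS

/-- two distinct rational elements of norm `-1` -/
theorem USubData.exists_lam :
    ∃ l₁ ∈ F₀, ∃ l₂ ∈ F₀, l₁ * l₁ ^ q = -1 ∧ l₂ * l₂ ^ q = -1 ∧ l₁ ≠ l₂ := by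
  have hF := hS.hF
  have h1 : (-1 : F) ^ q = -1 := by rw [frob_neg' hF, one_pow]
  obtain ⟨l₁, hl₁, hl₁n⟩ := hS.exists_norm (F₀.neg_mem F₀.one_mem) h1
  obtain ⟨ω, hω, hωq⟩ := hS.exists_omega
  have hω0 : ω ≠ 0 := by
    rintro rfl
    apply hωq
    rw [zero_pow]
    have := two_le_of_card_eq_sq hF
    omega
  have hωq0 : ω ^ q ≠ 0 := pow_ne_zero _ hω0
  have hl₁0 : l₁ ≠ 0 := by
    rintro rfl
    rw [zero_mul] at hl₁n
    exact one_ne_zero (by linear_combination hl₁n : (1 : F) = 0)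
  refine ⟨l₁, hl₁, l₁ * (ω / ω ^ q), F₀.mul_mem hl₁ (F₀.div_mem hω (hS.frob_mem hω)), hl₁n, ?_, ?_⟩
  · rw [mul_pow, div_pow, frob_frob hF]
    field_simp
    linear_combination hl₁n
  · intro h
    have h2 : ω / ω ^ q = 1 := by
      have : l₁ * 1 = l₁ * (ω / ω ^ q) := by rw [mul_one]; exact h
      exact (mul_left_cancel₀ hl₁0 this).symm
    apply hωq
    rw [div_eq_one_iff_eq hωq0] at h2
    exact h2.symm

/-- (R1) a rational isotropic vector not orthogonal to a given non-zero vector -/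
theorem USubData.exists_rat_iso_not_perp (hn : 2 ≤ n) {x : Fin n → F} (hx : x ≠ 0) :
    ∃ w : Fin n → F, Rat F₀ w ∧ ⟪w, w⟫ = 0 ∧ ⟪x, w⟫ ≠ 0 := by
  have hF := hS.hF
  obtain ⟨l₁, hl₁, l₂, hl₂, hn₁, hn₂, hne⟩ := hS.exists_lam
  obtain ⟨i, hi⟩ : ∃ i, x i ≠ 0 := by
    by_contra hcon
    push Not at hcon
    exact hx (funext hcon)
  obtain ⟨j, hj⟩ := Fintype.exists_ne_of_one_lt_card (by rw [Fintype.card_fin]; omega) i
  by_cases h1 : ⟪x, mixVec i j l₁⟫ = 0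
  · refine ⟨mixVec i j l₂, rat_mixVec i j hl₂, mixVec_isotropic hF hj.symm hn₂, ?_⟩
    intro h2
    rw [hermForm_mixVec_right hF] at h1 h2
    have h3 : (l₁ ^ q - l₂ ^ q) * x j = 0 := by linear_combination h1 - h2
    rcases mul_eq_zero.mp h3 with h4 | h4
    · exact hne (frob_injective' hF (sub_eq_zero.mp h4))
    · rw [h4, mul_zero, add_zero] at h1
      exact hi h1
  · exact ⟨mixVec i j l₁, rat_mixVec i j hl₁, mixVec_isotropic hF hj.symm hn₁, h1⟩

/-- (R3) a rational isotropic vector orthogonal to neither of two non-zero vectors -/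
theorem USubData.exists_rat_iso_not_perp_two (hn : 2 ≤ n) {x y : Fin n → F} (hx : x ≠ 0)
    (hy : y ≠ 0) :
    ∃ w : Fin n → F, Rat F₀ w ∧ ⟪w, w⟫ = 0 ∧ ⟪x, w⟫ ≠ 0 ∧ ⟪y, w⟫ ≠ 0 := by
  have hF := hS.hF
  obtain ⟨w₁, hw₁, hw₁₁, hxw₁⟩ := hS.exists_rat_iso_not_perp hn hx
  obtain ⟨w₂, hw₂, hw₂₂, hyw₂⟩ := hS.exists_rat_iso_not_perp hn hy
  by_cases h1 : ⟪y, w₁⟫ = 0
  swap
  · exact ⟨w₁, hw₁, hw₁₁, hxw₁, h1⟩
  by_cases h2 : ⟪x, w₂⟫ = 0
  swap
  · exact ⟨w₂, hw₂, hw₂₂, h2, hyw₂⟩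
  obtain ⟨ε, hε, hε0, hεq⟩ := hS.exists_eps
  have hc : ⟪w₁, w₂⟫ ∈ F₀ := rat_hermForm_mem hw₁ hw₂
  have hc' : ⟪w₂, w₁⟫ = ⟪w₁, w₂⟫ ^ q := (hermForm_conj hF w₁ w₂).symm
  by_cases hc0 : ⟪w₁, w₂⟫ = 0
  · refine ⟨w₁ + w₂, hw₁.add hw₂, ?_, ?_, ?_⟩
    · rw [hermForm_add_left, hermForm_add_right hF, hermForm_add_right hF, hw₁₁, hw₂₂, hc', hc0,
        zero_pow (by have := two_le_of_card_eq_sq hF; omega)]
      ring
    · rw [hermForm_add_right hF, h2, add_zero]; exact hxw₁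
    · rw [hermForm_add_right hF, h1, zero_add]; exact hyw₂
  · set μ : F := (ε / ⟪w₁, w₂⟫) ^ q with hμ
    have hμq : μ ^ q = ε / ⟪w₁, w₂⟫ := frob_frob hF _
    have hμmem : μ ∈ F₀ := hS.frob_mem (F₀.div_mem hε hc)
    have hμq0 : μ ^ q ≠ 0 := by rw [hμq]; exact div_ne_zero hε0 hc0
    refine ⟨w₁ + μ • w₂, hw₁.add (hw₂.smul hμmem), ?_, ?_, ?_⟩
    · rw [hermForm_add_left, hermForm_add_right hF, hermForm_add_right hF, hermForm_smul_left,
        hermForm_smul_left, hermForm_smul_right, hermForm_smul_right, hw₁₁, hw₂₂, hc', hμq]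
      have : μ = ε ^ q / ⟪w₁, w₂⟫ ^ q := by rw [hμ, div_pow]
      rw [this, hεq]
      have hcq0 : ⟪w₁, w₂⟫ ^ q ≠ 0 := pow_ne_zero _ hc0
      field_simp
      ring
    · rw [hermForm_add_right hF, hermForm_smul_right, h2, mul_zero, add_zero]; exact hxw₁
    · rw [hermForm_add_right hF, hermForm_smul_right, h1, zero_add]
      exact mul_ne_zero hμq0 hyw₂

/-- (R5) a rational hyperbolic partner -/
theorem USubData.exists_rat_partner (hn : 2 ≤ n) {w : Fin n → F} (hw : Rat F₀ w) (hw0 : w ≠ 0) :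
    ∃ w' : Fin n → F, Rat F₀ w' ∧ ⟪w', w'⟫ = 0 ∧ ⟪w, w'⟫ = 1 := by
  have hF := hS.hF
  obtain ⟨w₁, hw₁, hw₁₁, hww₁⟩ := hS.exists_rat_iso_not_perp hn hw0
  have hc : ⟪w, w₁⟫ ∈ F₀ := rat_hermForm_mem hw hw₁
  set κ : F := ((⟪w, w₁⟫)⁻¹) ^ q with hκ
  have hκq : κ ^ q = (⟪w, w₁⟫)⁻¹ := frob_frob hF _
  have hκmem : κ ∈ F₀ := hS.frob_mem (F₀.inv_mem hc)
  refine ⟨κ • w₁, hw₁.smul hκmem, ?_, ?_⟩
  · rw [hermForm_smul_left, hermForm_smul_right, hw₁₁]; ring
  · rw [hermForm_smul_right, hκq, inv_mul_cancel₀ hww₁]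

/-- (R6) a rational isotropic vector pairing to `1` with `w` and orthogonal to `w'` -/
theorem USubData.exists_rat_partner_perp {w w' : Fin n → F} (hw : Rat F₀ w) (hw' : Rat F₀ w')
    (hww : ⟪w, w⟫ = 0) (hww' : ⟪w, w'⟫ = 0) {i k : Fin n}
    (hD : w i * w' k - w k * w' i ≠ 0) :
    ∃ w₁ : Fin n → F, Rat F₀ w₁ ∧ ⟪w₁, w₁⟫ = 0 ∧ ⟪w, w₁⟫ = 1 ∧ ⟪w', w₁⟫ = 0 := by
  have hF := hS.hF
  have hq0 : q ≠ 0 := by have := two_le_of_card_eq_sq hF; omega
  set D : F := w i * w' k - w k * w' i with hDdef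
  have hDmem : D ∈ F₀ := F₀.sub_mem (F₀.mul_mem (hw i) (hw' k)) (F₀.mul_mem (hw k) (hw' i))
  set v : Fin n → F := (w' k ^ q) • Pi.single i 1 - (w' i ^ q) • Pi.single k 1 with hv
  have hvrat : Rat F₀ v :=
    ((Rat.single F₀ i).smul (hS.frob_mem (hw' k))).sub ((Rat.single F₀ k).smul (hS.frob_mem (hw' i)))
  have hxv : ∀ x : Fin n → F, ⟪x, v⟫ = w' k * x i - w' i * x k := by
    intro x
    rw [hv, hermForm_sub_right hF, hermForm_smul_right, hermForm_smul_right,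
      hermForm_single_right hF, hermForm_single_right hF, frob_frob hF, frob_frob hF]
  have hwv : ⟪w, v⟫ = D := by rw [hxv, hDdef]; ring
  have hw'v : ⟪w', v⟫ = 0 := by rw [hxv]; ring
  have hvw : ⟪v, w⟫ = D ^ q := by rw [← hwv, hermForm_conj hF]
  have hw'w : ⟪w', w⟫ = 0 := by rw [← hermForm_conj hF, hww', zero_pow hq0]
  have ha : ⟪v, v⟫ ∈ F₀ := rat_hermForm_mem hvrat hvrat
  have haq : (-⟪v, v⟫) ^ q = -⟪v, v⟫ := by rw [frob_neg' hF, hermForm_conj hF]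
  obtain ⟨τ, hτ, hτtr⟩ := hS.exists_trace (F₀.neg_mem ha) haq
  set μ : F := τ / D with hμ
  have hμmem : μ ∈ F₀ := F₀.div_mem hτ hDmem
  set v₁ : Fin n → F := v + μ • w with hv₁
  have hv₁rat : Rat F₀ v₁ := hvrat.add (hw.smul hμmem)
  have hDq0 : D ^ q ≠ 0 := pow_ne_zero _ hD
  have hv₁v₁ : ⟪v₁, v₁⟫ = 0 := by
    rw [hv₁, hermForm_add_left, hermForm_add_right hF, hermForm_add_right hF, hermForm_smul_left,
      hermForm_smul_left, hermForm_smul_right, hermForm_smul_right, hww, hwv, hvw, hμ, div_pow]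
    have h1 : τ ^ q / D ^ q * D ^ q = τ ^ q := div_mul_cancel₀ _ hDq0
    have h2 : τ / D * D = τ := div_mul_cancel₀ _ hD
    linear_combination hτtr + h1 + h2
  have hwv₁ : ⟪w, v₁⟫ = D := by
    rw [hv₁, hermForm_add_right hF, hermForm_smul_right, hww, hwv]; ring
  have hw'v₁ : ⟪w', v₁⟫ = 0 := by
    rw [hv₁, hermForm_add_right hF, hermForm_smul_right, hw'w, hw'v]; ring
  set κ : F := (D⁻¹) ^ q with hκ
  have hκq : κ ^ q = D⁻¹ := frob_frob hF _
  have hκmem : κ ∈ F₀ := hS.frob_mem (F₀.inv_mem hDmem)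
  refine ⟨κ • v₁, hv₁rat.smul hκmem, ?_, ?_, ?_⟩
  · rw [hermForm_smul_left, hermForm_smul_right, hv₁v₁]; ring
  · rw [hermForm_smul_right, hκq, hwv₁, inv_mul_cancel₀ hD]
  · rw [hermForm_smul_right, hw'v₁, mul_zero]

omit hS in
/-- `e_i` as a rational combination of two rational isotropic vectors -/
theorem single_eq_comb_mixVec {i j : Fin n} {l₁ l₂ : F} (hne : l₁ ≠ l₂) :
    (Pi.single i 1 : Fin n → F) =
      (l₂ / (l₂ - l₁)) • mixVec i j l₁ + (-l₁ / (l₂ - l₁)) • mixVec i j l₂ := by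
  have h : l₂ - l₁ ≠ 0 := sub_ne_zero.mpr (Ne.symm hne)
  unfold mixVec
  have h1 : l₂ / (l₂ - l₁) + -l₁ / (l₂ - l₁) = 1 := by field_simp; ring
  have h2 : l₂ / (l₂ - l₁) * l₁ + -l₁ / (l₂ - l₁) * l₂ = 0 := by field_simp; ring
  calc (Pi.single i 1 : Fin n → F)
      = (l₂ / (l₂ - l₁) + -l₁ / (l₂ - l₁)) • Pi.single i 1
        + (l₂ / (l₂ - l₁) * l₁ + -l₁ / (l₂ - l₁) * l₂) • Pi.single j 1 := by
        rw [h1, h2, one_smul, zero_smul, add_zero]
    _ = _ := by module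

/-- a property of vectors, stable under rational combinations and true for the rational isotropic
vectors, holds for all rational vectors -/
theorem USubData.rat_induction (hn : 2 ≤ n) {p : (Fin n → F) → Prop} (h0 : p 0)
    (hadd : ∀ u v, p u → p v → p (u + v)) (hsmul : ∀ c ∈ F₀, ∀ u, p u → p (c • u))
    (hiso : ∀ w, Rat F₀ w → ⟪w, w⟫ = 0 → p w) : ∀ v, Rat F₀ v → p v := by
  have hF := hS.hF
  obtain ⟨l₁, hl₁, l₂, hl₂, hn₁, hn₂, hne⟩ := hS.exists_lam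
  have hsingle : ∀ i : Fin n, p (Pi.single i 1) := by
    intro i
    obtain ⟨j, hj⟩ := Fintype.exists_ne_of_one_lt_card (by rw [Fintype.card_fin]; omega) i
    rw [single_eq_comb_mixVec (i := i) (j := j) hne]
    have hd : l₂ - l₁ ∈ F₀ := F₀.sub_mem hl₂ hl₁
    apply hadd
    · exact hsmul _ (F₀.div_mem hl₂ hd) _
        (hiso _ (rat_mixVec i j hl₁) (mixVec_isotropic hF hj.symm hn₁))
    · exact hsmul _ (F₀.div_mem (F₀.neg_mem hl₁) hd) _
        (hiso _ (rat_mixVec i j hl₂) (mixVec_isotropic hF hj.symm hn₂))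
  intro v hv
  have hsum : v = ∑ i, v i • (Pi.single i 1 : Fin n → F) := by
    ext k
    simp [Finset.sum_apply, Pi.single_apply]
  rw [hsum]
  exact Finset.sum_induction _ p hadd h0 fun i _ => hsmul _ (hv i) _ (hsingle i)

end data

end Cfsg.Agent.Helper13
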