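import Mathlib
import Cfsg.Agent.Helper13.USubC

/-!
# Unitary subfield subgroups: elements outside the subfield group move a rational isotropic point
to an irrational point (Lemma A); irrational points are detected by norms of products with
rational isotropic vectors (Lemma B).
-/

set_option autoImplicit false
set_option linter.style.haveILetI false
set_option linter.unusedSectionVars false

namespace Cfsg.Agent.Helper13

open Matrix Cfsg.Agent.S0837 Cfsg.Agent.Helper94.SubU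

variable {F : Type*} [Field F] [Fintype F] {q n : ℕ}

local notation "⟪" x ", " y "⟫" => Cfsg.hermForm n F q x y
local notation "Matn" => Matrix (Fin n) (Fin n) F

/-- proportional to a rational vector -/
def PropRat (F₀ : Subfield F) (v : Fin n → F) : Prop :=
  ∃ (κ : F) (r : Fin n → F), Rat F₀ r ∧ v = κ • r

section data

variable {F₀ : Subfield F} {r q₀ : ℕ} (hS : USubData F q F₀ r q₀)
include hS

/-- **Lemma A** (contrapositive form): a unitary matrix mapping every rational isotropic vector to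
a multiple of a rational vector lies in the subfield group -/
theorem USubData.mem_subfieldSubgroup_of_propRat (hn : 2 ≤ n) (g : GL (Fin n) F)
    (hg : IsU q (g : Matn))
    (h : ∀ u, Rat F₀ u → ⟪u, u⟫ = 0 → PropRat F₀ ((g : Matn) *ᵥ u)) :
    g ∈ Cfsg.Geo.subfieldSubgroup F₀ (1 : GL (Fin n) F) := by
  have hF := hS.hF
  have hq0 : q ≠ 0 := by have := two_le_of_card_eq_sq hF; omega
  obtain ⟨l₁, hl₁, l₂, hl₂, hn₁, hn₂, hne⟩ := hS.exists_lam
  set i₀ : Fin n := ⟨0, by omega⟩ with hi₀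
  set j₀ : Fin n := ⟨1, by omega⟩ with hj₀
  have hij : i₀ ≠ j₀ := by
    intro h
    have := congrArg Fin.val h
    simp [hi₀, hj₀] at this
  set u₁ : Fin n → F := mixVec i₀ j₀ l₁ with hu₁
  have hu₁rat : Rat F₀ u₁ := rat_mixVec i₀ j₀ hl₁
  have hu₁iso : ⟪u₁, u₁⟫ = 0 := mixVec_isotropic hF hij hn₁
  have hu₁0 : u₁ ≠ 0 := by
    intro h
    have := congrFun h i₀
    rw [hu₁, mixVec_apply_left hij] at this
    exact one_ne_zero this
  obtain ⟨ξ, r₁, hr₁, hgu₁⟩ := h u₁ hu₁rat hu₁iso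
  have hg0 : ∀ u : Fin n → F, u ≠ 0 → (g : Matn) *ᵥ u ≠ 0 := by
    intro u hu h0
    apply hu
    apply glU_mulVec_injective g
    rw [h0, Matrix.mulVec_zero]
  have hξ : ξ ≠ 0 := by
    rintro rfl
    rw [zero_smul] at hgu₁
    exact hg0 u₁ hu₁0 hgu₁
  -- the key: products of the scalars of non-orthogonal rational isotropic vectors are rational
  have hkey : ∀ (u w : Fin n → F) (κ κ' : F) (s s' : Fin n → F), Rat F₀ u → Rat F₀ w →
      Rat F₀ s → Rat F₀ s' → (g : Matn) *ᵥ u = κ • s → (g : Matn) *ᵥ w = κ' • s' →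
      ⟪u, w⟫ ≠ 0 → κ * κ' ^ q ∈ F₀ ∧ κ * κ' ^ q ≠ 0 := by
    intro u w κ κ' s s' hu hw hs hs' hgu hgw huw
    have h1 : ⟪u, w⟫ = κ * κ' ^ q * ⟪s, s'⟫ := by
      rw [← hg u w, hgu, hgw, hermForm_smul_left, hermForm_smul_right]; ring
    have h2 : ⟪s, s'⟫ ≠ 0 := by
      intro h0
      rw [h0, mul_zero] at h1
      exact huw h1
    have h3 : κ * κ' ^ q ≠ 0 := by
      intro h0
      rw [h0, zero_mul] at h1
      exact huw h1
    refine ⟨?_, h3⟩
    have h4 : κ * κ' ^ q = ⟪u, w⟫ / ⟪s, s'⟫ := by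
      rw [h1, mul_div_cancel_right₀ _ h2]
    rw [h4]
    exact F₀.div_mem (rat_hermForm_mem hu hw) (rat_hermForm_mem hs hs')
  have hiso : ∀ u, Rat F₀ u → ⟪u, u⟫ = 0 → ∃ s, Rat F₀ s ∧ (g : Matn) *ᵥ u = ξ • s := by
    intro u hu huu
    by_cases hu0 : u = 0
    · exact ⟨0, Rat.zero F₀, by rw [hu0, Matrix.mulVec_zero, smul_zero]⟩
    obtain ⟨κ, s, hs, hgu⟩ := h u hu huu
    obtain ⟨w, hw, hww, huw, hu₁w⟩ := hS.exists_rat_iso_not_perp_two hn hu0 hu₁0
    obtain ⟨κ', s', hs', hgw⟩ := h w hw hww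
    obtain ⟨h1, h1'⟩ := hkey u w κ κ' s s' hu hw hs hs' hgu hgw huw
    obtain ⟨h2, h2'⟩ := hkey u₁ w ξ κ' r₁ s' hu₁rat hw hr₁ hs' hgu₁ hgw hu₁w
    have hκ'0 : κ' ^ q ≠ 0 := right_ne_zero_of_mul h1'
    have h3 : κ / ξ ∈ F₀ := by
      have : κ / ξ = (κ * κ' ^ q) / (ξ * κ' ^ q) := by
        field_simp
      rw [this]
      exact F₀.div_mem h1 h2
    refine ⟨(κ / ξ) • s, hs.smul h3, ?_⟩
    rw [hgu, smul_smul, mul_div_cancel₀ _ hξ]
  have hall : ∀ v, Rat F₀ v → ∃ s, Rat F₀ s ∧ (g : Matn) *ᵥ v = ξ • s := by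
    apply hS.rat_induction hn (p := fun v => ∃ s, Rat F₀ s ∧ (g : Matn) *ᵥ v = ξ • s)
    · exact ⟨0, Rat.zero F₀, by rw [Matrix.mulVec_zero, smul_zero]⟩
    · rintro u v ⟨s, hs, hgu⟩ ⟨s', hs', hgv⟩
      exact ⟨s + s', hs.add hs', by rw [Matrix.mulVec_add, hgu, hgv, smul_add]⟩
    · rintro c hc u ⟨s, hs, hgu⟩
      exact ⟨c • s, hs.smul hc, by rw [Matrix.mulVec_smul, hgu, smul_comm]⟩
    · exact hiso
  apply Cfsg.Agent.Helper94.SubO.mem_subfieldSubgroup_of_PR g ξ hξ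
  rintro v ⟨u, hu, rfl⟩
  rw [Units.val_one, Matrix.one_mulVec]
  obtain ⟨s, hs, hgs⟩ := hall u hu
  exact ⟨s, ⟨s, hs, by rw [Units.val_one, Matrix.one_mulVec]⟩, hgs⟩

/-- **Lemma A**: a unitary matrix outside the subfield group maps some rational isotropic vector
to a vector not proportional to a rational one -/
theorem USubData.exists_not_propRat (hn : 2 ≤ n) (g : GL (Fin n) F) (hg : IsU q (g : Matn))
    (hg' : g ∉ Cfsg.Geo.subfieldSubgroup F₀ (1 : GL (Fin n) F)) :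
    ∃ u, Rat F₀ u ∧ ⟪u, u⟫ = 0 ∧ ¬ PropRat F₀ ((g : Matn) *ᵥ u) := by
  by_contra hcon
  push Not at hcon
  exact hg' (hS.mem_subfieldSubgroup_of_propRat hn g hg hcon)

end data

end Cfsg.Agent.Helper13
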