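import Mathlib
import Cfsg.Agent.Helper13.USubD

/-!
# Unitary subfield subgroups: Lemma B

A vector `a` not proportional to a rational vector admits orthogonal rational isotropic vectors
`w, w'` with `⟪a, w⟫, ⟪a, w'⟫ ≠ 0` and `N⟪a, w'⟫ / N⟪a, w⟫ ∉ F₀`.
-/

set_option autoImplicit false
set_option linter.style.haveILetI false
set_option linter.unusedSectionVars false

namespace Cfsg.Agent.Helper13

open Matrix Cfsg.Agent.S0837 Cfsg.Agent.Helper94.SubU

variable {F : Type*} [Field F] [Fintype F] {q n : ℕ}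

local notation "⟪" x ", " y "⟫" => Cfsg.hermForm n F q x y
local notation "Matn" => Matrix (Fin n) (Fin n) F

section data

variable {F₀ : Subfield F} {r q₀ : ℕ} (hS : USubData F q F₀ r q₀)
include hS

/-- **Lemma B**, contrapositive form -/
theorem USubData.propRat_of_norm_ratios (hn : 4 ≤ n) (a : Fin n → F)
    (H : ∀ w w' : Fin n → F, Rat F₀ w → Rat F₀ w' → ⟪w, w⟫ = 0 → ⟪w', w'⟫ = 0 → ⟪w, w'⟫ = 0 →
      (∃ i k, w i * w' k - w k * w' i ≠ 0) → ⟪a, w⟫ ≠ 0 → ⟪a, w'⟫ ≠ 0 →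
      (⟪a, w'⟫ * ⟪a, w'⟫ ^ q) / (⟪a, w⟫ * ⟪a, w⟫ ^ q) ∈ F₀) : PropRat F₀ a := by
  have hF := hS.hF
  have hq0 : q ≠ 0 := by have := two_le_of_card_eq_sq hF; omega
  obtain ⟨l₁, hl₁, l₂, hl₂, hn₁, hn₂, hne⟩ := hS.exists_lam
  have hlq : l₁ ^ q - l₂ ^ q ≠ 0 := by
    intro h
    exact hne (frob_injective' hF (sub_eq_zero.mp h))
  -- Step 1: polarisation
  have step1 : ∀ (i j k l : Fin n), i ≠ j → k ≠ l → k ≠ i → k ≠ j → l ≠ i → l ≠ j →
      ∀ lam ∈ F₀, lam * lam ^ q = -1 → ∀ lam' ∈ F₀, lam' * lam' ^ q = -1 →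
      ⟪a, mixVec i j lam⟫ ≠ 0 → ⟪a, mixVec k l lam'⟫ ≠ 0 →
      ⟪a, mixVec k l lam'⟫ / ⟪a, mixVec i j lam⟫ ∈ F₀ := by
    intro i j k l hij hkl hki hkj hli hlj lam hlam hlamn lam' hlam' hlamn' hθ hθ'
    set w := mixVec i j lam with hw
    set w' := mixVec k l lam' with hw'
    set θ := ⟪a, w⟫ with hθdef
    set θ' := ⟪a, w'⟫ with hθ'def
    have hwrat : Rat F₀ w := rat_mixVec i j hlam
    have hw'rat : Rat F₀ w' := rat_mixVec k l hlam'
    have hww : ⟪w, w⟫ = 0 := mixVec_isotropic hF hij hlamn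
    have hw'w' : ⟪w', w'⟫ = 0 := mixVec_isotropic hF hkl hlamn'
    have hww' : ⟪w, w'⟫ = 0 := by
      rw [hw', hermForm_mixVec_right hF, hw, mixVec_apply_of_ne hki hkj, mixVec_apply_of_ne hli hlj]
      ring
    have hw'w : ⟪w', w⟫ = 0 := by
      rw [hw, hermForm_mixVec_right hF, hw', mixVec_apply_of_ne hki.symm hli.symm,
        mixVec_apply_of_ne hkj.symm hlj.symm]
      ring
    have hwi : w i = 1 := mixVec_apply_left hij lam
    have hwk : w k = 0 := mixVec_apply_of_ne hki hkj lam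
    have hw'k : w' k = 1 := mixVec_apply_left hkl lam'
    have hw'i : w' i = 0 := mixVec_apply_of_ne hki.symm hli.symm lam'
    have hN : (θ' * θ' ^ q) / (θ * θ ^ q) ∈ F₀ :=
      H w w' hwrat hw'rat hww hw'w' hww' ⟨i, k, by rw [hwi, hwk, hw'k]; simp⟩ hθ hθ'
    have hR : ∀ μ ∈ F₀, ((θ + μ ^ q * θ') * (θ + μ ^ q * θ') ^ q) / (θ * θ ^ q) ∈ F₀ := by
      intro μ hμ
      by_cases hμ0 : μ = 0
      · subst hμ0
        rw [zero_pow hq0, zero_mul, add_zero, div_self (mul_ne_zero hθ (pow_ne_zero _ hθ))]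
        exact F₀.one_mem
      by_cases hθμ : θ + μ ^ q * θ' = 0
      · rw [hθμ, zero_mul, zero_div]
        exact F₀.zero_mem
      have h1 : ⟪a, w + μ • w'⟫ = θ + μ ^ q * θ' := by
        rw [hermForm_add_right hF, hermForm_smul_right]
      have h2 := H w (w + μ • w') hwrat (hwrat.add (hw'rat.smul hμ)) hww
        (by
          rw [hermForm_add_left, hermForm_add_right hF, hermForm_add_right hF, hermForm_smul_left,
            hermForm_smul_left, hermForm_smul_right, hermForm_smul_right, hww, hww', hw'w, hw'w']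
          ring)
        (by rw [hermForm_add_right hF, hermForm_smul_right, hww, hww']; ring)
        ⟨i, k, by
          simp only [Pi.add_apply, Pi.smul_apply, smul_eq_mul]
          rw [hwi, hwk, hw'k, hw'i]
          simpa using hμ0⟩
        hθ (by rw [h1]; exact hθμ)
      rw [h1] at h2
      exact h2
    have hζ : (θ' / θ) ^ q ∈ F₀ := by
      apply hS.mem_of_trace_mem
      intro b hb
      have h1 := hR b hb
      have h2 : b * (θ' / θ) ^ q + b ^ q * ((θ' / θ) ^ q) ^ q =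
          ((θ + b ^ q * θ') * (θ + b ^ q * θ') ^ q) / (θ * θ ^ q) - 1
            - (b * b ^ q) * ((θ' * θ' ^ q) / (θ * θ ^ q)) := by
        rw [frob_frob hF, frob_add hF, mul_pow, frob_frob hF, div_pow]
        have hθq : θ ^ q ≠ 0 := pow_ne_zero _ hθ
        field_simp
        ring
      rw [h2]
      exact F₀.sub_mem (F₀.sub_mem h1 F₀.one_mem)
        (F₀.mul_mem (F₀.mul_mem hb (hS.frob_mem hb)) hN)
    have := hS.frob_mem hζ
    rwa [frob_frob hF] at this
  -- Step 2: the core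
  have core : ∀ (i j k l : Fin n), i ≠ j → k ≠ l → k ≠ i → k ≠ j → l ≠ i → l ≠ j →
      ∀ lam' ∈ F₀, lam' * lam' ^ q = -1 → a k + lam' ^ q * a l ≠ 0 →
      a i / (a k + lam' ^ q * a l) ∈ F₀ ∧ a j / (a k + lam' ^ q * a l) ∈ F₀ := by
    intro i j k l hij hkl hki hkj hli hlj lam' hlam' hlamn' hκ
    set κ := a k + lam' ^ q * a l with hκdef
    have hκ' : ⟪a, mixVec k l lam'⟫ = κ := hermForm_mixVec_right hF k l lam' a
    have hφ : ∀ lam ∈ F₀, lam * lam ^ q = -1 → (a i + lam ^ q * a j) / κ ∈ F₀ := by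
      intro lam hlam hlamn
      have hφ' : ⟪a, mixVec i j lam⟫ = a i + lam ^ q * a j := hermForm_mixVec_right hF i j lam a
      by_cases h0 : a i + lam ^ q * a j = 0
      · rw [h0, zero_div]; exact F₀.zero_mem
      · have := step1 k l i j hkl hij hki.symm hli.symm hkj.symm hlj.symm lam' hlam' hlamn' lam hlam
          hlamn (by rw [hκ']; exact hκ) (by rw [hφ']; exact h0)
        rwa [hκ', hφ'] at this
    have h1 := hφ l₁ hl₁ hn₁
    have h2 := hφ l₂ hl₂ hn₂
    have hj : a j / κ ∈ F₀ := by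
      have : a j / κ = ((a i + l₁ ^ q * a j) / κ - (a i + l₂ ^ q * a j) / κ) / (l₁ ^ q - l₂ ^ q) := by
        field_simp
        ring
      rw [this]
      exact F₀.div_mem (F₀.sub_mem h1 h2) (F₀.sub_mem (hS.frob_mem hl₁) (hS.frob_mem hl₂))
    refine ⟨?_, hj⟩
    have : a i / κ = (a i + l₁ ^ q * a j) / κ - l₁ ^ q * (a j / κ) := by
      field_simp
      ring
    rw [this]
    exact F₀.sub_mem h1 (F₀.mul_mem (hS.frob_mem hl₁) hj)
  -- Step 3
  by_cases ha0 : a = 0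
  · exact ⟨0, 0, Rat.zero F₀, by rw [ha0, smul_zero]⟩
  obtain ⟨i₀, hi₀⟩ : ∃ i, a i ≠ 0 := by
    by_contra hcon
    push Not at hcon
    exact ha0 (funext hcon)
  have hall : ∀ j, a j / a i₀ ∈ F₀ := by
    intro j
    by_cases hj : j = i₀
    · rw [hj, div_self hi₀]; exact F₀.one_mem
    have hcard : 1 < ((Finset.univ.erase i₀).erase j).card := by
      rw [Finset.card_erase_of_mem (Finset.mem_erase.mpr ⟨hj, Finset.mem_univ _⟩),
        Finset.card_erase_of_mem (Finset.mem_univ _), Finset.card_univ, Fintype.card_fin]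
      omega
    obtain ⟨k, hk, l, hl, hkl⟩ := Finset.one_lt_card.mp hcard
    rw [Finset.mem_erase, Finset.mem_erase] at hk hl
    obtain ⟨hkj, hki, -⟩ := hk
    obtain ⟨hlj, hli, -⟩ := hl
    by_cases hkl0 : a k = 0 ∧ a l = 0
    · obtain ⟨hak, hal⟩ := hkl0
      by_cases haj : a j = 0
      · rw [haj, zero_div]; exact F₀.zero_mem
      · have hκ : a j + l₁ ^ q * a l ≠ 0 := by rw [hal, mul_zero, add_zero]; exact haj
        have := (core i₀ k j l hki.symm (Ne.symm hlj) hj hkj.symm hli hkl.symm l₁ hl₁ hn₁ hκ).1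
        rw [hal, mul_zero, add_zero] at this
        have h2 : a j / a i₀ = (a i₀ / a j)⁻¹ := by rw [inv_div]
        rw [h2]
        exact F₀.inv_mem this
    · obtain ⟨lam', hlam', hlamn', hκ⟩ : ∃ lam' ∈ F₀, lam' * lam' ^ q = -1 ∧
          a k + lam' ^ q * a l ≠ 0 := by
        by_contra hcon
        push Not at hcon
        have h1 := hcon l₁ hl₁ hn₁
        have h2 := hcon l₂ hl₂ hn₂
        apply hkl0
        have h3 : (l₁ ^ q - l₂ ^ q) * a l = 0 := by linear_combination h1 - h2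
        have hal : a l = 0 := by
          rcases mul_eq_zero.mp h3 with h | h
          · exact absurd h hlq
          · exact h
        rw [hal, mul_zero, add_zero] at h1
        exact ⟨h1, hal⟩
      obtain ⟨h1, h2⟩ := core i₀ j k l (Ne.symm hj) hkl hki hkj hli hlj lam' hlam' hlamn' hκ
      have h3 : a j / a i₀ = (a j / (a k + lam' ^ q * a l)) / (a i₀ / (a k + lam' ^ q * a l)) := by
        field_simp
      rw [h3]
      exact F₀.div_mem h2 h1
  refine ⟨a i₀, fun j => a j / a i₀, hall, ?_⟩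
  ext j
  simp only [Pi.smul_apply, smul_eq_mul]
  rw [mul_div_cancel₀ _ hi₀]

/-- **Lemma B** -/
theorem USubData.exists_norm_ratio_not_mem (hn : 4 ≤ n) (a : Fin n → F)
    (ha : ¬ PropRat F₀ a) :
    ∃ w w' : Fin n → F, Rat F₀ w ∧ Rat F₀ w' ∧ ⟪w, w⟫ = 0 ∧ ⟪w', w'⟫ = 0 ∧ ⟪w, w'⟫ = 0 ∧
      (∃ i k, w i * w' k - w k * w' i ≠ 0) ∧ ⟪a, w⟫ ≠ 0 ∧ ⟪a, w'⟫ ≠ 0 ∧
      (⟪a, w'⟫ * ⟪a, w'⟫ ^ q) / (⟪a, w⟫ * ⟪a, w⟫ ^ q) ∉ F₀ := by
  by_contra hcon
  push Not at hcon
  exact ha (hS.propRat_of_norm_ratios hn a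
    fun w w' hw hw' hww hw'w' hww' hD hθ hθ' => hcon w w' hw hw' hww hw'w' hww' hD hθ hθ')

end data

end Cfsg.Agent.Helper13
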