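import Mathlib
import Cfsg.Agent.Helper13.USubE
import Cfsg.Agent.Helper46.SL2SubfieldGen

/-!
# Unitary subfield subgroups: sections onto `SL₂`

Elements `g` fixing `z`, acting on `⟨a, w, z⟩ / ⟨z⟩` through a matrix `x ∈ SL₂(F)` in the basis
`(a, w)` and fixing a set `Y` pointwise are related to `x`; the relation is multiplicative, so
that every element of a subgroup of `SL₂(F)` generated by images lifts.
-/

set_option autoImplicit false
set_option linter.style.haveILetI false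
set_option linter.unusedSectionVars false

namespace Cfsg.Agent.Helper13

open Matrix Cfsg.Agent.S0837 Cfsg.Agent.Helper94.SubU Cfsg.Agent.Helper46.Dk

variable {F : Type*} [Field F] [Fintype F] {q n : ℕ}

local notation "⟪" x ", " y "⟫" => Cfsg.hermForm n F q x y
local notation "Matn" => Matrix (Fin n) (Fin n) F
local notation "SL2F" => Matrix.SpecialLinearGroup (Fin 2) F

/-- `g` fixes `z`, acts on `⟨a, w, z⟩` modulo `z` through `x`, and fixes `Y` pointwise -/
structure SecRel (a w z : Fin n → F) (Y : Set (Fin n → F)) (g : GL (Fin n) F) (x : SL2F) :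
    Prop where
  fix_z : (g : Matn) *ᵥ z = z
  map_a : ∃ c : F, (g : Matn) *ᵥ a = x.1 0 0 • a + x.1 1 0 • w + c • z
  map_w : ∃ c : F, (g : Matn) *ᵥ w = x.1 0 1 • a + x.1 1 1 • w + c • z
  fix_Y : ∀ v ∈ Y, (g : Matn) *ᵥ v = v

section rel

variable {a w z : Fin n → F} {Y : Set (Fin n → F)}

omit [Fintype F] in
theorem SecRel.one : SecRel a w z Y (1 : GL (Fin n) F) (1 : SL2F) := by
  refine ⟨by simp, ⟨0, ?_⟩, ⟨0, ?_⟩, fun v _ => by simp⟩
  · rw [Units.val_one, Matrix.one_mulVec, one_00, one_10]; module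
  · rw [Units.val_one, Matrix.one_mulVec, one_01, one_11]; module

omit [Fintype F] in
theorem SecRel.mul {g g' : GL (Fin n) F} {x x' : SL2F} (h : SecRel a w z Y g x)
    (h' : SecRel a w z Y g' x') : SecRel a w z Y (g * g') (x * x') := by
  obtain ⟨c₁, h₁⟩ := h.map_a
  obtain ⟨c₂, h₂⟩ := h.map_w
  obtain ⟨c₁', h₁'⟩ := h'.map_a
  obtain ⟨c₂', h₂'⟩ := h'.map_w
  refine ⟨?_, ⟨x'.1 0 0 * c₁ + x'.1 1 0 * c₂ + c₁', ?_⟩, ⟨x'.1 0 1 * c₁ + x'.1 1 1 * c₂ + c₂', ?_⟩,
    ?_⟩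
  · rw [Units.val_mul, ← Matrix.mulVec_mulVec, h'.fix_z, h.fix_z]
  · rw [Units.val_mul, ← Matrix.mulVec_mulVec, h₁', Matrix.mulVec_add, Matrix.mulVec_add,
      Matrix.mulVec_smul, Matrix.mulVec_smul, Matrix.mulVec_smul, h₁, h₂, h.fix_z, mul_00, mul_10]
    module
  · rw [Units.val_mul, ← Matrix.mulVec_mulVec, h₂', Matrix.mulVec_add, Matrix.mulVec_add,
      Matrix.mulVec_smul, Matrix.mulVec_smul, Matrix.mulVec_smul, h₁, h₂, h.fix_z, mul_01, mul_11]
    module
  · intro v hv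
    rw [Units.val_mul, ← Matrix.mulVec_mulVec, h'.fix_Y v hv, h.fix_Y v hv]

omit [Fintype F] in
theorem SecRel.inv {g : GL (Fin n) F} {x : SL2F} (h : SecRel a w z Y g x) :
    SecRel a w z Y g⁻¹ x⁻¹ := by
  obtain ⟨c₁, h₁⟩ := h.map_a
  obtain ⟨c₂, h₂⟩ := h.map_w
  have hdet := det' x
  have hz : ((g⁻¹ : GL (Fin n) F) : Matn) *ᵥ z = z := by
    apply glU_mulVec_injective g
    rw [glU_mulVec_inv, h.fix_z]
  refine ⟨hz, ⟨-(x.1 1 1 * c₁ - x.1 1 0 * c₂), ?_⟩, ⟨-(-x.1 0 1 * c₁ + x.1 0 0 * c₂), ?_⟩, ?_⟩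
  · apply glU_mulVec_injective g
    rw [glU_mulVec_inv, inv_00, inv_10, Matrix.mulVec_add, Matrix.mulVec_add, Matrix.mulVec_smul,
      Matrix.mulVec_smul, Matrix.mulVec_smul, h₁, h₂, h.fix_z]
    have : a = (x.1 0 0 * x.1 1 1 - x.1 0 1 * x.1 1 0) • a := by rw [hdet, one_smul]
    nth_rewrite 1 [this]
    module
  · apply glU_mulVec_injective g
    rw [glU_mulVec_inv, inv_01, inv_11, Matrix.mulVec_add, Matrix.mulVec_add, Matrix.mulVec_smul,
      Matrix.mulVec_smul, Matrix.mulVec_smul, h₁, h₂, h.fix_z]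
    have : w = (x.1 0 0 * x.1 1 1 - x.1 0 1 * x.1 1 0) • w := by rw [hdet, one_smul]
    nth_rewrite 1 [this]
    module
  · intro v hv
    apply glU_mulVec_injective g
    rw [glU_mulVec_inv, h.fix_Y v hv]

omit [Fintype F] in
/-- **lifting**: every element of the subgroup generated by images of elements of `M` is the
image of an element of `M` -/
theorem SecRel.lift (M : Subgroup (GL (Fin n) F)) (S : Set SL2F)
    (h : ∀ y ∈ S, ∃ g ∈ M, SecRel a w z Y g y) :
    ∀ x ∈ Subgroup.closure S, ∃ g ∈ M, SecRel a w z Y g x := by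
  intro x hx
  induction hx using Subgroup.closure_induction with
  | mem y hy => exact h y hy
  | one => exact ⟨1, M.one_mem, SecRel.one⟩
  | mul x y _ _ ihx ihy =>
    obtain ⟨g, hg, hgx⟩ := ihx
    obtain ⟨g', hg', hgy⟩ := ihy
    exact ⟨g * g', M.mul_mem hg hg', hgx.mul hgy⟩
  | inv x _ ih =>
    obtain ⟨g, hg, hgx⟩ := ih
    exact ⟨g⁻¹, M.inv_mem hg, hgx.inv⟩

end rel

/-! ### the images of transvections -/

section tv

variable {a w z : Fin n → F} {Y : Set (Fin n → F)}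

omit [Fintype F] in
/-- the transvection along `a` -/
theorem secRel_tv_a (haa : ⟪a, a⟫ = 0) (hza : ⟪z, a⟫ = 0) (hY : ∀ v ∈ Y, ⟪v, a⟫ = 0) (s : F)
    (g : GL (Fin n) F) (hg : (g : Matn) = Cfsg.unitaryTransvection n q a s) :
    SecRel a w z Y g (uU (s * ⟪w, a⟫)) := by
  refine ⟨?_, ⟨0, ?_⟩, ⟨0, ?_⟩, ?_⟩
  · rw [hg, unitaryTransvection_mulVec, hza, mul_zero, zero_smul, add_zero]
  · rw [hg, unitaryTransvection_mulVec, haa]
    simp only [uU, mk4_00, mk4_10]
    module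
  · rw [hg, unitaryTransvection_mulVec]
    simp only [uU, mk4_01, mk4_11]
    module
  · intro v hv
    rw [hg, unitaryTransvection_mulVec, hY v hv, mul_zero, zero_smul, add_zero]

omit [Fintype F] in
/-- the transvection along a vector `u = β w + γ z` orthogonal to `w` and `z` -/
theorem secRel_tv_u {u : Fin n → F} {β γ : F} (hu : u = β • w + γ • z) (hzu : ⟪z, u⟫ = 0)
    (hwu : ⟪w, u⟫ = 0) (hY : ∀ v ∈ Y, ⟪v, u⟫ = 0) (s : F)
    (g : GL (Fin n) F) (hg : (g : Matn) = Cfsg.unitaryTransvection n q u s) :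
    SecRel a w z Y g (vV (s * ⟪a, u⟫ * β)) := by
  refine ⟨?_, ⟨s * ⟪a, u⟫ * γ, ?_⟩, ⟨0, ?_⟩, ?_⟩
  · rw [hg, unitaryTransvection_mulVec, hzu, mul_zero, zero_smul, add_zero]
  · rw [hg, unitaryTransvection_mulVec]
    simp only [vV, mk4_00, mk4_10]
    nth_rewrite 2 [hu]
    module
  · rw [hg, unitaryTransvection_mulVec, hwu]
    simp only [vV, mk4_01, mk4_11]
    module
  · intro v hv
    rw [hg, unitaryTransvection_mulVec, hY v hv, mul_zero, zero_smul, add_zero]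

end tv

end Cfsg.Agent.Helper13
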