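import Mathlib
import Cfsg.Agent.Helper46.SL2SubfieldGen

/-!
# Generation of `SL₂(2^r)`, `r` an odd prime, by three root elements

A subgroup of `SL₂(K)`, `|K| = 2^r` with `r` an odd prime, containing `[1,1;0,1]`, `[1,0;ν,1]` and
`[1,0;ν',1]` with `ν ≠ ν'` non-zero, is the whole group (Dickson's list).
-/

set_option autoImplicit false
set_option linter.style.haveILetI false
set_option linter.unusedSectionVars false

namespace Cfsg.Agent.Helper13

open Matrix Cfsg.Agent.Helper46.Dk Cfsg.Agent.Helper46.IsCA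

section D2

variable {K : Type*} [Field K] [Fintype K] [CharP K 2]

local notation "SL2K" => Matrix.SpecialLinearGroup (Fin 2) K
local notation "PSL2K" => Matrix.ProjectiveSpecialLinearGroup (Fin 2) K

omit [Fintype K] [CharP K 2] in
theorem vV_injective' : Function.Injective (vV : K → SL2K) := by
  intro a b h
  have := congrArg (fun g : SL2K => g.1 1 0) h
  simpa [vV] using this

/-- a subgroup containing two distinct non-trivial lower unitriangular matrices has order
divisible by four -/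
theorem four_dvd_card_of_vV (X : Subgroup SL2K) {ν ν' : K} (hν : ν ≠ 0) (hν' : ν' ≠ 0)
    (hne : ν ≠ ν') (h1 : vV ν ∈ X) (h2 : vV ν' ∈ X) : 4 ∣ Nat.card X := by
  classical
  haveI : Fact (Nat.Prime 2) := ⟨Nat.prime_two⟩
  let f : Multiplicative K →* SL2K :=
    { toFun := fun c : Multiplicative K => vV (E := K) (Multiplicative.toAdd c)
      map_one' := vV_zero'
      map_mul' := fun a b => (vV_mul' _ _).symm }
  have hf : Function.Injective f := by
    intro a b h
    have h' : Multiplicative.toAdd a = Multiplicative.toAdd b := vV_injective' (K := K) h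
    exact Multiplicative.toAdd.injective h'
  set V : Subgroup SL2K := f.range with hV
  have hcardV : Nat.card V = Fintype.card K := by
    rw [← Nat.card_eq_fintype_card]
    exact (Nat.card_congr (MonoidHom.ofInjective hf).toEquiv).symm
  obtain ⟨j, hj⟩ := FiniteField.card K 2
  have hdvd : Nat.card ↥(X ⊓ V) ∣ 2 ^ (j : ℕ) := by
    rw [← hj.2, ← hcardV]
    exact Subgroup.card_dvd_of_le inf_le_right
  obtain ⟨i, -, hi⟩ := (Nat.dvd_prime_pow Nat.prime_two).mp hdvd
  have hmemV : ∀ c : K, vV c ∈ V := fun c => ⟨Multiplicative.ofAdd c, rfl⟩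
  have h3 : 2 < Nat.card ↥(X ⊓ V) := by
    haveI : Fintype ↥(X ⊓ V) := Fintype.ofFinite _
    rw [Nat.card_eq_fintype_card, Fintype.two_lt_card_iff]
    refine ⟨⟨1, Subgroup.one_mem _⟩, ⟨vV ν, h1, hmemV ν⟩, ⟨vV ν', h2, hmemV ν'⟩, ?_, ?_, ?_⟩
    · intro h
      have h' : (1 : SL2K) = vV ν := congrArg Subtype.val h
      rw [← vV_zero'] at h'
      exact hν (vV_injective' h').symm
    · intro h
      have h' : (1 : SL2K) = vV ν' := congrArg Subtype.val h
      rw [← vV_zero'] at h'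
      exact hν' (vV_injective' h').symm
    · intro h
      have h' : vV ν = vV ν' := congrArg Subtype.val h
      exact hne (vV_injective' h')
  have hi2 : 2 ≤ i := by
    by_contra hlt
    have : i = 0 ∨ i = 1 := by omega
    rcases this with rfl | rfl <;> rw [hi] at h3 <;> norm_num at h3
  have h4 : 4 ∣ Nat.card ↥(X ⊓ V) := by
    rw [hi]
    exact pow_dvd_pow 2 hi2
  exact h4.trans (Subgroup.card_dvd_of_le inf_le_left)

/-- the image in `PSL₂` of a subgroup of `SL₂` -/
def imgPSL (X : Subgroup SL2K) : Subgroup PSL2K :=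
  X.map (QuotientGroup.mk' (Subgroup.center SL2K))

omit [Fintype K] in
theorem liftSL_imgPSL (X : Subgroup SL2K) : liftSL (imgPSL X) = X := by
  unfold liftSL imgPSL
  rw [Subgroup.comap_map_eq, QuotientGroup.ker_mk', center_eq_bot_of_char_two, sup_bot_eq]

theorem card_imgPSL (X : Subgroup SL2K) : Nat.card (imgPSL X) = Nat.card X :=
  Subgroup.card_map_of_injective mk'_injective_of_char_two

theorem five_not_dvd (r : ℕ) (hro : Odd r) : ¬ 60 ∣ 2 ^ r * ((2 ^ r) ^ 2 - 1) := by
  intro h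
  obtain ⟨k, hk⟩ := hro
  have h5 : 5 ∣ 2 ^ r * ((2 ^ r) ^ 2 - 1) := (by norm_num : 5 ∣ 60).trans h
  have hp5 : Nat.Prime 5 := by norm_num
  rcases (Nat.Prime.dvd_mul hp5).mp h5 with h1 | h1
  · have := hp5.dvd_of_dvd_pow h1
    norm_num at this
  · have h2 : (2 ^ r) ^ 2 = 4 ^ r := by rw [← pow_mul, mul_comm, pow_mul]; norm_num
    rw [h2] at h1
    have h3 : 4 ^ r % 5 = 4 := by
      rw [hk, pow_succ, pow_mul, Nat.mul_mod, Nat.pow_mod]
      norm_num
    have h4 : 1 ≤ 4 ^ r := Nat.one_le_pow _ _ (by norm_num)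
    omega

/-- **generation of `SL₂(2^r)`**, `r` an odd prime -/
theorem sl2_eq_top_of_three (r : ℕ) (hr : r.Prime) (hro : Odd r) (hK : Fintype.card K = 2 ^ r)
    (X : Subgroup SL2K) {ν ν' : K} (hν : ν ≠ 0) (hν' : ν' ≠ 0) (hne : ν ≠ ν')
    (hu : uU 1 ∈ X) (h1 : vV ν ∈ X) (h2 : vV ν' ∈ X) : X = ⊤ := by
  classical
  haveI : Fact (Nat.Prime 2) := ⟨Nat.prime_two⟩
  haveI : CharP (AlgebraicClosure K) 2 :=
    charP_of_injective_algebraMap (algebraMap K (AlgebraicClosure K)).injective 2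
  set H := imgPSL X with hH
  have hcardH : Nat.card H = Nat.card X := card_imgPSL X
  have h4 : 4 ∣ Nat.card H := by
    rw [hcardH]; exact four_dvd_card_of_vV X hν hν' hne h1 h2
  have hlift : liftSL H = X := liftSL_imgPSL X
  have hu' : uU 1 ∈ liftSL H := by rw [hlift]; exact hu
  have hv' : vV ν ∈ liftSL H := by rw [hlift]; exact h1
  let a : ↥H := ⟨_, Subgroup.mem_map_of_mem (QuotientGroup.mk' (Subgroup.center SL2K)) hu⟩
  let b : ↥H := ⟨_, Subgroup.mem_map_of_mem (QuotientGroup.mk' (Subgroup.center SL2K)) h1⟩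
  have hab : a * b ≠ b * a := fun h =>
    mk_uv_ne_mk_vu (1 : K) ν one_ne_zero hν (congrArg Subtype.val h)
  have ha2 : a ^ 2 = 1 := by
    apply Subtype.ext
    show (QuotientGroup.mk' (Subgroup.center SL2K) (uU 1)) ^ 2 = 1
    rw [← map_pow, uU_sq_of_char_two, map_one]
  have hb2 : b ^ 2 = 1 := by
    apply Subtype.ext
    show (QuotientGroup.mk' (Subgroup.center SL2K) (vV ν)) ^ 2 = 1
    rw [← map_pow, vV_sq_of_char_two, map_one]
  haveI : Finite ↥(liftSL H) := inferInstance
  have hcardSL : Nat.card SL2K = 2 ^ r * ((2 ^ r) ^ 2 - 1) := by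
    rw [Cfsg.Agent.Helper5.card_SL2, hK]
  suffices hsuff : Nat.card X = Nat.card SL2K from Subgroup.eq_top_of_card_eq X hsuff
  obtain ⟨e⟩ := nonempty_equiv_quotient H
  rcases dickson_main'' (ρ := liftRep H) 2 (liftRep_injective H) with
    hc | ⟨n, a', ha', hnp, ⟨e1⟩⟩ | ⟨x₀, hx₀, htop⟩ | ⟨⟨e1⟩⟩ | ⟨⟨e1⟩⟩ | ⟨⟨e1⟩⟩ |
    ⟨K', hKfin, hKtr, hKsq, hiso⟩
  · -- cyclic
    exfalso
    have hcyc : IsCyclic ↥H := e.isCyclic.1 hc
    obtain ⟨g, hg⟩ := hcyc.exists_generator
    obtain ⟨m, hm⟩ := Subgroup.mem_zpowers_iff.1 (hg a)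
    obtain ⟨n', hn'⟩ := Subgroup.mem_zpowers_iff.1 (hg b)
    apply hab
    rw [← hm, ← hn', ← _root_.zpow_add, ← _root_.zpow_add, add_comm]
  · -- dihedral
    exfalso
    have hc := Nat.card_congr (e.symm.trans e1).toEquiv
    rw [DihedralGroup.nat_card] at hc
    rw [hc] at h4
    apply hnp
    have : 2 * 2 ∣ 2 * n := h4
    exact Nat.dvd_of_mul_dvd_mul_left (by norm_num) this
  · -- Borel
    exact (not_borel_of_noncomm H (uU 1) (vV ν) hu' hv' (tr_uU 1) (tr_vV ν)
      (uv_ne_vu 1 ν one_ne_zero hν) x₀ hx₀ htop).elim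
  · -- A4
    exfalso
    have e2 := e.symm.trans e1
    have h5 := a4_invol_comm (e2 a) (e2 b) (by rw [← map_pow, ha2, map_one])
      (by rw [← map_pow, hb2, map_one])
    rw [← map_mul, ← map_mul] at h5
    exact hab (e2.injective h5)
  · -- S4
    exfalso
    have e2 := e.symm.trans e1
    obtain ⟨σ, hσ4, hσ2⟩ := s4_exists_order_four
    obtain ⟨g, hg, hgx⟩ := (e2.symm σ).2
    have h5 := pow_mem_center_of_equiv _ e2 (e2.symm σ) g hgx.symm 4
      (by rw [MulEquiv.apply_symm_apply, hσ4])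
    have h6 := sq_mem_center_of_pow_four g h5
    apply hσ2
    have h7 : (e2.symm σ) ^ 2 = 1 := by
      apply Subtype.ext
      rw [Subgroup.coe_pow, ← hgx, ← map_pow]
      exact (QuotientGroup.eq_one_iff _).2 h6
    have h8 : e2 ((e2.symm σ) ^ 2) = 1 := by rw [h7, map_one]
    rwa [map_pow, MulEquiv.apply_symm_apply] at h8
  · -- A5
    exfalso
    have hc : Nat.card ↥H = 60 := by
      rw [Nat.card_congr (e.symm.trans e1).toEquiv, card_A5']
    have hdvd : Nat.card X ∣ Nat.card SL2K := Subgroup.card_subgroup_dvd_card X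
    rw [← hcardH, hc, hcardSL] at hdvd
    exact five_not_dvd r hro hdvd
  · -- the subfield case
    have hiso' : Nonempty (↥H ≃* Matrix.ProjectiveSpecialLinearGroup (Fin 2) K') ∨
        Nonempty (↥H ≃* Matrix.ProjGenLinGroup (Fin 2) K') := by
      rcases hiso with ⟨⟨e1⟩, -⟩ | ⟨⟨e1⟩⟩
      · exact Or.inl ⟨e.symm.trans e1⟩
      · exact Or.inr ⟨e.symm.trans e1⟩
    obtain ⟨K'', instF, instFt, m, hm, hiso''⟩ := concl_of_field H K' hKfin hKtr hiso'
    rw [hK] at hm
    have hm0 : m ≠ 0 := by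
      rintro rfl
      rw [pow_zero] at hm
      have : 1 < 2 ^ r := Nat.one_lt_two_pow hr.ne_zero
      omega
    have hdvd : Fintype.card K'' ∣ 2 ^ r := by
      rw [← hm]; exact dvd_pow_self _ hm0
    obtain ⟨k, -, hk⟩ := (Nat.dvd_prime_pow Nat.prime_two).mp hdvd
    have hk0 : k ≠ 0 := by
      rintro rfl
      rw [pow_zero] at hk
      have : 1 < Fintype.card K'' := Fintype.one_lt_card
      omega
    have hkm : k * m = r := by
      rw [hk, ← pow_mul] at hm
      exact Nat.pow_right_injective (le_refl 2) hm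
    have hcardH' : Nat.card ↥H = Fintype.card K'' * (Fintype.card K'' ^ 2 - 1) := by
      rcases hiso'' with ⟨⟨e3⟩⟩ | ⟨⟨e3⟩⟩
      · have h6 := card_PSL2_mul_gcd (F := K'')
        have hgcd : Nat.gcd 2 (Fintype.card K'' - 1) = 1 := by
          rw [hk]
          have h7 : 2 ∣ 2 ^ k := dvd_pow_self 2 hk0
          have h8 : 1 ≤ 2 ^ k := Nat.one_le_two_pow
          have h9 : ¬ 2 ∣ 2 ^ k - 1 := by omega
          exact (Nat.Prime.coprime_iff_not_dvd Nat.prime_two).mpr h9
        rw [hgcd, mul_one] at h6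
        rw [Nat.card_congr e3.toEquiv, h6]
      · rw [Nat.card_congr e3.toEquiv, Cfsg.Agent.Helper46.card_PGL2]
    have hkr : k ∣ r := Dvd.intro _ hkm
    rcases (Nat.dvd_prime hr).mp hkr with hk1 | hkr'
    · exfalso
      rw [hcardH', hk, hk1] at h4
      norm_num at h4
    · rw [← hcardH, hcardH', hk, hkr', hcardSL]

end D2

end Cfsg.Agent.Helper13
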