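import Mathlib
import Cfsg.Agent.Helper13.USubF
import Cfsg.Agent.Helper13.USubG

/-!
# Unitary subfield subgroups: the subgroups of `SL₂(F)` generated by root elements

`X` contains `uU c`, `vV (ν c)`, `vV (ν' c)` for `c ∈ K₀`, where `ν, ν' ∈ K_q` are non-zero with
`ν' / ν ∉ K₀`.  Then `X` contains a non-trivial diagonal element, and all of `SL₂(K_q)` if
`ν ∈ K₀`.
-/

set_option autoImplicit false
set_option linter.style.haveILetI false
set_option linter.unusedSectionVars false

namespace Cfsg.Agent.Helper13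

open Matrix Cfsg.Agent.S0837 Cfsg.Agent.Helper94.SubU Cfsg.Agent.Helper46.Dk

variable {F : Type*} [Field F] [Fintype F] {q : ℕ}

local notation "SL2F" => Matrix.SpecialLinearGroup (Fin 2) F

/-- a subfield with at least three elements contains an element different from `0` and `1` -/
theorem exists_ne_zero_ne_one (L : Subfield F) (h : 3 ≤ Nat.card L) :
    ∃ t ∈ L, t ≠ 0 ∧ t ≠ 1 := by
  classical
  by_contra hcon
  push Not at hcon
  have hsub : (L : Set F) ⊆ {0, 1} := by
    intro t ht
    by_cases h0 : t = 0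
    · left; exact h0
    · right; exact hcon t ht h0
  have h1 : (L : Set F).ncard ≤ ({0, 1} : Set F).ncard :=
    Set.ncard_le_ncard hsub (Set.toFinite _)
  have h2 : ({0, 1} : Set F).ncard ≤ 2 := by
    rw [Set.ncard_pair zero_ne_one]
  rw [← Nat.card_coe_set_eq] at h1
  have h3 : Nat.card (L : Set F) = Nat.card L := rfl
  omega

omit [Fintype F] in
theorem map_subtype_uU (L : Subfield F) (c : L) :
    Matrix.SpecialLinearGroup.map (n := Fin 2) L.subtype (uU c) = uU (c : F) := by
  apply ext' <;> simp [uU]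

omit [Fintype F] in
theorem map_subtype_vV (L : Subfield F) (c : L) :
    Matrix.SpecialLinearGroup.map (n := Fin 2) L.subtype (vV c) = vV (c : F) := by
  apply ext' <;> simp [vV]

section data

variable {F₀ : Subfield F} {r q₀ : ℕ} (hS : USubData F q F₀ r q₀)
include hS

theorem USubData.two_eq_zero_of_q₀ (h2 : q₀ = 2) : (2 : F) = 0 := by
  have h1 : ((Fintype.card F : ℕ) : F) = 0 := Nat.cast_card_eq_zero F
  rw [hS.hF, hS.hq, h2] at h1
  push_cast at h1
  exact pow_eq_zero_iff (by have := hS.hr.pos; positivity) |>.mp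
    (pow_eq_zero_iff (by norm_num) |>.mp h1)

/-- the three root groups generate a non-trivial diagonal element, and everything over `K_q` when
`ν ∈ K₀` -/
theorem USubData.dgen (X : Subgroup SL2F) {ν ν' : F} (hν : ν ^ q = ν) (hν' : ν' ^ q = ν')
    (hν0 : ν ≠ 0) (hν'0 : ν' ≠ 0) (hrat : ν' / ν ∉ F₀)
    (hu : ∀ c ∈ F₀, c ^ q = c → uU c ∈ X) (hv : ∀ c ∈ F₀, c ^ q = c → vV (ν * c) ∈ X)
    (hv' : ∀ c ∈ F₀, c ^ q = c → vV (ν' * c) ∈ X) :
    (∃ (t : F) (ht : t ≠ 0), t ≠ 1 ∧ hH t ht ∈ X) ∧ (ν ∈ F₀ → ratSub (fixKq hS.hF) ≤ X) := by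
  classical
  have hF := hS.hF
  have hq₀ := hS.q₀_two_le
  set K₀ := fixK0 hF F₀ with hK₀
  set Kq := fixKq hF with hKq
  have hcardK₀ : Nat.card K₀ = q₀ := hS.card_fixK0
  by_cases h2 : q₀ = 2
  · -- characteristic two, `K₀ = 𝔽₂`
    have h20 : (2 : F) = 0 := hS.two_eq_zero_of_q₀ h2
    haveI : CharP F 2 := CharTwo.of_one_ne_zero_of_two_eq_zero one_ne_zero h20
    haveI : Fintype Kq := Fintype.ofFinite _
    haveI : CharP Kq 2 := (RingHom.charP_iff Kq.subtype Kq.subtype_injective 2).2 inferInstance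
    have hcardKq : Fintype.card Kq = 2 ^ r := by
      rw [← Nat.card_eq_fintype_card, card_fixKq, hS.hq, h2]
    set X' : Subgroup (Matrix.SpecialLinearGroup (Fin 2) Kq) :=
      X.comap (Matrix.SpecialLinearGroup.map Kq.subtype) with hX'
    have h1mem : (1 : F) ∈ F₀ := F₀.one_mem
    have h1q : (1 : F) ^ q = 1 := one_pow q
    have hne : (⟨ν, hν⟩ : Kq) ≠ ⟨ν', hν'⟩ := by
      intro h
      have h' : ν = ν' := congrArg Subtype.val h
      apply hrat
      rw [← h', div_self hν0]
      exact F₀.one_mem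
    have htop : X' = ⊤ := by
      apply sl2_eq_top_of_three r hS.hr hS.hro hcardKq X' (ν := ⟨ν, hν⟩) (ν' := ⟨ν', hν'⟩)
      · intro h; exact hν0 (congrArg Subtype.val h)
      · intro h; exact hν'0 (congrArg Subtype.val h)
      · exact hne
      · show Matrix.SpecialLinearGroup.map Kq.subtype (uU 1) ∈ X
        rw [map_subtype_uU]
        exact hu 1 h1mem h1q
      · show Matrix.SpecialLinearGroup.map Kq.subtype (vV _) ∈ X
        rw [map_subtype_vV]
        have := hv 1 h1mem h1q
        rwa [mul_one] at this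
      · show Matrix.SpecialLinearGroup.map Kq.subtype (vV _) ∈ X
        rw [map_subtype_vV]
        have := hv' 1 h1mem h1q
        rwa [mul_one] at this
    have hle : ratSub Kq ≤ X := by
      rintro g ⟨g', rfl⟩
      have : g' ∈ X' := by rw [htop]; exact Subgroup.mem_top _
      exact this
    refine ⟨?_, fun _ => hle⟩
    have h3 : 3 ≤ Nat.card Kq := by
      rw [card_fixKq, hS.hq, h2]
      have hr2 := hS.hr.two_le
      calc 3 ≤ 2 ^ 2 := by norm_num
        _ ≤ 2 ^ r := Nat.pow_le_pow_right (by norm_num) hr2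
    obtain ⟨t, ht, ht0, ht1⟩ := exists_ne_zero_ne_one Kq h3
    exact ⟨t, ht0, ht1, hle (hH_mem_ratSub Kq ht0 ht)⟩
  · have h3 : 3 ≤ q₀ := by omega
    have h2' : (2 : F) = 0 → 4 ≤ Nat.card K₀ := by
      intro h20
      rw [hcardK₀]
      exact hS.four_le_of_char_two h20 h3
    -- the group generated with a parameter `μ ∈ K_q`
    have hgen : ∀ μ : F, μ ^ q = μ → μ ≠ 0 → (∀ c ∈ F₀, c ^ q = c → vV (μ * c) ∈ X) →
        ratSub (Subfield.closure ((K₀ : Set F) ∪ {μ})) ≤ X := by
      intro μ hμ hμ0 hvμ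
      have hexc : ¬ (Nat.card K₀ = 3 ∧ μ ^ 2 = -1) := by
        rintro ⟨h, h'⟩
        rw [hcardK₀] at h
        exact hS.sq_ne_neg_one_of_three h hμ h'
      rw [← sl2_subfield_generation K₀ μ hμ0 h2' hexc, Subgroup.closure_le]
      rintro g (⟨c, hc, rfl⟩ | ⟨c, hc, rfl⟩)
      · exact hu c hc.1 hc.2
      · exact hvμ c hc.1 hc.2
    refine ⟨?_, ?_⟩
    · obtain ⟨t, ht, ht0, ht1⟩ := exists_ne_zero_ne_one K₀ (by rw [hcardK₀]; exact h3)
      refine ⟨t, ht0, ht1, hgen ν hν hν0 hv (hH_mem_ratSub _ ht0 ?_)⟩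
      exact Subfield.subset_closure (Or.inl ht)
    · intro hνmem
      have hν'K₀ : ν' ∉ K₀ := by
        intro h
        exact hrat (F₀.div_mem h.1 hνmem)
      have hL : Subfield.closure ((K₀ : Set F) ∪ {ν'}) = Kq := by
        apply hS.eq_fixKq_of_le (x := ν')
        · intro x hx
          exact Subfield.subset_closure (Or.inl hx)
        · rw [Subfield.closure_le]
          rintro x (hx | hx)
          · exact hx.2
          · rw [Set.mem_singleton_iff] at hx
            rw [hx]
            exact hν'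
        · exact Subfield.subset_closure (Or.inr rfl)
        · exact hν'K₀
      rw [← hL]
      exact hgen ν' hν' hν'0 hv'

end data

end Cfsg.Agent.Helper13
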