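import Mathlib
import Cfsg.Agent.Helper13.USubH

/-!
# Unitary subfield subgroups: transvections in a subgroup, rational transvections, and the
commutative calculus of transvections along a totally isotropic line
-/

set_option autoImplicit false
set_option linter.style.haveILetI false
set_option linter.unusedSectionVars false

namespace Cfsg.Agent.Helper13

open Matrix Cfsg.Agent.S0837 Cfsg.Agent.Helper94.SubU

variable {F : Type*} [Field F] [Fintype F] {q n : ℕ}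

local notation "⟪" x ", " y "⟫" => Cfsg.hermForm n F q x y
local notation "Matn" => Matrix (Fin n) (Fin n) F

/-- the subfield group for the standard rational structure, inside `SU` -/
def subHH (n q : ℕ) (F₀ : Subfield F) : Subgroup (GL (Fin n) F) :=
  Cfsg.Geo.subfieldSubgroup F₀ (1 : GL (Fin n) F) ⊓
    (Cfsg.GU n F q ⊓ Cfsg.Geo.specialLinear (Fin n) F)

/-- the matrix `A` is the matrix of an element of `M` -/
def matIn (M : Subgroup (GL (Fin n) F)) (A : Matn) : Prop := ∃ g ∈ M, (g : Matn) = A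

omit [Fintype F] in
theorem matIn.mul {M : Subgroup (GL (Fin n) F)} {A B : Matn} (hA : matIn M A) (hB : matIn M B) :
    matIn M (A * B) := by
  obtain ⟨g, hg, rfl⟩ := hA
  obtain ⟨g', hg', rfl⟩ := hB
  exact ⟨g * g', M.mul_mem hg hg', Units.val_mul g g'⟩

omit [Fintype F] in
theorem matIn.mono {M M' : Subgroup (GL (Fin n) F)} (h : M ≤ M') {A : Matn} (hA : matIn M A) :
    matIn M' A := by
  obtain ⟨g, hg, rfl⟩ := hA
  exact ⟨g, h hg, rfl⟩

omit [Fintype F] in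
theorem matIn.mem {M : Subgroup (GL (Fin n) F)} {A : Matn} (hA : matIn M A) (g : GL (Fin n) F)
    (hg : (g : Matn) = A) : g ∈ M := by
  obtain ⟨g', hg', h⟩ := hA
  have : g = g' := Units.ext (by rw [hg, h])
  rw [this]
  exact hg'

/-- the transvection `T_v(c)` lies in `M` -/
def tvIn (q : ℕ) (M : Subgroup (GL (Fin n) F)) (v : Fin n → F) (c : F) : Prop :=
  matIn M (Cfsg.unitaryTransvection n q v c)

omit [Fintype F] in
theorem tvIn.conj {M : Subgroup (GL (Fin n) F)} {g : GL (Fin n) F} (hg : g ∈ M)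
    (hgU : IsU q (g : Matn)) {v : Fin n → F} {c : F} (h : tvIn q M v c) :
    tvIn q M ((g : Matn) *ᵥ v) c := by
  obtain ⟨t, ht, htv⟩ := h
  refine ⟨g * t * g⁻¹, M.mul_mem (M.mul_mem hg ht) (M.inv_mem hg), ?_⟩
  rw [Units.val_mul, Units.val_mul, htv,
    conj_unitaryTransvection hgU (by rw [← Units.val_mul, mul_inv_cancel, Units.val_one])]

omit [Fintype F] in
theorem mem_utvVecs_of_tvIn {M : Subgroup (GL (Fin n) F)} {v : Fin n → F} (hvv : ⟪v, v⟫ = 0)
    (h : ∀ c : F, c + c ^ q = 0 → tvIn q M v c) : v ∈ utvVecs q M :=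
  ⟨hvv, fun c hc g hg => (h c hc).mem g hg⟩

omit [Fintype F] in
theorem tvIn_of_mem_utvVecs {M : Subgroup (GL (Fin n) F)} {v : Fin n → F} (hv : v ∈ utvVecs q M)
    {c : F} (hc : c + c ^ q = 0) : tvIn q M v c :=
  ⟨glOfDetOne _ (det_unitaryTransvection v c hv.1), hv.2 c hc _ rfl, rfl⟩

section data

variable {F₀ : Subfield F} {r q₀ : ℕ} (hS : USubData F q F₀ r q₀)
include hS

/-- rational transvections lie in the subfield group -/
theorem USubData.tvIn_rat {v : Fin n → F} (hv : Rat F₀ v) (hvv : ⟪v, v⟫ = 0) {c : F}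
    (hc : c ∈ F₀) (hcc : c + c ^ q = 0) : tvIn q (subHH n q F₀) v c := by
  have hF := hS.hF
  refine ⟨glOfDetOne _ (det_unitaryTransvection v c hvv), ⟨?_, ?_, ?_⟩, rfl⟩
  · apply Cfsg.Agent.Helper94.SubO.mem_subfieldSubgroup_of_PR _ 1 one_ne_zero
    rintro x ⟨u, hu, rfl⟩
    rw [Units.val_one, Matrix.one_mulVec, glOfDetOne_coe, unitaryTransvection_mulVec]
    refine ⟨_, ⟨u + (c * ⟪u, v⟫) • v, ?_, by rw [Units.val_one, Matrix.one_mulVec]⟩,
      (one_smul _ _).symm⟩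
    exact hu.add (hv.smul (F₀.mul_mem hc (rat_hermForm_mem hu hv)))
  · exact (Cfsg.Agent.Helper13.mem_GU_iff _).mpr (by
      rw [glOfDetOne_coe]; exact isU_unitaryTransvection hF v c hvv hcc)
  · exact (mem_specialLinear_iff _).mpr (by
      rw [glOfDetOne_coe]; exact det_unitaryTransvection v c hvv)

end data

/-! ### transvections along a totally isotropic line -/

/-- `1 + Σ c_{ij} (x ↦ ⟪x, w_j⟫ w_i)` for a pair `w, w'` -/
def ellMat (q : ℕ) (w w' : Fin n → F) (c₁₁ c₁₂ c₂₁ c₂₂ : F) : Matn :=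
  1 + (c₁₁ • rankOne q w w + c₁₂ • rankOne q w w' + c₂₁ • rankOne q w' w + c₂₂ • rankOne q w' w')

omit [Fintype F] in
theorem ellMat_mulVec (w w' : Fin n → F) (c₁₁ c₁₂ c₂₁ c₂₂ : F) (x : Fin n → F) :
    ellMat q w w' c₁₁ c₁₂ c₂₁ c₂₂ *ᵥ x =
      x + (c₁₁ * ⟪x, w⟫ + c₁₂ * ⟪x, w'⟫) • w + (c₂₁ * ⟪x, w⟫ + c₂₂ * ⟪x, w'⟫) • w' := by
  unfold ellMat
  rw [Matrix.add_mulVec, Matrix.one_mulVec, Matrix.add_mulVec, Matrix.add_mulVec,
    Matrix.add_mulVec, Matrix.smul_mulVec, Matrix.smul_mulVec, Matrix.smul_mulVec,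
    Matrix.smul_mulVec, rankOne_mulVec, rankOne_mulVec, rankOne_mulVec, rankOne_mulVec]
  module

omit [Fintype F] in
theorem ellMat_mul {w w' : Fin n → F} (hww : ⟪w, w⟫ = 0) (hww' : ⟪w, w'⟫ = 0)
    (hw'w : ⟪w', w⟫ = 0) (hw'w' : ⟪w', w'⟫ = 0) (c₁₁ c₁₂ c₂₁ c₂₂ d₁₁ d₁₂ d₂₁ d₂₂ : F) :
    ellMat q w w' c₁₁ c₁₂ c₂₁ c₂₂ * ellMat q w w' d₁₁ d₁₂ d₂₁ d₂₂ =
      ellMat q w w' (c₁₁ + d₁₁) (c₁₂ + d₁₂) (c₂₁ + d₂₁) (c₂₂ + d₂₂) := by
  apply mat_ext_mulVec
  intro x
  rw [← Matrix.mulVec_mulVec, ellMat_mulVec, ellMat_mulVec, ellMat_mulVec]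
  simp only [hermForm_add_left, hermForm_smul_left, hww, hww', hw'w, hw'w', mul_zero, add_zero]
  module

theorem utv_eq_ellMat (hF : Fintype.card F = q ^ 2) (w w' : Fin n → F) (α β s : F) :
    Cfsg.unitaryTransvection n q (α • w + β • w') s =
      ellMat q w w' (s * α * α ^ q) (s * α * β ^ q) (s * β * α ^ q) (s * β * β ^ q) := by
  apply mat_ext_mulVec
  intro x
  rw [unitaryTransvection_mulVec, ellMat_mulVec, hermForm_add_right hF, hermForm_smul_right,
    hermForm_smul_right]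
  module

end Cfsg.Agent.Helper13
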