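import Mathlib
import Cfsg.Agent.Helper13.USubI

/-!
# Unitary subfield subgroups: Lemma C

From an irrational isotropic point `a` whose rational transvections lie in `M`, and orthogonal
rational isotropic `w, w'` with `N⟪a,w'⟫/N⟪a,w⟫ ∉ F₀`, we get an element of `M` fixing the point
`z` of `⟨w, w'⟩` orthogonal to `a` and acting on `⟨w, w'⟩` with two distinct eigenvalues.
-/

set_option autoImplicit false
set_option linter.style.haveILetI false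
set_option linter.unusedSectionVars false

namespace Cfsg.Agent.Helper13

open Matrix Cfsg.Agent.S0837 Cfsg.Agent.Helper94.SubU Cfsg.Agent.Helper46.Dk

variable {F : Type*} [Field F] [Fintype F] {q n : ℕ}

local notation "⟪" x ", " y "⟫" => Cfsg.hermForm n F q x y
local notation "Matn" => Matrix (Fin n) (Fin n) F
local notation "SL2F" => Matrix.SpecialLinearGroup (Fin 2) F

section data

variable {F₀ : Subfield F} {r q₀ : ℕ} (hS : USubData F q F₀ r q₀)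
include hS

/-- **Lemma C** -/
theorem USubData.exists_torus_lift (M : Subgroup (GL (Fin n) F)) (hHM : subHH n q F₀ ≤ M)
    {a w w' : Fin n → F} (haa : ⟪a, a⟫ = 0) (hw : Rat F₀ w) (hw' : Rat F₀ w')
    (hww : ⟪w, w⟫ = 0) (hw'w' : ⟪w', w'⟫ = 0) (hww' : ⟪w, w'⟫ = 0)
    (hθ : ⟪a, w⟫ ≠ 0) (hθ' : ⟪a, w'⟫ ≠ 0)
    (hN : (⟪a, w'⟫ * ⟪a, w'⟫ ^ q) / (⟪a, w⟫ * ⟪a, w⟫ ^ q) ∉ F₀)
    (hTa : ∀ s ∈ F₀, s + s ^ q = 0 → tvIn q M a s) :
    ∃ m ∈ M, ∃ t ζ : F, t ≠ 0 ∧ t ≠ 1 ∧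
      (m : Matn) *ᵥ (⟪a, w'⟫ ^ q • w - ⟪a, w⟫ ^ q • w') = ⟪a, w'⟫ ^ q • w - ⟪a, w⟫ ^ q • w' ∧
      (m : Matn) *ᵥ w = t⁻¹ • w + ζ • (⟪a, w'⟫ ^ q • w - ⟪a, w⟫ ^ q • w') := by
  have hF := hS.hF
  have hq0 : q ≠ 0 := by have := two_le_of_card_eq_sq hF; omega
  obtain ⟨ε, hε, hε0, hεq⟩ := hS.exists_eps
  set θ := ⟪a, w⟫ with hθdef
  set θ' := ⟪a, w'⟫ with hθ'def
  set z : Fin n → F := θ' ^ q • w - θ ^ q • w' with hz
  have hθq : θ ^ q ≠ 0 := pow_ne_zero _ hθ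
  have hθ'q : θ' ^ q ≠ 0 := pow_ne_zero _ hθ'
  have hwa : ⟪w, a⟫ = θ ^ q := (hermForm_conj hF a w).symm
  have hw'a : ⟪w', a⟫ = θ' ^ q := (hermForm_conj hF a w').symm
  have hw'w : ⟪w', w⟫ = 0 := by rw [← hermForm_conj hF, hww', zero_pow hq0]
  have hza : ⟪z, a⟫ = 0 := by
    rw [hz, hermForm_sub_left, hermForm_smul_left, hermForm_smul_left, hwa, hw'a]; ring
  have hzw : ⟪z, w⟫ = 0 := by
    rw [hz, hermForm_sub_left, hermForm_smul_left, hermForm_smul_left, hww, hw'w]; ring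
  have hzw' : ⟪z, w'⟫ = 0 := by
    rw [hz, hermForm_sub_left, hermForm_smul_left, hermForm_smul_left, hww', hw'w']; ring
  set δ : F := (ε * θ ^ q)⁻¹ with hδ
  have hδ0 : δ ≠ 0 := inv_ne_zero (mul_ne_zero hε0 hθq)
  have hδinv : δ⁻¹ = ε * θ ^ q := inv_inv _
  set wt : Fin n → F := δ • w with hwt
  have hwta : ⟪wt, a⟫ = ε⁻¹ := by
    rw [hwt, hermForm_smul_left, hwa, hδ]
    field_simp
  have hwtw : ⟪wt, w⟫ = 0 := by rw [hwt, hermForm_smul_left, hww, mul_zero]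
  have hwtw' : ⟪wt, w'⟫ = 0 := by rw [hwt, hermForm_smul_left, hww', mul_zero]
  set ν : F := ε ^ 2 * (θ * θ ^ q) with hν
  set ν' : F := ε ^ 2 * (θ' * θ' ^ q) with hν'
  have hε2 : (ε ^ 2) ^ q = ε ^ 2 := by rw [← pow_mul, mul_comm, pow_mul, hεq]; ring
  have hνq : ν ^ q = ν := by
    rw [hν, mul_pow, mul_pow, frob_frob hF, hε2]; ring
  have hν'q : ν' ^ q = ν' := by
    rw [hν', mul_pow, mul_pow, frob_frob hF, hε2]; ring
  have hν0 : ν ≠ 0 := mul_ne_zero (pow_ne_zero _ hε0) (mul_ne_zero hθ hθq)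
  have hν'0 : ν' ≠ 0 := mul_ne_zero (pow_ne_zero _ hε0) (mul_ne_zero hθ' hθ'q)
  have hrat : ν' / ν ∉ F₀ := by
    have : ν' / ν = (θ' * θ' ^ q) / (θ * θ ^ q) := by
      rw [hν, hν']
      have := pow_ne_zero 2 hε0
      field_simp
    rw [this]
    exact hN
  -- the generating set and its lifts
  set S : Set SL2F := {x | ∃ c ∈ F₀, c ^ q = c ∧ (x = uU c ∨ x = vV (ν * c) ∨ x = vV (ν' * c))}
    with hSdef
  have hlift : ∀ y ∈ S, ∃ g ∈ M, SecRel a wt z (∅ : Set (Fin n → F)) g y := by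
    rintro y ⟨c, hc, hcq, hy⟩
    have hs : c * ε ∈ F₀ := F₀.mul_mem hc hε
    have hss : c * ε + (c * ε) ^ q = 0 := by rw [mul_pow, hcq, hεq]; ring
    rcases hy with rfl | rfl | rfl
    · obtain ⟨g, hg, hgv⟩ := hTa (c * ε) hs hss
      refine ⟨g, hg, ?_⟩
      have h1 := secRel_tv_a (w := wt) (Y := (∅ : Set (Fin n → F))) haa hza
        (fun v hv => absurd hv (Set.notMem_empty v)) (c * ε) g hgv
      have h2 : c * ε * ⟪wt, a⟫ = c := by rw [hwta, mul_assoc, mul_inv_cancel₀ hε0, mul_one]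
      rwa [h2] at h1
    · obtain ⟨g, hg, hgv⟩ := (hS.tvIn_rat hw hww hs hss).mono hHM
      refine ⟨g, hg, ?_⟩
      have h1 := secRel_tv_u (a := a) (w := wt) (z := z) (Y := (∅ : Set (Fin n → F))) (u := w)
        (β := δ⁻¹) (γ := 0)
        (by rw [hwt, smul_smul, inv_mul_cancel₀ hδ0, one_smul, zero_smul, add_zero]) hzw hwtw
        (fun v hv => absurd hv (Set.notMem_empty v)) (c * ε) g hgv
      have h2 : c * ε * ⟪a, w⟫ * δ⁻¹ = ν * c := by rw [hδinv, hν]; ring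
      rwa [h2] at h1
    · obtain ⟨g, hg, hgv⟩ := (hS.tvIn_rat hw' hw'w' hs hss).mono hHM
      refine ⟨g, hg, ?_⟩
      have h1 := secRel_tv_u (a := a) (w := wt) (z := z) (Y := (∅ : Set (Fin n → F))) (u := w')
        (β := θ' ^ q / θ ^ q * δ⁻¹) (γ := -(θ ^ q)⁻¹)
        (by
          have hb : θ' ^ q / θ ^ q * δ⁻¹ * δ = θ' ^ q / θ ^ q := by
            rw [mul_assoc, inv_mul_cancel₀ hδ0, mul_one]
          have hc' : -(θ ^ q)⁻¹ * θ' ^ q = -(θ' ^ q / θ ^ q) := by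
            rw [div_eq_mul_inv]; ring
          have hd : -(θ ^ q)⁻¹ * θ ^ q = -1 := by
            rw [neg_mul, inv_mul_cancel₀ hθq]
          calc w' = (θ' ^ q / θ ^ q * δ⁻¹ * δ) • w + (-(θ ^ q)⁻¹ * θ' ^ q) • w
                - (-(θ ^ q)⁻¹ * θ ^ q) • w' := by
                rw [hb, hc', hd]; module
            _ = _ := by rw [hwt, hz]; module) hzw' hwtw'
        (fun v hv => absurd hv (Set.notMem_empty v)) (c * ε) g hgv
      have h2 : c * ε * ⟪a, w'⟫ * (θ' ^ q / θ ^ q * δ⁻¹) = ν' * c := by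
        have h3 : θ' ^ q / θ ^ q * (ε * θ ^ q) = θ' ^ q * ε := by field_simp
        rw [hδinv, h3, hν']
        ring
      rwa [h2] at h1
  -- the diagonal element
  have hmemS : ∀ y ∈ S, y ∈ Subgroup.closure S := fun y hy => Subgroup.subset_closure hy
  obtain ⟨⟨t, ht, ht1, hmem⟩, -⟩ := hS.dgen (Subgroup.closure S) hνq hν'q hν0 hν'0 hrat
    (fun c hc hcq => hmemS _ ⟨c, hc, hcq, Or.inl rfl⟩)
    (fun c hc hcq => hmemS _ ⟨c, hc, hcq, Or.inr (Or.inl rfl)⟩)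
    (fun c hc hcq => hmemS _ ⟨c, hc, hcq, Or.inr (Or.inr rfl)⟩)
  obtain ⟨m, hm, hrel⟩ := SecRel.lift M S hlift _ hmem
  obtain ⟨c, hc⟩ := hrel.map_w
  refine ⟨m, hm, t, δ⁻¹ * c, ht, ht1, hrel.fix_z, ?_⟩
  have hw_eq : w = δ⁻¹ • wt := by rw [hwt, smul_smul, inv_mul_cancel₀ hδ0, one_smul]
  have h01 : (hH t ht).1 0 1 = 0 := rfl
  have h11 : (hH t ht).1 1 1 = t⁻¹ := rfl
  rw [h01, h11] at hc
  rw [hw_eq, Matrix.mulVec_smul, hc]
  module

end data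

end Cfsg.Agent.Helper13
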