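import Mathlib
import Cfsg.Agent.Helper13.USubJ

/-!
# Unitary subfield subgroups: Lemma D

An element stabilising a rational line, fixing an irrational point of it and having two distinct
eigenvalues on it, maps one of three rational points of the line to an irrational point.
-/

set_option autoImplicit false
set_option linter.style.haveILetI false
set_option linter.unusedSectionVars false

namespace Cfsg.Agent.Helper13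

open Matrix Cfsg.Agent.S0837 Cfsg.Agent.Helper94.SubU

variable {F : Type*} [Field F] [Fintype F] {q n : ℕ}

local notation "⟪" x ", " y "⟫" => Cfsg.hermForm n F q x y
local notation "Matn" => Matrix (Fin n) (Fin n) F

section data

variable {F₀ : Subfield F} {r q₀ : ℕ} (hS : USubData F q F₀ r q₀)
include hS

/-- the algebraic core of Lemma D -/
theorem USubData.lemmaD_alg {p s r' u z₁ z₂ κ₁ κ₂ κ₃ a₁ b₁ a₂ b₂ a₃ b₃ : F}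
    (hz₁ : z₁ ≠ 0) (hz : z₂ / z₁ ∉ F₀) (e1 : p * z₁ + r' * z₂ = z₁) (e2 : s * z₁ + u * z₂ = z₂)
    (hdet : p * u - r' * s ≠ 0)
    (ha₁ : a₁ ∈ F₀) (hb₁ : b₁ ∈ F₀) (ha₂ : a₂ ∈ F₀) (hb₂ : b₂ ∈ F₀) (ha₃ : a₃ ∈ F₀) (hb₃ : b₃ ∈ F₀)
    (hp : p = κ₁ * a₁) (hs : s = κ₁ * b₁) (hr' : r' = κ₂ * a₂) (hu : u = κ₂ * b₂)
    (hpr : p + r' = κ₃ * a₃) (hsu : s + u = κ₃ * b₃) : s = 0 ∧ p = 1 := by
  set Δ₀ := a₁ * b₂ - a₂ * b₁ with hΔ₀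
  have hdet' : κ₁ * κ₂ * Δ₀ ≠ 0 := by
    have : p * u - r' * s = κ₁ * κ₂ * Δ₀ := by rw [hp, hu, hr', hs, hΔ₀]; ring
    rwa [this] at hdet
  have hκ₁ : κ₁ ≠ 0 := left_ne_zero_of_mul (left_ne_zero_of_mul hdet')
  have hΔ : Δ₀ ≠ 0 := right_ne_zero_of_mul hdet'
  have hΔmem : Δ₀ ∈ F₀ := F₀.sub_mem (F₀.mul_mem ha₁ hb₂) (F₀.mul_mem ha₂ hb₁)
  have h1 : κ₁ * Δ₀ = κ₃ * (a₃ * b₂ - a₂ * b₃) := by
    have hA : κ₁ * a₁ + κ₂ * a₂ = κ₃ * a₃ := by rw [← hp, ← hr', hpr]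
    have hB : κ₁ * b₁ + κ₂ * b₂ = κ₃ * b₃ := by rw [← hs, ← hu, hsu]
    rw [hΔ₀]
    linear_combination b₂ * hA - a₂ * hB
  have h2 : κ₂ * Δ₀ = κ₃ * (a₁ * b₃ - a₃ * b₁) := by
    have hA : κ₁ * a₁ + κ₂ * a₂ = κ₃ * a₃ := by rw [← hp, ← hr', hpr]
    have hB : κ₁ * b₁ + κ₂ * b₂ = κ₃ * b₃ := by rw [← hs, ← hu, hsu]
    rw [hΔ₀]
    linear_combination a₁ * hB - b₁ * hA
  have hκ₃ : κ₃ ≠ 0 := by
    rintro rfl
    rw [zero_mul] at h1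
    exact mul_ne_zero hκ₁ hΔ h1
  set c₁ := (a₃ * b₂ - a₂ * b₃) / Δ₀ with hc₁
  set c₂ := (a₁ * b₃ - a₃ * b₁) / Δ₀ with hc₂
  have hc₁mem : c₁ ∈ F₀ :=
    F₀.div_mem (F₀.sub_mem (F₀.mul_mem ha₃ hb₂) (F₀.mul_mem ha₂ hb₃)) hΔmem
  have hc₂mem : c₂ ∈ F₀ :=
    F₀.div_mem (F₀.sub_mem (F₀.mul_mem ha₁ hb₃) (F₀.mul_mem ha₃ hb₁)) hΔmem
  have hκ₁' : κ₁ = κ₃ * c₁ := by
    rw [hc₁, ← mul_div_assoc, ← h1, mul_div_cancel_right₀ _ hΔ]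
  have hκ₂' : κ₂ = κ₃ * c₂ := by
    rw [hc₂, ← mul_div_assoc, ← h2, mul_div_cancel_right₀ _ hΔ]
  have hA₁ : c₁ * a₁ ∈ F₀ := F₀.mul_mem hc₁mem ha₁
  have hB₁ : c₁ * b₁ ∈ F₀ := F₀.mul_mem hc₁mem hb₁
  have hA₂ : c₂ * a₂ ∈ F₀ := F₀.mul_mem hc₂mem ha₂
  have hB₂ : c₂ * b₂ ∈ F₀ := F₀.mul_mem hc₂mem hb₂
  have hp' : p = κ₃ * (c₁ * a₁) := by rw [hp, hκ₁']; ring
  have hs' : s = κ₃ * (c₁ * b₁) := by rw [hs, hκ₁']; ring
  have hr'' : r' = κ₃ * (c₂ * a₂) := by rw [hr', hκ₂']; ring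
  have hu' : u = κ₃ * (c₂ * b₂) := by rw [hu, hκ₂']; ring
  set ρ := z₂ / z₁ with hρ
  have hz₂ : z₂ = ρ * z₁ := by rw [hρ, div_mul_cancel₀ _ hz₁]
  have e1' : κ₃ * (c₁ * a₁ + c₂ * a₂ * ρ) = 1 := by
    have : κ₃ * (c₁ * a₁ + c₂ * a₂ * ρ) * z₁ = 1 * z₁ := by
      rw [one_mul]
      nth_rewrite 2 [← e1]
      rw [hp', hr'', hz₂]; ring
    exact mul_right_cancel₀ hz₁ this
  have e2' : κ₃ * (c₁ * b₁ + c₂ * b₂ * ρ) = ρ := by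
    have : κ₃ * (c₁ * b₁ + c₂ * b₂ * ρ) * z₁ = ρ * z₁ := by
      rw [← hz₂]
      conv_rhs => rw [← e2]
      rw [hs', hu', hz₂]; ring
    exact mul_right_cancel₀ hz₁ this
  have hquad : (c₂ * a₂) * ρ ^ 2 + (c₁ * a₁ - c₂ * b₂) * ρ + -(c₁ * b₁) = 0 := by
    have : κ₃ * ((c₂ * a₂) * ρ ^ 2 + (c₁ * a₁ - c₂ * b₂) * ρ + -(c₁ * b₁)) = 0 := by
      linear_combination ρ * e1' - e2'
    rcases mul_eq_zero.mp this with h | h
    · exact absurd h hκ₃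
    · exact h
  have hzero : c₂ * a₂ = 0 ∧ c₁ * a₁ - c₂ * b₂ = 0 ∧ -(c₁ * b₁) = 0 := by
    by_contra hne
    exact hz (hS.mem_of_quadratic hA₂ (F₀.sub_mem hA₁ hB₂) (F₀.neg_mem hB₁) hne hquad)
  obtain ⟨hz1, hz2, hz3⟩ := hzero
  refine ⟨?_, ?_⟩
  · rw [hs', neg_eq_zero.mp hz3, mul_zero]
  · rw [hp']
    rw [hz1, zero_mul, add_zero] at e1'
    exact e1'

/-- **Lemma D** -/
theorem USubData.exists_irrational_image {w w' : Fin n → F} (hw : Rat F₀ w) (hw' : Rat F₀ w')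
    {i k : Fin n} (hD : w i * w' k - w k * w' i ≠ 0) {z₁ z₂ : F} (hz₁ : z₁ ≠ 0)
    (hz : z₂ / z₁ ∉ F₀) (m : GL (Fin n) F) {t ζ : F} (ht0 : t ≠ 0) (ht : t ≠ 1)
    (hmz : (m : Matn) *ᵥ (z₁ • w + z₂ • w') = z₁ • w + z₂ • w')
    (hmw : (m : Matn) *ᵥ w = t⁻¹ • w + ζ • (z₁ • w + z₂ • w')) :
    ∃ x : Fin n → F, Rat F₀ x ∧ (x = w ∨ x = w' ∨ x = w + w') ∧
      ¬ PropRat F₀ ((m : Matn) *ᵥ x) ∧ ∃ α β : F, (m : Matn) *ᵥ x = α • w + β • w' := by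
  set D := w i * w' k - w k * w' i with hDdef
  have hDmem : D ∈ F₀ := F₀.sub_mem (F₀.mul_mem (hw i) (hw' k)) (F₀.mul_mem (hw k) (hw' i))
  have hz₂ : z₂ ≠ 0 := by
    rintro rfl
    apply hz
    rw [zero_div]
    exact F₀.zero_mem
  -- the matrix of `m` on the line
  set p := t⁻¹ + ζ * z₁ with hp
  set s := ζ * z₂ with hs
  set r' := z₁ * (1 - p) / z₂ with hr'
  set u := 1 - z₁ * ζ with hu
  have hmw1 : (m : Matn) *ᵥ w = p • w + s • w' := by rw [hmw, hp, hs]; module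
  have hmw2 : (m : Matn) *ᵥ w' = r' • w + u • w' := by
    have h1 : z₂ • ((m : Matn) *ᵥ w') = z₁ • w + z₂ • w' - z₁ • ((m : Matn) *ᵥ w) := by
      rw [← hmz]
      nth_rewrite 1 [Matrix.mulVec_add]
      rw [Matrix.mulVec_smul, Matrix.mulVec_smul]
      abel
    have h2 : (m : Matn) *ᵥ w' = z₂⁻¹ • (z₂ • ((m : Matn) *ᵥ w')) := by
      rw [smul_smul, inv_mul_cancel₀ hz₂, one_smul]
    rw [h2, h1, hmw1]
    have e3 : z₂⁻¹ * (z₁ - z₁ * p) = r' := by rw [hr']; field_simp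
    have e4 : z₂⁻¹ * (z₂ - z₁ * s) = u := by rw [hu, hs]; field_simp
    calc z₂⁻¹ • (z₁ • w + z₂ • w' - z₁ • (p • w + s • w'))
        = (z₂⁻¹ * (z₁ - z₁ * p)) • w + (z₂⁻¹ * (z₂ - z₁ * s)) • w' := by module
      _ = _ := by rw [e3, e4]
  have e1 : p * z₁ + r' * z₂ = z₁ := by rw [hr']; field_simp; ring
  have e2 : s * z₁ + u * z₂ = z₂ := by rw [hu, hs]; ring
  have hdet : p * u - r' * s ≠ 0 := by
    have : p * u - r' * s = t⁻¹ := by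
      rw [hr', hu, hs, hp]
      field_simp
      ring
    rw [this]
    exact inv_ne_zero ht0
  -- coordinates of vectors of the line
  have hcoord : ∀ (α β κ : F) (v : Fin n → F), Rat F₀ v → α • w + β • w' = κ • v →
      ∃ a b : F, a ∈ F₀ ∧ b ∈ F₀ ∧ α = κ * a ∧ β = κ * b := by
    intro α β κ v hv h
    have hi := congrFun h i
    have hk := congrFun h k
    simp only [Pi.add_apply, Pi.smul_apply, smul_eq_mul] at hi hk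
    refine ⟨(v i * w' k - v k * w' i) / D, (w i * v k - w k * v i) / D,
      F₀.div_mem (F₀.sub_mem (F₀.mul_mem (hv i) (hw' k)) (F₀.mul_mem (hv k) (hw' i))) hDmem,
      F₀.div_mem (F₀.sub_mem (F₀.mul_mem (hw i) (hv k)) (F₀.mul_mem (hw k) (hv i))) hDmem, ?_, ?_⟩
    · field_simp
      rw [hDdef]
      linear_combination w' k * hi - w' i * hk
    · field_simp
      rw [hDdef]
      linear_combination w i * hk - w k * hi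
  by_contra hcon
  push Not at hcon
  have hP1 : PropRat F₀ ((m : Matn) *ᵥ w) := by
    by_contra h
    exact hcon w hw (Or.inl rfl) h p s hmw1
  have hP2 : PropRat F₀ ((m : Matn) *ᵥ w') := by
    by_contra h
    exact hcon w' hw' (Or.inr (Or.inl rfl)) h r' u hmw2
  have hmw3 : (m : Matn) *ᵥ (w + w') = (p + r') • w + (s + u) • w' := by
    rw [Matrix.mulVec_add, hmw1, hmw2]; module
  have hP3 : PropRat F₀ ((m : Matn) *ᵥ (w + w')) := by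
    by_contra h
    exact hcon (w + w') (hw.add hw') (Or.inr (Or.inr rfl)) h (p + r') (s + u) hmw3
  obtain ⟨κ₁, v₁, hv₁, h₁⟩ := hP1
  obtain ⟨κ₂, v₂, hv₂, h₂⟩ := hP2
  obtain ⟨κ₃, v₃, hv₃, h₃⟩ := hP3
  rw [hmw1] at h₁
  rw [hmw2] at h₂
  rw [hmw3] at h₃
  obtain ⟨a₁, b₁, ha₁, hb₁, hpa, hsb⟩ := hcoord p s κ₁ v₁ hv₁ h₁
  obtain ⟨a₂, b₂, ha₂, hb₂, hra, hub⟩ := hcoord r' u κ₂ v₂ hv₂ h₂
  obtain ⟨a₃, b₃, ha₃, hb₃, hpra, hsub⟩ := hcoord (p + r') (s + u) κ₃ v₃ hv₃ h₃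
  obtain ⟨hs0, hp1⟩ := hS.lemmaD_alg hz₁ hz e1 e2 hdet ha₁ hb₁ ha₂ hb₂ ha₃ hb₃ hpa hsb hra hub
    hpra hsub
  have hζ : ζ = 0 := by
    rcases mul_eq_zero.mp hs0 with h | h
    · exact h
    · exact absurd h hz₂
  rw [hp, hζ, zero_mul, add_zero] at hp1
  apply ht
  have := inv_eq_one.mp hp1
  exact this

end data

end Cfsg.Agent.Helper13
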