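import Mathlib
import Cfsg.Agent.Helper13.USubK

/-!
# Unitary subfield subgroups: Lemma E

From rational transvection parameters at an irrational point of a rational totally isotropic line
to an irrational transvection parameter at a rational point.
-/

set_option autoImplicit false
set_option linter.style.haveILetI false
set_option linter.unusedSectionVars false

namespace Cfsg.Agent.Helper13

open Matrix Cfsg.Agent.S0837 Cfsg.Agent.Helper94.SubU Cfsg.Agent.Helper94.SubO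

variable {F : Type*} [Field F] [Fintype F] {q n : ℕ}

local notation "⟪" x ", " y "⟫" => Cfsg.hermForm n F q x y
local notation "Matn" => Matrix (Fin n) (Fin n) F

section data

variable {F₀ : Subfield F} {r q₀ : ℕ} (hS : USubData F q F₀ r q₀)
include hS

/-- the rational Eichler element `w ↦ w + b w'`, `w' ↦ w'` -/
theorem USubData.eichler_mem {w' w₁ : Fin n → F} (hw' : Rat F₀ w') (hw₁ : Rat F₀ w₁)
    (hw'w' : ⟪w', w'⟫ = 0) (hw₁w₁ : ⟪w₁, w₁⟫ = 0) (hw'w₁ : ⟪w', w₁⟫ = 0) {b : F} (hb : b ∈ F₀) :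
    NN q w' (b ^ q • w₁) 0 ∈ subHH n q F₀ ∧ IsU q ((NN q w' (b ^ q • w₁) 0 : GL (Fin n) F) : Matn) ∧
    ∀ y, ((NN q w' (b ^ q • w₁) 0 : GL (Fin n) F) : Matn) *ᵥ y =
      y + (b * ⟪y, w₁⟫) • w' - (b ^ q * ⟪y, w'⟫) • w₁ := by
  have hF := hS.hF
  have hq0 : q ≠ 0 := by have := two_le_of_card_eq_sq hF; omega
  have hw₁w' : ⟪w₁, w'⟫ = 0 := by rw [← hermForm_conj hF, hw'w₁, zero_pow hq0]
  have h2 : ⟪b ^ q • w₁, w'⟫ = 0 := by rw [hermForm_smul_left, hw₁w', mul_zero]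
  have hc : (0 : F) + 0 ^ q = -⟪b ^ q • w₁, b ^ q • w₁⟫ := by
    rw [hermForm_smul_left, hermForm_smul_right, hw₁w₁, zero_pow hq0]; ring
  have hmv : ∀ y, ((NN q w' (b ^ q • w₁) 0 : GL (Fin n) F) : Matn) *ᵥ y =
      y + (b * ⟪y, w₁⟫) • w' - (b ^ q * ⟪y, w'⟫) • w₁ := by
    intro y
    rw [NN_mulVec hF 0 hw'w' h2, hermForm_smul_right, frob_frob hF]
    module
  have hU := NN_isU hF hw'w' h2 hc
  refine ⟨⟨?_, (Cfsg.Agent.Helper13.mem_GU_iff _).mpr hU, NN_mem_sl _ _ _⟩, hU, hmv⟩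
  apply mem_subfieldSubgroup_of_PR _ 1 one_ne_zero
  rintro x ⟨u, hu, rfl⟩
  rw [Units.val_one, Matrix.one_mulVec, hmv]
  refine ⟨_, ⟨u + (b * ⟪u, w₁⟫) • w' - (b ^ q * ⟪u, w'⟫) • w₁, ?_,
    by rw [Units.val_one, Matrix.one_mulVec]⟩, (one_smul _ _).symm⟩
  exact (hu.add (hw'.smul (F₀.mul_mem hb (rat_hermForm_mem hu hw₁)))).sub
    (hw₁.smul (F₀.mul_mem (hS.frob_mem hb) (rat_hermForm_mem hu hw')))

/-- one half of Lemma E: irrational parameters at `w'` -/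
theorem USubData.lemmaE_half (M : Subgroup (GL (Fin n) F)) (hHM : subHH n q F₀ ≤ M)
    {w w' w₁ : Fin n → F} (hw : Rat F₀ w) (hw' : Rat F₀ w') (hw₁ : Rat F₀ w₁)
    (hww : ⟪w, w⟫ = 0) (hw'w' : ⟪w', w'⟫ = 0) (hww' : ⟪w, w'⟫ = 0) (hw₁w₁ : ⟪w₁, w₁⟫ = 0)
    (hww₁ : ⟪w, w₁⟫ = 1) (hw'w₁ : ⟪w', w₁⟫ = 0) {α β : F}
    (hTy : ∀ s ∈ F₀, s + s ^ q = 0 → tvIn q M (α • w + β • w') s) :
    (∀ s ∈ F₀, s + s ^ q = 0 → ∀ b ∈ F₀, tvIn q M w' (-s * (α * α ^ q) * (b + b ^ q))) ∧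
    (α * α ^ q ∈ F₀ → ∀ s ∈ F₀, s + s ^ q = 0 → ∀ b ∈ F₀,
      tvIn q M w' (s * (β * α ^ q * b ^ q + β ^ q * α * b))) := by
  have hF := hS.hF
  have hq0 : q ≠ 0 := by have := two_le_of_card_eq_sq hF; omega
  have hw'w : ⟪w', w⟫ = 0 := by rw [← hermForm_conj hF, hww', zero_pow hq0]
  -- the images of `y` under the Eichler elements
  have hTyb : ∀ s ∈ F₀, s + s ^ q = 0 → ∀ b ∈ F₀, tvIn q M (α • w + (β + b * α) • w') s := by
    intro s hs hss b hb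
    obtain ⟨hmem, hU, hmv⟩ := hS.eichler_mem hw' hw₁ hw'w' hw₁w₁ hw'w₁ hb
    have h1 := (hTy s hs hss).conj (hHM hmem) hU
    have h2 : ((NN q w' (b ^ q • w₁) 0 : GL (Fin n) F) : Matn) *ᵥ (α • w + β • w') =
        α • w + (β + b * α) • w' := by
      rw [hmv, hermForm_add_left, hermForm_add_left, hermForm_smul_left, hermForm_smul_left,
        hermForm_smul_left, hermForm_smul_left, hww₁, hw'w₁, hww', hw'w']
      module
    rwa [h2] at h1
  have hneg : ∀ s ∈ F₀, s + s ^ q = 0 → -s ∈ F₀ ∧ -s + (-s) ^ q = 0 := by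
    intro s hs hss
    refine ⟨F₀.neg_mem hs, ?_⟩
    rw [frob_neg' hF]
    linear_combination -hss
  have hw'eq : w' = (0 : F) • w + (1 : F) • w' := by rw [zero_smul, one_smul, zero_add]
  have hweq : w = (1 : F) • w + (0 : F) • w' := by rw [zero_smul, one_smul, add_zero]
  have hTw' : ∀ c : F, Cfsg.unitaryTransvection n q w' c = ellMat q w w' 0 0 0 c := by
    intro c
    conv_lhs => rw [hw'eq]
    rw [utv_eq_ellMat hF]
    congr 1 <;> simp [zero_pow hq0]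
  have hTw : ∀ c : F, Cfsg.unitaryTransvection n q w c = ellMat q w w' c 0 0 0 := by
    intro c
    conv_lhs => rw [hweq]
    rw [utv_eq_ellMat hF]
    congr 1 <;> simp [zero_pow hq0]
  refine ⟨?_, ?_⟩
  · intro s hs hss b hb
    obtain ⟨hns, hnss⟩ := hneg s hs hss
    have h1 := hTyb s hs hss b hb
    have h2 := hTyb s hs hss 1 F₀.one_mem
    have h3 := hTyb (-s) hns hnss (b + 1) (F₀.add_mem hb F₀.one_mem)
    have h4 := hTy (-s) hns hnss
    have h5 := ((h1.mul h2).mul h3).mul h4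
    unfold tvIn
    convert h5 using 1
    rw [hTw', utv_eq_ellMat hF, utv_eq_ellMat hF, utv_eq_ellMat hF, utv_eq_ellMat hF,
      ellMat_mul hww hww' hw'w hw'w', ellMat_mul hww hww' hw'w hw'w',
      ellMat_mul hww hww' hw'w hw'w']
    congr 1 <;> (try simp only [frob_add hF, mul_pow, one_pow]) <;> ring
  · intro hNα s hs hss b hb
    obtain ⟨hns, hnss⟩ := hneg s hs hss
    have hNq : (α * α ^ q) ^ q = α * α ^ q := by rw [mul_pow, frob_frob hF]; ring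
    have hs' : s * (α * α ^ q) ∈ F₀ := F₀.mul_mem hs hNα
    have hs's : s * (α * α ^ q) + (s * (α * α ^ q)) ^ q = 0 := by
      rw [mul_pow, hNq]
      linear_combination (α * α ^ q) * hss
    obtain ⟨hns', hnss'⟩ := hneg _ hs' hs's
    have h1 := hTyb s hs hss b hb
    have h2 := hTy (-s) hns hnss
    have h3 : tvIn q M w (s * (α * α ^ q)) := (hS.tvIn_rat hw hww hs' hs's).mono hHM
    have hwb : ⟪w + b • w', w + b • w'⟫ = 0 := by
      rw [hermForm_add_left, hermForm_add_right hF, hermForm_add_right hF, hermForm_smul_left,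
        hermForm_smul_left, hermForm_smul_right, hermForm_smul_right, hww, hww', hw'w, hw'w']
      ring
    have h4 : tvIn q M (w + b • w') (-(s * (α * α ^ q))) :=
      (hS.tvIn_rat (hw.add (hw'.smul hb)) hwb hns' hnss').mono hHM
    have h5 := ((h1.mul h2).mul h3).mul h4
    unfold tvIn
    convert h5 using 1
    have hwbeq : w + b • w' = (1 : F) • w + b • w' := by rw [one_smul]
    rw [hwbeq, hTw', hTw, utv_eq_ellMat hF, utv_eq_ellMat hF, utv_eq_ellMat hF,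
      ellMat_mul hww hww' hw'w hw'w', ellMat_mul hww hww' hw'w hw'w',
      ellMat_mul hww hww' hw'w hw'w']
    congr 1 <;> (try simp only [frob_add hF, mul_pow, one_pow]) <;> ring

/-- **Lemma E** -/
theorem USubData.lemmaE (M : Subgroup (GL (Fin n) F)) (hHM : subHH n q F₀ ≤ M)
    {w w' : Fin n → F} (hw : Rat F₀ w) (hw' : Rat F₀ w')
    (hww : ⟪w, w⟫ = 0) (hw'w' : ⟪w', w'⟫ = 0) (hww' : ⟪w, w'⟫ = 0) {i k : Fin n}
    (hD : w i * w' k - w k * w' i ≠ 0) {α β : F} (hα : α ≠ 0)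
    (hαβ : β / α ∉ F₀)
    (hTy : ∀ s ∈ F₀, s + s ^ q = 0 → tvIn q M (α • w + β • w') s) :
    ∃ v : Fin n → F, Rat F₀ v ∧ ⟪v, v⟫ = 0 ∧ v ≠ 0 ∧
      ∃ c : F, c + c ^ q = 0 ∧ c ∉ F₀ ∧ tvIn q M v c := by
  have hF := hS.hF
  have hq0 : q ≠ 0 := by have := two_le_of_card_eq_sq hF; omega
  have hw'w : ⟪w', w⟫ = 0 := by rw [← hermForm_conj hF, hww', zero_pow hq0]
  have hD' : w' i * w k - w' k * w i ≠ 0 := by
    intro h
    apply hD
    linear_combination -h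
  have hw0 : w ≠ 0 := by
    rintro rfl
    apply hD
    simp
  have hw'0 : w' ≠ 0 := by
    rintro rfl
    apply hD
    simp
  obtain ⟨w₁, hw₁, hw₁w₁, hww₁, hw'w₁⟩ := hS.exists_rat_partner_perp hw hw' hww hww' hD
  obtain ⟨w₂, hw₂, hw₂w₂, hw'w₂, hww₂⟩ := hS.exists_rat_partner_perp hw' hw hw'w' hw'w hD'
  obtain ⟨ε, hε, hε0, hεq⟩ := hS.exists_eps
  have hεε : ε + ε ^ q = 0 := by rw [hεq]; ring
  obtain ⟨b₁, hb₁, hb₁tr⟩ := hS.exists_trace (a := 1) F₀.one_mem (one_pow q)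
  have hαq : α ^ q ≠ 0 := pow_ne_zero _ hα
  have hNq : ∀ x : F, (x * x ^ q) ^ q = x * x ^ q := by
    intro x
    rw [mul_pow, frob_frob hF]; ring
  by_cases hNα : α * α ^ q ∈ F₀
  swap
  · -- `N(α)` irrational
    refine ⟨w', hw', hw'w', hw'0, -ε * (α * α ^ q) * (b₁ + b₁ ^ q), ?_, ?_,
      (hS.lemmaE_half M hHM hw hw' hw₁ hww hw'w' hww' hw₁w₁ hww₁ hw'w₁ hTy).1 ε hε hεε b₁ hb₁⟩
    · rw [hb₁tr, mul_one, mul_pow, frob_neg' hF, hNq, hεq]; ring
    · intro hc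
      apply hNα
      rw [hb₁tr, mul_one] at hc
      have : α * α ^ q = -(-ε * (α * α ^ q)) / ε := by field_simp
      rw [this]
      exact F₀.div_mem (F₀.neg_mem hc) hε
  by_cases hNβ : β * β ^ q ∈ F₀
  swap
  · -- `N(β)` irrational
    have hTy' : ∀ s ∈ F₀, s + s ^ q = 0 → tvIn q M (β • w' + α • w) s := by
      intro s hs hss
      rw [add_comm]
      exact hTy s hs hss
    refine ⟨w, hw, hww, hw0, -ε * (β * β ^ q) * (b₁ + b₁ ^ q), ?_, ?_,
      (hS.lemmaE_half M hHM hw' hw hw₂ hw'w' hww hw'w hw₂w₂ hw'w₂ hww₂ hTy').1 ε hε hεε b₁ hb₁⟩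
    · rw [hb₁tr, mul_one, mul_pow, frob_neg' hF, hNq, hεq]; ring
    · intro hc
      apply hNβ
      rw [hb₁tr, mul_one] at hc
      have : β * β ^ q = -(-ε * (β * β ^ q)) / ε := by field_simp
      rw [this]
      exact F₀.div_mem (F₀.neg_mem hc) hε
  -- both norms rational
  obtain ⟨ζ, hζ⟩ : ∃ ζ : F, ζ = β * α ^ q := ⟨_, rfl⟩
  have hζq : ζ ^ q = β ^ q * α := by rw [hζ, mul_pow, frob_frob hF]
  obtain ⟨b', hb', hb'ζ⟩ : ∃ b' ∈ F₀, b' * ζ + b' ^ q * ζ ^ q ∉ F₀ := by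
    by_contra hcon
    push Not at hcon
    have hζmem : ζ ∈ F₀ := hS.mem_of_trace_mem hcon
    apply hαβ
    have : β / α = ζ / (α * α ^ q) := by
      rw [hζ]
      field_simp
    rw [this]
    exact F₀.div_mem hζmem hNα
  set b : F := b' ^ q with hb
  have hbmem : b ∈ F₀ := hS.frob_mem hb'
  have hbq : b ^ q = b' := frob_frob hF b'
  have hval : β * α ^ q * b ^ q + β ^ q * α * b = b' * ζ + b' ^ q * ζ ^ q := by
    rw [hbq, hζq, hζ, hb]; ring
  refine ⟨w', hw', hw'w', hw'0, ε * (β * α ^ q * b ^ q + β ^ q * α * b), ?_, ?_,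
    (hS.lemmaE_half M hHM hw hw' hw₁ hww hw'w' hww' hw₁w₁ hww₁ hw'w₁ hTy).2 hNα ε hε hεε b hbmem⟩
  · have hT : (b' * ζ + b' ^ q * ζ ^ q) ^ q = b' * ζ + b' ^ q * ζ ^ q := by
      rw [frob_add hF, mul_pow, mul_pow, frob_frob hF, frob_frob hF]; ring
    rw [hval]
    obtain ⟨T, hTdef⟩ : ∃ T : F, T = b' * ζ + b' ^ q * ζ ^ q := ⟨_, rfl⟩
    rw [← hTdef] at hT ⊢
    rw [mul_pow, hT, hεq]; ring
  · intro hc
    apply hb'ζ
    rw [hval] at hc
    have : b' * ζ + b' ^ q * ζ ^ q = ε * (b' * ζ + b' ^ q * ζ ^ q) / ε := by field_simp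
    rw [this]
    exact F₀.div_mem hc hε

end data

end Cfsg.Agent.Helper13
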