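import Mathlib
import Cfsg.Agent.Helper13.USubL

/-!
# Unitary subfield subgroups: Lemma F

An irrational transvection at a rational isotropic point, together with the subfield group,
generates all the transvections at that point.
-/

set_option autoImplicit false
set_option linter.style.haveILetI false
set_option linter.unusedSectionVars false

namespace Cfsg.Agent.Helper13

open Matrix Cfsg.Agent.S0837 Cfsg.Agent.Helper94.SubU Cfsg.Agent.Helper46.Dk

variable {F : Type*} [Field F] [Fintype F] {q n : ℕ}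

local notation "⟪" x ", " y "⟫" => Cfsg.hermForm n F q x y
local notation "Matn" => Matrix (Fin n) (Fin n) F
local notation "SL2F" => Matrix.SpecialLinearGroup (Fin 2) F

/-- every element of a finite field is a sum of two squares -/
theorem exists_sq_add_sq_fin {K : Type*} [Field K] [Fintype K] (t : K) :
    ∃ a b : K, a ^ 2 + b ^ 2 = t := by
  rcases Nat.even_or_odd (Fintype.card K) with hev | hodd
  · have h2 : ringChar K = 2 := FiniteField.even_card_iff_char_two.2 (Nat.even_iff.1 hev)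
    obtain ⟨a, ha⟩ := FiniteField.isSquare_of_char_two h2 t
    exact ⟨a, 0, by rw [ha]; ring⟩
  · let f : Polynomial K := Polynomial.X ^ 2
    let g : Polynomial K := Polynomial.X ^ 2 - Polynomial.C t
    obtain ⟨a, b, hab⟩ : ∃ a b, f.eval a + g.eval b = 0 :=
      FiniteField.exists_root_sum_quadratic (f := f) (g := g) (Polynomial.degree_X_pow 2)
        (Polynomial.degree_X_pow_sub_C (by decide) _) (Nat.odd_iff.1 hodd)
    refine ⟨a, b, ?_⟩
    rw [← sub_eq_zero]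
    simpa only [f, g, Polynomial.eval_C, Polynomial.eval_X, Polynomial.eval_pow,
      Polynomial.eval_sub, ← add_sub_assoc] using hab

section data

variable {F₀ : Subfield F} {r q₀ : ℕ} (hS : USubData F q F₀ r q₀)
include hS

/-- **Lemma F** -/
theorem USubData.mem_utvVecs_of_irrational (hn : 2 ≤ n) (M : Subgroup (GL (Fin n) F))
    (hHM : subHH n q F₀ ≤ M) {v : Fin n → F} (hv : Rat F₀ v) (hvv : ⟪v, v⟫ = 0) (hv0 : v ≠ 0)
    {c : F} (hcc : c + c ^ q = 0) (hc : c ∉ F₀) (hT : tvIn q M v c) : v ∈ utvVecs q M := by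
  have hF := hS.hF
  have hq0 : q ≠ 0 := by have := two_le_of_card_eq_sq hF; omega
  obtain ⟨a, ha, haa, hva⟩ := hS.exists_rat_partner hn hv hv0
  have hav : ⟪a, v⟫ = 1 := by rw [← hermForm_conj hF, hva, one_pow]
  obtain ⟨ε, hε, hε0, hεq⟩ := hS.exists_eps
  have hc0 : c ≠ 0 := by
    rintro rfl
    exact hc F₀.zero_mem
  have hcq : c ^ q = -c := by linear_combination hcc
  set wt : Fin n → F := ε⁻¹ • v with hwt
  have hv_eq : v = ε • wt + (0 : F) • (0 : Fin n → F) := by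
    rw [hwt, smul_smul, mul_inv_cancel₀ hε0, one_smul, smul_zero, add_zero]
  have hwta : ⟪wt, a⟫ = ε⁻¹ := by rw [hwt, hermForm_smul_left, hva, mul_one]
  have hwtv : ⟪wt, v⟫ = 0 := by rw [hwt, hermForm_smul_left, hvv, mul_zero]
  set Y : Set (Fin n → F) := {x | ⟪x, a⟫ = 0 ∧ ⟪x, v⟫ = 0} with hY
  have hε2 : (ε ^ 2) ^ q = ε ^ 2 := by rw [← pow_mul, mul_comm, pow_mul, hεq]; ring
  have hε2mem : ε ^ 2 ∈ F₀ := F₀.pow_mem hε 2
  have hε20 : ε ^ 2 ≠ 0 := pow_ne_zero _ hε0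
  set ν' : F := c * ε with hν'
  have hν'q : ν' ^ q = ν' := by rw [hν', mul_pow, hcq, hεq]; ring
  have hν'0 : ν' ≠ 0 := mul_ne_zero hc0 hε0
  have hν'mem : ν' ∉ F₀ := by
    intro h
    apply hc
    have : c = ν' / ε := by rw [hν', mul_div_cancel_right₀ _ hε0]
    rw [this]
    exact F₀.div_mem h hε
  set S : Set SL2F := {x | (∃ c₀ ∈ F₀, c₀ ^ q = c₀ ∧ (x = uU c₀ ∨ x = vV (ε ^ 2 * c₀))) ∨ x = vV ν'}
    with hSdef
  -- lifts of the generators
  have hzero_left : ∀ y : Fin n → F, ⟪(0 : Fin n → F), y⟫ = 0 := fun y => hermForm_zero_left y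
  have hliftv : ∀ s : F, tvIn q M v s → ∃ g ∈ M, SecRel a wt 0 Y g (vV (s * ε)) := by
    rintro s ⟨g, hg, hgv⟩
    refine ⟨g, hg, ?_⟩
    have h1 := secRel_tv_u (a := a) (w := wt) (z := (0 : Fin n → F)) (Y := Y) (u := v)
      (β := ε) (γ := 0) hv_eq (hzero_left v) hwtv (fun x hx => hx.2) s g hgv
    rwa [hav, mul_one] at h1
  have hlift : ∀ y ∈ S, ∃ g ∈ M, SecRel a wt 0 Y g y := by
    rintro y (⟨c₀, hc₀, hc₀q, hy⟩ | rfl)
    · have hs : c₀ * ε ∈ F₀ := F₀.mul_mem hc₀ hε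
      have hss : c₀ * ε + (c₀ * ε) ^ q = 0 := by rw [mul_pow, hc₀q, hεq]; ring
      rcases hy with rfl | rfl
      · obtain ⟨g, hg, hgv⟩ := (hS.tvIn_rat ha haa hs hss).mono hHM
        refine ⟨g, hg, ?_⟩
        have h1 := secRel_tv_a (a := a) (w := wt) (z := (0 : Fin n → F)) (Y := Y) haa
          (hzero_left a) (fun x hx => hx.1) (c₀ * ε) g hgv
        have h2 : c₀ * ε * ⟪wt, a⟫ = c₀ := by rw [hwta, mul_assoc, mul_inv_cancel₀ hε0, mul_one]
        rwa [h2] at h1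
      · obtain ⟨g, hg, hrel⟩ := hliftv (c₀ * ε) ((hS.tvIn_rat hv hvv hs hss).mono hHM)
        refine ⟨g, hg, ?_⟩
        have h2 : c₀ * ε * ε = ε ^ 2 * c₀ := by ring
        rwa [h2] at hrel
    · exact hliftv c hT
  set X : Subgroup SL2F := Subgroup.closure S with hX
  have hmemS : ∀ y ∈ S, y ∈ X := fun y hy => Subgroup.subset_closure hy
  have huX : ∀ c₀ ∈ F₀, c₀ ^ q = c₀ → uU c₀ ∈ X := fun c₀ h1 h2 =>
    hmemS _ (Or.inl ⟨c₀, h1, h2, Or.inl rfl⟩)
  have hvX : ∀ c₀ ∈ F₀, c₀ ^ q = c₀ → vV c₀ ∈ X := by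
    intro c₀ h1 h2
    have h3 : vV (ε ^ 2 * (c₀ / ε ^ 2)) ∈ X := by
      apply hmemS
      refine Or.inl ⟨c₀ / ε ^ 2, F₀.div_mem h1 hε2mem, ?_, Or.inr rfl⟩
      rw [div_pow, h2, hε2]
    rwa [mul_div_cancel₀ _ hε20] at h3
  -- rational diagonal elements
  set K₀ := fixK0 hF F₀ with hK₀
  have hK₀X : ratSub K₀ ≤ X :=
    mem_closure_elementary K₀ X (fun x hx => huX x hx.1 hx.2) (fun x hx => hvX x hx.1 hx.2)
  have hsq : ∀ d ∈ F₀, d ^ q = d → vV (d ^ 2 * ν') ∈ X := by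
    intro d hd hdq
    by_cases hd0 : d = 0
    · rw [hd0, zero_pow (by norm_num), zero_mul, vV_zero']
      exact X.one_mem
    · have h1 : hH d hd0 ∈ X := hK₀X (hH_mem_ratSub K₀ hd0 ⟨hd, hdq⟩)
      have h2 : vV ν' ∈ X := hmemS _ (Or.inr rfl)
      rw [← hH_inv_conj_vV d hd0 ν']
      exact X.mul_mem (X.mul_mem (X.inv_mem h1) h2) (X.inv_mem (X.inv_mem h1))
  have hv'X : ∀ c₀ ∈ F₀, c₀ ^ q = c₀ → vV (ν' * c₀) ∈ X := by
    intro c₀ h1 h2
    haveI : Fintype K₀ := Fintype.ofFinite _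
    obtain ⟨d₁, d₂, hd⟩ := exists_sq_add_sq_fin (⟨c₀, h1, h2⟩ : K₀)
    have hd' : (d₁ : F) ^ 2 + (d₂ : F) ^ 2 = c₀ := by
      have := congrArg Subtype.val hd
      simpa using this
    have h3 := X.mul_mem (hsq d₁ d₁.2.1 d₁.2.2) (hsq d₂ d₂.2.1 d₂.2.2)
    rw [vV_mul'] at h3
    have h4 : (d₁ : F) ^ 2 * ν' + (d₂ : F) ^ 2 * ν' = ν' * c₀ := by rw [← hd']; ring
    rwa [h4] at h3
  -- everything over `K_q`
  have hKqX : ratSub (fixKq hF) ≤ X := by
    refine (hS.dgen X (ν := 1) (ν' := ν') (one_pow q) hν'q one_ne_zero hν'0 ?_ huX ?_ hv'X).2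
      F₀.one_mem
    · rw [div_one]; exact hν'mem
    · intro c₀ h1 h2
      rw [one_mul]
      exact hvX c₀ h1 h2
  -- all transvections
  apply mem_utvVecs_of_tvIn hvv
  intro c' hc'
  have hc'q : c' ^ q = -c' := by linear_combination hc'
  have ht : (c' * ε) ^ q = c' * ε := by rw [mul_pow, hc'q, hεq]; ring
  have hmem : vV (c' * ε) ∈ X := hKqX (vV_mem_ratSub _ ((mem_fixKq hF).mpr ht))
  obtain ⟨m, hm, hrel⟩ := SecRel.lift M S hlift _ hmem
  refine ⟨m, hm, ?_⟩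
  obtain ⟨c₁, hma⟩ := hrel.map_a
  obtain ⟨c₂, hmw⟩ := hrel.map_w
  have h00 : (vV (c' * ε) : SL2F).1 0 0 = 1 := rfl
  have h10 : (vV (c' * ε) : SL2F).1 1 0 = c' * ε := rfl
  have h01 : (vV (c' * ε) : SL2F).1 0 1 = 0 := rfl
  have h11 : (vV (c' * ε) : SL2F).1 1 1 = 1 := rfl
  rw [h00, h10] at hma
  rw [h01, h11] at hmw
  have hma' : (m : Matn) *ᵥ a = a + c' • v := by
    rw [hma, hwt, smul_zero, add_zero, one_smul, smul_smul, mul_assoc, mul_inv_cancel₀ hε0,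
      mul_one]
  have hmv : (m : Matn) *ᵥ v = v := by
    have h1 : v = ε • wt := by rw [hwt, smul_smul, mul_inv_cancel₀ hε0, one_smul]
    have h2 : (m : Matn) *ᵥ wt = wt := by
      rw [hmw, zero_smul, one_smul, smul_zero, zero_add, add_zero]
    rw [h1, Matrix.mulVec_smul, h2]
  apply mat_ext_mulVec
  intro x
  rw [unitaryTransvection_mulVec]
  set x₀ : Fin n → F := x - ⟪x, v⟫ • a - ⟪x, a⟫ • v with hx₀
  have hx₀Y : x₀ ∈ Y := by
    constructor
    · rw [hx₀, hermForm_sub_left, hermForm_sub_left, hermForm_smul_left, hermForm_smul_left, haa,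
        hva]
      ring
    · rw [hx₀, hermForm_sub_left, hermForm_sub_left, hermForm_smul_left, hermForm_smul_left, hav,
        hvv]
      ring
  have hx : x = ⟪x, v⟫ • a + ⟪x, a⟫ • v + x₀ := by rw [hx₀]; abel
  have hmx₀ := hrel.fix_Y x₀ hx₀Y
  nth_rewrite 1 [hx]
  rw [Matrix.mulVec_add, Matrix.mulVec_add, Matrix.mulVec_smul, Matrix.mulVec_smul, hma', hmv,
    hmx₀]
  nth_rewrite 3 [hx]
  module

end data

end Cfsg.Agent.Helper13
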