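import Mathlib
import Cfsg.Agent.Helper13.USubM

/-!
# Unitary subfield subgroups: Lemma G, coordinate-free part

From one rational isotropic point with all its transvections in `M` to all rational isotropic
points, and to all points of rational totally isotropic lines.
-/

set_option autoImplicit false
set_option linter.style.haveILetI false
set_option linter.unusedSectionVars false

namespace Cfsg.Agent.Helper13

open Matrix Cfsg.Agent.S0837 Cfsg.Agent.Helper94.SubU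

variable {F : Type*} [Field F] [Fintype F] {q n : ℕ}

local notation "⟪" x ", " y "⟫" => Cfsg.hermForm n F q x y
local notation "Matn" => Matrix (Fin n) (Fin n) F

section data

variable {F₀ : Subfield F} {r q₀ : ℕ} (hS : USubData F q F₀ r q₀)
include hS

/-- (G1), one step: a non-orthogonal rational isotropic vector -/
theorem USubData.utv_rat_step (M : Subgroup (GL (Fin n) F)) (hHM : subHH n q F₀ ≤ M)
    (hMU : M ≤ Cfsg.GU n F q) {v u : Fin n → F} (hv : Rat F₀ v) (hu : Rat F₀ u)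
    (hvv : ⟪v, v⟫ = 0) (huu : ⟪u, u⟫ = 0) (hvu : ⟪v, u⟫ ≠ 0) (hvM : v ∈ utvVecs q M) :
    u ∈ utvVecs q M := by
  have hF := hS.hF
  obtain ⟨ε, hε, hε0, hεq⟩ := hS.exists_eps
  have hεε : ε + ε ^ q = 0 := by rw [hεq]; ring
  set κ := ⟪v, u⟫ with hκ
  have hκmem : κ ∈ F₀ := rat_hermForm_mem hv hu
  have huv : ⟪u, v⟫ = κ ^ q := (hermForm_conj hF v u).symm
  have hκq0 : κ ^ q ≠ 0 := pow_ne_zero _ hvu
  set s' : F := -(ε * (κ * κ ^ q))⁻¹ with hs'
  have hden : ε * (κ * κ ^ q) ≠ 0 := mul_ne_zero hε0 (mul_ne_zero hvu hκq0)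
  have hs'mem : s' ∈ F₀ :=
    F₀.neg_mem (F₀.inv_mem (F₀.mul_mem hε (F₀.mul_mem hκmem (hS.frob_mem hκmem))))
  have hs's : s' + s' ^ q = 0 := by
    have h1 : (ε * (κ * κ ^ q)) ^ q = -(ε * (κ * κ ^ q)) := by
      rw [mul_pow, mul_pow, frob_frob hF, hεq]; ring
    rw [hs', frob_neg' hF, inv_pow, h1, inv_neg]
    ring
  obtain ⟨g₁, hg₁, hg₁v⟩ := (hS.tvIn_rat hu huu hε hεε).mono hHM
  obtain ⟨g₂, hg₂, hg₂v⟩ := (hS.tvIn_rat hv hvv hs'mem hs's).mono hHM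
  have hmap : ((g₂ * g₁ : GL (Fin n) F) : Matn) *ᵥ v = (ε * κ) • u := by
    rw [Units.val_mul, ← Matrix.mulVec_mulVec, hg₁v, hg₂v, unitaryTransvection_mulVec,
      unitaryTransvection_mulVec, hermForm_add_left, hermForm_smul_left, hvv, huv]
    have h1 : s' * (0 + ε * κ * κ ^ q) = -1 := by
      rw [hs', zero_add, neg_mul, ← mul_assoc ε κ, mul_assoc ε, inv_mul_cancel₀ hden]
    rw [h1]
    module
  have h2 := utvVecs_map hMU (M.mul_mem hg₂ hg₁) hvM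
  rw [hmap] at h2
  have h3 := utvVecs_smul hF h2 (ε * κ)⁻¹
  rwa [smul_smul, inv_mul_cancel₀ (mul_ne_zero hε0 hvu), one_smul] at h3

/-- (G1) all rational isotropic vectors -/
theorem USubData.utv_rat_all (hn : 2 ≤ n) (M : Subgroup (GL (Fin n) F))
    (hHM : subHH n q F₀ ≤ M) (hMU : M ≤ Cfsg.GU n F q) {v : Fin n → F} (hv : Rat F₀ v)
    (hvv : ⟪v, v⟫ = 0) (hv0 : v ≠ 0) (hvM : v ∈ utvVecs q M) :
    ∀ u : Fin n → F, Rat F₀ u → ⟪u, u⟫ = 0 → u ∈ utvVecs q M := by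
  have hF := hS.hF
  have hq0 : q ≠ 0 := by have := two_le_of_card_eq_sq hF; omega
  intro u hu huu
  by_cases hu0 : u = 0
  · have := utvVecs_smul hF hvM 0
    rwa [zero_smul, ← hu0] at this
  obtain ⟨w, hw, hww, hvw, huw⟩ := hS.exists_rat_iso_not_perp_two hn hv0 hu0
  have hwM := hS.utv_rat_step M hHM hMU hv hw hvv hww hvw hvM
  have hwu : ⟪w, u⟫ ≠ 0 := by
    intro h
    apply huw
    rw [← hermForm_conj hF, h, zero_pow hq0]
  exact hS.utv_rat_step M hHM hMU hw hu hww huu hwu hwM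

/-- (G2) all points of a rational totally isotropic line -/
theorem USubData.utv_line (M : Subgroup (GL (Fin n) F))
    (hrat : ∀ u : Fin n → F, Rat F₀ u → ⟪u, u⟫ = 0 → u ∈ utvVecs q M)
    {u₁ u₂ : Fin n → F} (hu₁ : Rat F₀ u₁) (hu₂ : Rat F₀ u₂) (h11 : ⟪u₁, u₁⟫ = 0)
    (h22 : ⟪u₂, u₂⟫ = 0) (h12 : ⟪u₁, u₂⟫ = 0) (α β : F) : α • u₁ + β • u₂ ∈ utvVecs q M := by
  have hF := hS.hF
  have hq0 : q ≠ 0 := by have := two_le_of_card_eq_sq hF; omega
  have h21 : ⟪u₂, u₁⟫ = 0 := by rw [← hermForm_conj hF, h12, zero_pow hq0]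
  obtain ⟨ω, hω, hωq⟩ := hS.exists_omega
  have hiso : ∀ a b : F, ⟪a • u₁ + b • u₂, a • u₁ + b • u₂⟫ = 0 := by
    intro a b
    simp only [hermForm_add_left, hermForm_add_right hF, hermForm_smul_left, hermForm_smul_right,
      h11, h12, h21, h22]
    ring
  apply mem_utvVecs_of_tvIn (hiso α β)
  intro c hc
  have hcq : c ^ q = -c := by linear_combination hc
  have hden : ω ^ q - ω ≠ 0 := sub_ne_zero.mpr hωq
  obtain ⟨τ, hτ⟩ : ∃ τ : F, τ = c * α * β ^ q := ⟨_, rfl⟩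
  have hτq : τ ^ q = -(c * β * α ^ q) := by
    rw [hτ, mul_pow, mul_pow, frob_frob hF, hcq]; ring
  obtain ⟨c₂, hc₂⟩ : ∃ c₂ : F, c₂ = (τ + τ ^ q) / (ω ^ q - ω) := ⟨_, rfl⟩
  obtain ⟨c₁, hc₁⟩ : ∃ c₁ : F, c₁ = τ - c₂ * ω ^ q := ⟨_, rfl⟩
  have hc₂ω : c₂ * (ω ^ q - ω) = τ + τ ^ q := by rw [hc₂, div_mul_cancel₀ _ hden]
  have hc₂q : c₂ ^ q = -c₂ := by
    have h1 : c₂ ^ q * (ω ^ q - ω) = -(c₂ * (ω ^ q - ω)) := by
      have h2 := congrArg (fun x => x ^ q) hc₂ω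
      simp only [mul_pow, frob_sub' hF, frob_add hF, frob_frob hF] at h2
      rw [hc₂ω]
      linear_combination -h2
    have h3 : (c₂ ^ q + c₂) * (ω ^ q - ω) = 0 := by linear_combination h1
    rcases mul_eq_zero.mp h3 with h | h
    · linear_combination h
    · exact absurd h hden
  have hc₁q : c₁ ^ q = -c₁ := by
    rw [hc₁, frob_sub' hF, mul_pow, frob_frob hF, hc₂q]
    linear_combination -hc₂ω
  obtain ⟨d₁, hd₁⟩ : ∃ d₁ : F, d₁ = c * α * α ^ q - c₁ - c₂ := ⟨_, rfl⟩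
  obtain ⟨d₂, hd₂⟩ : ∃ d₂ : F, d₂ = c * β * β ^ q - c₁ - c₂ * (ω * ω ^ q) := ⟨_, rfl⟩
  have hd₁q : d₁ + d₁ ^ q = 0 := by
    rw [hd₁, frob_sub' hF, frob_sub' hF, hc₁q, hc₂q, mul_pow, mul_pow, frob_frob hF, hcq]
    ring
  have hd₂q : d₂ + d₂ ^ q = 0 := by
    rw [hd₂, frob_sub' hF, frob_sub' hF, hc₁q, mul_pow c₂, hc₂q, mul_pow ω, frob_frob hF,
      mul_pow, mul_pow, frob_frob hF, hcq]
    ring
  have e1 : u₁ + u₂ = (1 : F) • u₁ + (1 : F) • u₂ := by rw [one_smul, one_smul]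
  have e2 : u₁ + ω • u₂ = (1 : F) • u₁ + ω • u₂ := by rw [one_smul]
  have e3 : u₁ = (1 : F) • u₁ + (0 : F) • u₂ := by rw [one_smul, zero_smul, add_zero]
  have e4 : u₂ = (0 : F) • u₁ + (1 : F) • u₂ := by rw [one_smul, zero_smul, zero_add]
  have t1 : tvIn q M ((1 : F) • u₁ + (1 : F) • u₂) c₁ :=
    tvIn_of_mem_utvVecs (hrat _ ((hu₁.smul F₀.one_mem).add (hu₂.smul F₀.one_mem)) (hiso 1 1))
      (by rw [hc₁q]; ring)
  have t2 : tvIn q M ((1 : F) • u₁ + ω • u₂) c₂ :=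
    tvIn_of_mem_utvVecs (hrat _ ((hu₁.smul F₀.one_mem).add (hu₂.smul hω)) (hiso 1 ω))
      (by rw [hc₂q]; ring)
  have t3 : tvIn q M ((1 : F) • u₁ + (0 : F) • u₂) d₁ :=
    tvIn_of_mem_utvVecs (hrat _ ((hu₁.smul F₀.one_mem).add (hu₂.smul F₀.zero_mem)) (hiso 1 0)) hd₁q
  have t4 : tvIn q M ((0 : F) • u₁ + (1 : F) • u₂) d₂ :=
    tvIn_of_mem_utvVecs (hrat _ ((hu₁.smul F₀.zero_mem).add (hu₂.smul F₀.one_mem)) (hiso 0 1)) hd₂q
  have h5 := ((t1.mul t2).mul t3).mul t4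
  unfold tvIn
  convert h5 using 1
  rw [utv_eq_ellMat hF, utv_eq_ellMat hF, utv_eq_ellMat hF, utv_eq_ellMat hF, utv_eq_ellMat hF,
    ellMat_mul h11 h12 h21 h22, ellMat_mul h11 h12 h21 h22, ellMat_mul h11 h12 h21 h22]
  congr 1
  · simp only [one_pow, zero_pow hq0, mul_one, mul_zero, add_zero]
    rw [hd₁]; ring
  · simp only [one_pow, zero_pow hq0, mul_one, mul_zero, add_zero]
    rw [hc₁, hτ]; ring
  · simp only [one_pow, zero_pow hq0, mul_one, mul_zero, add_zero]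
    have : c * β * α ^ q = -τ ^ q := by rw [hτq]; ring
    rw [this, hc₁]
    linear_combination hc₂ω
  · simp only [one_pow, zero_pow hq0, mul_one, mul_zero, add_zero]
    rw [hd₂]; ring

omit hS in
/-- (G3a) the sum of two non-orthogonal vectors of `utvVecs` -/
theorem utv_add_of_not_perp (hF : Fintype.card F = q ^ 2) (M : Subgroup (GL (Fin n) F))
    (hMU : M ≤ Cfsg.GU n F q) {p p' : Fin n → F} (hp : p ∈ utvVecs q M) (hp' : p' ∈ utvVecs q M)
    (hpp' : ⟪p, p'⟫ ≠ 0) (hiso : ⟪p + p', p + p'⟫ = 0) : p + p' ∈ utvVecs q M := by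
  have h1 : ⟪p, p'⟫ + ⟪p', p⟫ = 0 := by
    rw [hermForm_add_left, hermForm_add_right hF, hermForm_add_right hF, hp.1, hp'.1] at hiso
    linear_combination hiso
  have h2 : ⟪p', p⟫ = ⟪p, p'⟫ ^ q := (hermForm_conj hF p p').symm
  have hc : (⟪p, p'⟫)⁻¹ + ((⟪p, p'⟫)⁻¹) ^ q = 0 := by
    rw [inv_pow, ← h2]
    have h3 : ⟪p', p⟫ = -⟪p, p'⟫ := by linear_combination h1
    rw [h3, inv_neg]; ring
  have := utvVecs_tv hMU hp' hp hc
  rwa [inv_mul_cancel₀ hpp', one_smul] at this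

omit hS in
/-- (G3b) the sum of two orthogonal vectors of `utvVecs`, moved by a transvection -/
theorem utv_add_of_perp (hF : Fintype.card F = q ^ 2) (M : Subgroup (GL (Fin n) F))
    (hMU : M ≤ Cfsg.GU n F q) {p p' u : Fin n → F} (hp : p ∈ utvVecs q M)
    (hu : u ∈ utvVecs q M) (hline : ∀ κ : F, p' + κ • u ∈ utvVecs q M) (hp'u : ⟪p', u⟫ = 0)
    (hpu : ⟪p, u⟫ ≠ 0) (hiso : ⟪p + p', p + p'⟫ = 0) : p + p' ∈ utvVecs q M := by
  have hq0 : q ≠ 0 := by have := two_le_of_card_eq_sq hF; omega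
  obtain ⟨c, hc0, hcq⟩ := Cfsg.Agent.Helper5.exists_trace_zero hF (F := F)
  have hcc : c + c ^ q = 0 := by rw [hcq]; ring
  have hp'p' : ⟪p', p'⟫ = 0 := by
    have := (hline 0).1
    rwa [zero_smul, add_zero] at this
  have hup' : ⟪u, p'⟫ = 0 := by rw [← hermForm_conj hF, hp'u, zero_pow hq0]
  have hup : ⟪u, p⟫ = ⟪p, u⟫ ^ q := (hermForm_conj hF p u).symm
  have hpp'sum : ⟪p, p'⟫ + ⟪p', p⟫ = 0 := by
    rw [hermForm_add_left, hermForm_add_right hF, hermForm_add_right hF, hp.1, hp'p'] at hiso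
    linear_combination hiso
  set θ := ⟪p, u⟫ with hθ
  have hθq : θ ^ q ≠ 0 := pow_ne_zero _ hpu
  -- the moved vector
  have hp'' := hline (c * θ)
  have hpp'' : ⟪p, p' + (c * θ) • u⟫ ≠ 0 ∨ ⟪p, p'⟫ ≠ 0 := by
    by_cases h : ⟪p, p'⟫ = 0
    · left
      rw [hermForm_add_right hF, hermForm_smul_right, h, zero_add, mul_pow, hcq]
      exact mul_ne_zero (mul_ne_zero (neg_ne_zero.mpr hc0) hθq) hpu
    · right; exact h
  rcases hpp'' with h | h
  swap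
  · exact utv_add_of_not_perp hF M hMU hp (by
      have := hline 0
      rwa [zero_smul, add_zero] at this) h hiso
  have hiso' : ⟪p + (p' + (c * θ) • u), p + (p' + (c * θ) • u)⟫ = 0 := by
    have h1 : p + (p' + (c * θ) • u) = (p + p') + (c * θ) • u := by abel
    obtain ⟨y, hy⟩ : ∃ y : Fin n → F, y = p + p' := ⟨_, rfl⟩
    have hyu : ⟪y, u⟫ = θ := by rw [hy, hermForm_add_left, hp'u, add_zero]
    have huy : ⟪u, y⟫ = θ ^ q := by rw [hy, hermForm_add_right hF, hup', add_zero, hup]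
    have hyy : ⟪y, y⟫ = 0 := by rw [hy]; exact hiso
    rw [h1, ← hy, hermForm_add_left, hermForm_add_right hF, hermForm_add_right hF, hyy,
      hermForm_smul_left, hermForm_smul_left, hermForm_smul_right, hermForm_smul_right, hu.1,
      hyu, huy, mul_pow, hcq]
    ring
  have hy' := utv_add_of_not_perp hF M hMU hp hp'' h hiso'
  have hnc : -c + (-c) ^ q = 0 := by rw [frob_neg' hF, hcq]; ring
  have h2 := utvVecs_tv hMU hu hy' hnc
  have h3 : ⟪p + (p' + (c * θ) • u), u⟫ = θ := by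
    rw [hermForm_add_left, hermForm_add_left, hermForm_smul_left, hp'u, hu.1]; ring
  rw [h3] at h2
  have h4 : p + (p' + (c * θ) • u) + (-c * θ) • u = p + p' := by module
  rwa [h4] at h2

end data

end Cfsg.Agent.Helper13
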