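import Mathlib
import Cfsg.Agent.Helper13.USubN
import Cfsg.Agent.Helper13.UMax4

/-!
# Unitary subfield subgroups: Lemma G, coordinate part

From the rational isotropic points to all the isotropic points: first inside the span of the
first four coordinates, then coordinate by coordinate with the growth lemma.
-/

set_option autoImplicit false
set_option linter.style.haveILetI false
set_option linter.unusedSectionVars false

namespace Cfsg.Agent.Helper13

open Matrix Cfsg.Agent.S0837 Cfsg.Agent.Helper94.SubU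

variable {F : Type*} [Field F] [Fintype F] {q n : ℕ}

local notation "⟪" x ", " y "⟫" => Cfsg.hermForm n F q x y
local notation "Matn" => Matrix (Fin n) (Fin n) F

/-- (G3) two totally isotropic lines in `utvVecs`, paired diagonally -/
theorem utv_of_two_lines (hF : Fintype.card F = q ^ 2) (M : Subgroup (GL (Fin n) F))
    (hMU : M ≤ Cfsg.GU n F q) {u₁ u₂ u₁' u₂' : Fin n → F}
    (hl : ∀ α β : F, α • u₁ + β • u₂ ∈ utvVecs q M)
    (hl' : ∀ α β : F, α • u₁' + β • u₂' ∈ utvVecs q M)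
    (h21' : ⟪u₂, u₁'⟫ = 0) (h11' : ⟪u₁, u₁'⟫ ≠ 0) (h22' : ⟪u₂, u₂'⟫ ≠ 0)
    (h1'2' : ⟪u₁', u₂'⟫ = 0) (α β α' β' : F)
    (hiso : ⟪(α • u₁ + β • u₂) + (α' • u₁' + β' • u₂'),
      (α • u₁ + β • u₂) + (α' • u₁' + β' • u₂')⟫ = 0) :
    (α • u₁ + β • u₂) + (α' • u₁' + β' • u₂') ∈ utvVecs q M := by
  have hq0 : q ≠ 0 := by have := two_le_of_card_eq_sq hF; omega
  have hu₁' : u₁' ∈ utvVecs q M := by
    have := hl' 1 0
    rwa [one_smul, zero_smul, add_zero] at this
  have hu₂' : u₂' ∈ utvVecs q M := by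
    have := hl' 0 1
    rwa [one_smul, zero_smul, zero_add] at this
  have h2'1' : ⟪u₂', u₁'⟫ = 0 := by rw [← hermForm_conj hF, h1'2', zero_pow hq0]
  by_cases hα : α = 0
  · by_cases hβ : β = 0
    · rw [hα, hβ, zero_smul, zero_smul, add_zero, zero_add]
      exact hl' α' β'
    · apply utv_add_of_perp hF M hMU (hl α β) hu₂' _ _ _ hiso
      · intro κ
        have := hl' α' (β' + κ)
        rwa [add_smul, ← add_assoc] at this
      · rw [hermForm_add_left, hermForm_smul_left, hermForm_smul_left, h1'2', hu₂'.1]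
        ring
      · rw [hα, zero_smul, zero_add, hermForm_smul_left]
        exact mul_ne_zero hβ h22'
  · apply utv_add_of_perp hF M hMU (hl α β) hu₁' _ _ _ hiso
    · intro κ
      have := hl' (α' + κ) β'
      rwa [add_smul, add_right_comm] at this
    · rw [hermForm_add_left, hermForm_smul_left, hermForm_smul_left, h2'1', hu₁'.1]
      ring
    · rw [hermForm_add_left, hermForm_smul_left, hermForm_smul_left, h21', mul_zero, add_zero]
      exact mul_ne_zero hα h11'

/-! ### the coordinate subspaces -/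

/-- vectors supported on the first `k` coordinates -/
def coordSub (F : Type*) [Field F] (n k : ℕ) : Submodule F (Fin n → F) where
  carrier := {y | ∀ i : Fin n, k ≤ i.val → y i = 0}
  add_mem' := by
    intro a b ha hb i hi
    rw [Pi.add_apply, ha i hi, hb i hi, add_zero]
  zero_mem' := fun i _ => rfl
  smul_mem' := by
    intro c a ha i hi
    rw [Pi.smul_apply, ha i hi, smul_zero]

omit [Fintype F] in
theorem mem_coordSub {k : ℕ} (y : Fin n → F) :
    y ∈ coordSub F n k ↔ ∀ i : Fin n, k ≤ i.val → y i = 0 := Iff.rfl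

omit [Fintype F] in
theorem single_mem_coordSub {k : ℕ} {i : Fin n} (hi : i.val < k) (c : F) :
    (Pi.single i c : Fin n → F) ∈ coordSub F n k := by
  intro j hj
  have hji : j ≠ i := by
    intro h
    rw [h] at hj
    omega
  rw [Pi.single_apply, if_neg hji]

omit [Fintype F] in
theorem coordSub_top : coordSub F n n = ⊤ := by
  rw [eq_top_iff]
  intro y _ i hi
  exact absurd i.isLt (by omega)

theorem nonDeg_coordSub (hF : Fintype.card F = q ^ 2) (k : ℕ) : NonDeg q (coordSub F n k) := by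
  intro x hx hxy
  funext i
  by_cases hi : k ≤ i.val
  · exact hx i hi
  · have := hxy _ (single_mem_coordSub (F := F) (n := n) (k := k) (i := i) (by omega) 1)
    rwa [hermForm_single_right hF] at this

omit [Fintype F] in
theorem four_le_finrank_coordSub {k : ℕ} (hk : 4 ≤ k) (hkn : k ≤ n) :
    4 ≤ Module.finrank F (coordSub F n k) := by
  let f : Fin 4 → Fin n := fun j => ⟨j.val, by omega⟩
  have hf : Function.Injective f := by
    intro a b hab
    apply Fin.ext
    have := congrArg Fin.val hab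
    simpa only [f] using this
  have hli : LinearIndependent F (fun j : Fin 4 => (Pi.single (f j) 1 : Fin n → F)) := by
    have := (Pi.basisFun F (Fin n)).linearIndependent.comp f hf
    convert this using 1
    funext j
    simp [Pi.basisFun_apply]
  have h1 := finrank_span_eq_card hli
  rw [Fintype.card_fin] at h1
  rw [← h1]
  apply Submodule.finrank_mono
  rw [Submodule.span_le]
  rintro _ ⟨j, rfl⟩
  exact single_mem_coordSub (by simp only [f]; omega) 1

theorem single_mem_perpSub_coordSub (hF : Fintype.card F = q ^ 2) {k : ℕ} (i : Fin n)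
    (hi : k ≤ i.val) : (Pi.single i 1 : Fin n → F) ∈ perpSub q (coordSub F n k) := by
  intro y hy
  have hq0 : q ≠ 0 := by have := two_le_of_card_eq_sq hF; omega
  rw [hermForm_single_left, hy i hi, zero_pow hq0]

omit [Fintype F] in
theorem coordSub_succ_le {k : ℕ} (hk : k < n) :
    coordSub F n (k + 1) ≤
      coordSub F n k ⊔ Submodule.span F {(Pi.single ⟨k, hk⟩ 1 : Fin n → F)} := by
  intro y hy
  have h1 : y = (y - y ⟨k, hk⟩ • (Pi.single ⟨k, hk⟩ 1 : Fin n → F)) +
      y ⟨k, hk⟩ • (Pi.single ⟨k, hk⟩ 1 : Fin n → F) := by abel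
  rw [h1]
  apply Submodule.add_mem
  · apply Submodule.mem_sup_left
    intro i hi
    rw [Pi.sub_apply, Pi.smul_apply, Pi.single_apply, smul_eq_mul]
    by_cases hik : i = ⟨k, hk⟩
    · rw [if_pos hik, mul_one, hik, sub_self]
    · rw [if_neg hik, mul_zero, sub_zero]
      apply hy i
      have : i.val ≠ k := fun h => hik (Fin.ext h)
      omega
  · apply Submodule.mem_sup_right
    exact Submodule.smul_mem _ _ (Submodule.mem_span_singleton_self _)

omit [Fintype F] in
/-- `a e_i + b e_j` as a combination of two vectors `e_i + l e_j` -/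
theorem comb_eq_mixVec (i j : Fin n) {l₁ l₂ : F} (hne : l₁ ≠ l₂) (a b : F) :
    a • (Pi.single i 1 : Fin n → F) + b • Pi.single j 1 =
      ((b - l₂ * a) / (l₁ - l₂)) • mixVec i j l₁ + ((l₁ * a - b) / (l₁ - l₂)) • mixVec i j l₂ := by
  have h : l₁ - l₂ ≠ 0 := sub_ne_zero.mpr hne
  unfold mixVec
  have h1 : (b - l₂ * a) / (l₁ - l₂) + (l₁ * a - b) / (l₁ - l₂) = a := by field_simp; ring
  have h2 : (b - l₂ * a) / (l₁ - l₂) * l₁ + (l₁ * a - b) / (l₁ - l₂) * l₂ = b := by
    field_simp; ring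
  calc a • (Pi.single i 1 : Fin n → F) + b • Pi.single j 1
      = ((b - l₂ * a) / (l₁ - l₂) + (l₁ * a - b) / (l₁ - l₂)) • Pi.single i 1
        + ((b - l₂ * a) / (l₁ - l₂) * l₁ + (l₁ * a - b) / (l₁ - l₂) * l₂) • Pi.single j 1 := by
        rw [h1, h2]
    _ = _ := by module

omit [Fintype F] in
theorem coord4_eq_sum (hn : 4 ≤ n) {y : Fin n → F} (hy : y ∈ coordSub F n 4) :
    y = (y ⟨0, by omega⟩ • (Pi.single ⟨0, by omega⟩ 1 : Fin n → F) +
        y ⟨1, by omega⟩ • Pi.single ⟨1, by omega⟩ 1) +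
      (y ⟨2, by omega⟩ • (Pi.single ⟨2, by omega⟩ 1 : Fin n → F) +
        y ⟨3, by omega⟩ • Pi.single ⟨3, by omega⟩ 1) := by
  funext i
  have key : i = ⟨0, by omega⟩ ∨ i = ⟨1, by omega⟩ ∨ i = ⟨2, by omega⟩ ∨ i = ⟨3, by omega⟩ ∨
      4 ≤ i.val := by
    rcases i with ⟨i, hi⟩
    simp only [Fin.mk.injEq]
    omega
  simp only [Pi.add_apply, Pi.smul_apply, Pi.single_apply, smul_eq_mul, mul_ite, mul_one,
    mul_zero]
  rcases key with h | h | h | h | h
  · subst h; simp
  · subst h; simp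
  · subst h; simp
  · subst h; simp
  · rw [hy i h]
    have h0 : i ≠ ⟨0, by omega⟩ := by intro h'; rw [h'] at h; simp at h
    have h1 : i ≠ ⟨1, by omega⟩ := by intro h'; rw [h'] at h; simp at h
    have h2 : i ≠ ⟨2, by omega⟩ := by intro h'; rw [h'] at h; simp at h
    have h3 : i ≠ ⟨3, by omega⟩ := by intro h'; rw [h'] at h; simp at h
    rw [if_neg h0, if_neg h1, if_neg h2, if_neg h3]
    ring

section data

variable {F₀ : Subfield F} {r q₀ : ℕ} (hS : USubData F q F₀ r q₀)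
include hS

/-- (G3) in coordinates: the isotropic vectors of the span of the first four coordinates -/
theorem USubData.utv_coord4 (hn : 4 ≤ n) (M : Subgroup (GL (Fin n) F))
    (hMU : M ≤ Cfsg.GU n F q)
    (hrat : ∀ u : Fin n → F, Rat F₀ u → ⟪u, u⟫ = 0 → u ∈ utvVecs q M) :
    ∀ v ∈ coordSub F n 4, ⟪v, v⟫ = 0 → v ∈ utvVecs q M := by
  have hF := hS.hF
  obtain ⟨l₁, hl₁, l₂, hl₂, hn₁, hn₂, hne⟩ := hS.exists_lam
  intro y hy hyy
  obtain ⟨i0, hi0⟩ : ∃ i : Fin n, i = ⟨0, by omega⟩ := ⟨_, rfl⟩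
  obtain ⟨i1, hi1⟩ : ∃ i : Fin n, i = ⟨1, by omega⟩ := ⟨_, rfl⟩
  obtain ⟨i2, hi2⟩ : ∃ i : Fin n, i = ⟨2, by omega⟩ := ⟨_, rfl⟩
  obtain ⟨i3, hi3⟩ : ∃ i : Fin n, i = ⟨3, by omega⟩ := ⟨_, rfl⟩
  have h01 : i0 ≠ i1 := by rw [hi0, hi1]; simp
  have h02 : i0 ≠ i2 := by rw [hi0, hi2]; simp
  have h03 : i0 ≠ i3 := by rw [hi0, hi3]; simp
  have h12 : i1 ≠ i2 := by rw [hi1, hi2]; simp
  have h13 : i1 ≠ i3 := by rw [hi1, hi3]; simp
  have h23 : i2 ≠ i3 := by rw [hi2, hi3]; simp
  have hy' := coord4_eq_sum hn hy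
  rw [← hi0, ← hi1, ← hi2, ← hi3, comb_eq_mixVec i0 i1 hne, comb_eq_mixVec i2 i3 hne] at hy'
  obtain ⟨α, hα⟩ : ∃ α : F, α = (y i1 - l₂ * y i0) / (l₁ - l₂) := ⟨_, rfl⟩
  obtain ⟨α', hα'⟩ : ∃ α' : F, α' = (l₁ * y i0 - y i1) / (l₁ - l₂) := ⟨_, rfl⟩
  obtain ⟨β, hβ⟩ : ∃ β : F, β = (y i3 - l₂ * y i2) / (l₁ - l₂) := ⟨_, rfl⟩
  obtain ⟨β', hβ'⟩ : ∃ β' : F, β' = (l₁ * y i2 - y i3) / (l₁ - l₂) := ⟨_, rfl⟩
  rw [← hα, ← hα', ← hβ, ← hβ'] at hy'
  have hy'' : y = (α • mixVec i0 i1 l₁ + β • mixVec i2 i3 l₁) +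
      (α' • mixVec i0 i1 l₂ + β' • mixVec i2 i3 l₂) := by
    rw [hy']; abel
  have hμ : 1 + l₂ ^ q * l₁ ≠ 0 := by
    intro h
    apply hne
    have hl₂q : l₂ ^ q ≠ 0 := by
      intro h0
      rw [h0, mul_zero] at hn₂
      exact one_ne_zero (by linear_combination hn₂ : (1 : F) = 0)
    have : l₂ ^ q * l₁ = l₂ ^ q * l₂ := by linear_combination h - hn₂
    exact mul_left_cancel₀ hl₂q this
  have iso1 := mixVec_isotropic hF h01 hn₁
  have iso2 := mixVec_isotropic hF h23 hn₁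
  have iso1' := mixVec_isotropic hF h01 hn₂
  have iso2' := mixVec_isotropic hF h23 hn₂
  have o12 : ⟪mixVec i0 i1 l₁, mixVec i2 i3 l₁⟫ = 0 := by
    rw [hermForm_mixVec_right hF, mixVec_apply_of_ne h02.symm h12.symm,
      mixVec_apply_of_ne h03.symm h13.symm]
    ring
  have o12' : ⟪mixVec i0 i1 l₂, mixVec i2 i3 l₂⟫ = 0 := by
    rw [hermForm_mixVec_right hF, mixVec_apply_of_ne h02.symm h12.symm,
      mixVec_apply_of_ne h03.symm h13.symm]
    ring
  have o21' : ⟪mixVec i2 i3 l₁, mixVec i0 i1 l₂⟫ = 0 := by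
    rw [hermForm_mixVec_right hF, mixVec_apply_of_ne h02 h03, mixVec_apply_of_ne h12 h13]
    ring
  have p11' : ⟪mixVec i0 i1 l₁, mixVec i0 i1 l₂⟫ ≠ 0 := by
    rw [hermForm_mixVec_right hF, mixVec_apply_left h01, mixVec_apply_right h01]
    exact hμ
  have p22' : ⟪mixVec i2 i3 l₁, mixVec i2 i3 l₂⟫ ≠ 0 := by
    rw [hermForm_mixVec_right hF, mixVec_apply_left h23, mixVec_apply_right h23]
    exact hμ
  have hl := fun a b : F => hS.utv_line M hrat (rat_mixVec i0 i1 hl₁) (rat_mixVec i2 i3 hl₁)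
    iso1 iso2 o12 a b
  have hl' := fun a b : F => hS.utv_line M hrat (rat_mixVec i0 i1 hl₂) (rat_mixVec i2 i3 hl₂)
    iso1' iso2' o12' a b
  rw [hy''] at hyy ⊢
  exact utv_of_two_lines hF M hMU hl hl' o21' p11' p22' o12' α β α' β' hyy

/-- (G4) all the isotropic vectors -/
theorem USubData.utv_all (hn : 4 ≤ n) (M : Subgroup (GL (Fin n) F))
    (hMU : M ≤ Cfsg.GU n F q)
    (hrat : ∀ u : Fin n → F, Rat F₀ u → ⟪u, u⟫ = 0 → u ∈ utvVecs q M) :
    ∀ v : Fin n → F, ⟪v, v⟫ = 0 → v ∈ utvVecs q M := by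
  have hF := hS.hF
  obtain ⟨l₁, hl₁, l₂, hl₂, hn₁, hn₂, hne⟩ := hS.exists_lam
  have hstep : ∀ k : ℕ, 4 ≤ k → k ≤ n →
      ∀ v ∈ coordSub F n k, ⟪v, v⟫ = 0 → v ∈ utvVecs q M := by
    intro k hk
    induction k, hk using Nat.le_induction with
    | base => intro _; exact hS.utv_coord4 hn M hMU hrat
    | succ k hk ih =>
      intro hkn v hv hvv
      have hk' : k < n := by omega
      have ih' := ih (by omega)
      have h0k : (⟨0, by omega⟩ : Fin n) ≠ ⟨k, hk'⟩ := by
        intro h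
        have := congrArg Fin.val h
        simp only at this
        omega
      have hx : (l₁ • (Pi.single ⟨0, by omega⟩ 1 : Fin n → F)) + Pi.single ⟨k, hk'⟩ 1 ∈
          utvVecs q M := by
        have h1 : (l₁ • (Pi.single ⟨0, by omega⟩ 1 : Fin n → F)) + Pi.single ⟨k, hk'⟩ 1 =
            mixVec ⟨k, hk'⟩ ⟨0, by omega⟩ l₁ := by
          unfold mixVec; abel
        rw [h1]
        exact hrat _ (rat_mixVec _ _ hl₁) (mixVec_isotropic hF h0k.symm hn₁)
      have hee : ⟪(Pi.single ⟨k, hk'⟩ 1 : Fin n → F), Pi.single ⟨k, hk'⟩ 1⟫ ≠ 0 := by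
        rw [hermForm_single_right hF, Pi.single_eq_same]
        exact one_ne_zero
      exact utvVecs_grow hF hMU (nonDeg_coordSub hF k) (four_le_finrank_coordSub hk (by omega))
        ih' ((coordSub F n k).smul_mem l₁ (single_mem_coordSub (by simp only; omega) 1))
        (single_mem_perpSub_coordSub hF _ (le_refl k)) hee hx v (coordSub_succ_le hk' hv) hvv
  intro v hvv
  exact hstep n hn (le_refl n) v (by rw [coordSub_top]; exact Submodule.mem_top) hvv

/-- the end of the generation argument: a subgroup of `GU` containing the subfield group and all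
the transvections at one rational isotropic point contains `SU` -/
theorem USubData.su_le_of_utv (hn : 4 ≤ n) (M : Subgroup (GL (Fin n) F))
    (hHM : subHH n q F₀ ≤ M) (hMU : M ≤ Cfsg.GU n F q) {v : Fin n → F} (hv : Rat F₀ v)
    (hvv : ⟪v, v⟫ = 0) (hv0 : v ≠ 0) (hvM : v ∈ utvVecs q M) :
    Cfsg.GU n F q ⊓ Cfsg.Geo.specialLinear (Fin n) F ≤ M := by
  have hF := hS.hF
  have hrat := hS.utv_rat_all (by omega) M hHM hMU hv hvv hv0 hvM
  exact suGL_le_of_tv hF (by omega) M (hS.utv_all hn M hMU hrat)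

end data

end Cfsg.Agent.Helper13
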