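import Mathlib
import Cfsg.Agent.Helper13.USubO

/-!
# Unitary subfield subgroups: the main theorem for the standard rational structure

`SU_n(q) ∩ (GL_n(F₀) Z)` is a maximal subgroup of `SU_n(q)` when `|F| = |F₀|^r`, `r` an odd
prime, and `n ≥ 4`.
-/

set_option autoImplicit false
set_option linter.style.haveILetI false
set_option linter.unusedSectionVars false

namespace Cfsg.Agent.Helper13

open Matrix Cfsg.Agent.S0837 Cfsg.Agent.Helper94.SubU

variable {F : Type*} [Field F] [Fintype F] {q n : ℕ}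

local notation "⟪" x ", " y "⟫" => Cfsg.hermForm n F q x y
local notation "Matn" => Matrix (Fin n) (Fin n) F

section data

variable {F₀ : Subfield F} {r q₀ : ℕ} (hS : USubData F q F₀ r q₀)
include hS

/-- an element of trace zero outside `F₀` -/
theorem USubData.exists_trace_zero_not_mem : ∃ c : F, c + c ^ q = 0 ∧ c ∉ F₀ := by
  have hF := hS.hF
  obtain ⟨ε, hε, hε0, hεq⟩ := hS.exists_eps
  have h1 : ∃ t : F, t ^ q = t ∧ t ∉ F₀ := by
    by_contra hcon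
    push Not at hcon
    have hle : fixKq hF ≤ fixK0 hF F₀ := by
      intro x hx
      exact (mem_fixK0 hF F₀).mpr ⟨hcon x ((mem_fixKq hF).mp hx), (mem_fixKq hF).mp hx⟩
    have h3 : Nat.card (fixKq hF) ≤ Nat.card (fixK0 hF F₀) :=
      Nat.card_le_card_of_injective (Subfield.inclusion hle) (Subfield.inclusion hle).injective
    rw [hS.card_fixK0, card_fixKq, hS.hq] at h3
    have hq₀ := hS.q₀_two_le
    have hr2 := hS.hr.two_le
    have : q₀ ^ 1 < q₀ ^ r := Nat.pow_lt_pow_right (by omega) (by omega)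
    rw [pow_one] at this
    omega
  obtain ⟨t, htq, ht⟩ := h1
  refine ⟨ε * t, ?_, ?_⟩
  · rw [mul_pow, hεq, htq]; ring
  · intro h
    apply ht
    have : t = ε⁻¹ * (ε * t) := by rw [← mul_assoc, inv_mul_cancel₀ hε0, one_mul]
    rw [this]
    exact F₀.mul_mem (F₀.inv_mem hε) h

/-- the subfield group is a proper subgroup of `SU` -/
theorem USubData.subHH_ne (hn : 2 ≤ n) :
    subHH n q F₀ ≠ Cfsg.GU n F q ⊓ Cfsg.Geo.specialLinear (Fin n) F := by
  have hF := hS.hF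
  obtain ⟨l₁, hl₁, l₂, hl₂, hn₁, hn₂, hne⟩ := hS.exists_lam
  obtain ⟨c, hcc, hc⟩ := hS.exists_trace_zero_not_mem
  obtain ⟨i0, hi0⟩ : ∃ i : Fin n, i = ⟨0, by omega⟩ := ⟨_, rfl⟩
  obtain ⟨i1, hi1⟩ : ∃ i : Fin n, i = ⟨1, by omega⟩ := ⟨_, rfl⟩
  have h01 : i0 ≠ i1 := by rw [hi0, hi1]; simp
  obtain ⟨w, hwdef⟩ : ∃ w : Fin n → F, w = mixVec i0 i1 l₁ := ⟨_, rfl⟩
  have hw : Rat F₀ w := by rw [hwdef]; exact rat_mixVec i0 i1 hl₁
  have hww : ⟪w, w⟫ = 0 := by rw [hwdef]; exact mixVec_isotropic hF h01 hn₁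
  have hw0 : w ≠ 0 := by
    intro h
    have := congrFun h i0
    rw [hwdef, mixVec_apply_left h01] at this
    exact one_ne_zero this
  have hwi0 : w i0 = 1 := by rw [hwdef, mixVec_apply_left h01]
  obtain ⟨a, ha, haa, hwa⟩ := hS.exists_rat_partner hn hw hw0
  have haw : ⟪a, w⟫ = 1 := by rw [← hermForm_conj hF, hwa, one_pow]
  intro heq
  have hmem : glOfDetOne _ (det_unitaryTransvection (q := q) w c hww) ∈
      Cfsg.GU n F q ⊓ Cfsg.Geo.specialLinear (Fin n) F := by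
    refine ⟨?_, ?_⟩
    · exact (Cfsg.Agent.Helper13.mem_GU_iff _).mpr (by
        rw [glOfDetOne_coe]; exact isU_unitaryTransvection hF w c hww hcc)
    · exact (mem_specialLinear_iff _).mpr (by
        rw [glOfDetOne_coe]; exact det_unitaryTransvection w c hww)
  rw [← heq] at hmem
  obtain ⟨lam, hlam, hrat⟩ := rat_of_mem_subfieldSubgroup F₀ 1 _ hmem.1
  obtain ⟨v, hv, hgv⟩ := hrat a ha
  rw [Units.val_one, Matrix.one_mulVec, Matrix.one_mulVec, glOfDetOne_coe,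
    unitaryTransvection_mulVec, haw, mul_one] at hgv
  -- pair with `w`
  have h1 : ⟪a + c • w, w⟫ = 1 := by
    rw [hermForm_add_left, hermForm_smul_left, hww, haw]; ring
  rw [hgv, hermForm_smul_left] at h1
  have hvw : ⟪v, w⟫ ∈ F₀ := rat_hermForm_mem hv hw
  have hvw0 : ⟪v, w⟫ ≠ 0 := by
    intro h
    rw [h, mul_zero] at h1
    exact zero_ne_one h1
  have hlammem : lam ∈ F₀ := by
    have : lam = (⟪v, w⟫)⁻¹ := eq_inv_of_mul_eq_one_left h1
    rw [this]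
    exact F₀.inv_mem hvw
  apply hc
  have h2 := congrFun hgv i0
  rw [Pi.add_apply, Pi.smul_apply, Pi.smul_apply, hwi0, smul_eq_mul, smul_eq_mul, mul_one] at h2
  have : c = lam * v i0 - a i0 := by linear_combination h2
  rw [this]
  exact F₀.sub_mem (F₀.mul_mem hlammem (hv i0)) (ha i0)

/-- an overgroup in `SU` of the subfield group, not inside it, is all of `SU` -/
theorem USubData.su_le_of_not_le (hn : 4 ≤ n) (M : Subgroup (GL (Fin n) F))
    (hHM : subHH n q F₀ ≤ M) (hMK : M ≤ Cfsg.GU n F q ⊓ Cfsg.Geo.specialLinear (Fin n) F)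
    (hM : ¬ M ≤ Cfsg.Geo.subfieldSubgroup F₀ (1 : GL (Fin n) F)) :
    Cfsg.GU n F q ⊓ Cfsg.Geo.specialLinear (Fin n) F ≤ M := by
  have hF := hS.hF
  have hq0 : q ≠ 0 := by have := two_le_of_card_eq_sq hF; omega
  have hMU : M ≤ Cfsg.GU n F q := hMK.trans inf_le_left
  obtain ⟨g, hgM, hg⟩ := SetLike.not_le_iff_exists.mp hM
  have hgU : IsU q (g : Matn) := (Cfsg.Agent.Helper13.mem_GU_iff g).mp (hMU hgM)
  -- Lemma A
  obtain ⟨u₀, hu₀, hu₀u₀, hgu₀⟩ := hS.exists_not_propRat (by omega) g hgU hg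
  obtain ⟨a, ha⟩ : ∃ a : Fin n → F, a = (g : Matn) *ᵥ u₀ := ⟨_, rfl⟩
  rw [← ha] at hgu₀
  have haa : ⟪a, a⟫ = 0 := by rw [ha, hgU, hu₀u₀]
  have hTa : ∀ s ∈ F₀, s + s ^ q = 0 → tvIn q M a s := by
    intro s hs hss
    rw [ha]
    exact tvIn.conj hgM hgU ((hS.tvIn_rat hu₀ hu₀u₀ hs hss).mono hHM)
  -- Lemma B
  obtain ⟨w, w', hw, hw', hww, hw'w', hww', ⟨i, k, hD⟩, hθ, hθ', hN⟩ :=
    hS.exists_norm_ratio_not_mem hn a hgu₀
  have hw'w : ⟪w', w⟫ = 0 := by rw [← hermForm_conj hF, hww', zero_pow hq0]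
  -- Lemma C
  obtain ⟨m, hmM, t, ζ, ht0, ht1, hmz, hmw⟩ :=
    hS.exists_torus_lift M hHM haa hw hw' hww hw'w' hww' hθ hθ' hN hTa
  have hmU : IsU q (m : Matn) := (Cfsg.Agent.Helper13.mem_GU_iff m).mp (hMU hmM)
  obtain ⟨θ, hθdef⟩ : ∃ θ : F, θ = ⟪a, w⟫ := ⟨_, rfl⟩
  obtain ⟨θ', hθ'def⟩ : ∃ θ' : F, θ' = ⟪a, w'⟫ := ⟨_, rfl⟩
  rw [← hθdef, ← hθ'def] at hmz hmw hN
  rw [← hθdef] at hθ
  rw [← hθ'def] at hθ'
  have hz : θ' ^ q • w - θ ^ q • w' = θ' ^ q • w + (-θ ^ q) • w' := by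
    rw [neg_smul, sub_eq_add_neg]
  rw [hz] at hmz hmw
  have hz₁ : θ' ^ q ≠ 0 := pow_ne_zero _ hθ'
  have hθq : θ ^ q ≠ 0 := pow_ne_zero _ hθ
  have hzz : -θ ^ q / θ' ^ q ∉ F₀ := by
    intro h
    apply hN
    have h1 := hS.frob_mem h
    have h2 : (-θ ^ q / θ' ^ q) ^ q = -θ / θ' := by
      rw [div_pow, frob_neg' hF, frob_frob hF, frob_frob hF]
    rw [h2] at h1
    have h3 : θ' * θ' ^ q / (θ * θ ^ q) = ((-θ ^ q / θ' ^ q) * (-θ / θ'))⁻¹ := by
      field_simp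
    rw [h3]
    exact F₀.inv_mem (F₀.mul_mem h h1)
  -- Lemma D
  obtain ⟨x, hx, hxcases, hmx, α, β, hmxαβ⟩ :=
    hS.exists_irrational_image hw hw' hD hz₁ hzz m ht0 ht1 hmz hmw
  have hxx : ⟪x, x⟫ = 0 := by
    rcases hxcases with rfl | rfl | rfl
    · exact hww
    · exact hw'w'
    · rw [hermForm_add_left, hermForm_add_right hF, hermForm_add_right hF, hww, hww', hw'w,
        hw'w']
      ring
  have hTy : ∀ s ∈ F₀, s + s ^ q = 0 → tvIn q M (α • w + β • w') s := by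
    intro s hs hss
    rw [← hmxαβ]
    exact tvIn.conj hmM hmU ((hS.tvIn_rat hx hxx hs hss).mono hHM)
  have hα : α ≠ 0 := by
    rintro rfl
    apply hmx
    rw [hmxαβ, zero_smul, zero_add]
    exact ⟨β, w', hw', rfl⟩
  have hαβ : β / α ∉ F₀ := by
    intro h
    apply hmx
    rw [hmxαβ]
    refine ⟨α, w + (β / α) • w', hw.add (hw'.smul h), ?_⟩
    rw [smul_add, smul_smul, mul_div_cancel₀ _ hα]
  -- Lemma E
  obtain ⟨v, hv, hvv, hv0, c, hcc, hc, hT⟩ :=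
    hS.lemmaE M hHM hw hw' hww hw'w' hww' hD hα hαβ hTy
  -- Lemma F
  have hvM := hS.mem_utvVecs_of_irrational (by omega) M hHM hv hvv hv0 hcc hc hT
  -- Lemma G
  exact hS.su_le_of_utv hn M hHM hMU hv hvv hv0 hvM

/-- **the main theorem for the standard rational structure** -/
theorem USubData.isMaximalIn_one (hn : 4 ≤ n) :
    Cfsg.Geo.IsMaximalIn (Cfsg.GU n F q ⊓ Cfsg.Geo.specialLinear (Fin n) F)
      (Cfsg.Geo.subfieldSubgroup F₀ (1 : GL (Fin n) F) ⊓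
        (Cfsg.GU n F q ⊓ Cfsg.Geo.specialLinear (Fin n) F)) := by
  refine ⟨lt_of_le_of_ne inf_le_right (hS.subHH_ne (by omega)), ?_⟩
  intro M hHM hMK
  by_cases hM : M ≤ Cfsg.Geo.subfieldSubgroup F₀ (1 : GL (Fin n) F)
  · left
    exact le_antisymm (le_inf hM hMK) hHM
  · right
    exact le_antisymm hMK (hS.su_le_of_not_le hn M hHM hMK hM)

end data

end Cfsg.Agent.Helper13
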