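import Mathlib
import Cfsg.Agent.Helper13.USubP
import Cfsg.Agent.S2587

/-!
# Unitary subfield subgroups: reduction to the standard rational structure

If the unitary form is `F₀`-valued on the `F₀`-span of the columns of `P`, then
`P = P' B` with `P'` unitary and `B ∈ GL_n(F₀)`, so the subfield group of `P` is the conjugate by a
unitary matrix of the standard subfield group.
-/

set_option autoImplicit false
set_option linter.style.haveILetI false
set_option linter.unusedSectionVars false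

namespace Cfsg.Agent.Helper13

open Matrix Cfsg.Agent.S0837 Cfsg.Agent.Helper94.SubU

/-! ### conjugation and maximality -/

theorem map_conj_eq_of_forall {G : Type*} [Group G] (g : G) (H : Subgroup G)
    (h : ∀ x ∈ H, g * x * g⁻¹ ∈ H) (h' : ∀ x ∈ H, g⁻¹ * x * g ∈ H) :
    H.map (MulAut.conj g).toMonoidHom = H := by
  ext y
  constructor
  · rintro ⟨x, hx, rfl⟩
    exact h x hx
  · intro hy
    refine ⟨g⁻¹ * y * g, h' y hy, ?_⟩
    show g * (g⁻¹ * y * g) * g⁻¹ = y
    group

theorem isMaximalIn_map_equiv {G : Type*} [Group G] (e : G ≃* G) {K H : Subgroup G}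
    (h : Cfsg.Geo.IsMaximalIn K H) :
    Cfsg.Geo.IsMaximalIn (K.map e.toMonoidHom) (H.map e.toMonoidHom) := by
  obtain ⟨hlt, hmax⟩ := h
  have hinj : Function.Injective e.toMonoidHom := e.injective
  refine ⟨(Subgroup.map_lt_map_iff_of_injective hinj).mpr hlt, ?_⟩
  intro M hHM hMK
  have hM : (M.comap e.toMonoidHom).map e.toMonoidHom = M :=
    Subgroup.map_comap_eq_self_of_surjective e.surjective M
  have h1 : H ≤ M.comap e.toMonoidHom := Subgroup.map_le_iff_le_comap.mp hHM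
  have h2 : M.comap e.toMonoidHom ≤ K := by
    intro x hx
    have := hMK hx
    obtain ⟨y, hy, hyx⟩ := this
    have : y = x := hinj hyx
    rw [← this]
    exact hy
  rcases hmax _ h1 h2 with h3 | h3
  · left; rw [← hM, h3]
  · right; rw [← hM, h3]

/-! ### the unitary factor -/

variable {F : Type*} [Field F] [Fintype F] {q n : ℕ}

local notation "⟪" x ", " y "⟫" => Cfsg.hermForm n F q x y
local notation "Matn" => Matrix (Fin n) (Fin n) F

section data

variable {F₀ : Subfield F} {r q₀ : ℕ} (hS : USubData F q F₀ r q₀)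
include hS

open Cfsg.Agent.S2587 in
/-- a rational structure compatible with the form is the image under a unitary matrix of the
standard one -/
theorem USubData.exists_unitary_factor (P : GL (Fin n) F)
    (hP : Cfsg.Geo.IsFormRationalStructure (Cfsg.hermForm n F q) F₀ 1 P) :
    ∃ (P' : GL (Fin n) F) (B₀ : GL (Fin n) F₀), P' ∈ Cfsg.GU n F q ∧
      P = P' * Matrix.GeneralLinearGroup.map (F₀.subtype : F₀ →+* F) B₀ := by
  classical
  have hF := hS.hF
  haveI : Fintype F₀ := Fintype.ofFinite _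
  have hF' : Fintype.card F₀ = q₀ ^ 2 := hS.card_sub
  obtain ⟨bar, hbardef⟩ : ∃ bar : F₀ →+* F₀, bar = frobHom hF' := ⟨_, rfl⟩
  have hbar : ∀ x : F₀, ((bar x : F₀) : F) = (x : F) ^ q := by
    intro x
    rw [hS.hpow x x.2, hbardef, frobHom_apply]
    rfl
  have hbar2 : ∀ x, bar (bar x) = x := by
    intro x
    rw [hbardef, frobHom_apply, frobHom_apply]
    exact frob_frob hF' x
  have hbarne : ∃ x, bar x ≠ x := by
    by_contra hcon
    push Not at hcon
    rw [hbardef] at hcon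
    exact frobHom_ne_id hF' (RingHom.ext hcon)
  -- the Gram matrix
  obtain ⟨G, hG⟩ : ∃ G : Matn, G = (P : Matn)ᵀ * (P : Matn).map (frobHom hF) := ⟨_, rfl⟩
  have hGapp : ∀ i j, G i j = ∑ k, (P : Matn) k i * ((P : Matn) k j) ^ q := by
    intro i j
    rw [hG, Matrix.mul_apply]
    rfl
  have hcol : ∀ i, (P : Matn) *ᵥ Pi.single i 1 = fun k => (P : Matn) k i := by
    intro i
    ext k
    simp [Matrix.mulVec, dotProduct, Pi.single_apply]
  have hGmem : ∀ i j, G i j ∈ F₀ := by
    intro i j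
    have := hP (Pi.single i 1) (Pi.single j 1) (Rat.single F₀ i) (Rat.single F₀ j)
    rw [one_mul, hcol, hcol] at this
    rw [hGapp]
    exact this
  have hGh : ∀ i j, (G j i) ^ q = G i j := by
    intro i j
    rw [hGapp, hGapp, frob_sum hF]
    refine Finset.sum_congr rfl fun k _ => ?_
    rw [mul_pow, frob_frob hF, mul_comm]
  obtain ⟨G₀, hG₀def⟩ : ∃ G₀ : Matrix (Fin n) (Fin n) F₀, G₀ = fun i j => ⟨G i j, hGmem i j⟩ :=
    ⟨_, rfl⟩
  have hG₀ : G₀.map (F₀.subtype : F₀ →+* F) = G := by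
    ext i j
    rw [hG₀def]
    rfl
  have hG₀h : st bar G₀ = G₀ := by
    ext i j
    rw [st_apply, hbar]
    have h1 : ((G₀ j i : F₀) : F) = G j i := by rw [hG₀def]
    have h2 : ((G₀ i j : F₀) : F) = G i j := by rw [hG₀def]
    rw [h1, h2, hGh]
  have hdetG : G.det ≠ 0 := by
    rw [hG, Matrix.det_mul, Matrix.det_transpose]
    have h1 : (P : Matn).det ≠ 0 := by
      have := (Matrix.isUnit_iff_isUnit_det (P : Matn)).mp P.isUnit
      exact this.ne_zero
    have h2 : ((P : Matn).map (frobHom hF)).det = frobHom hF (P : Matn).det :=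
      (RingHom.map_det (frobHom hF) (P : Matn)).symm
    rw [h2, frobHom_apply]
    exact mul_ne_zero h1 (pow_ne_zero _ h1)
  have hdetG₀ : G₀.det ≠ 0 := by
    intro h
    apply hdetG
    rw [← hG₀]
    have : (G₀.map (F₀.subtype : F₀ →+* F)).det = (F₀.subtype : F₀ →+* F) G₀.det :=
      (RingHom.map_det (F₀.subtype : F₀ →+* F) G₀).symm
    rw [this, h, map_zero]
  obtain ⟨p, hp⟩ := herm_factor bar hbar2 hbarne G₀ hG₀h hdetG₀
  obtain ⟨c, hc⟩ : ∃ c : Matrix (Fin n) (Fin n) F₀, c = Polynomial.aeval G₀ p := ⟨_, rfl⟩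
  rw [← hc] at hp
  have hcdet : c.det ≠ 0 := by
    intro h0
    apply hdetG₀
    rw [← hp, Matrix.det_mul, h0, mul_zero]
  have hcbdet : (c.map bar).det ≠ 0 := by
    have : (c.map bar).det = bar c.det := (RingHom.map_det bar c).symm
    rw [this]
    intro h
    apply hcdet
    have := congrArg bar h
    rwa [hbar2, map_zero] at this
  obtain ⟨B₀, hB₀⟩ : ∃ B₀ : GL (Fin n) F₀, (B₀ : Matrix (Fin n) (Fin n) F₀) = c.map bar :=
    ⟨Matrix.GeneralLinearGroup.mkOfDetNeZero (c.map bar) hcbdet, rfl⟩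
  obtain ⟨B, hBdef⟩ : ∃ B : GL (Fin n) F,
      B = Matrix.GeneralLinearGroup.map (F₀.subtype : F₀ →+* F) B₀ := ⟨_, rfl⟩
  have hB : (B : Matn) = (c.map bar).map (F₀.subtype : F₀ →+* F) := by
    rw [hBdef, ← hB₀]
    rfl
  have hBfrob : (B : Matn).map (frobHom hF) = c.map (F₀.subtype : F₀ →+* F) := by
    rw [hB]
    ext i j
    simp only [Matrix.map_apply, frobHom_apply, Subfield.coe_subtype]
    rw [← hbar, hbar2]
  have hBG : (B : Matn)ᵀ * (B : Matn).map (frobHom hF) = G := by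
    rw [hBfrob, hB, ← hG₀, ← hp]
    ext i j
    simp only [Matrix.mul_apply, Matrix.transpose_apply, Matrix.map_apply, st_apply, map_sum,
      map_mul]
  refine ⟨P * B⁻¹, B₀, ?_, ?_⟩
  · rw [Cfsg.Agent.S0837.mem_GU_iff hF]
    obtain ⟨X, hX⟩ : ∃ X : Matn, X = ((B⁻¹ : GL (Fin n) F) : Matn) := ⟨_, rfl⟩
    have hBX : (B : Matn) * X = 1 := by
      rw [hX, ← Units.val_mul, mul_inv_cancel, Units.val_one]
    have h1 : ((P * B⁻¹ : GL (Fin n) F) : Matn) = (P : Matn) * X := by
      rw [Units.val_mul, hX]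
    show ((P * B⁻¹ : GL (Fin n) F) : Matn)ᵀ * ((P * B⁻¹ : GL (Fin n) F) : Matn).map (frobHom hF) = 1
    rw [h1, Matrix.transpose_mul, Matrix.map_mul]
    calc Xᵀ * (P : Matn)ᵀ * ((P : Matn).map (frobHom hF) * X.map (frobHom hF))
        = Xᵀ * ((P : Matn)ᵀ * (P : Matn).map (frobHom hF)) * X.map (frobHom hF) := by
          simp only [Matrix.mul_assoc]
      _ = Xᵀ * ((B : Matn)ᵀ * (B : Matn).map (frobHom hF)) * X.map (frobHom hF) := by
          rw [← hG, hBG]
      _ = ((B : Matn) * X)ᵀ * ((B : Matn) * X).map (frobHom hF) := by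
          rw [Matrix.transpose_mul, Matrix.map_mul]
          simp only [Matrix.mul_assoc]
      _ = 1 := by
          rw [hBX, Matrix.transpose_one, Matrix.one_mul]
          exact Matrix.map_one _ (map_zero _) (map_one _)
  · rw [← hBdef, inv_mul_cancel_right]

end data

section final

variable {F₀ : Subfield F} {r q₀ : ℕ} (hS : USubData F q F₀ r q₀)
include hS

/-- **the unitary subfield groups over subfields of odd prime index are maximal in `SU`** -/
theorem USubData.isMaximalIn_subfield (hn : 4 ≤ n) (P : GL (Fin n) F)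
    (hP : Cfsg.Geo.IsFormRationalStructure (Cfsg.hermForm n F q) F₀ 1 P) :
    Cfsg.Geo.IsMaximalIn (Cfsg.GU n F q ⊓ Cfsg.Geo.specialLinear (Fin n) F)
      (Cfsg.Geo.subfieldSubgroup F₀ P ⊓
        (Cfsg.GU n F q ⊓ Cfsg.Geo.specialLinear (Fin n) F)) := by
  obtain ⟨P', B₀, hP'U, hPeq⟩ := hS.exists_unitary_factor P hP
  obtain ⟨B, hBdef⟩ : ∃ B : GL (Fin n) F,
      B = Matrix.GeneralLinearGroup.map (F₀.subtype : F₀ →+* F) B₀ := ⟨_, rfl⟩
  rw [← hBdef] at hPeq
  obtain ⟨RZ, hRZ⟩ : ∃ RZ : Subgroup (GL (Fin n) F),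
      RZ = (Matrix.GeneralLinearGroup.map (F₀.subtype : F₀ →+* F)).range ⊔
        Cfsg.Geo.scalars (Fin n) F := ⟨_, rfl⟩
  have hBRZ : B ∈ RZ := by
    rw [hRZ, hBdef]
    exact Subgroup.mem_sup_left ⟨B₀, rfl⟩
  have h1 : Cfsg.Geo.subfieldSubgroup F₀ (1 : GL (Fin n) F) = RZ := by
    unfold Cfsg.Geo.subfieldSubgroup
    rw [← hRZ]
    exact map_conj_eq_of_forall 1 RZ (fun x hx => by simpa using hx) (fun x hx => by simpa using hx)
  have h2 : Cfsg.Geo.subfieldSubgroup F₀ P = RZ.map (MulAut.conj P').toMonoidHom := by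
    unfold Cfsg.Geo.subfieldSubgroup
    rw [← hRZ, hPeq]
    have h3 : RZ.map (MulAut.conj B).toMonoidHom = RZ :=
      map_conj_eq_of_forall B RZ
        (fun x hx => RZ.mul_mem (RZ.mul_mem hBRZ hx) (RZ.inv_mem hBRZ))
        (fun x hx => RZ.mul_mem (RZ.mul_mem (RZ.inv_mem hBRZ) hx) hBRZ)
    have h4 : (MulAut.conj (P' * B)).toMonoidHom =
        (MulAut.conj P').toMonoidHom.comp (MulAut.conj B).toMonoidHom := by
      rw [map_mul]
      rfl
    rw [h4, ← Subgroup.map_map, h3]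
  have hK : (Cfsg.GU n F q ⊓ Cfsg.Geo.specialLinear (Fin n) F).map
      (MulAut.conj P').toMonoidHom = Cfsg.GU n F q ⊓ Cfsg.Geo.specialLinear (Fin n) F := by
    have hnorm : (Cfsg.Geo.specialLinear (Fin n) F).Normal := by
      unfold Cfsg.Geo.specialLinear
      exact MonoidHom.normal_ker _
    apply map_conj_eq_of_forall
    · intro x hx
      exact ⟨(Cfsg.GU n F q).mul_mem ((Cfsg.GU n F q).mul_mem hP'U hx.1)
        ((Cfsg.GU n F q).inv_mem hP'U), hnorm.conj_mem x hx.2 P'⟩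
    · intro x hx
      exact ⟨(Cfsg.GU n F q).mul_mem ((Cfsg.GU n F q).mul_mem ((Cfsg.GU n F q).inv_mem hP'U) hx.1)
        hP'U, hnorm.conj_mem' x hx.2 P'⟩
  have hmax := isMaximalIn_map_equiv (MulAut.conj P') (hS.isMaximalIn_one hn)
  rw [hK, Subgroup.map_inf _ _ _ (MulAut.conj P').injective, hK, h1, ← h2] at hmax
  exact hmax

end final

end Cfsg.Agent.Helper13
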